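import Cfsg.Agent.JankoTwoThree.J2Action

/-!
# The centre of `twoJ2` is `{±1}`

A central element is left linear, fixes every line, so multiplies the three coordinate lines by
units; two further lines force these to be one sign.
-/

set_option autoImplicit false
set_option linter.style.haveILetI false

noncomputable section

namespace CfsgLib.J2

open Quaternion Cfsg.Spor Cfsg.IcoLeech Cfsg.IcoLeech.Data

/-- The scalar four. -/
def fourI : Ico := ⟨⟨4, 0⟩, 0, 0, 0⟩

/-- The nonzero coordinate of the coordinate lines. -/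
def qE : Ico := (lineAt 0).1

/-- The effect on a coordinate of a unit on a coordinate line, times four. -/
def vOf (u : Ico) : Ico := qE.conj * u * qE

/-- Some unit scales the test line as the coordinate multipliers do. -/
def consistent (v : Ico × Ico × Ico) (l : V3) : Bool :=
  units.any fun w => decide (w * l.1 * fourI = l.1 * v.1) &&
    (decide (w * l.2.1 * fourI = l.2.1 * v.2.1) && decide (w * l.2.2 * fourI = l.2.2 * v.2.2))

/-- Only the two signs are consistent with the test lines. -/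
def chkSigns : Bool :=
  let l := lineAt (testLines.getD 0 0)
  let m := lineAt (testLines.getD 1 0)
  units.all fun u => units.all fun w => !decide (w * l.1 * fourI = l.1 * vOf u) ||
    units.all fun u' => !decide (w * l.2.1 * fourI = l.2.1 * vOf u') ||
      units.all fun u'' => !decide (w * l.2.2 * fourI = l.2.2 * vOf u'') ||
        (!consistent (vOf u, vOf u', vOf u'') m ||
          ((decide (u = 1) && (decide (u' = 1) && decide (u'' = 1))) ||
            (decide (u = -1) && (decide (u' = -1) && decide (u'' = -1)))))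

theorem chkSigns_ok : chkSigns = true := by decide +kernel

theorem axes : lineAt 0 = (qE, 0, 0) ∧ lineAt 1 = (0, qE, 0) ∧ lineAt 2 = (0, 0, qE) ∧
    qE.conj * qE = fourI ∧ testLines.getD 0 0 < 315 ∧ testLines.getD 1 0 < 315 := by decide +kernel

/-- Left linear and preserving the form. -/
def Unitary (g : Equiv.Perm icoLeech) : Prop :=
  (∃ M : Fin 3 → Fin 3 → ℍ[ℝ], ∀ (x : icoLeech) (t : Fin 3),
    ((g x : icoLeech) : Fin 3 → ℍ[ℝ]) t = ∑ s, (x : Fin 3 → ℍ[ℝ]) s * M s t) ∧
  ∀ x y : icoLeech, qip (g x : Fin 3 → ℍ[ℝ]) (g y : Fin 3 → ℍ[ℝ]) =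
    qip (x : Fin 3 → ℍ[ℝ]) (y : Fin 3 → ℍ[ℝ])

theorem unitary_R (i : Fin 315) : Unitary (R i) := by
  set r : Fin 3 → ℍ[ℝ] := toV (lineAt i)
  refine ⟨⟨fun s t => (if s = t then 1 else 0) - (1 / 2 : ℝ) • (star (r s) * r t), fun x t => ?_⟩,
    fun x y => qip_qrefl_qrefl (line_mem (lineAt_mem i.2)).2 _ _⟩
  show qrefl r (x : Fin 3 → ℍ[ℝ]) t = _
  simp only [qrefl, qip, mul_sub, mul_ite, mul_one, mul_zero, Finset.sum_sub_distrib,
    Finset.sum_ite_eq', Finset.mem_univ, if_true, mul_smul_comm, Finset.smul_sum, Finset.sum_mul,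
    smul_mul_assoc, mul_assoc]

theorem Unitary.mul {g h : Equiv.Perm icoLeech} (hg : Unitary g) (hh : Unitary h) :
    Unitary (g * h) := by
  obtain ⟨⟨M, hM⟩, hgq⟩ := hg
  obtain ⟨⟨N, hN⟩, hhq⟩ := hh
  refine ⟨⟨fun s t => ∑ j, N s j * M j t, fun x t => ?_⟩, fun x y => ?_⟩
  · rw [Equiv.Perm.mul_apply, hM]
    simp only [hN, Finset.sum_mul, Finset.mul_sum, mul_assoc]
    exact Finset.sum_comm
  · rw [Equiv.Perm.mul_apply, Equiv.Perm.mul_apply, hgq, hhq]

theorem unitary_one : Unitary (1 : Equiv.Perm icoLeech) :=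
  ⟨⟨fun s t => if s = t then 1 else 0, fun x t => by simp [mul_ite]⟩, fun x y => rfl⟩

theorem unitary_of_mem {g : Equiv.Perm icoLeech} (hg : g ∈ twoJ2) : Unitary g := by
  rw [← closure_gens] at hg
  induction hg using Subgroup.closure_induction_left with
  | one => exact unitary_one
  | mul_left x hx y _ hy => obtain ⟨a, rfl⟩ := hx; exact (unitary_R _).mul hy
  | inv_mul_cancel x hx y _ hy =>
    obtain ⟨a, rfl⟩ := hx
    simp only [inv_eq_of_mul_eq_one_right (R_sq (gIdx a))]
    exact (unitary_R _).mul hy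

/-- The lattice vector of a line. -/
def lv (i : Fin 315) : icoLeech := lineVec ⟨lineAt i, lineAt_mem i.2⟩

theorem qip_smul_left (c : ℍ[ℝ]) (x r : Fin 3 → ℍ[ℝ]) :
    qip (fun t => c * x t) r = c * qip x r := by
  simp only [qip, Finset.mul_sum, mul_assoc]

/-- A central element scales every line by a unit. -/
theorem exists_unit_of_central {g : twoJ2} (hg : g ∈ Subgroup.center twoJ2) (i : Fin 315) :
    ∃ u ∈ units, (((g : Equiv.Perm icoLeech) (lv i) : icoLeech) : Fin 3 → ℍ[ℝ]) =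
      fun t => u.toQ * toV (lineAt i) t := by
  obtain ⟨⟨M, hM⟩, hq⟩ := unitary_of_mem g.2
  set l : Fin 3 → ℍ[ℝ] := toV (lineAt i) with hl
  have h4 : qip l l = 4 := (line_mem (lineAt_mem i.2)).2
  set z : icoLeech := (g : Equiv.Perm icoLeech) (lv i) with hz
  have hzl : ((z : icoLeech) : Fin 3 → ℍ[ℝ]) = fun t => ∑ s, l s * M s t := funext fun t => hM _ t
  have hRl : ((R i (lv i) : icoLeech) : Fin 3 → ℍ[ℝ]) = fun t => - l t := by
    funext t
    show qrefl l l t = _
    simp only [qrefl, h4, smul_mul_assoc, show (4 : ℍ[ℝ]) = algebraMap ℝ ℍ[ℝ] 4 from (map_ofNat _ 4).symm,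
      ← Algebra.smul_def, smul_smul]
    module
  have hcomm := congrArg (fun f : Equiv.Perm icoLeech => ((f (lv i) : icoLeech) : Fin 3 → ℍ[ℝ]))
    ((center_iff.1 hg) i)
  simp only [Equiv.Perm.mul_apply] at hcomm
  have hw : ∀ t, (z : Fin 3 → ℍ[ℝ]) t = ((1 / 4 : ℝ) • qip (z : Fin 3 → ℍ[ℝ]) l) * l t := by
    intro t
    have h := congrFun hcomm t
    rw [hM, ← hz] at h
    simp only [hRl, neg_mul, Finset.sum_neg_distrib] at h
    rw [← congrFun hzl t] at h
    change -(z : Fin 3 → ℍ[ℝ]) t = qrefl l (z : Fin 3 → ℍ[ℝ]) t at h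
    simp only [qrefl] at h
    have h2 : (2 : ℝ) • (z : Fin 3 → ℍ[ℝ]) t = ((1 / 2 : ℝ) • qip (z : Fin 3 → ℍ[ℝ]) l) * l t := by
      rw [two_smul]; linear_combination (norm := abel) -h
    calc (z : Fin 3 → ℍ[ℝ]) t = (1 / 2 : ℝ) • ((2 : ℝ) • (z : Fin 3 → ℍ[ℝ]) t) := by
          rw [smul_smul]; norm_num
      _ = _ := by rw [h2, smul_mul_assoc, smul_mul_assoc, smul_smul]; norm_num
  set w : ℍ[ℝ] := (1 / 4 : ℝ) • qip (z : Fin 3 → ℍ[ℝ]) l with hwdef
  have hz4 : qip (z : Fin 3 → ℍ[ℝ]) (z : Fin 3 → ℍ[ℝ]) = 4 := (hq (lv i) (lv i)).trans h4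
  have hnorm : star w * w = 1 := by
    have e : qip (fun t => w * l t) (fun t => w * l t) = w * qip l l * star w := by
      simp only [qip, star_mul, Finset.mul_sum, Finset.sum_mul, mul_assoc]
    rw [← show (z : Fin 3 → ℍ[ℝ]) = fun t => w * l t from funext hw, hz4, h4, four_central,
      smul_mul_assoc, Quaternion.self_mul_star] at e
    rw [Quaternion.star_mul_self]
    refine smul_right_injective ℍ[ℝ] (show (4 : ℝ) ≠ 0 by norm_num) ?_
    show (4 : ℝ) • ((Quaternion.normSq w : ℝ) : ℍ[ℝ]) = (4 : ℝ) • (1 : ℍ[ℝ])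
    rw [← e, Algebra.smul_def, mul_one, map_ofNat]
  obtain ⟨u, hu, m, hm, e⟩ := exists_line z.2 hz4
  rw [toV_lmul] at e
  have hline : lineRefl ⟨lineAt i, lineAt_mem i.2⟩ = lineRefl ⟨m, hm⟩ := by
    refine Equiv.ext fun x => Subtype.ext ?_
    show qrefl l _ = qrefl (toV m) _
    rw [← qrefl_lmul hnorm l, ← show (z : Fin 3 → ℍ[ℝ]) = fun t => w * l t from funext hw, e,
      qrefl_lmul]
    rw [← Ico.toQ_conj, ← Ico.toQ_mul, (units_spec u hu).1, Ico.toQ_one]
  refine ⟨u, hu, ?_⟩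
  rw [e, show toV m = l from (congrArg (fun x => toV x.1) (lineRefl_injective hline)).symm]

theorem toQ_four : fourI.toQ = 4 := by
  rw [show (4 : ℍ[ℝ]) = ((4 : ℝ) : ℍ[ℝ]) from (map_ofNat (algebraMap ℝ ℍ[ℝ]) 4).symm]
  ext <;> simp [fourI, Zt.val]

theorem commute_four (x : ℍ[ℝ]) : x * 4 = 4 * x := by
  rw [show (4 : ℍ[ℝ]) = algebraMap ℝ ℍ[ℝ] 4 from (map_ofNat _ 4).symm, Algebra.commutes]

/-- A central element is a sign. -/
theorem central_sign {g : twoJ2} (hg : g ∈ Subgroup.center twoJ2) :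
    (∀ x : icoLeech, (g : Equiv.Perm icoLeech) x = x) ∨
      ∀ x : icoLeech, (((g : Equiv.Perm icoLeech) x : icoLeech) : Fin 3 → ℍ[ℝ]) =
        -(x : Fin 3 → ℍ[ℝ]) := by
  obtain ⟨M, hM⟩ := (unitary_of_mem g.2).1
  obtain ⟨e0, e1, e2, hqq, ht0, ht1⟩ := axes
  choose u hu hul using fun i : Fin 315 => exists_unit_of_central hg i
  let ax : Fin 3 → Fin 315 := ![⟨0, by norm_num⟩, ⟨1, by norm_num⟩, ⟨2, by norm_num⟩]
  have hax : ∀ s t : Fin 3, toV (lineAt (ax s)) t = if s = t then qE.toQ else 0 := by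
    intro s t
    fin_cases s <;> fin_cases t <;> simp [ax, e0, e1, e2, toV]
  have hMst : ∀ s t : Fin 3, qE.toQ * M s t = if s = t then (u (ax s)).toQ * qE.toQ else 0 := by
    intro s t
    have h := congrFun (hul (ax s)) t
    rw [hM] at h
    simp only [lv, lineVec, hax, ite_mul, zero_mul, Finset.sum_ite_eq, Finset.mem_univ, if_true,
      mul_ite, mul_zero] at h
    exact h
  have h4M : ∀ s t : Fin 3, 4 * M s t = if s = t then (vOf (u (ax s))).toQ else 0 := by
    intro s t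
    rw [← toQ_four, ← hqq, Ico.toQ_mul, mul_assoc, hMst]
    split_ifs
    · simp only [vOf, Ico.toQ_mul, mul_assoc]
    · rw [mul_zero]
  have hcons : ∀ (j : Fin 315) (t : Fin 3),
      (u j).toQ * toV (lineAt j) t * 4 = toV (lineAt j) t * (vOf (u (ax t))).toQ := by
    intro j t
    have h := congrFun (hul j) t
    rw [hM] at h
    rw [← h, Finset.sum_mul, Finset.sum_eq_single t]
    · rw [mul_assoc, commute_four, h4M, if_pos rfl]; rfl
    · intro s _ hne
      rw [mul_assoc, commute_four, h4M, if_neg hne, mul_zero]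
    · simp
  have hI : ∀ {w x v : Ico}, w.toQ * x.toQ * 4 = x.toQ * v.toQ → w * x * fourI = x * v :=
    fun {w x v} h => Ico.toQ_injective (by simpa [toQ_four] using h)
  have hc : ∀ j : Fin 315, u j * (lineAt j).1 * fourI = (lineAt j).1 * vOf (u (ax 0)) ∧
      u j * (lineAt j).2.1 * fourI = (lineAt j).2.1 * vOf (u (ax 1)) ∧
      u j * (lineAt j).2.2 * fourI = (lineAt j).2.2 * vOf (u (ax 2)) := fun j =>
    ⟨hI (by simpa [toV] using hcons j 0), hI (by simpa [toV] using hcons j 1),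
      hI (by simpa [toV] using hcons j 2)⟩
  have h := chkSigns_ok
  simp only [chkSigns, List.all_eq_true, Bool.or_eq_true, Bool.and_eq_true, Bool.not_eq_true',
    decide_eq_false_iff_not, decide_eq_true_eq] at h
  obtain ⟨a, b, c⟩ := hc ⟨_, ht0⟩
  have hcs : consistent (vOf (u (ax 0)), vOf (u (ax 1)), vOf (u (ax 2)))
      (lineAt (testLines.getD 1 0)) = true := by
    obtain ⟨a', b', c'⟩ := hc ⟨_, ht1⟩
    simp only [consistent, List.any_eq_true, Bool.and_eq_true, decide_eq_true_eq]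
    exact ⟨_, hu _, a', b', c'⟩
  have hh := ((((((h _ (hu (ax 0)) _ (hu _)).resolve_left (not_not_intro a)) _ (hu (ax 1))).resolve_left
    (not_not_intro b)) _ (hu (ax 2))).resolve_left (not_not_intro c)).resolve_left (by rw [hcs]; simp)
  have key : ∀ c0 : ℍ[ℝ], (∀ s : Fin 3, (u (ax s)).toQ = c0) → (c0 = 1 ∨ c0 = -1) →
      ∀ (x : icoLeech) (t : Fin 3),
        (((g : Equiv.Perm icoLeech) x : icoLeech) : Fin 3 → ℍ[ℝ]) t = c0 * (x : Fin 3 → ℍ[ℝ]) t := by
    intro c0 hc0 hc1 x t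
    have hMd : ∀ s, M s t = if s = t then c0 else 0 := by
      intro s
      refine mul_left_cancel₀ (by
        rw [show (4 : ℍ[ℝ]) = ((4 : ℝ) : ℍ[ℝ]) from (map_ofNat (algebraMap ℝ ℍ[ℝ]) 4).symm]
        exact fun e => four_ne_zero (α := ℝ) (Quaternion.coe_injective (e.trans Quaternion.coe_zero.symm)) :
        (4 : ℍ[ℝ]) ≠ 0) ?_
      rw [h4M]
      split_ifs
      · simp only [vOf, Ico.toQ_mul, hc0]
        rw [← toQ_four, ← hqq, Ico.toQ_mul]
        rcases hc1 with rfl | rfl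
        · rw [mul_one, mul_one]
        · rw [mul_neg, mul_one, mul_neg, mul_one, neg_mul]
      · rw [mul_zero]
    rw [hM]
    simp only [hMd, mul_ite, mul_zero, Finset.sum_ite_eq', Finset.mem_univ, if_true]
    rcases hc1 with rfl | rfl <;> simp
  rcases hh with ⟨a0, a1, a2⟩ | ⟨a0, a1, a2⟩
  · left
    intro x
    refine Subtype.ext (funext fun t => ?_)
    rw [key 1 (fun s => by
      match s with
      | 0 => rw [a0, Ico.toQ_one]
      | 1 => rw [a1, Ico.toQ_one]
      | 2 => rw [a2, Ico.toQ_one]) (Or.inl rfl) x t, one_mul]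
  · right
    intro x
    funext t
    rw [key (-1) (fun s => by
      match s with
      | 0 => rw [a0, Ico.toQ_neg, Ico.toQ_one]
      | 1 => rw [a1, Ico.toQ_neg, Ico.toQ_one]
      | 2 => rw [a2, Ico.toQ_neg, Ico.toQ_one]) (Or.inr rfl) x t]
    simp

/-- The image of a vector under a word. -/
def vecW : List ℕ → V3 → V3
  | [], v => v
  | a :: w, v => reflI (lineAt (gLine a)) (vecW w v)

/-- The reflections can be carried out in coordinates along the word. -/
def chkWord : List ℕ → V3 → Bool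
  | [], _ => true
  | a :: w, v => Nat.blt a 4 && (code (ip (vecW w v) (lineAt (gLine a))) == 0 && chkWord w v)

/-- The word is a central element other than one. -/
def chkNeg : Bool :=
  negWord.all (fun a => Nat.blt a 4) && (chkWord negWord (lineAt 0) &&
    (decide (vecW negWord (lineAt 0) ≠ lineAt 0) &&
      Mathieu.allBelow 100 fun k => Nat.beq (wBlock negWord k) k))

theorem chkNeg_ok : chkNeg = true := by decide +kernel

/-- The element given by a word. -/
def wT : List ℕ → twoJ2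
  | [] => 1
  | a :: w => tgen (Fin.ofNat 4 a) * wT w

theorem wT_apply : ∀ {w : List ℕ} {v : V3} {x : icoLeech}, chkWord w v = true →
    (x : Fin 3 → ℍ[ℝ]) = toV v →
    (((wT w : Equiv.Perm icoLeech) x : icoLeech) : Fin 3 → ℍ[ℝ]) = toV (vecW w v)
  | [], _, _, _, hx => hx
  | a :: w, v, x, h, hx => by
    simp only [chkWord, Bool.and_eq_true, beq_iff_eq] at h
    have ha : a < 4 := Nat.le_of_ble_eq_true h.1
    have ih := wT_apply h.2.2 hx
    have hcast : ((Fin.ofNat 4 a : Fin 4) : ℕ) = a := Nat.mod_eq_of_lt ha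
    show qrefl (toV (lineAt (gLine ((Fin.ofNat 4 a : Fin 4) : ℕ)))) _ = _
    rw [hcast, ih, vecW, toV_reflI h.2.1]

theorem act_wT : ∀ {w : List ℕ}, (∀ a ∈ w, a < 4) → ∀ k : Fin 100,
    ((act (wT w) k : Fin 100) : ℕ) = wBlock w k
  | [], _, k => by rw [show wT [] = 1 from rfl, map_one]; rfl
  | a :: w, h, k => by
    rw [wT, map_mul, Equiv.Perm.mul_apply, act_tgen]
    show sBlock ((Fin.ofNat 4 a : Fin 4) : ℕ) _ = _
    rw [show ((Fin.ofNat 4 a : Fin 4) : ℕ) = a from Nat.mod_eq_of_lt (h a List.mem_cons_self),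
      act_wT fun b hb => h b (List.mem_cons_of_mem _ hb)]
    rfl

theorem exists_negation : ∃ z ∈ Subgroup.center twoJ2, z ≠ 1 ∧
    ∀ x : icoLeech, (((z : Equiv.Perm icoLeech) x : icoLeech) : Fin 3 → ℍ[ℝ]) =
      -(x : Fin 3 → ℍ[ℝ]) := by
  have h := chkNeg_ok
  simp only [chkNeg, Bool.and_eq_true, List.all_eq_true, decide_eq_true_eq,
    Mathieu.allBelow_iff] at h
  obtain ⟨hlt, hw, hne, hk⟩ := h
  have hz : wT negWord ∈ Subgroup.center twoJ2 := act_eq_one_iff.1 (Equiv.ext fun k => Fin.ext (by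
    rw [act_wT (fun a ha => Nat.le_of_ble_eq_true (hlt a ha)), Nat.eq_of_beq_eq_true (hk k k.2)]
    rfl))
  have hne1 : wT negWord ≠ 1 := by
    intro e
    refine hne (toV_injective ?_)
    rw [← wT_apply (x := lv ⟨0, by norm_num⟩) hw rfl, e]
    rfl
  refine ⟨_, hz, hne1, (central_sign hz).resolve_left fun h => hne1 (Subtype.ext (Equiv.ext h))⟩

theorem card_center : Nat.card (Subgroup.center twoJ2) = 2 := by
  obtain ⟨z, hz, hne, hneg⟩ := exists_negation
  rw [Nat.card_eq_two_iff]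
  refine ⟨1, ⟨z, hz⟩, fun e => hne (congrArg Subtype.val e).symm,
    Set.eq_univ_iff_forall.2 fun ⟨y, hy⟩ => ?_⟩
  rcases central_sign hy with h | h
  · exact Or.inl (Subtype.ext (Subtype.ext (Equiv.ext h)))
  · right
    refine Subtype.ext (Subtype.ext (Equiv.ext fun x => Subtype.ext ?_))
    exact (h x).trans (hneg x).symm

theorem card_twoJ2 : Nat.card twoJ2 = 1209600 := by
  have h := Subgroup.card_eq_card_quotient_mul_card_subgroup (Subgroup.center twoJ2)
  rw [card_center, show Nat.card (twoJ2 ⧸ Subgroup.center twoJ2) = 604800 from card_J2] at h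
  exact h

end CfsgLib.J2
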