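import Cfsg.Agent.JankoTwoThree.J2Tables

/-!
# `J₂` as the permutation group `hj` on the 100 blocks

Conjugation permutes the 315 reflections and with them the 100 blocks; the kernel of this action on
`twoJ2` is the centre and the image is the group `hj` of the verified chain.
-/

set_option autoImplicit false
set_option linter.style.haveILetI false

noncomputable section

namespace CfsgLib.J2

open Quaternion Cfsg.Spor Cfsg.IcoLeech Cfsg.IcoLeech.Data
open CfsgLib.Mathieu (allBelow_iff)
open CfsgLib.Mathieu.HallJanko (hj)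

/-- The reflection of a line given by its index. -/
def R (i : Fin 315) : Equiv.Perm icoLeech := lineRefl ⟨lineAt i, lineAt_mem i.2⟩

theorem R_mem (i : Fin 315) : R i ∈ twoJ2 :=
  reflPerm_mem (lineVec ⟨lineAt i, lineAt_mem i.2⟩) (line_mem (lineAt_mem i.2)).2

theorem lineAt_injective {i j : Fin 315} (h : lineAt i = lineAt j) : i = j := by
  rw [lineAt, lineAt, List.getD_eq_getElem _ _ (by rw [lines_length]; exact i.2),
    List.getD_eq_getElem _ _ (by rw [lines_length]; exact j.2)] at h
  exact Fin.ext ((lines_nodup.getElem_inj_iff).1 h)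

theorem R_injective : Function.Injective R := fun _ _ h =>
  lineAt_injective (congrArg Subtype.val (lineRefl_injective h))

theorem exists_R {f : Equiv.Perm icoLeech} (hf : IsIcoReflection f) : ∃ i, f = R i := by
  obtain ⟨⟨l, hl⟩, rfl⟩ := exists_lineRefl hf
  obtain ⟨i, hi, rfl⟩ := List.getElem_of_mem hl
  refine ⟨⟨i, lines_length ▸ hi⟩, ?_⟩
  unfold R
  congr 1
  exact Subtype.ext (List.getD_eq_getElem _ _ hi).symm

theorem R_sq (i : Fin 315) : R i * R i = 1 := by
  refine Equiv.ext fun x => Subtype.ext ?_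
  show qrefl _ (qrefl _ (x : Fin 3 → ℍ[ℝ])) = _
  exact qrefl_involutive (line_mem (lineAt_mem i.2)).2 _

theorem gLine_lt {a : ℕ} (ha : a < 4) : gLine a < 315 := by
  have h := allBelow_iff.1 (allBelow_iff.1 chkLines_ok a ha) 0 (by norm_num)
  simp only [Bool.and_eq_true] at h
  exact Nat.le_of_ble_eq_true h.1

theorem lineFacts {a : ℕ} (ha : a < 4) {i : ℕ} (hi : i < 315) :
    sLine a i < 315 ∧ sLine a (sLine a i) = i ∧
      code (ip (lineAt i) (lineAt (gLine a))) = 0 ∧
      projKey (reflI (lineAt (gLine a)) (lineAt i)) = projKey (lineAt (sLine a i)) := by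
  have h := allBelow_iff.1 (allBelow_iff.1 chkLines_ok a ha) i hi
  simp only [Bool.and_eq_true, beq_iff_eq] at h
  exact ⟨Nat.le_of_ble_eq_true h.2.1, Nat.eq_of_beq_eq_true h.2.2.1, h.2.2.2.1, h.2.2.2.2⟩

/-- The line of a generator, as an index. -/
def gIdx (a : Fin 4) : Fin 315 := ⟨gLine a, gLine_lt a.2⟩

/-- The permutation of the lines by a generator. -/
def linePerm (a : Fin 4) : Equiv.Perm (Fin 315) :=
  Function.Involutive.toPerm (fun i => ⟨sLine a i, (lineFacts a.2 i.2).1⟩)
    fun i => Fin.ext (lineFacts a.2 i.2).2.1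

theorem conj_gen (a : Fin 4) (i : Fin 315) : R (gIdx a) * R i * (R (gIdx a))⁻¹ = R (linePerm a i) :=
  lineRefl_conj (lineFacts a.2 i.2).2.2.1 (lineFacts a.2 i.2).2.2.2

theorem closure_gens : Subgroup.closure (Set.range fun a => R (gIdx a)) = twoJ2 := by
  set K := Subgroup.closure (Set.range fun a => R (gIdx a))
  refine le_antisymm ((Subgroup.closure_le _).2 ?_) ((Subgroup.closure_le _).2 ?_)
  · rintro _ ⟨a, rfl⟩; exact R_mem _
  have hlen : tree.length = 314 := by decide +kernel
  have hroot : R ⟨root, root_lt⟩ ∈ K := by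
    refine Subgroup.subset_closure ⟨0, ?_⟩
    exact congrArg R (Fin.ext (by decide +kernel))
  have hgl : ∀ j, gens.getD j 0 = gens.getD (if j < 4 then j else 0) 0 ∨ gens.getD j 0 = 0 := by
    intro j
    by_cases h : j < 4
    · left; rw [if_pos h]
    · right
      exact List.getD_eq_default _ _ (by show gens.length ≤ j; rw [show gens.length = 4 from rfl]; omega)
  have htree : tree.all (fun e => Nat.blt e.2.2 4) = true := by decide +kernel
  have key : ∀ k, k < 315 → ∀ h : orderAt k < 315, R ⟨orderAt k, h⟩ ∈ K := by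
    intro k
    induction k using Nat.strong_induction_on with
    | _ k ih =>
      intro hk h
      match k with
      | 0 => exact hroot
      | k + 1 =>
        have hT := List.all_eq_true.1 treeB_eq k (List.mem_range.2 (by omega))
        simp only [Bool.and_eq_true, decide_eq_true_eq, beq_iff_eq] at hT
        obtain ⟨⟨⟨⟨⟨hp, hx⟩, hg⟩, hn⟩, hc⟩, hkey⟩ := hT
        have ha : (tree.getD k (0, 0, 0)).2.2 < 4 := by
          rw [List.getD_eq_getElem _ _ (by omega : k < tree.length)]
          exact Nat.le_of_ble_eq_true (List.all_eq_true.1 htree _ (List.getElem_mem _))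
        have he := lineRefl_conj (m := ⟨_, lineAt_mem hg⟩) (l := ⟨_, lineAt_mem hx⟩)
          (n := ⟨_, lineAt_mem hn⟩) hc hkey
        show lineRefl ⟨_, lineAt_mem hn⟩ ∈ K
        rw [← he]
        have hgK : lineRefl ⟨_, lineAt_mem hg⟩ ∈ K := Subgroup.subset_closure ⟨⟨_, ha⟩, rfl⟩
        exact mul_mem (mul_mem hgK (ih _ (Nat.lt_succ_of_le hp) (by omega) hx)) (inv_mem hgK)
  intro f hf
  obtain ⟨⟨i, hi⟩, rfl⟩ := exists_R hf
  obtain ⟨k, hk, hk'⟩ := List.getElem_of_mem (tree_cover i (List.mem_range.2 hi))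
  have hlen' : (root :: tree.map Prod.fst).length = 315 := by simp [hlen]
  have hord : orderAt k = i := by rw [orderAt, List.getD_eq_getElem _ _ hk, hk']
  have := key k (hlen' ▸ hk) (hord.symm ▸ hi)
  simp only [hord] at this
  exact this

/-- The relation defining the action on the lines. -/
def LineRel (g : Equiv.Perm icoLeech) (π : Equiv.Perm (Fin 315)) : Prop :=
  ∀ i, g * R i * g⁻¹ = R (π i)

/-- The relation defining the action on the blocks. -/
def BlockRel (π : Equiv.Perm (Fin 315)) (σ : Equiv.Perm (Fin 100)) : Prop :=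
  ∀ (k : Fin 100) (i : Fin 315), (block k).testBit i = (block (σ k)).testBit (π i)

/-- The relation defining the action. -/
def ActRel (g : Equiv.Perm icoLeech) (σ : Equiv.Perm (Fin 100)) : Prop :=
  ∃ π, LineRel g π ∧ BlockRel π σ

theorem block_injective {k l : Fin 100}
    (h : ∀ i : Fin 315, (block k).testBit i = (block l).testBit i) : k = l := by
  by_contra hne
  have key : ∀ k l : Fin 100, (l : ℕ) < k → ¬ ∀ i : Fin 315, (block k).testBit i = (block l).testBit i := by
    intro k l hlt h
    have hh := allBelow_iff.1 (allBelow_iff.1 chkBlocksDistinct_ok k k.2) l hlt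
    simp only [List.any_eq_true, List.mem_range, bne_iff_ne, ne_eq] at hh
    obtain ⟨i, hi, hd⟩ := hh
    exact hd (h ⟨i, hi⟩)
  rcases Nat.lt_trichotomy (k : ℕ) l with hlt | he | hlt
  · exact key l k hlt fun i => (h i).symm
  · exact hne (Fin.ext he)
  · exact key k l hlt h

theorem line_separated {i j : Fin 315}
    (h : ∀ k : Fin 100, (block k).testBit i = (block k).testBit j) : i = j := by
  by_contra hne
  have key : ∀ i j : Fin 315, (j : ℕ) < i → ¬ ∀ k : Fin 100, (block k).testBit i = (block k).testBit j := by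
    intro i j hlt h
    have hh := allBelow_iff.1 (allBelow_iff.1 chkSeparate_ok i i.2) j hlt
    simp only [List.any_eq_true, List.mem_range, bne_iff_ne, ne_eq] at hh
    obtain ⟨k, hk, hd⟩ := hh
    exact hd (h ⟨k, hk⟩)
  rcases Nat.lt_trichotomy (i : ℕ) j with hlt | he | hlt
  · exact key j i hlt fun k => (h k).symm
  · exact hne (Fin.ext he)
  · exact key i j hlt h

theorem LineRel.unique {g : Equiv.Perm icoLeech} {π π' : Equiv.Perm (Fin 315)} (h : LineRel g π)
    (h' : LineRel g π') : π = π' :=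
  Equiv.ext fun i => R_injective ((h i).symm.trans (h' i))

theorem BlockRel.unique {π : Equiv.Perm (Fin 315)} {σ σ' : Equiv.Perm (Fin 100)} (h : BlockRel π σ)
    (h' : BlockRel π σ') : σ = σ' :=
  Equiv.ext fun k => block_injective fun i => by
    have h1 := h k (π⁻¹ i)
    have h2 := h' k (π⁻¹ i)
    rw [CfsgLib.Mathieu.perm_apply_inv] at h1 h2
    rw [← h1, h2]

theorem ActRel.unique {g : Equiv.Perm icoLeech} {σ σ' : Equiv.Perm (Fin 100)} (h : ActRel g σ)
    (h' : ActRel g σ') : σ = σ' := by
  obtain ⟨π, hl, hb⟩ := h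
  obtain ⟨π', hl', hb'⟩ := h'
  exact (hl.unique hl' ▸ hb).unique hb'

theorem ActRel.mul {g g' : Equiv.Perm icoLeech} {σ σ' : Equiv.Perm (Fin 100)} (h : ActRel g σ)
    (h' : ActRel g' σ') : ActRel (g * g') (σ * σ') := by
  obtain ⟨π, hl, hb⟩ := h
  obtain ⟨π', hl', hb'⟩ := h'
  refine ⟨π * π', fun i => ?_, fun k i => ?_⟩
  · rw [Equiv.Perm.mul_apply, ← hl, ← hl' i]; group
  · rw [Equiv.Perm.mul_apply, Equiv.Perm.mul_apply, ← hb, ← hb']

theorem actRel_one : ActRel 1 1 := ⟨1, fun i => by simp, fun _ _ => rfl⟩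

theorem ActRel.inv {g : Equiv.Perm icoLeech} {σ : Equiv.Perm (Fin 100)} (h : ActRel g σ) :
    ActRel g⁻¹ σ⁻¹ := by
  obtain ⟨π, hl, hb⟩ := h
  refine ⟨π⁻¹, fun i => ?_, fun k i => ?_⟩
  · have := hl (π⁻¹ i)
    rw [CfsgLib.Mathieu.perm_apply_inv] at this
    rw [← this]; group
  · have := hb (σ⁻¹ k) (π⁻¹ i)
    rw [CfsgLib.Mathieu.perm_apply_inv, CfsgLib.Mathieu.perm_apply_inv] at this
    exact this.symm

theorem blockFacts {a : ℕ} (ha : a < 4) {k : ℕ} (hk : k < 100) :
    sBlock a k < 100 ∧ sBlock a (sBlock a k) = k ∧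
      ∀ i < 315, (block k).testBit i = (block (sBlock a k)).testBit (sLine a i) := by
  have h := allBelow_iff.1 (allBelow_iff.1 chkBlocks_ok a ha) k hk
  simp only [Bool.and_eq_true, beq_iff_eq, allBelow_iff] at h
  exact ⟨Nat.le_of_ble_eq_true h.1, Nat.eq_of_beq_eq_true h.2.1, h.2.2⟩

/-- The permutation of the blocks by a generator. -/
def blockPerm (a : Fin 4) : Equiv.Perm (Fin 100) :=
  Function.Involutive.toPerm (fun k => ⟨sBlock a k, (blockFacts a.2 k.2).1⟩)
    fun k => Fin.ext (blockFacts a.2 k.2).2.1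

theorem actRel_gen (a : Fin 4) : ActRel (R (gIdx a)) (blockPerm a) :=
  ⟨linePerm a, conj_gen a, fun k i => (blockFacts a.2 k.2).2.2 i i.2⟩

theorem exists_actRel {g : Equiv.Perm icoLeech} (hg : g ∈ twoJ2) : ∃ σ, ActRel g σ := by
  rw [← closure_gens] at hg
  induction hg using Subgroup.closure_induction with
  | mem x hx => obtain ⟨a, rfl⟩ := hx; exact ⟨_, actRel_gen a⟩
  | one => exact ⟨1, actRel_one⟩
  | mul x y _ _ hx hy =>
    obtain ⟨σ, h⟩ := hx
    obtain ⟨σ', h'⟩ := hy
    exact ⟨σ * σ', h.mul h'⟩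
  | inv x _ hx => obtain ⟨σ, h⟩ := hx; exact ⟨σ⁻¹, h.inv⟩

/-- The action on the 100 blocks. -/
def act : twoJ2 →* Equiv.Perm (Fin 100) :=
  MonoidHom.mk' (fun g => (exists_actRel g.2).choose) fun g g' =>
    ((exists_actRel (g * g').2).choose_spec).unique
      ((exists_actRel g.2).choose_spec.mul (exists_actRel g'.2).choose_spec)

theorem actRel_act (g : twoJ2) : ActRel g (act g) := (exists_actRel g.2).choose_spec

/-- A generator as an element of the group. -/
def tgen (a : Fin 4) : twoJ2 := ⟨R (gIdx a), R_mem _⟩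

theorem act_tgen (a : Fin 4) : act (tgen a) = blockPerm a :=
  (actRel_act _).unique (actRel_gen a)

theorem closure_tgen : Subgroup.closure (Set.range tgen) = (⊤ : Subgroup twoJ2) := by
  refine Subgroup.map_injective twoJ2.subtype_injective ?_
  rw [MonoidHom.map_closure, ← MonoidHom.range_eq_map, Subgroup.range_subtype, ← Set.range_comp]
  exact closure_gens

theorem center_iff {g : twoJ2} :
    g ∈ Subgroup.center twoJ2 ↔ ∀ i, (g : Equiv.Perm icoLeech) * R i = R i * g := by
  refine ⟨fun h i => ?_, fun h => ?_⟩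
  · exact congrArg Subtype.val (Subgroup.mem_center_iff.1 h ⟨R i, R_mem i⟩).symm
  · rw [Subgroup.mem_center_iff]
    intro x
    have hx : x ∈ Subgroup.closure (Set.range tgen) := by rw [closure_tgen]; exact Subgroup.mem_top x
    induction hx using Subgroup.closure_induction with
    | mem x hx => obtain ⟨a, rfl⟩ := hx; exact Subtype.ext (h (gIdx a)).symm
    | one => rw [one_mul, mul_one]
    | mul x y _ _ hx hy => rw [mul_assoc, hy, ← mul_assoc, hx, mul_assoc]
    | inv x _ hx => exact (Commute.inv_left hx : Commute x⁻¹ g)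

theorem act_eq_one_iff {g : twoJ2} : act g = 1 ↔ g ∈ Subgroup.center twoJ2 := by
  rw [center_iff]
  constructor
  · intro h i
    obtain ⟨π, hl, hb⟩ := actRel_act g
    rw [h] at hb
    have hπ : π i = i := line_separated fun k => (hb k i).symm
    exact mul_inv_eq_iff_eq_mul.1 ((hl i).trans (congrArg R hπ))
  · intro h
    refine (actRel_act g).unique ⟨1, fun i => ?_, fun k i => rfl⟩
    rw [mul_inv_eq_iff_eq_mul]
    exact h i

theorem ker_act : act.ker = Subgroup.center twoJ2 := by
  ext g; exact MonoidHom.mem_ker.trans act_eq_one_iff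

theorem range_act : act.range = hj := by
  have hC := chkRange_ok
  simp only [chkRange, Bool.and_eq_true, allBelow_iff, List.all_eq_true] at hC
  obtain ⟨hW, hS⟩ := hC
  have hrep : ∀ a : Fin 4,
      Mathieu.Rep (Equiv.refl (Fin 100)) (blockPerm a) (blockTabs.getD a 0) := fun a k => rfl
  refine le_antisymm ?_ ((Subgroup.closure_le _).2 ?_)
  · rw [MonoidHom.range_eq_map, ← closure_tgen, MonoidHom.map_closure, Subgroup.closure_le]
    rintro _ ⟨_, ⟨a, rfl⟩, rfl⟩
    rw [act_tgen]
    have hlen : blockTabs.length = 4 := by decide +kernel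
    have := (Mathieu.Schreier.sift_sound Mathieu.HallJanko.chain
      (Mathieu.Schreier.levelSpec_of_ok _ Mathieu.HallJanko.chain_ok Mathieu.HallJanko.chain_perms)
      [blockTabs.getD a 0] [blockPerm a] (.cons (hrep a) .nil) (hS _ (by
        rw [List.getD_eq_getElem _ _ (by omega : (a : ℕ) < blockTabs.length)]
        exact List.getElem_mem _))).1
    simpa [hj] using this
  · rintro τ ⟨t, ht, rτ⟩
    change t ∈ ([0, 1, 2, 3, 4].map fun i => Mathieu.HallJanko.strong.getD i 0) at ht
    obtain ⟨j, hj5, rfl⟩ := List.mem_map.1 ht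
    have hj' : j < 5 := by simp at hj5; omega
    obtain ⟨hlt, heq⟩ := hW j hj'
    have key : ∀ w : List ℕ, (∀ a ∈ w, a < 4) →
        ∃ σ ∈ act.range, ∀ k : Fin 100, ((σ k : Fin 100) : ℕ) = wBlock w k := by
      intro w
      induction w with
      | nil => exact fun _ => ⟨1, one_mem _, fun k => rfl⟩
      | cons a w ih =>
        intro hw
        obtain ⟨σ, hσ, e⟩ := ih fun b hb => hw b (List.mem_cons_of_mem _ hb)
        refine ⟨blockPerm ⟨a, hw a List.mem_cons_self⟩ * σ, mul_mem ⟨_, act_tgen _⟩ hσ, fun k => ?_⟩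
        show sBlock a (σ k) = sBlock a (wBlock w k)
        rw [e]
    obtain ⟨σ, hσ, e⟩ := key _ fun a ha => Nat.le_of_ble_eq_true (hlt a ha)
    have : τ = σ := Equiv.ext fun k => Fin.ext (by
      rw [e, Nat.eq_of_beq_eq_true (heq k k.2)]; exact (rτ k).symm)
    exact this ▸ hσ

/-- `J₂` is the verified permutation group. -/
def equivHJ : J2 ≃* hj :=
  ((QuotientGroup.quotientMulEquivOfEq ker_act).symm.trans
    (QuotientGroup.quotientKerEquivRange act)).trans (MulEquiv.subgroupCongr range_act)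

theorem card_J2 : Nat.card J2 = 604800 :=
  (Nat.card_congr equivHJ.toEquiv).trans Mathieu.HallJanko.card_hj

end CfsgLib.J2
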