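import Cfsg.Agent.JankoTwoThree.J3OutCheck

/-!
Kernel verification of the certificate for automorphisms.
-/

set_option autoImplicit false

namespace CfsgLib.J23

open CfsgLib.J1

theorem sigOK : allLt 6156 chkSig = true := by decide +kernel

theorem abcOK : chkABC = true := by decide +kernel

theorem aFixOK : allLt 6156 chkAFix = true := by decide +kernel

theorem conjAOK : chkConjA = true := by decide +kernel

theorem normAOK : chkNormA = true := by decide +kernel

theorem candOK0 : allLt 960 chkCand = true := by decide +kernel

theorem candOK1 : allLt 960 (fun i => chkCand (960 + i)) = true := by decide +kernel

theorem relOK : chkRel = true := by decide +kernel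

end CfsgLib.J23
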