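import Cfsg.Agent.JankoTwoThree.J3Involution
import Cfsg.Agent.JankoTwoThree.J3OutVerify
import Cfsg.Agent.SporadicOut.Criterion
import Mathlib.GroupTheory.Sylow

/-!
# `J₃` has exactly two classes of automorphisms modulo inner ones

An element `a` of order 17 is self-centralising with normaliser `⟨a, b⟩` of order 136, so after an
inner automorphism `φ` fixes `b` and sends `a` to `a` or `a ^ 3`; the third generator goes to one of
96 elements commuting with `b ^ 2`, and relations leave the identity and one outer map.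
-/

set_option autoImplicit false

namespace CfsgLib.J23

open Cfsg.Spor CfsgLib.J1 CfsgLib.Schur

/-- The element of order 17. -/
noncomputable def aJ : J3P := pW aW

/-- The element of order 8. -/
noncomputable def bJ : J3P := pW bW

/-- The third generator. -/
noncomputable def cJ : J3P := pW cW

/-- The image of the third generator. -/
noncomputable def cJ2 : J3P := pW cW2

theorem abcFacts : aJ ^ 17 = 1 ∧ aJ ≠ 1 ∧ aJ * bJ = bJ * (aJ * aJ) ∧
    (bJ * bJ) * (bJ * bJ) = pW dW * tJ * (pW dW)⁻¹ ∧ cJ * (bJ * bJ) = (bJ * bJ) * cJ ∧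
    (∀ i, i < 2 → pW (expand6 aW bW cW (genABC.getD i [])) = pW [i]) ∧
    pW (substO aW) = aJ ∧ pW (substO bW) = bJ ∧ pW (substO cW) = cJ2 ∧ cJ ≠ cJ2 := by
  have h := abcOK
  simp only [chkABC, Bool.and_eq_true, Bool.not_eq_true'] at h
  obtain ⟨h1, h2, h3, h4, h5, h6, h7, h8, h9, h10, h11⟩ := h
  refine ⟨?_, fun e => ?_, ?_, ?_, ?_, fun i hi => ?_, wEq_sound h8, wEq_sound h9, wEq_sound h10,
    fun e => ?_⟩
  · rw [aJ, ← pW_wPow, ← pW_nil]; exact wEq_sound h1
  · rw [wEq_complete (show pW aW = pW [] from e.trans pW_nil.symm)] at h2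
    exact Bool.noConfusion h2
  · rw [aJ, bJ, ← pW_append, ← pW_append, ← pW_append]; exact wEq_sound h3
  · rw [bJ, ← pW_append, tJ, ← pW_wConj, ← pW_append]; exact wEq_sound h4
  · rw [cJ, bJ, ← pW_append]; exact commute_of_wCommute h5
  · interval_cases i
    exacts [wEq_sound h6, wEq_sound h7]
  · rw [wEq_complete (show pW cW = pW cW2 from e)] at h11
    exact Bool.noConfusion h11

theorem orderOf_aJ : orderOf aJ = 17 := by
  haveI : Fact (Nat.Prime 17) := ⟨by norm_num⟩
  exact orderOf_eq_prime abcFacts.1 abcFacts.2.1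

theorem aJ_fix {i : Fin 6156} (h : aJ • i = i) : (i : ℕ) = 0 ∨ (i : ℕ) = 275 := by
  have hA := allLt_spec aFixOK i i.2
  simp only [chkAFix, Bool.or_eq_true, Bool.not_eq_true'] at hA
  rcases hA with h' | h' | h'
  · exact Or.inl (Nat.eq_of_beq_eq_true h')
  · exact Or.inr (Nat.eq_of_beq_eq_true h')
  · rw [show appW aW i = i from (pev_apply aW i).symm.trans (congrArg Fin.val h),
      Nat.beq_refl] at h'
    exact Bool.noConfusion h'

theorem normFacts : normA.length = 136 ∧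
    (∀ q ∈ normA, q.1 < 17 ∧ pW q.2 * aJ = aJ ^ q.1 * pW q.2 ∧
      (q.1 = 1 → ∃ i < 17, pW q.2 = aJ ^ i)) ∧
    ∀ i j, i < 136 → j < 136 → pW (normA.getD i (0, [])).2 = pW (normA.getD j (0, [])).2 → i = j := by
  have h := normAOK
  simp only [chkNormA, Bool.and_eq_true, List.all_eq_true, Bool.or_eq_true, Bool.not_eq_true',
    List.any_eq_true, List.mem_range] at h
  obtain ⟨⟨-, h2⟩, h3⟩ := h
  have hl : normA.length = 136 := by decide +kernel
  refine ⟨hl, fun q hq => ?_, fun i j hi hj e => ?_⟩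
  · obtain ⟨⟨a1, a2⟩, a3⟩ := h2 q hq
    refine ⟨Nat.le_of_ble_eq_true a1, ?_, fun e => ?_⟩
    · rw [aJ, ← pW_wPow, ← pW_append, ← pW_append]; exact wEq_sound a2
    · rcases a3 with h' | ⟨i, hi, h'⟩
      · rw [e, Nat.beq_refl] at h'; exact Bool.noConfusion h'
      · exact ⟨i, hi, by rw [aJ, ← pW_wPow]; exact wEq_sound h'⟩
  · refine nodupT_spec (normA.map Prod.snd) (by rw [List.map_map]; exact h3) i j
      (by rw [List.length_map, hl]; exact hi) (by rw [List.length_map, hl]; exact hj) ?_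
    rw [List.getD_eq_getElem _ _ (by rw [List.length_map, hl]; exact hi),
      List.getD_eq_getElem _ _ (by rw [List.length_map, hl]; exact hj), List.getElem_map,
      List.getElem_map]
    rwa [List.getD_eq_getElem normA _ (hl.symm ▸ hi), List.getD_eq_getElem normA _ (hl.symm ▸ hj)] at e

/-- The normaliser of `⟨aJ⟩`. -/
noncomputable def nA : Subgroup J3P := Subgroup.normalizer (Subgroup.zpowers aJ : Set J3P)

open Pointwise in
theorem nA_smul {g : J3P} (hg : g ∈ nA) {i : Fin 6156} (hi : aJ • i = i) : aJ • g • i = g • i := by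
  have h := (Subgroup.mem_normalizer_iff.1 (nA.inv_mem hg) aJ).1 (Subgroup.mem_zpowers aJ)
  rw [inv_inv] at h
  have hst : Subgroup.zpowers aJ ≤ MulAction.stabilizer J3P i :=
    Subgroup.zpowers_le.2 (MulAction.mem_stabilizer_iff.2 hi)
  have h' : (g⁻¹ * aJ * g) • i = i := MulAction.mem_stabilizer_iff.1 (hst h)
  calc aJ • g • i = g • ((g⁻¹ * aJ * g) • i) := by rw [← mul_smul, ← mul_smul]; group
    _ = g • i := by rw [h']

theorem card_nA_le : Nat.card nA ≤ 136 := by
  set H := MulAction.stabilizer J3P (0 : Fin 6156) with hH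
  have h := conjAOK
  simp only [chkConjA, Bool.and_eq_true, List.all_eq_true] at h
  obtain ⟨⟨-, hz⟩, hd⟩ := h
  have hl : conjA.length = 120 := by decide +kernel
  let p : Fin 6156 := ⟨275, by norm_num⟩
  have hp : ∀ n ∈ H ⊓ nA, n • p = p := by
    intro n hn
    have h0 : n • (0 : Fin 6156) = 0 := hn.1
    have ha : aJ • p = p := Fin.ext ((pev_apply aW p).trans (by decide +kernel))
    rcases aJ_fix (nA_smul hn.2 ha) with e | e
    · exact absurd (smul_left_cancel n ((Fin.ext e : n • p = 0).trans h0.symm)) (by simp [p, Fin.ext_iff])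
    · exact Fin.ext e
  let c : Fin 120 → H := fun i => ⟨pW (conjA.getD i []),
    pW_mem_stabilizer (Nat.eq_of_beq_eq_true (hz _ (getD_mem _ _ _ (hl.symm ▸ i.2))))⟩
  have hcard : 120 * Nat.card (H ⊓ nA : Subgroup J3P) ≤ 8160 := by
    let Φ : Fin 120 × (H ⊓ nA : Subgroup J3P) → H := fun q => c q.1 * ⟨q.2.1, q.2.2.1⟩
    have hΦ : Function.Injective Φ := by
      rintro ⟨i, n⟩ ⟨j, m⟩ e
      have e' : pW (conjA.getD i []) * (n : J3P) = pW (conjA.getD j []) * m := congrArg Subtype.val e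
      have hij : i = j := by
        by_contra hne
        have himg : appW (conjA.getD i []) 275 = appW (conjA.getD j []) 275 := by
          have := congrArg (fun g : J3P => g • p) e'
          simp only [mul_smul, hp _ n.2, hp _ m.2] at this
          exact (pev_apply _ p).symm.trans ((congrArg Fin.val this).trans (pev_apply _ p))
        rcases Nat.lt_or_gt_of_ne (fun h => hne (Fin.ext h) : (i : ℕ) ≠ j) with h | h
        · have := allLt_spec (allLt_spec hd j j.2) i h
          simp only [himg, Nat.beq_refl, Bool.not_true] at this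
          exact Bool.false_ne_true this
        · have := allLt_spec (allLt_spec hd i i.2) j h
          simp only [himg, Nat.beq_refl, Bool.not_true] at this
          exact Bool.false_ne_true this
      subst hij
      simpa using e'
    have := Nat.card_le_card_of_injective Φ hΦ
    rwa [Nat.card_prod, Nat.card_fin, hH, card_stabilizer_J3P] at this
  have horb : Nat.card (MulAction.orbit nA (0 : Fin 6156)) ≤ 2 := by
    have h0 : aJ • (0 : Fin 6156) = 0 := Fin.ext ((pev_apply aW 0).trans (by decide +kernel))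
    let f : MulAction.orbit nA (0 : Fin 6156) → Fin 2 := fun x =>
      if ((x : Fin 6156) : ℕ) = 0 then 0 else 1
    have hx : ∀ x : MulAction.orbit nA (0 : Fin 6156),
        ((x : Fin 6156) : ℕ) = 0 ∨ ((x : Fin 6156) : ℕ) = 275 := by
      rintro ⟨_, g, rfl⟩
      exact aJ_fix (nA_smul g.2 h0)
    have hf : Function.Injective f := by
      intro x y e
      refine Subtype.ext (Fin.ext ?_)
      rcases hx x with a | a <;> rcases hx y with b | b <;> simp_all [f]
    simpa using Nat.card_le_card_of_injective f hf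
  have hstab : Nat.card (MulAction.stabilizer nA (0 : Fin 6156)) ≤ 68 := by
    let f : MulAction.stabilizer nA (0 : Fin 6156) → (H ⊓ nA : Subgroup J3P) :=
      fun g => ⟨g.1.1, g.2, g.1.2⟩
    have := Nat.card_le_card_of_injective f fun a b e =>
      Subtype.ext (Subtype.ext (congrArg Subtype.val e :))
    omega
  have hmul := (MulAction.stabilizer nA (0 : Fin 6156)).index_mul_card
  rw [MulAction.index_stabilizer, ← Nat.card_coe_set_eq] at hmul
  calc Nat.card nA = _ := hmul.symm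
    _ ≤ 2 * 68 := Nat.mul_le_mul horb hstab
    _ = 136 := by norm_num

/-- The centraliser of `aJ` is `⟨aJ⟩`. -/
theorem exists_pow_of_commute {g : J3P} (hg : Commute g aJ) : ∃ i < 17, g = aJ ^ i := by
  obtain ⟨hl, hq, hinj⟩ := normFacts
  have hmem : ∀ q ∈ normA, pW q.2 ∈ nA := fun q hq' => by
    obtain ⟨-, hc, -⟩ := hq q hq'
    rw [nA, Subgroup.mem_normalizer_iff]
    let φ : Subgroup.zpowers aJ → Subgroup.zpowers aJ := fun x =>
      ⟨pW q.2 * x * (pW q.2)⁻¹, by
        obtain ⟨n, hn⟩ := Subgroup.mem_zpowers_iff.1 x.2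
        rw [← hn, ← conj_zpow, mul_inv_eq_iff_eq_mul.2 hc]
        exact zpow_mem (pow_mem (Subgroup.mem_zpowers aJ) _) n⟩
    have hφ : Function.Injective φ := fun x y e =>
      Subtype.ext (mul_left_cancel (mul_right_cancel (congrArg Subtype.val e :)))
    intro x
    refine ⟨fun hx => (φ ⟨x, hx⟩).2, fun hx => ?_⟩
    obtain ⟨y, hy⟩ := Finite.injective_iff_surjective.1 hφ ⟨_, hx⟩
    have := mul_left_cancel (mul_right_cancel (congrArg Subtype.val hy :))
    exact this ▸ y.2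
  let f : Fin 136 → nA := fun i => ⟨pW (normA.getD i (0, [])).2,
    hmem _ (getD_mem _ _ _ (hl.symm ▸ i.2))⟩
  have hf : Function.Injective f := fun i j e =>
    Fin.ext (hinj i j i.2 j.2 (congrArg Subtype.val e))
  have hsurj := (hf.bijective_of_nat_card_le (by rw [Nat.card_fin]; exact card_nA_le)).2
  have hgN : g ∈ nA := by
    rw [nA, Subgroup.mem_normalizer_iff]
    intro x
    have hfix : ∀ n : ℤ, g * aJ ^ n * g⁻¹ = aJ ^ n := fun n => by
      rw [(hg.zpow_right n).eq, mul_inv_cancel_right]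
    constructor
    · intro hx
      obtain ⟨n, rfl⟩ := Subgroup.mem_zpowers_iff.1 hx
      rw [hfix]; exact Subgroup.zpow_mem_zpowers aJ n
    · intro hx
      obtain ⟨n, hn⟩ := Subgroup.mem_zpowers_iff.1 hx
      rw [← hfix, mul_left_inj, mul_right_inj] at hn
      rw [← hn]; exact Subgroup.zpow_mem_zpowers aJ n
  obtain ⟨i, hi⟩ := hsurj ⟨g, hgN⟩
  have hgi : g = pW (normA.getD i (0, [])).2 := (congrArg Subtype.val hi).symm
  obtain ⟨hk, hc, hone⟩ := hq _ (getD_mem normA i (0, []) (hl.symm ▸ i.2))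
  rw [← hgi] at hc hone
  refine hone ?_
  rw [hg.eq, mul_left_inj] at hc
  have hc' : aJ ^ (1 : ℕ) = aJ ^ (normA.getD i (0, [])).1 := by rw [pow_one]; exact hc
  rw [pow_inj_mod, orderOf_aJ, Nat.mod_eq_of_lt hk] at hc'
  exact hc'.symm

/-- The elements commuting with `bJ ^ 2` are listed. -/
theorem exists_cand {g : J3P} (hg : g * (bJ * bJ) = bJ * bJ * g) : ∃ w ∈ candC, g = pW w := by
  set d := pW dW with hd
  have hk : d⁻¹ * g * d ∈ Subgroup.centralizer ({tJ} : Set J3P) := by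
    rw [Subgroup.mem_centralizer_singleton_iff]
    have h4 : g * (d * tJ * d⁻¹) = d * tJ * d⁻¹ * g := by
      rw [← abcFacts.2.2.2.1]
      calc g * (bJ * bJ * (bJ * bJ)) = g * (bJ * bJ) * (bJ * bJ) := (mul_assoc _ _ _).symm
        _ = bJ * bJ * (g * (bJ * bJ)) := (congrArg (· * (bJ * bJ)) hg).trans (mul_assoc _ _ _)
        _ = bJ * bJ * (bJ * bJ) * g :=
          (congrArg (bJ * bJ * ·) hg).trans (mul_assoc (bJ * bJ) (bJ * bJ) g).symm
    calc d⁻¹ * g * d * tJ = d⁻¹ * (g * (d * tJ * d⁻¹)) * d := by group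
      _ = tJ * (d⁻¹ * g * d) := by rw [h4]; group
  obtain ⟨⟨q, a⟩, hqa⟩ := isComplement_qC.2 ⟨_, hk⟩
  obtain ⟨u, hu, eu⟩ := ((listed_spec qListed).1 _).1 q.2
  obtain ⟨v, hv, ev⟩ := ((listed_spec aListed).1 _).1 a.2
  have hprod : d⁻¹ * g * d = pW (u ++ v) := by
    rw [pW_append, ← eu, ← ev]; exact (congrArg Subtype.val hqa).symm
  obtain ⟨i, hi, rfl⟩ := List.getElem_of_mem hu
  obtain ⟨j, hj, rfl⟩ := List.getElem_of_mem hv
  have hq32 : qEltW.length = 32 := by decide +kernel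
  have ha60 : aEltW.length = 60 := by decide +kernel
  have hc : chkCand (60 * i + j) = true := by
    by_cases hlt : 60 * i + j < 960
    · exact allLt_spec candOK0 _ hlt
    · have := allLt_spec candOK1 (60 * i + j - 960) (by omega)
      rwa [Nat.add_sub_cancel' (by omega)] at this
  simp only [chkCand, show (60 * i + j) / 60 = i by omega, show (60 * i + j) % 60 = j by omega,
    List.getD_eq_getElem _ [] hi, List.getD_eq_getElem _ [] hj, Bool.or_eq_true,
    Bool.not_eq_true'] at hc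
  rcases hc with hc | hc
  · exfalso
    have : wCommute (qEltW[i] ++ aEltW[j]) (wInv dW ++ (b2W ++ dW)) = true := wEq_complete (by
      rw [pW_append (qEltW[i] ++ aEltW[j]), pW_append (wInv dW ++ (b2W ++ dW)), ← hprod,
        pW_append, pW_append, b2W, pW_append, pW_wInv, ← hd,
        show pW bW = bJ from rfl]
      calc d⁻¹ * g * d * (d⁻¹ * (bJ * bJ * d)) = d⁻¹ * (g * (bJ * bJ)) * d := by group
        _ = d⁻¹ * (bJ * bJ * d) * (d⁻¹ * g * d) := by rw [hg]; group)
    rw [this] at hc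
    exact Bool.noConfusion hc
  · obtain ⟨w, hw, e⟩ := memT_iff.1 hc
    refine ⟨w, hw, ?_⟩
    rw [← e, pW_wConj, ← hd, ← hprod]
    group

theorem pW_expand6 (f : J3P →* J3P) {A B C A' B' C' : List ℕ} (hA : f (pW A) = pW A')
    (hB : f (pW B) = pW B') (hC : f (pW C) = pW C') :
    ∀ w, f (pW (expand6 A B C w)) = pW (expand6 A' B' C' w)
  | [] => by rw [expand6, expand6, pW_nil, map_one]
  | l :: w => by
    have key : ∀ u u', f (pW u) = pW u' →
        f (pW (u ++ expand6 A B C w)) = pW (u' ++ expand6 A' B' C' w) := fun u u' h => by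
      rw [pW_append, pW_append, map_mul, h, pW_expand6 f hA hB hC w]
    have kinv : ∀ u u', f (pW u) = pW u' → f (pW (wInv u)) = pW (wInv u') := fun u u' h => by
      rw [pW_wInv, pW_wInv, map_inv, h]
    match l with
    | 0 => exact key _ _ hA
    | 1 => exact key _ _ hB
    | 2 => exact key _ _ hC
    | 3 => exact key _ _ (kinv _ _ hA)
    | 4 => exact key _ _ (kinv _ _ hB)
    | n + 5 => exact key _ _ (kinv _ _ hC)

theorem closure_abc :
    Subgroup.closure (Set.range ![aJ, bJ, cJ]) = (⊤ : Subgroup J3P) := by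
  have hexp : ∀ w, pW (expand6 aW bW cW w) ∈ Subgroup.closure (Set.range ![aJ, bJ, cJ]) := by
    intro w
    induction w with
    | nil => rw [expand6, pW_nil]; exact one_mem _
    | cons l w ih =>
      have key : ∀ u, pW u ∈ Subgroup.closure (Set.range ![aJ, bJ, cJ]) →
          pW (u ++ expand6 aW bW cW w) ∈ Subgroup.closure (Set.range ![aJ, bJ, cJ]) := fun u h => by
        rw [pW_append]; exact mul_mem h ih
      have kinv : ∀ u, pW u ∈ Subgroup.closure (Set.range ![aJ, bJ, cJ]) →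
          pW (wInv u) ∈ Subgroup.closure (Set.range ![aJ, bJ, cJ]) := fun u h => by
        rw [pW_wInv]; exact inv_mem h
      have m : ∀ k : Fin 3, ![aJ, bJ, cJ] k ∈ Subgroup.closure (Set.range ![aJ, bJ, cJ]) :=
        fun k => Subgroup.subset_closure ⟨k, rfl⟩
      match l with
      | 0 => exact key _ (m 0)
      | 1 => exact key _ (m 1)
      | 2 => exact key _ (m 2)
      | 3 => exact key _ (kinv _ (m 0))
      | 4 => exact key _ (kinv _ (m 1))
      | n + 5 => exact key _ (kinv _ (m 2))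
  rw [eq_top_iff, ← closure_pW, Subgroup.closure_le]
  rintro _ (rfl | rfl)
  · rw [← abcFacts.2.2.2.2.2.1 0 (by norm_num)]; exact hexp _
  · rw [← abcFacts.2.2.2.2.2.1 1 (by norm_num)]; exact hexp _

theorem sigFacts {i : ℕ} (hi : i < 6156) : sigI i < 6156 ∧ sig (sigI i) = i ∧ sig i < 6156 ∧
    sig (app 0 i) = appW (outImg.getD 0 []) (sig i) ∧
      sig (app 1 i) = appW (outImg.getD 1 []) (sig i) := by
  have h := allLt_spec sigOK i hi
  simp only [chkSig, Bool.and_eq_true] at h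
  exact ⟨Nat.le_of_ble_eq_true h.1, Nat.eq_of_beq_eq_true h.2.1, Nat.le_of_ble_eq_true h.2.2.1,
    Nat.eq_of_beq_eq_true h.2.2.2.1, Nat.eq_of_beq_eq_true h.2.2.2.2⟩

/-- The outer permutation. -/
noncomputable def sigP : Equiv.Perm (Fin 6156) :=
  (permOf sig sigI (fun _ h => (sigFacts h).1) fun _ h => (sigFacts h).2.1)⁻¹

theorem sigP_apply (i : Fin 6156) : (sigP i : ℕ) = sig i := app_section i

theorem sigP_conj : ∀ a : ℕ, a < 2 → sigP * pgen a * sigP⁻¹ = (pW (outImg.getD a [])).1 := by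
  intro a ha
  rw [mul_inv_eq_iff_eq_mul]
  refine Equiv.ext fun i => Fin.ext ?_
  rw [Equiv.Perm.mul_apply, Equiv.Perm.mul_apply, sigP_apply, pgen_apply,
    show (pW (outImg.getD a [])).1 = Pc.ev pgen (outImg.getD a []) from rfl, pev_apply, sigP_apply]
  interval_cases a
  exacts [(sigFacts i.2).2.2.2.1, (sigFacts i.2).2.2.2.2]

theorem map_sigP : J3P.map (MulAut.conj sigP).toMonoidHom = J3P := by
  refine Subgroup.eq_of_le_of_card_ge ?_
    (le_of_eq (Subgroup.card_map_of_injective (MulAut.conj sigP).injective).symm)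
  rw [J3P, MonoidHom.map_closure, Subgroup.closure_le, Set.image_pair]
  rintro _ (rfl | rfl)
  · show sigP * pgen 0 * sigP⁻¹ ∈ J3P
    rw [sigP_conj 0 (by norm_num)]; exact (pW _).2
  · show sigP * pgen 1 * sigP⁻¹ ∈ J3P
    rw [sigP_conj 1 (by norm_num)]; exact (pW _).2

/-- The outer automorphism. -/
noncomputable def piJ : MulAut J3P :=
  (MulEquiv.subgroupMap (MulAut.conj sigP) J3P).trans (MulEquiv.subgroupCongr map_sigP)

theorem coe_piJ (g : J3P) : (piJ g).1 = sigP * g.1 * sigP⁻¹ := rfl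

theorem piJ_pW : ∀ w, piJ (pW w) = pW (substO w)
  | [] => by rw [substO, pW_nil, map_one]
  | l :: w => by
    have h : ∀ a, a < 2 → piJ (pW [a]) = pW (outImg.getD a []) := fun a ha => Subtype.ext (by
      rw [coe_piJ, ← sigP_conj a ha]; simp [pW, Pc.ev_cons])
    have hinv : ∀ a, pW [invL a] = (pW [a])⁻¹ := fun a => by
      rw [← pW_wInv]; rfl
    have key : ∀ u, piJ (pW [l]) = pW u → piJ (pW (l :: w)) = pW (u ++ substO w) := fun u h => by
      rw [show l :: w = [l] ++ w from rfl, pW_append, pW_append, map_mul, h, piJ_pW w]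
    match l with
    | 0 => exact key _ (h 0 (by norm_num))
    | 1 => exact key _ (h 1 (by norm_num))
    | 2 =>
      refine key (wInv (outImg.getD 0 [])) ?_
      rw [show pW [2] = (pW [0])⁻¹ from hinv 0, map_inv, h 0 (by norm_num), pW_wInv]
    | n + 3 =>
      refine key (wInv (outImg.getD 1 [])) ?_
      rw [show pW [n + 3] = (pW [1])⁻¹ from by rw [← hinv]; rfl, map_inv, h 1 (by norm_num), pW_wInv]

theorem relFails_spec {A C : List ℕ} (h : relFails A C = true) :
    ∃ r ∈ relC, pW (expand6 A bW C r.1) ^ r.2 ≠ 1 := by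
  simp only [relFails, List.any_eq_true, Bool.not_eq_true'] at h
  obtain ⟨r, hr, h⟩ := h
  refine ⟨r, hr, fun e => ?_⟩
  rw [← pW_wPow, ← pW_nil] at e
  rw [wEq_complete e] at h
  exact Bool.noConfusion h

/-- Every automorphism is inner or inner times `piJ` on the generators. -/
theorem exists_norm (φ : MulAut J3P) : ∃ g : J3P,
    (∀ i, g * φ (![aJ, bJ, cJ] i) * g⁻¹ = ![aJ, bJ, cJ] i) ∨
      ∀ i, g * φ (![aJ, bJ, cJ] i) * g⁻¹ = piJ (![aJ, bJ, cJ] i) := by
  haveI : Fact (Nat.Prime 17) := ⟨by norm_num⟩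
  obtain ⟨ha17, hane, hab, -, hcb, -, hpa, hpb, hpc, -⟩ := abcFacts
  have hfac : (Nat.card J3P).factorization 17 = 1 := by
    rw [card_J3P, show (50232960 : ℕ) = 17 * 2954880 by norm_num,
      Nat.factorization_mul (by norm_num) (by norm_num), Finsupp.add_apply,
      Nat.Prime.factorization_self (by norm_num),
      Nat.factorization_eq_zero_of_not_dvd (by norm_num)]
  have hsyl : ∀ u : J3P, orderOf u = 17 →
      Nat.card (Subgroup.zpowers u) = 17 ^ (Nat.card J3P).factorization 17 := by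
    intro u hu; rw [Nat.card_zpowers, hu, hfac, pow_one]
  let P1 : Sylow 17 J3P := Sylow.ofCard _ (hsyl (φ aJ) (by rw [MulEquiv.orderOf_eq, orderOf_aJ]))
  let P2 : Sylow 17 J3P := Sylow.ofCard _ (hsyl aJ orderOf_aJ)
  obtain ⟨g1, hg1⟩ := MulAction.exists_smul_eq J3P P1 P2
  have hmem : g1 * φ aJ * g1⁻¹ ∈ Subgroup.zpowers aJ := by
    have h2 : g1 * φ aJ * g1⁻¹ ∈ (↑(g1 • P1) : Subgroup J3P) := by
      rw [Sylow.coe_subgroup_smul]
      exact Subgroup.smul_mem_pointwise_smul (φ aJ) (MulAut.conj g1) _ (Subgroup.mem_zpowers _)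
    rw [hg1] at h2
    exact h2
  obtain ⟨k, hk, hka⟩ : ∃ k < 17, aJ ^ k = g1 * φ aJ * g1⁻¹ := by
    obtain ⟨k, hk, he⟩ := Finset.mem_image.1 (mem_zpowers_iff_mem_range_orderOf.1 hmem)
    exact ⟨k, by simpa [orderOf_aJ] using hk, he⟩
  have hk0 : k ≠ 0 := by
    rintro rfl
    rw [pow_zero, eq_comm, mul_inv_eq_one] at hka
    exact hane (φ.injective ((mul_left_cancel (hka.trans (mul_one g1).symm)).trans (map_one φ).symm))
  obtain ⟨m, -, hmk⟩ : ∃ m < 8, k * 2 ^ m % 17 = 1 ∨ k * 2 ^ m % 17 = 3 :=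
    (by decide : ∀ k < 17, k ≠ 0 → ∃ m < 8, k * 2 ^ m % 17 = 1 ∨ k * 2 ^ m % 17 = 3) k hk hk0
  have hab' : bJ⁻¹ * aJ * bJ = aJ ^ 2 := by
    rw [pow_two, mul_assoc, hab, inv_mul_cancel_left]
  have hconj : ∀ m n : ℕ, (bJ ^ m)⁻¹ * aJ ^ n * bJ ^ m = aJ ^ (n * 2 ^ m) := by
    intro m
    induction m with
    | zero => intro n; simp
    | succ m ih =>
      intro n
      have e : bJ⁻¹ * aJ ^ (n * 2 ^ m) * bJ = aJ ^ (n * 2 ^ m * 2) := by
        have := conj_pow (a := bJ⁻¹) (b := aJ) (i := n * 2 ^ m)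
        rw [inv_inv, hab', ← pow_mul, mul_comm 2] at this
        exact this.symm
      rw [pow_succ, mul_inv_rev,
        show bJ⁻¹ * (bJ ^ m)⁻¹ * aJ ^ n * (bJ ^ m * bJ) = bJ⁻¹ * ((bJ ^ m)⁻¹ * aJ ^ n * bJ ^ m) * bJ
          by group, ih, e, pow_succ, ← mul_assoc]
  set e := k * 2 ^ m % 17 with he
  let ψ : MulAut J3P := MulAut.conj ((bJ ^ m)⁻¹ * g1) * φ
  have hψa : ψ aJ = aJ ^ e := by
    change (bJ ^ m)⁻¹ * g1 * φ aJ * ((bJ ^ m)⁻¹ * g1)⁻¹ = _
    rw [mul_inv_rev, inv_inv, show (bJ ^ m)⁻¹ * g1 * φ aJ * (g1⁻¹ * bJ ^ m) =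
      (bJ ^ m)⁻¹ * (g1 * φ aJ * g1⁻¹) * bJ ^ m by group, ← hka, hconj, pow_eq_pow_mod _ ha17, he]
  have hψab : aJ ^ e * ψ bJ = ψ bJ * (aJ ^ e * aJ ^ e) := by
    have := congrArg ψ hab
    rwa [map_mul, map_mul, map_mul, hψa] at this
  have hbae : bJ⁻¹ * aJ ^ e * bJ = aJ ^ e * aJ ^ e := by
    have := hconj 1 e
    rwa [pow_one, pow_one, mul_comm e 2, two_mul, pow_add] at this
  have hcommE : Commute (bJ * (ψ bJ)⁻¹) (aJ ^ e) := by
    show bJ * (ψ bJ)⁻¹ * aJ ^ e = aJ ^ e * (bJ * (ψ bJ)⁻¹)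
    have h1 : (ψ bJ)⁻¹ * aJ ^ e = aJ ^ e * aJ ^ e * (ψ bJ)⁻¹ := by
      rw [eq_mul_inv_iff_mul_eq, mul_assoc, hψab, inv_mul_cancel_left]
    have h2 : bJ * (aJ ^ e * aJ ^ e) = aJ ^ e * bJ := by
      rw [← hbae, mul_assoc, mul_inv_cancel_left]
    rw [mul_assoc, h1, ← mul_assoc, h2, mul_assoc]
  have hcommA : Commute (bJ * (ψ bJ)⁻¹) aJ := by
    have h6 : aJ ^ (6 * e) = aJ ^ (if e = 1 then 6 else 1) := by
      rcases hmk with h | h
      · rw [if_pos h, h, mul_one]
      · rw [if_neg (by omega), pow_eq_pow_mod _ ha17, h]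
    rcases hmk with h | h
    · have := hcommE
      rwa [h, pow_one] at this
    · have := hcommE.pow_right 6
      rw [← pow_mul, mul_comm, h6, if_neg (by omega), pow_one] at this
      exact this
  obtain ⟨i, hi, hib⟩ := exists_pow_of_commute hcommA
  have hψb : ψ bJ = (aJ ^ i)⁻¹ * bJ := by
    rw [← hib]; group
  let g := aJ ^ i * ((bJ ^ m)⁻¹ * g1)
  let χ : MulAut J3P := MulAut.conj (aJ ^ i) * ψ
  have hχ : ∀ x, g * φ x * g⁻¹ = χ x := fun x => by
    show g * φ x * g⁻¹ = aJ ^ i * ((bJ ^ m)⁻¹ * g1 * φ x * ((bJ ^ m)⁻¹ * g1)⁻¹) * (aJ ^ i)⁻¹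
    simp only [g, mul_inv_rev, mul_assoc]
  have hχa : χ aJ = aJ ^ e := by
    show aJ ^ i * ψ aJ * (aJ ^ i)⁻¹ = _
    rw [hψa, ← pow_add, add_comm, pow_add, mul_inv_cancel_right]
  -- `aJ ^ i` is the correction for `bJ` up to a further power
  have hχb' : χ bJ = bJ * (aJ ^ i)⁻¹ := by
    show aJ ^ i * ψ bJ * (aJ ^ i)⁻¹ = _
    rw [hψb, mul_inv_cancel_left]
  obtain ⟨j, hj⟩ : ∃ j : ℕ, j = i := ⟨_, rfl⟩
  let g' := aJ ^ j * g
  let χ' : MulAut J3P := MulAut.conj (aJ ^ j) * χ
  have hχ' : ∀ x, g' * φ x * g'⁻¹ = χ' x := fun x => by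
    show g' * φ x * g'⁻¹ = aJ ^ j * χ x * (aJ ^ j)⁻¹
    rw [← hχ]; simp only [g', mul_inv_rev, mul_assoc]
  have hχa' : χ' aJ = aJ ^ e := by
    show aJ ^ j * χ aJ * (aJ ^ j)⁻¹ = _
    rw [hχa, ← pow_add, add_comm, pow_add, mul_inv_cancel_right]
  have hχb : χ' bJ = bJ := by
    show aJ ^ j * χ bJ * (aJ ^ j)⁻¹ = bJ
    have hjb : aJ ^ j * bJ = bJ * aJ ^ (j * 2) := by
      have := hconj 1 j
      rw [pow_one, pow_one] at this
      rw [← this]; group
    rw [hχb', ← mul_assoc, hjb, mul_assoc bJ, mul_assoc bJ, mul_assoc, ← mul_inv_rev, ← pow_add,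
      mul_inv_eq_one.2 (by rw [pow_eq_pow_mod (j * 2) ha17, pow_eq_pow_mod (j + i) ha17]; congr 1; omega),
      mul_one]
  have hχc : χ' cJ * (bJ * bJ) = bJ * bJ * χ' cJ := by
    have := congrArg χ' hcb
    simp only [map_mul, hχb] at this
    exact this
  obtain ⟨w, hw, hwc⟩ := exists_cand hχc
  have hR := relOK
  simp only [chkRel, Bool.and_eq_true, Bool.or_eq_true, List.all_eq_true] at hR
  obtain ⟨hhold, hcand⟩ := hR
  obtain ⟨h1, h3⟩ := hcand w hw
  have hpres : ∀ r ∈ relC, ∀ A, χ' aJ = pW A → pW (expand6 A bW w r.1) ^ r.2 = 1 := by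
    intro r hr A hA
    have h := wEq_sound (hhold r hr)
    rw [pW_wPow, pW_nil] at h
    have := congrArg χ'.toMonoidHom h
    rwa [map_pow, map_one, pW_expand6 χ'.toMonoidHom (A' := A) (B' := bW) (C' := w) hA hχb hwc] at this
  rcases hmk with he1 | he3
  · have hA : χ' aJ = aJ := by rw [hχa', he1, pow_one]
    have hrest : pW w = cJ ∨ pW w = cJ2 := by
      rcases h1 with h | h | h
      · exact Or.inl (wEq_sound h)
      · exact Or.inr (wEq_sound h)
      · obtain ⟨r, hr, hne⟩ := relFails_spec h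
        exact absurd (hpres r hr aW hA) hne
    refine ⟨g', hrest.imp (fun hc l => ?_) (fun hc l => ?_)⟩
    · rw [hχ']
      fin_cases l
      exacts [hA, hχb, hwc.trans hc]
    · rw [hχ']
      fin_cases l
      · exact hA.trans ((piJ_pW aW).trans hpa).symm
      · exact hχb.trans ((piJ_pW bW).trans hpb).symm
      · exact (hwc.trans hc).trans ((piJ_pW cW).trans hpc).symm
  · exfalso
    obtain ⟨r, hr, hne⟩ := relFails_spec h3
    exact hne (hpres r hr _ (by rw [hχa', he3, pW_wPow]; rfl))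

theorem card_out_J3P : Nat.card (Cfsg.Out J3P) = 2 := by
  refine CfsgLib.SporadicOut.card_out_eq_two ![aJ, bJ, cJ] closure_abc piJ exists_norm fun g => ?_
  by_contra hne
  push_neg at hne
  obtain ⟨ha17, -, hab, -, -, -, hpa, hpb, hpc, hcc⟩ := abcFacts
  have ha := hne 0
  have hb := hne 1
  have hc := hne 2
  simp only [Matrix.cons_val_zero, Matrix.cons_val_one, Matrix.cons_val_two, Matrix.head_cons,
    Matrix.tail_cons] at ha hb hc
  rw [show piJ aJ = aJ from (piJ_pW aW).trans hpa] at ha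
  rw [show piJ bJ = bJ from (piJ_pW bW).trans hpb] at hb
  rw [show piJ cJ = cJ2 from (piJ_pW cW).trans hpc] at hc
  obtain ⟨i, hi, rfl⟩ := exists_pow_of_commute (mul_inv_eq_iff_eq_mul.1 ha)
  have hb' : aJ ^ i * bJ = bJ * aJ ^ i := mul_inv_eq_iff_eq_mul.1 hb
  have h2 : aJ ^ (i * 2) = aJ ^ i := by
    have hconj : bJ⁻¹ * aJ ^ i * bJ = (bJ⁻¹ * aJ * bJ) ^ i := by
      have := conj_pow (a := bJ⁻¹) (b := aJ) (i := i)
      rw [inv_inv] at this
      exact this.symm
    rw [mul_assoc, hb', inv_mul_cancel_left, mul_assoc bJ⁻¹, hab, inv_mul_cancel_left] at hconj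
    rw [hconj, ← pow_two, ← pow_mul, mul_comm]
  rw [pow_inj_mod, orderOf_aJ] at h2
  obtain rfl : i = 0 := by omega
  rw [pow_zero, one_mul, inv_one, mul_one] at hc
  exact hcc hc

/-- Isomorphic groups have outer automorphism groups of the same order. -/
theorem card_out_congr' {G H : Type*} [Group G] [Group H] (e : G ≃* H) :
    Nat.card (Cfsg.Out G) = Nat.card (Cfsg.Out H) := by
  refine Nat.card_congr (QuotientGroup.congr (Cfsg.Inn G) (Cfsg.Inn H) (MulAut.congr e) ?_).toEquiv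
  have key : ∀ g, MulAut.congr e (MulAut.conj g) = MulAut.conj (e g) := fun g => by
    ext x
    simp [MulAut.congr]
  ext φ
  constructor
  · rintro ⟨_, ⟨g, rfl⟩, rfl⟩
    exact ⟨e g, (key g).symm⟩
  · rintro ⟨g, rfl⟩
    exact ⟨_, ⟨e.symm g, rfl⟩, by simpa using key (e.symm g)⟩

theorem card_out_J3 {F : Type*} [Field F] {ω : F} [CharP F 2] (hω : ω ^ 2 + ω + 1 = 0) :
    Nat.card (Cfsg.Out (J3 F ω)) = 2 :=
  (card_out_congr' (equivP hω)).trans card_out_J3P

end CfsgLib.J23
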