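import Cfsg.Agent.JankoTwoThree.J3Action
import Cfsg.Prelude.Def_Spor_J3
import Cfsg.Prelude.Def_Sporadic
import Mathlib.GroupTheory.GroupAction.Primitive
import Mathlib.FieldTheory.Finite.GaloisField

/-!
# `J3P` has order 50232960, a three-point base and no proper normal subgroup
-/

set_option autoImplicit false

namespace CfsgLib.J23

open Cfsg.Spor CfsgLib.J1 CfsgLib.Schur

theorem charP_two_of_card {F : Type*} [Field F] [Fintype F] (hF : Fintype.card F = 4) :
    CharP F 2 := by
  obtain ⟨p, hp⟩ := CharP.exists F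
  haveI := hp
  obtain ⟨n, hpp, hc⟩ := FiniteField.card F p
  rw [hF] at hc
  have h2 : p = 2 :=
    (Nat.prime_dvd_prime_iff_eq hpp Nat.prime_two).1 (hpp.dvd_of_dvd_pow (n := 2) (by
      rw [show (2 : ℕ) ^ 2 = 4 by norm_num, hc]; exact dvd_pow_self p n.pos.ne'))
  exact h2 ▸ hp

/-- A field with four elements. -/
abbrev GF4 : Type := GaloisField 2 2

theorem exists_omega : ∃ w : GF4, w ^ 2 + w + 1 = 0 := by
  classical
  haveI : Fact (Nat.Prime 3) := ⟨by norm_num⟩
  have h4 : Nat.card GF4 = 4 := GaloisField.card 2 2 (by norm_num)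
  have h3 : Nat.card GF4ˣ = 3 := by rw [Nat.card_units, h4]
  obtain ⟨u, hu⟩ := exists_prime_orderOf_dvd_card' (G := GF4ˣ) 3 (by rw [h3])
  refine ⟨u, ?_⟩
  have h : (u : GF4) ^ 3 = 1 := by
    rw [← Units.val_pow_eq_pow_val, ← hu, pow_orderOf_eq_one, Units.val_one]
  have hne : (u : GF4) - 1 ≠ 0 := fun e => by
    rw [sub_eq_zero, Units.val_eq_one] at e
    rw [e, orderOf_one] at hu
    exact absurd hu (by norm_num)
  exact (mul_left_cancel₀ hne (by ring_nf; linear_combination h)).symm.symm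

/-- A root of `x² + x + 1`. -/
noncomputable def w4 : GF4 := exists_omega.choose

theorem w4_spec : w4 ^ 2 + w4 + 1 = 0 := exists_omega.choose_spec

/-- The homomorphism from a model. -/
noncomputable def act4 : threeJ3 GF4 w4 →* Equiv.Perm (Fin 6156) := act w4_spec

theorem card_J3_quot {F : Type*} [Field F] {ω : F} [CharP F 2] (hω : ω ^ 2 + ω + 1 = 0) :
    Nat.card (J3 F ω) = 50232960 := by
  have h := Subgroup.card_eq_card_quotient_mul_card_subgroup (Subgroup.center (threeJ3 F ω))
  rw [card_threeJ3 hω, card_center_threeJ3 hω] at h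
  show Nat.card (threeJ3 F ω ⧸ Subgroup.center (threeJ3 F ω)) = _
  omega

theorem card_J3P : Nat.card J3P = 50232960 := by
  rw [← card_J3_quot w4_spec]; exact (Nat.card_congr (equivP w4_spec).toEquiv).symm

instance : Finite J3P := inferInstance

theorem isPretransitive_J3P : MulAction.IsPretransitive J3P (Fin 6156) := by
  have h : ∀ i, ∃ g : J3P, g • (0 : Fin 6156) = i := fun i =>
    ⟨⟨act4 (tT w4_spec i), (range_act w4_spec) ▸ MonoidHom.mem_range.2 ⟨_, rfl⟩⟩,
      act_tT_zero w4_spec i⟩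
  refine ⟨fun x y => ?_⟩
  obtain ⟨g, rfl⟩ := h x
  obtain ⟨k, rfl⟩ := h y
  exact ⟨k * g⁻¹, by rw [mul_smul, inv_smul_smul]⟩

theorem card_stabilizer_J3P : Nat.card (MulAction.stabilizer J3P (0 : Fin 6156)) = 8160 := by
  haveI := isPretransitive_J3P
  have h := (MulAction.stabilizer J3P (0 : Fin 6156)).index_mul_card
  rw [MulAction.index_stabilizer_of_transitive, Nat.card_fin, card_J3P] at h
  omega

/-- Two elements which agree on the base are equal. -/
theorem eq_of_base {g k : J3P} (h : ∀ p : Fin 6156,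
    (p : ℕ) = 0 ∨ (p : ℕ) = 2945 ∨ (p : ℕ) = 1 → g.1 p = k.1 p) : g = k := by
  have hmem : ((k⁻¹ * g : J3P) : Equiv.Perm (Fin 6156)) ∈ (act4).range := by
    rw [act4, range_act]; exact (k⁻¹ * g).2
  obtain ⟨x, hx⟩ := MonoidHom.mem_range.1 hmem
  obtain ⟨i, hi, hi'⟩ := exists_kG_of_fix w4_spec (g := x) fun p hp => by
    rw [show act w4_spec x = _ from hx, Subgroup.coe_mul, Equiv.Perm.mul_apply, h p hp,
      Subgroup.coe_inv, Equiv.Perm.inv_def, Equiv.symm_apply_apply]
  obtain ⟨c, hc⟩ := kG_scalar w4_spec i hi'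
  have hker : x ∈ (act w4_spec).ker := by
    rw [ker_act_eq_center]
    exact mem_center_of_scalar w4_spec (c := c) (by rw [hi, hc])
  have h1 : (k⁻¹ * g : J3P) = 1 := Subtype.ext (hx.symm.trans (MonoidHom.mem_ker.1 hker))
  exact (inv_mul_eq_one.1 h1).symm

theorem wEq_sound {u v : List ℕ} (h : wEq u v = true) : pW u = pW v := by
  simp only [wEq, tEq, baseImg, Bool.and_eq_true] at h
  refine eq_of_base fun p hp => Fin.ext ?_
  show (Pc.ev pgen u p : ℕ) = (Pc.ev pgen v p : ℕ)
  rw [pev_apply, pev_apply]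
  rcases hp with e | e | e <;> rw [e]
  exacts [Nat.eq_of_beq_eq_true h.1, Nat.eq_of_beq_eq_true h.2.1, Nat.eq_of_beq_eq_true h.2.2]

theorem wEq_complete {u v : List ℕ} (h : pW u = pW v) : wEq u v = true := by
  have e : ∀ p, p < 6156 → appW u p = appW v p := fun p hp => by
    rw [← pev_apply u ⟨p, hp⟩, ← pev_apply v ⟨p, hp⟩,
      show Pc.ev pgen u = Pc.ev pgen v from congrArg Subtype.val h]
  simp only [wEq, tEq, baseImg, e 0 (by norm_num), e 2945 (by norm_num), e 1 (by norm_num),
    Nat.beq_refl, Bool.and_self]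

theorem pW_mem_stabilizer {w : List ℕ} (h : appW w 0 = 0) :
    pW w ∈ MulAction.stabilizer J3P (0 : Fin 6156) :=
  MulAction.mem_stabilizer_iff.2 (Fin.ext ((pev_apply w 0).trans h))

theorem hWord_zero : ∀ a : Fin 2, appW (hWord a) 0 = 0 := fun a =>
  ((wordsFacts w4_spec).2.2.1 a).2.2.1

/-- Every point is zero or joined to a representative by the subgroup. -/
theorem exists_sub {P : Fin 6156 → Prop} (h0 : ∀ i : Fin 6156, P i → ∀ a : Fin 2, ∀ j : Fin 6156,
    pW (hWord a) • j = i → P j) :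
    ∀ i : Fin 6156, (i : ℕ) ≠ 0 → P i → ∃ q ∈ subOrbits, ∃ j : Fin 6156, (j : ℕ) = q.1 ∧ P j := by
  suffices H : ∀ d, ∀ i : Fin 6156, orbTab.get i / 12312 = d → (i : ℕ) ≠ 0 → P i →
      ∃ q ∈ subOrbits, ∃ j : Fin 6156, (j : ℕ) = q.1 ∧ P j from fun i => H _ i rfl
  intro d
  induction d using Nat.strong_induction_on with
  | _ d ih =>
    intro i hd hi hP
    have h := allLt_spec chkOrb_all i i.2
    rw [chkOrb] at h
    have hb : Nat.beq i 0 = false := by
      cases hb : Nat.beq (i : ℕ) 0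
      · rfl
      · exact absurd (Nat.eq_of_beq_eq_true hb) hi
    rw [hb, cond_false] at h
    cases hc : Nat.beq (orbTab.get i) 0
    · simp only [hc, cond_false, Bool.and_eq_true] at h
      obtain ⟨⟨h1, h2⟩, h3⟩ := h
      have hm := Nat.le_of_ble_eq_true h3
      let j : Fin 6156 := ⟨orbTab.get i % 12312 / 2, hm⟩
      let a : Fin 2 := ⟨orbTab.get i % 12312 % 2, Nat.mod_lt _ (by norm_num)⟩
      have hj : pW (hWord a) • j = i := Fin.ext ((pev_apply _ _).trans (Nat.eq_of_beq_eq_true h1))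
      have hPj := h0 i hP a j hj
      have hj0 : (j : ℕ) ≠ 0 := fun e => by
        have hh := (pev_apply (hWord a) j).symm.trans (congrArg Fin.val hj)
        rw [e, hWord_zero a] at hh
        exact hi hh.symm
      exact ih _ (hd ▸ Nat.le_of_ble_eq_true h2) j rfl hj0 hPj
    · simp only [hc, cond_true, List.any_eq_true] at h
      obtain ⟨q, hq, he⟩ := h
      exact ⟨q, hq, i, (Nat.eq_of_beq_eq_true he).symm, hP⟩

theorem normalFacts : (∀ q ∈ subOrbits, q.1 < 6156 ∧ appW q.2.1 0 = q.1 ∧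
      appW (expand q.2.1 q.2.2.1) 0 = app 0 0 ∧ appW (expand q.2.1 q.2.2.2) 0 = app 1 0) ∧
    pW word19 ^ 19 = 1 ∧ pW word19 ≠ 1 ∧
      pW (conjProd (normWord 0)) = pW [0] ∧ pW (conjProd (normWord 1)) = pW [1] := by
  have h := chkNormal_ok
  simp only [chkNormal, Bool.and_eq_true, List.all_eq_true] at h
  obtain ⟨h1, h2, h3, h4, h5⟩ := h
  refine ⟨fun q hq => ?_, ?_, fun e => ?_, wEq_sound h4, wEq_sound h5⟩
  · have := h1 q hq
    simp only [chkSub, Bool.and_eq_true] at this
    exact ⟨Nat.le_of_ble_eq_true this.1.1.1, Nat.eq_of_beq_eq_true this.1.1.2,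
      Nat.eq_of_beq_eq_true this.1.2, Nat.eq_of_beq_eq_true this.2⟩
  · rw [← pW_wPow, ← pW_nil]; exact wEq_sound h2
  · rw [← pW_nil] at e
    rw [wEq_complete e] at h3
    exact absurd h3 (by decide)

open Pointwise in
theorem isPreprimitive_J3P : MulAction.IsPreprimitive J3P (Fin 6156) := by
  haveI := isPretransitive_J3P
  refine MulAction.IsPreprimitive.of_isTrivialBlock_base (0 : Fin 6156) fun {B} h0B hB => ?_
  by_cases hS : B.Subsingleton
  · exact Or.inl hS
  obtain ⟨b, hbB, hb⟩ := (Set.not_subsingleton_iff.1 hS).exists_ne (0 : Fin 6156)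
  refine Or.inr ?_
  have hkeep : ∀ g : J3P, ∀ x ∈ B, g • x ∈ B → g • B = B := fun g x hx hgx => by
    have := hB.smul_eq_smul_of_nonempty (g₁ := g) (g₂ := 1)
      (by rw [one_smul]; exact ⟨g • x, Set.smul_mem_smul_set hx, hgx⟩)
    rwa [one_smul] at this
  have hH : ∀ a : Fin 2, pW (hWord a) • B = B := fun a => hkeep _ 0 h0B (by
    rw [show pW (hWord a) • (0 : Fin 6156) = 0 from pW_mem_stabilizer (hWord_zero a)]; exact h0B)
  obtain ⟨q, hq, j, hj, hjB⟩ := exists_sub (P := fun x => x ∈ B) (fun i hi a j e => by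
    rw [← hH a, ← e, Set.smul_mem_smul_set_iff] at hi; exact hi) b
    (fun e => hb (Fin.ext e)) hbB
  obtain ⟨-, hq0, hq1, hq2⟩ := normalFacts.1 q hq
  have ht : pW q.2.1 • B = B := hkeep _ 0 h0B (by
    rwa [show pW q.2.1 • (0 : Fin 6156) = j from
      Fin.ext ((pev_apply _ _).trans (hq0.trans hj.symm))])
  have hinv : ∀ w, pW w • B = B → pW (wInv w) • B = B := fun w h => by
    rw [pW_wInv, inv_smul_eq_iff, h]
  have hexp : ∀ w, pW (expand q.2.1 w) • B = B := by
    intro w
    induction w with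
    | nil => rw [expand, pW_nil, one_smul]
    | cons a w ih =>
      have key : ∀ u, pW u • B = B → pW (u ++ expand q.2.1 w) • B = B := fun u hu => by
        rw [pW_append, mul_smul, ih, hu]
      match a with
      | 0 => exact key _ (hH 0)
      | 1 => exact key _ (hH 1)
      | 2 => exact key _ (hinv _ (hH 0))
      | 3 => exact key _ (hinv _ (hH 1))
      | 4 => exact key _ ht
      | n + 5 => exact key _ (hinv _ ht)
  have hgen : ∀ a : Fin 2, ∀ w, appW (expand q.2.1 w) 0 = app a 0 → pW [(a : ℕ)] • B = B := by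
    intro a w e
    refine hkeep _ 0 h0B ?_
    have hm : pW (expand q.2.1 w) • (0 : Fin 6156) ∈ B := by
      have h' := Set.smul_mem_smul_set (a := pW (expand q.2.1 w)) h0B
      rwa [hexp] at h'
    convert hm using 1
    refine Fin.ext ((pev_apply _ _).trans ?_)
    rw [appW, frc_eq, appW]
    exact e.symm.trans (pev_apply (expand q.2.1 w) 0).symm
  have hall : ∀ g : J3P, g • B = B := by
    intro g
    have hg : g ∈ Subgroup.closure ({pW [0], pW [1]} : Set J3P) := by
      rw [closure_pW]; exact Subgroup.mem_top g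
    induction hg using Subgroup.closure_induction with
    | mem x hx =>
      rcases hx with rfl | rfl
      exacts [hgen 0 _ hq1, hgen 1 _ hq2]
    | one => exact one_smul _ _
    | mul x y _ _ hx hy => rw [mul_smul, hy, hx]
    | inv x _ hx => rw [inv_smul_eq_iff, hx]
  refine Set.eq_univ_of_forall fun x => ?_
  obtain ⟨g, rfl⟩ := MulAction.exists_smul_eq J3P (0 : Fin 6156) x
  rw [← hall g]
  exact Set.smul_mem_smul_set h0B

theorem pW_word19_mem_imp (N : Subgroup J3P) [N.Normal] (h : pW word19 ∈ N) : N = ⊤ := by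
  have hprod : ∀ l, pW (conjProd l) ∈ N := by
    intro l
    induction l with
    | nil => rw [conjProd, pW_nil]; exact one_mem N
    | cons q l ih =>
      obtain ⟨c, k⟩ := q
      rw [conjProd, pW_append, pW_append, pW_append, pW_wPow, pW_wInv, ← mul_assoc, ← mul_assoc]
      exact mul_mem (Subgroup.Normal.conj_mem inferInstance _ (pow_mem h k) _) ih
  rw [eq_top_iff, ← closure_pW, Subgroup.closure_le]
  rintro _ (rfl | rfl)
  · exact normalFacts.2.2.2.1 ▸ hprod _
  · exact normalFacts.2.2.2.2 ▸ hprod _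

theorem isSimpleGroup_J3P : IsSimpleGroup J3P := by
  haveI := isPreprimitive_J3P
  haveI : Nontrivial J3P := ⟨⟨pW word19, 1, normalFacts.2.2.1⟩⟩
  refine ⟨fun N hN => ?_⟩
  by_cases hfix : MulAction.fixedPoints N (Fin 6156) = Set.univ
  · left
    refine (Subgroup.eq_bot_iff_forall _).2 fun g hg => Subtype.ext (Equiv.ext fun i => ?_)
    have hi : i ∈ MulAction.fixedPoints N (Fin 6156) := hfix ▸ Set.mem_univ i
    exact MulAction.mem_fixedPoints.1 hi ⟨g, hg⟩
  · right
    haveI : MulAction.IsPretransitive N (Fin 6156) :=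
      MulAction.IsQuasiPreprimitive.isPretransitive_of_normal hfix
    have hd : 6156 ∣ Nat.card N := by
      have h := MulAction.index_stabilizer_of_transitive N (0 : Fin 6156)
      rw [Nat.card_fin] at h
      have h' := (MulAction.stabilizer N (0 : Fin 6156)).index_dvd_card
      rwa [h] at h'
    obtain ⟨m, hm⟩ := hd
    have hidx : m * N.index = 8160 := by
      have h := N.card_mul_index
      rw [hm, card_J3P, mul_assoc] at h
      omega
    apply pW_word19_mem_imp
    rw [← QuotientGroup.eq_one_iff, ← orderOf_eq_one_iff]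
    have h19 : orderOf (pW word19 : J3P ⧸ N) ∣ 19 := by
      refine orderOf_dvd_of_pow_eq_one ?_
      rw [← QuotientGroup.mk_pow, normalFacts.2.1, QuotientGroup.mk_one]
    have hi : orderOf (pW word19 : J3P ⧸ N) ∣ 8160 :=
      (orderOf_dvd_natCard _).trans (N.index_eq_card ▸ ⟨m, by rw [mul_comm]; exact hidx.symm⟩)
    exact Nat.eq_one_of_dvd_coprimes (by norm_num) h19 hi

theorem isJ3_J3P : Cfsg.IsJ3 J3P := ⟨isSimpleGroup_J3P, card_J3P⟩

theorem isSimpleGroup_J3 {F : Type*} [Field F] {ω : F} [CharP F 2] (hω : ω ^ 2 + ω + 1 = 0) :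
    IsSimpleGroup (J3 F ω) :=
  haveI := isSimpleGroup_J3P
  MulEquiv.isSimpleGroup (equivP hω)

end CfsgLib.J23
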