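import Cfsg.Agent.JankoTwoThree.J3Check
import Cfsg.Agent.JankoTwoThree.J3PermData

/-!
# Words in two generators of `J₃`, as permutations of 6156 points and as packed matrices

The letters 0, 1 are the generators and 2, 3 their inverses; words act from the right end.
-/

set_option autoImplicit false

namespace CfsgLib.J23

open CfsgLib.J1

/-- The packed images under a letter. -/
def permTab : ℕ → ℕ
  | 0 => perm0Tab
  | 1 => perm1Tab
  | 2 => perm2Tab
  | _ => perm3Tab

/-- The image of a point under a letter. -/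
def app (a i : ℕ) : ℕ := (permTab a >>> (13 * i)) &&& 8191

/-- The letters 0 and 1 act as on the cosets. -/
def chkApp (i : ℕ) : Bool :=
  Nat.beq (e0Tab.get (2 * i) / 24480) (app 0 i) && Nat.beq (e0Tab.get (2 * i + 1) / 24480) (app 1 i)

/-- Evaluate to a numeral before passing on. -/
def frc {α : Type} : ℕ → (ℕ → α) → α
  | 0, f => f 0
  | n + 1, f => f (n + 1)

theorem frc_eq {α : Type} (n : ℕ) (f : ℕ → α) : frc n f = f n := by cases n <;> rfl

/-- Evaluate both planes before passing on. -/
def frcM {α : Type} (P : M9) (f : M9 → α) : α :=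
  match P with
  | ⟨a, b⟩ => frc a fun x => frc b fun y => f ⟨x, y⟩

theorem frcM_eq {α : Type} (P : M9) (f : M9 → α) : frcM P f = f P := by
  cases P; simp [frcM, frc_eq]

/-- The image of a point under a word. -/
def appW : List ℕ → ℕ → ℕ
  | [], i => i
  | a :: w, i => frc (appW w i) fun j => app a j

/-- The inverse letter. -/
def invL : ℕ → ℕ
  | 0 => 2
  | 1 => 3
  | 2 => 0
  | _ => 1

/-- The inverse word. -/
def wInv (w : List ℕ) : List ℕ := (w.map invL).reverse

/-- A power of a word. -/
def wPow (w : List ℕ) : ℕ → List ℕ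
  | 0 => []
  | k + 1 => w ++ wPow w k

/-- The commutator word. -/
def wComm (u v : List ℕ) : List ℕ := wInv u ++ wInv v ++ u ++ v

/-- The matrix of a letter. -/
def letM : ℕ → M9
  | 0 => s0Tab.get 0
  | 1 => s0Tab.get 1
  | 2 => mul (genInvTab.get 30) (genInvTab.get 21)
  | _ => genInvTab.get 37

/-- The matrix of a word. -/
def wordM : List ℕ → M9
  | [] => mOne
  | a :: w => frcM (wordM w) fun Q => mul (letM a) Q

/-- The base: only the scalars fix these three points. -/
def baseImg (w : List ℕ) : ℕ × ℕ × ℕ := (appW w 0, appW w 2945, appW w 1)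

/-- Equality on the base. -/
def tEq (s t : ℕ × ℕ × ℕ) : Bool := Nat.beq s.1 t.1 && (Nat.beq s.2.1 t.2.1 && Nat.beq s.2.2 t.2.2)

/-- Two words give one element of `J₃`. -/
def wEq (u v : List ℕ) : Bool := tEq (baseImg u) (baseImg v)

/-- The inverse table inverts the generators. -/
def chkInv (i : ℕ) : Bool :=
  Nat.blt (app 2 i) 6156 && (Nat.blt (app 3 i) 6156 && (Nat.beq (app 2 (app 0 i)) i &&
    (Nat.beq (app 0 (app 2 i)) i && (Nat.beq (app 3 (app 1 i)) i && Nat.beq (app 1 (app 3 i)) i))))

/-- One step in the forest of suborbits. -/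
def chkOrb (i : ℕ) : Bool :=
  bif Nat.beq i 0 then true
  else bif Nat.beq (orbTab.get i) 0 then subOrbits.any fun q => Nat.beq q.1 i
  else
    let c := orbTab.get i % 12312
    Nat.beq (appW (hWord (c % 2)) (c / 2)) i && Nat.blt (orbTab.get (c / 2) / 12312) (orbTab.get i / 12312) &&
      Nat.blt (c / 2) 6156

/-- A word in the two generators of the subgroup and one more letter pair, on the point `0`. -/
def expand (t : List ℕ) : List ℕ → List ℕ
  | [] => []
  | a :: w =>
    (match a with
      | 0 => hWord 0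
      | 1 => hWord 1
      | 2 => wInv (hWord 0)
      | 3 => wInv (hWord 1)
      | 4 => t
      | _ => wInv t) ++ expand t w

/-- The data of one suborbit. -/
def chkSub (q : ℕ × List ℕ × List ℕ × List ℕ) : Bool :=
  Nat.blt q.1 6156 && Nat.beq (appW q.2.1 0) q.1 &&
    Nat.beq (appW (expand q.2.1 q.2.2.1) 0) (app 0 0) && Nat.beq (appW (expand q.2.1 q.2.2.2) 0) (app 1 0)

/-- A point moved by the subgroup. -/
def chkMove (i : ℕ) : Bool :=
  Nat.beq i 0 || !(Nat.beq (appW (hWord 0) i) i && Nat.beq (appW (hWord 1) i) i)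

/-- The image of the second base point under the inner transversal. -/
def chkImgU (i : ℕ) : Bool :=
  Nat.beq (findU.search (imgUTab.get i)) i &&
    bif Nat.beq i 0 then Nat.beq (imgUTab.get i) 2945
    else Nat.beq (appW (hWord (par1Tab.get i % 2)) (imgUTab.get (par1Tab.get i / 2))) (imgUTab.get i)

/-- The base image under the bottom group. -/
def chkImgK (i : ℕ) : Bool :=
  (bif Nat.beq i 0 then tEq (imgKTab.get i) (0, 2945, 1)
    else
      let w := kWord (par2Tab.get i % 2)
      let t := imgKTab.get (par2Tab.get i / 2)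
      tEq (appW w t.1, appW w t.2.1, appW w t.2.2) (imgKTab.get i)) &&
    (!tEq (imgKTab.get i) (0, 2945, 1) || (Nat.beq i 0 || (Nat.beq i 26 || Nat.beq i 179)))

/-- A product of conjugates. -/
def conjProd : List (List ℕ × ℕ) → List ℕ
  | [] => []
  | (c, k) :: l => c ++ (wPow word19 k ++ (wInv c ++ conjProd l))

/-- A product of commutators. -/
def commProd : List (List ℕ × List ℕ) → List ℕ
  | [] => []
  | (u, v) :: l => wComm u v ++ commProd l

/-- The small facts on words. -/
def chkWords : Bool :=
  eqb (mul (letM 0) (letM 2)) mOne && (eqb (mul (letM 1) (letM 3)) mOne &&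
    (eqb (wordM (hWord 0)) (s1Tab.get 0) && (eqb (wordM (hWord 1)) (s1Tab.get 1) &&
      (eqb (wordM (kWord 0)) (s2Tab.get 0) && (eqb (wordM (kWord 1)) (s2Tab.get 1) &&
        (Nat.beq (appW (hWord 0) 0) 0 && (Nat.beq (appW (hWord 1) 0) 0 &&
          (Nat.beq (appW (kWord 0) 2945) 2945 && (Nat.beq (appW (kWord 1) 2945) 2945 &&
            (eqb (wordM (commProd scalWord)) ⟨0, mOne.a⟩ && (eqb (kTab.get 26) ⟨0, mOne.a⟩ &&
              eqb (kTab.get 179) ⟨mOne.a, mOne.a⟩)))))))))))

/-- The certificate for simplicity. -/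
def chkNormal : Bool :=
  subOrbits.all chkSub && (wEq (wPow word19 19) [] && (!wEq word19 [] &&
    (wEq (conjProd (normWord 0)) [0] && wEq (conjProd (normWord 1)) [1])))

end CfsgLib.J23
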