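import Cfsg.Agent.JankoTwoThree.J3InvCheck

/-!
Kernel verification of the certificate for involutions.
-/

set_option autoImplicit false

namespace CfsgLib.J23

theorem qListed : chkListed qGenW qEltW qPar qEdge = true := by decide +kernel

theorem aListed : chkListed aGenW aEltW aPar aEdge = true := by decide +kernel

theorem pListed : chkListed pGenW pEltW pPar pEdge = true := by decide +kernel

theorem clsOK : chkCls = true := by decide +kernel

theorem fixOK : chkFix = true := by decide +kernel

theorem pConjOK : chkPConj = true := by decide +kernel

theorem structOK : chkStruct = true := by decide +kernel

theorem extraOK : chkExtra = true := by decide +kernel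

theorem rankOK : chkRank = true := by decide +kernel

theorem altOK : chkAlt = true := by decide +kernel

end CfsgLib.J23
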