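import Cfsg.Agent.JankoTwoThree.J3Simple
import Cfsg.Agent.JankoTwoThree.J3InvVerify
import Cfsg.Agent.Solvable.Frattini
import Cfsg.Prelude.Def_Transfer
import Mathlib.GroupTheory.Complement
import Mathlib.GroupTheory.Sylow
import Mathlib.GroupTheory.SpecificGroups.Alternating

/-!
# Involutions of `J₃` and their centralisers

One class; the centraliser is an extraspecial group of order 32 extended by `A₅`.
-/

set_option autoImplicit false

namespace CfsgLib.J23

open Cfsg.Spor CfsgLib.J1 CfsgLib.Schur Equiv.Perm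
open scoped commutatorElement

theorem tEq_iff {s t : ℕ × ℕ × ℕ} : tEq s t = true ↔ s = t := by
  obtain ⟨a, b, c⟩ := s
  obtain ⟨x, y, z⟩ := t
  simp only [tEq, Bool.and_eq_true, Prod.mk.injEq]
  refine ⟨fun h => ⟨Nat.eq_of_beq_eq_true h.1, Nat.eq_of_beq_eq_true h.2.1,
    Nat.eq_of_beq_eq_true h.2.2⟩, ?_⟩
  rintro ⟨rfl, rfl, rfl⟩
  exact ⟨Nat.beq_refl _, Nat.beq_refl _, Nat.beq_refl _⟩

theorem wEq_iff {u v : List ℕ} : wEq u v = true ↔ pW u = pW v := ⟨wEq_sound, wEq_complete⟩

theorem baseImg_eq_iff {u v : List ℕ} : baseImg u = baseImg v ↔ pW u = pW v :=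
  tEq_iff.symm.trans wEq_iff

theorem memT_iff {w : List ℕ} {L : List (List ℕ)} :
    memT (baseImg w) (L.map baseImg) = true ↔ ∃ v ∈ L, pW w = pW v := by
  simp only [memT, List.any_eq_true, List.mem_map, tEq_iff]
  constructor
  · rintro ⟨t, ⟨v, hv, rfl⟩, h⟩; exact ⟨v, hv, baseImg_eq_iff.1 h⟩
  · rintro ⟨v, hv, h⟩; exact ⟨_, ⟨v, hv, rfl⟩, baseImg_eq_iff.2 h⟩

theorem getD_mem {α : Type} (l : List α) (i : ℕ) (d : α) (h : i < l.length) : l.getD i d ∈ l := by
  rw [List.getD_eq_getElem _ _ h]; exact List.getElem_mem h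

theorem nodupT_spec : ∀ (L : List (List ℕ)), nodupT (L.map baseImg) = true →
    ∀ i j, i < L.length → j < L.length → pW (L.getD i []) = pW (L.getD j []) → i = j
  | [], _, i, _, hi, _, _ => absurd hi (Nat.not_lt_zero i)
  | t :: L, h, i, j, hi, hj, e => by
    simp only [List.map_cons, nodupT, Bool.and_eq_true, Bool.not_eq_true'] at h
    have hne : ∀ k, k < L.length → pW t ≠ pW (L.getD k []) := fun k hk he => by
      rw [memT_iff.2 ⟨_, getD_mem L k [] hk, he⟩] at h
      exact absurd h.1 (by simp)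
    rcases i with _ | i <;> rcases j with _ | j
    · rfl
    · exact absurd e (hne j (by simpa using hj))
    · exact absurd e.symm (hne i (by simpa using hi))
    · exact congrArg _ (nodupT_spec L h.2 i j (by simpa using hi) (by simpa using hj) e)

/-- The subgroup generated by words. -/
noncomputable def wordGroup (gens : List (List ℕ)) : Subgroup J3P :=
  Subgroup.closure (Set.range fun a : Fin gens.length => pW (gens.getD a []))

theorem pW_mem_wordGroup {gens : List (List ℕ)} {g : List ℕ} (h : g ∈ gens) :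
    pW g ∈ wordGroup gens := by
  obtain ⟨i, hi, rfl⟩ := List.getElem_of_mem h
  exact Subgroup.subset_closure ⟨⟨i, hi⟩, congrArg pW (List.getD_eq_getElem gens [] hi)⟩

theorem listed_spec {gens els : List (List ℕ)} {par : List (ℕ × ℕ)} {edge : List ℕ}
    (h : chkListed gens els par edge = true) :
    (∀ g, g ∈ wordGroup gens ↔ ∃ w ∈ els, g = pW w) ∧ Nat.card (wordGroup gens) = els.length := by
  simp only [chkListed, Bool.and_eq_true, Bool.or_eq_true] at h
  obtain ⟨⟨⟨hlen, h0⟩, hall⟩, hnd⟩ := h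
  have hall' := allLt_spec hall
  have hlen' : 0 < els.length := Nat.le_of_ble_eq_true hlen
  let t : Fin els.length → J3P := fun i => pW (els.getD i [])
  have ht : ∀ i, i < els.length → pW (els.getD i []) ∈ wordGroup gens := by
    intro i
    induction i using Nat.strong_induction_on with
    | _ i ih =>
      intro hi
      have := hall' i hi
      simp only [Bool.and_eq_true, Bool.or_eq_true] at this
      rcases this.1 with hz | ⟨ha, hp, he⟩
      · rw [Nat.eq_of_beq_eq_true hz, wEq_sound h0]; exact one_mem _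
      · have hp' : (par.getD i (0, 0)).2 < i := Nat.le_of_ble_eq_true hp
        rw [← wEq_sound he, pW_append]
        exact mul_mem (pW_mem_wordGroup (getD_mem _ _ _ (Nat.le_of_ble_eq_true ha)))
          (ih _ hp' (by omega))
  have hl := level_spec (fun a : Fin gens.length => pW (gens.getD a [])) t (⊥ : Subgroup J3P) id
    bot_le (fun i => ht i i.2) ⟨⟨0, hlen'⟩, wEq_sound h0⟩
    (fun a i => by
      have := hall' i i.2
      simp only [Bool.and_eq_true] at this
      have he := allLt_spec this.2 a a.2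
      simp only [Bool.and_eq_true] at he
      refine ⟨⟨_, Nat.le_of_ble_eq_true he.1⟩, 1, one_mem _, ?_⟩
      rw [mul_one, ← pW_append]
      exact wEq_sound he.2)
    (fun g k hk => by rw [Subgroup.mem_bot.1 hk, mul_one])
    (fun i j e => Fin.ext (nodupT_spec els hnd i j i.2 j.2 e))
  refine ⟨fun g => ⟨fun hg => ?_, ?_⟩, hl.2.trans (by simp)⟩
  · obtain ⟨i, k, hk, rfl⟩ := hl.1 g hg
    exact ⟨_, getD_mem els i [] i.2, by rw [Subgroup.mem_bot.1 hk, mul_one]⟩
  · rintro ⟨w, hw, rfl⟩
    obtain ⟨i, hi, rfl⟩ := List.getElem_of_mem hw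
    rw [← List.getD_eq_getElem _ [] hi]
    exact ht i hi

theorem pW_wConj (c w : List ℕ) : pW (wConj c w) = pW c * pW w * (pW c)⁻¹ := by
  rw [wConj, pW_append, pW_append, pW_wInv, mul_assoc]

/-- The chosen involution. -/
noncomputable def tJ : J3P := pW invWord

theorem commute_of_wCommute {u v : List ℕ} (h : wCommute u v = true) :
    pW u * pW v = pW v * pW u := by
  rw [← pW_append, ← pW_append]; exact wEq_sound h

theorem structFacts : (∀ g ∈ qGenW ++ aGenW, pW g ∈ Subgroup.centralizer {tJ}) ∧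
    (∀ g ∈ aGenW, ∀ q ∈ qGenW, pW g * pW q * (pW g)⁻¹ ∈ wordGroup qGenW) ∧
    (∀ w ∈ aEltW, pW w ∈ wordGroup qGenW → pW w = 1) ∧ tJ ∈ wordGroup qGenW := by
  have h := structOK
  simp only [chkStruct, Bool.and_eq_true, List.all_eq_true, Bool.or_eq_true,
    Bool.not_eq_true'] at h
  obtain ⟨⟨⟨⟨h1, h2⟩, h3⟩, h4⟩, h5⟩ := h
  obtain ⟨hQ, -⟩ := listed_spec qListed
  refine ⟨fun g hg => Subgroup.mem_centralizer_singleton_iff.2 (commute_of_wCommute (h1 g hg)),
    fun g hg q hq => ?_, fun w hw hwQ => ?_, (hQ _).2 ⟨_, getD_mem _ _ _ ?_, (wEq_sound h5).symm⟩⟩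
  · rw [← pW_wConj, hQ]; exact memT_iff.1 (h2 g hg q hq)
  · rcases h3 w hw with h | h
    · exact wEq_sound h
    · rw [memT_iff.2 ((hQ _).1 hwQ)] at h
      exact absurd h (by simp)
  · have : qEltW.length = 32 := by decide +kernel
    rw [this]; exact Nat.le_of_ble_eq_true h4

theorem tJ_zero : tJ • (0 : Fin 6156) = 0 :=
  Fin.ext ((pev_apply invWord 0).trans (by decide +kernel))

theorem orderOf_tJ : orderOf tJ = 2 := by
  haveI : Fact (Nat.Prime 2) := ⟨Nat.prime_two⟩
  refine orderOf_eq_prime ?_ fun e => ?_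
  · rw [pow_two, tJ, ← pW_append, ← pW_nil]; exact wEq_sound (by decide +kernel)
  · rw [tJ, ← pW_nil] at e
    exact absurd (wEq_complete e) (by decide +kernel)

theorem pW_self_of_one (a : Fin 2) (h : hGen w4_spec a ∈ j3H w4_spec) :
    act4 (inT w4_spec _ h) = (pW (hWord a)).1 := act_hGen w4_spec a h

/-- The stabiliser of `0` is generated by the two words. -/
theorem stabilizer_eq_closure : MulAction.stabilizer J3P (0 : Fin 6156) =
    Subgroup.closure (Set.range fun a : Fin 2 => pW (hWord a)) := by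
  refine le_antisymm (fun g hg => ?_) ((Subgroup.closure_le _).2 ?_)
  · have hg' : (g : Equiv.Perm (Fin 6156)) ∈ act4.range := by
      rw [act4, range_act]; exact g.2
    obtain ⟨x, hx⟩ := MonoidHom.mem_range.1 hg'
    have hx0 : act w4_spec x 0 = 0 := by
      rw [show act w4_spec x = (g : Equiv.Perm (Fin 6156)) from hx]
      exact MulAction.mem_stabilizer_iff.1 hg
    have hxH := (act_zero_iff w4_spec).1 hx0
    suffices H : ∀ y (hy : y ∈ j3H w4_spec), ∃ k ∈ Subgroup.closure
        (Set.range fun a : Fin 2 => pW (hWord a)), act4 (inT w4_spec y hy) = (k : J3P).1 by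
      obtain ⟨k, hk, e⟩ := H _ hxH
      have : g = k := Subtype.ext (hx.symm.trans e)
      exact this ▸ hk
    intro y hy
    induction hy using Subgroup.closure_induction with
    | mem y hy =>
      obtain ⟨a, rfl⟩ := hy
      exact ⟨_, Subgroup.subset_closure ⟨a, rfl⟩, pW_self_of_one a _⟩
    | one => exact ⟨1, one_mem _, map_one _⟩
    | mul y z hy hz ihy ihz =>
      obtain ⟨k, hk, e⟩ := ihy
      obtain ⟨l, hl, e'⟩ := ihz
      refine ⟨k * l, mul_mem hk hl, ?_⟩
      exact (map_mul act4 (inT w4_spec y hy) (inT w4_spec z hz)).trans (by rw [e, e']; rfl)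
    | inv y hy ih =>
      obtain ⟨k, hk, e⟩ := ih
      refine ⟨k⁻¹, inv_mem hk, ?_⟩
      exact (map_inv act4 (inT w4_spec y hy)).trans (by rw [e]; rfl)
  · rintro _ ⟨a, rfl⟩
    exact pW_mem_stabilizer (hWord_zero a)

theorem clsFacts : (∀ g ∈ MulAction.stabilizer J3P (0 : Fin 6156), ∃ v ∈ clsW,
      g * tJ * g⁻¹ = pW v) ∧
    255 * Nat.card (MulAction.stabilizer J3P (0 : Fin 6156) ⊓ Subgroup.centralizer {tJ} :
      Subgroup J3P) ≤ 8160 := by
  have h := clsOK
  simp only [chkCls, Bool.and_eq_true] at h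
  obtain ⟨⟨⟨h0, hlen⟩, hall⟩, hnd⟩ := h
  have hl : clsW.length = 255 := by decide +kernel
  have hall' := allLt_spec hall
  set H := MulAction.stabilizer J3P (0 : Fin 6156) with hH
  have hgen : ∀ a : Fin 2, pW (hWord a) ∈ H := fun a => pW_mem_stabilizer (hWord_zero a)
  -- every listed element is a conjugate
  have hconj : ∀ i, i < 255 → ∃ g ∈ H, g * tJ * g⁻¹ = pW (clsW.getD i []) := by
    intro i
    induction i using Nat.strong_induction_on with
    | _ i ih =>
      intro hi
      have := hall' i hi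
      simp only [Bool.and_eq_true, Bool.or_eq_true] at this
      rcases this.1 with hz | ⟨⟨hp, ha⟩, he⟩
      · refine ⟨1, one_mem _, ?_⟩
        rw [Nat.eq_of_beq_eq_true hz, one_mul, inv_one, mul_one]
        exact (wEq_sound h0).symm
      · have hp' : (clsPar.getD i (0, 0)).2 < i := Nat.le_of_ble_eq_true hp
        obtain ⟨g, hg, e⟩ := ih _ hp' (by omega)
        refine ⟨pW (hWord (clsPar.getD i (0, 0)).1) * g,
          mul_mem (hgen ⟨_, Nat.le_of_ble_eq_true ha⟩) hg, ?_⟩
        rw [← wEq_sound he, pW_wConj, ← e]; group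
  -- closed under the generators
  have hclosed : ∀ g ∈ H, ∀ i, i < 255 → ∃ j, j < 255 ∧
      g * pW (clsW.getD i []) * g⁻¹ = pW (clsW.getD j []) := by
    intro g hg
    rw [hH, stabilizer_eq_closure] at hg
    induction hg using Subgroup.closure_induction with
    | mem x hx =>
      obtain ⟨a, rfl⟩ := hx
      intro i hi
      have := hall' i hi
      simp only [Bool.and_eq_true] at this
      have he := allLt_spec this.2 a a.2
      simp only [Bool.and_eq_true] at he
      exact ⟨_, Nat.le_of_ble_eq_true he.1, by rw [← pW_wConj]; exact wEq_sound he.2⟩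
    | one => exact fun i hi => ⟨i, hi, by group⟩
    | mul x y _ _ hx hy =>
      intro i hi
      obtain ⟨j, hj, e⟩ := hy i hi
      obtain ⟨k, hk, e'⟩ := hx j hj
      exact ⟨k, hk, by rw [← e', ← e]; group⟩
    | inv x _ ih =>
      choose f hf e using ih
      let F : Fin 255 → Fin 255 := fun i => ⟨f i i.2, hf i i.2⟩
      have hF : Function.Injective F := fun i j hij => Fin.ext (nodupT_spec clsW hnd i j
        (hl.symm ▸ i.2) (hl.symm ▸ j.2) (by
          have h1 := e i i.2
          have h2 := e j j.2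
          rw [show f i i.2 = f j j.2 from congrArg Fin.val hij, ← h2] at h1
          exact mul_left_cancel (mul_right_cancel h1)))
      intro i hi
      obtain ⟨k, hk⟩ := (Finite.injective_iff_surjective.1 hF) ⟨i, hi⟩
      refine ⟨k, k.2, ?_⟩
      rw [show i = f k k.2 from (congrArg Fin.val hk).symm, ← e k k.2]
      group
  have hmem : ∀ g ∈ H, ∃ v ∈ clsW, g * tJ * g⁻¹ = pW v := fun g hg => by
    obtain ⟨j, hj, e⟩ := hclosed g hg 0 (by norm_num)
    refine ⟨_, getD_mem clsW j [] (hl.symm ▸ hj), ?_⟩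
    rw [← e, show tJ = pW (clsW.getD 0 []) from (wEq_sound h0).symm]
  refine ⟨hmem, ?_⟩
  choose g hg he using fun i : Fin 255 => hconj i i.2
  let Φ : Fin 255 × (H ⊓ Subgroup.centralizer {tJ} : Subgroup J3P) → H := fun q =>
    ⟨g q.1 * q.2, mul_mem (hg _) q.2.2.1⟩
  have hΦ : Function.Injective Φ := by
    rintro ⟨i, c⟩ ⟨j, d⟩ e
    have e' : g i * (c : J3P) = g j * d := congrArg Subtype.val e
    have key : ∀ (i : Fin 255) (c : (H ⊓ Subgroup.centralizer {tJ} : Subgroup J3P)),
        pW (clsW.getD i []) = (g i * (c : J3P)) * tJ * (g i * (c : J3P))⁻¹ := fun i c => by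
      have hc := Subgroup.mem_centralizer_singleton_iff.1 c.2.2
      rw [← he i, mul_inv_rev,
        show g i * (c : J3P) * tJ * ((c : J3P)⁻¹ * (g i)⁻¹) =
          g i * ((c : J3P) * tJ * (c : J3P)⁻¹) * (g i)⁻¹ by group, hc, mul_inv_cancel_right]
    have hij : i = j := Fin.ext (nodupT_spec clsW hnd i j (hl.symm ▸ i.2) (hl.symm ▸ j.2)
      (by rw [key i c, key j d, e']))
    subst hij
    simpa using e'
  have := Nat.card_le_card_of_injective Φ hΦ
  rwa [Nat.card_prod, Nat.card_fin, hH, card_stabilizer_J3P] at this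

theorem fixFacts : ∀ i : Fin 6156, tJ • i = i → ∃ q ∈ fixW, q.1 = (i : ℕ) := by
  have h := fixOK
  simp only [chkFix, Bool.and_eq_true] at h
  intro i hi
  have h1 := allLt_spec h.1.1 i i.2
  simp only [Bool.or_eq_true, Bool.not_eq_true', List.any_eq_true] at h1
  rcases h1 with h1 | ⟨q, hq, e⟩
  · have hh : appW invWord i = i := (pev_apply _ _).symm.trans (congrArg Fin.val hi)
    rw [hh, Nat.beq_refl] at h1
    exact absurd h1 (by simp)
  · exact ⟨q, hq, Nat.eq_of_beq_eq_true e⟩

theorem card_centralizer_le : Nat.card (Subgroup.centralizer {tJ}) ≤ 1920 := by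
  set C := Subgroup.centralizer ({tJ} : Set J3P)
  have h := fixOK
  simp only [chkFix, Bool.and_eq_true, List.all_eq_true, Bool.or_eq_true, Bool.not_eq_true'] at h
  obtain ⟨⟨-, hq⟩, hcount⟩ := h
  have hcount' : (fixW.filter fun q => q.2.2).length = 60 := Nat.eq_of_beq_eq_true hcount
  have horb : ∀ g ∈ C, ∃ q ∈ fixW.filter (fun q => q.2.2), q.1 = ((g • (0 : Fin 6156) : Fin 6156) : ℕ) := by
    intro g hg
    have hc := Subgroup.mem_centralizer_singleton_iff.1 hg
    obtain ⟨q, hqm, he⟩ := fixFacts (g • 0) (by rw [← mul_smul, ← hc, mul_smul, tJ_zero])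
    refine ⟨q, List.mem_filter.2 ⟨hqm, ?_⟩, he⟩
    obtain ⟨hq1, hq2⟩ := hq q hqm
    rcases hq2 with hb | hb
    · exact hb
    · exfalso
      set k := (pW q.2.1)⁻¹ * g with hk
      have hk0 : k ∈ MulAction.stabilizer J3P (0 : Fin 6156) := by
        rw [MulAction.mem_stabilizer_iff, hk, mul_smul, inv_smul_eq_iff]
        refine Fin.ext ?_
        rw [← he, ← Nat.eq_of_beq_eq_true hq1]
        exact (pev_apply q.2.1 0).symm
      obtain ⟨v, hv, e⟩ := clsFacts.1 k hk0
      rw [memT_iff.2 ⟨v, hv, ?_⟩] at hb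
      · exact absurd hb (by simp)
      · rw [← e, hk, pW_append, pW_append, pW_wInv, mul_inv_rev, inv_inv,
          show (pW q.2.1)⁻¹ * g * tJ * (g⁻¹ * pW q.2.1) =
            (pW q.2.1)⁻¹ * (g * tJ * g⁻¹) * pW q.2.1 by group, hc, mul_inv_cancel_right, tJ,
          mul_assoc]
  have hcard : Nat.card (MulAction.orbit C (0 : Fin 6156)) ≤ 60 := by
    have : ∀ x : MulAction.orbit C (0 : Fin 6156), ∃ k : Fin 60,
        ((fixW.filter fun q => q.2.2).getD k (0, [], false)).1 = ((x : Fin 6156) : ℕ) := by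
      rintro ⟨x, g, rfl⟩
      obtain ⟨q, hqm, e⟩ := horb g g.2
      obtain ⟨k, hk, rfl⟩ := List.getElem_of_mem hqm
      refine ⟨⟨k, hcount' ▸ hk⟩, ?_⟩
      rw [List.getD_eq_getElem _ _ hk]
      exact e
    choose f hf using this
    have := Nat.card_le_card_of_injective f fun x y e => Subtype.ext (Fin.ext (by
      rw [← hf x, ← hf y, e]))
    rwa [Nat.card_fin] at this
  have hstab : 255 * Nat.card (MulAction.stabilizer C (0 : Fin 6156)) ≤ 8160 := by
    refine le_trans (Nat.mul_le_mul_left _ ?_) clsFacts.2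
    let f : MulAction.stabilizer C (0 : Fin 6156) →
        (MulAction.stabilizer J3P (0 : Fin 6156) ⊓ C : Subgroup J3P) :=
      fun g => ⟨g.1.1, g.2, g.1.2⟩
    exact Nat.card_le_card_of_injective f fun a b e => Subtype.ext (Subtype.ext (congrArg Subtype.val e :))
  have hmul := (MulAction.stabilizer C (0 : Fin 6156)).index_mul_card
  rw [MulAction.index_stabilizer, ← Nat.card_coe_set_eq] at hmul
  rw [← hmul]
  calc _ ≤ 60 * 32 := Nat.mul_le_mul hcard (by omega)
    _ = 1920 := by norm_num

/-- The normal subgroup of order 32 of the centraliser. -/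
noncomputable def qC : Subgroup (Subgroup.centralizer ({tJ} : Set J3P)) :=
  (wordGroup qGenW).subgroupOf _

/-- The complement in the centraliser. -/
noncomputable def aC : Subgroup (Subgroup.centralizer ({tJ} : Set J3P)) :=
  (wordGroup aGenW).subgroupOf _

theorem q_le_centralizer : wordGroup qGenW ≤ Subgroup.centralizer ({tJ} : Set J3P) :=
  (Subgroup.closure_le _).2 (by
    rintro _ ⟨a, rfl⟩
    exact structFacts.1 _ (List.mem_append_left _ (getD_mem _ _ _ a.2)))

theorem a_le_centralizer : wordGroup aGenW ≤ Subgroup.centralizer ({tJ} : Set J3P) :=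
  (Subgroup.closure_le _).2 (by
    rintro _ ⟨a, rfl⟩
    exact structFacts.1 _ (List.mem_append_right _ (getD_mem _ _ _ a.2)))

theorem card_qC : Nat.card qC = 32 := by
  rw [qC, Nat.card_congr (Subgroup.subgroupOfEquivOfLe q_le_centralizer).toEquiv,
    (listed_spec qListed).2]
  decide +kernel

theorem card_aC : Nat.card aC = 60 := by
  rw [aC, Nat.card_congr (Subgroup.subgroupOfEquivOfLe a_le_centralizer).toEquiv,
    (listed_spec aListed).2]
  decide +kernel

theorem disjoint_qC_aC : Disjoint qC aC := by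
  rw [Subgroup.disjoint_def]
  intro x hx hx'
  obtain ⟨w, hw, e⟩ := ((listed_spec aListed).1 _).1 hx'
  refine Subtype.ext (e.trans (structFacts.2.2.1 w hw ?_))
  rw [← show (x : J3P) = pW w from e]
  exact hx

theorem card_centralizer : Nat.card (Subgroup.centralizer ({tJ} : Set J3P)) = 1920 := by
  refine le_antisymm card_centralizer_le ?_
  let f : qC × aC → Subgroup.centralizer ({tJ} : Set J3P) := fun q => q.1.1 * q.2.1
  have hf : Function.Injective f := Subgroup.mul_injective_of_disjoint disjoint_qC_aC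
  have := Nat.card_le_card_of_injective f hf
  rw [Nat.card_prod, card_qC, card_aC] at this
  omega

theorem isComplement_qC : qC.IsComplement' aC :=
  Subgroup.isComplement'_of_card_mul_and_disjoint (by rw [card_qC, card_aC, card_centralizer])
    disjoint_qC_aC

theorem normal_qC : qC.Normal := by
  have htop : qC ⊔ aC = ⊤ := isComplement_qC.sup_eq_top
  rw [← Subgroup.normalizer_eq_top_iff, eq_top_iff, ← htop]
  refine sup_le Subgroup.le_normalizer ?_
  intro x hx
  have hsame : ∀ k ∈ wordGroup aGenW, ∀ q ∈ wordGroup qGenW, k * q * k⁻¹ ∈ wordGroup qGenW := by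
    intro k hk
    induction hk using Subgroup.closure_induction with
    | mem k hk =>
      obtain ⟨a, rfl⟩ := hk
      intro q hq
      induction hq using Subgroup.closure_induction with
      | mem q hq =>
        obtain ⟨b, rfl⟩ := hq
        exact structFacts.2.1 _ (getD_mem _ _ _ a.2) _ (getD_mem _ _ _ b.2)
      | one => rw [mul_one, mul_inv_cancel]; exact one_mem _
      | mul u v _ _ hu hv => rw [← conj_mul]; exact mul_mem hu hv
      | inv u _ hu => rw [← conj_inv]; exact inv_mem hu
    | one => intro q hq; simpa using hq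
    | mul u v _ _ hu hv =>
      intro q hq
      rw [show u * v * q * (u * v)⁻¹ = u * (v * q * v⁻¹) * u⁻¹ by group]
      exact hu _ (hv q hq)
    | inv u _ hu =>
      intro q hq
      let φ : wordGroup qGenW → wordGroup qGenW := fun r => ⟨u * r * u⁻¹, hu r r.2⟩
      have hφ : Function.Injective φ := fun r s e => Subtype.ext
        (mul_left_cancel (mul_right_cancel (congrArg Subtype.val e :)))
      obtain ⟨r, hr⟩ := Finite.injective_iff_surjective.1 hφ ⟨q, hq⟩
      rw [inv_inv, show q = u * r * u⁻¹ from (congrArg Subtype.val hr).symm,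
        show u⁻¹ * (u * r * u⁻¹) * u = r by group]
      exact r.2
  rw [Subgroup.mem_normalizer_iff]
  intro q
  refine ⟨fun hq => hsame _ hx _ hq, fun hq => ?_⟩
  have := hsame _ ((wordGroup aGenW).inv_mem hx) _ hq
  rw [inv_inv] at this
  show (q : J3P) ∈ wordGroup qGenW
  convert this using 1
  show (q : J3P) = (x : J3P)⁻¹ * ((x : J3P) * q * (x : J3P)⁻¹) * x
  group

theorem isExtraspecial_qC : Cfsg.IsExtraspecial 2 qC := by
  haveI : Fact (Nat.Prime 2) := ⟨Nat.prime_two⟩
  have h := extraOK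
  simp only [chkExtra, Bool.and_eq_true, List.all_eq_true, List.any_eq_true, Bool.or_eq_true,
    Bool.not_eq_true', List.all_eq_false] at h
  obtain ⟨⟨⟨⟨h1, h2⟩, ⟨u0, hu0, hsq⟩⟩, h3⟩, ⟨u1, hu1, v1, hv1, hcomm⟩⟩ := h
  have hlist := (listed_spec qListed).1
  let t0 : qC := ⟨⟨tJ, q_le_centralizer structFacts.2.2.2⟩, structFacts.2.2.2⟩
  let mkq : ∀ w ∈ qEltW, qC := fun w hw =>
    ⟨⟨pW w, q_le_centralizer ((hlist _).2 ⟨w, hw, rfl⟩)⟩, (hlist _).2 ⟨w, hw, rfl⟩⟩
  have hcent : ∀ x : qC, x ∈ Subgroup.center qC ↔ x = 1 ∨ x = t0 := by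
    intro x
    obtain ⟨u, hu, e⟩ := (hlist _).1 x.2
    replace e : ((x : Subgroup.centralizer ({tJ} : Set J3P)) : J3P) = pW u := e
    constructor
    · intro hx
      rcases h1 u hu with he | he | ⟨g, hg, he⟩
      · left; exact Subtype.ext (Subtype.ext (e.trans (wEq_sound he)))
      · right; exact Subtype.ext (Subtype.ext (e.trans (wEq_sound he)))
      · exfalso
        have hgQ : pW g ∈ wordGroup qGenW := pW_mem_wordGroup hg
        have hc := congrArg (fun y : qC => ((y : Subgroup.centralizer ({tJ} : Set J3P)) : J3P))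
          (Subgroup.mem_center_iff.1 hx ⟨⟨pW g, q_le_centralizer hgQ⟩, hgQ⟩)
        simp only [Subgroup.coe_mul] at hc
        rw [e, ← pW_append, ← pW_append] at hc
        have hc' : wCommute g u = true := wEq_complete hc
        rw [hc'] at he
        exact he rfl
    · rintro (rfl | rfl)
      · exact one_mem _
      · refine Subgroup.mem_center_iff.2 fun y => Subtype.ext (Subtype.ext ?_)
        exact Subgroup.mem_centralizer_singleton_iff.1 y.1.2
  have hcard : Nat.card (Subgroup.center qC) = 2 := by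
    have hne : t0 ≠ 1 := fun e => by
      have : tJ = 1 := congrArg (fun y : qC => ((y : Subgroup.centralizer ({tJ} : Set J3P)) : J3P)) e
      rw [← orderOf_eq_one_iff, orderOf_tJ] at this
      exact absurd this (by norm_num)
    rw [Nat.card_eq_two_iff]
    refine ⟨1, ⟨t0, (hcent _).2 (Or.inr rfl)⟩, fun e => hne (congrArg Subtype.val e).symm,
      Set.eq_univ_iff_forall.2 fun ⟨y, hy⟩ => ?_⟩
    rcases (hcent y).1 hy with rfl | rfl
    · exact Or.inl rfl
    · exact Or.inr rfl
  have hp : IsPGroup 2 qC := IsPGroup.of_card (n := 5) (by rw [card_qC]; norm_num)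
  have hpow : ∀ x : qC, x ^ 2 ∈ Subgroup.center qC := fun x => by
    obtain ⟨u, hu, e⟩ := (hlist _).1 x.2
    replace e : ((x : Subgroup.centralizer ({tJ} : Set J3P)) : J3P) = pW u := e
    refine (hcent _).2 ((h2 u hu).imp (fun he => ?_) (fun he => ?_)) <;>
    · refine Subtype.ext (Subtype.ext ?_)
      rw [pow_two, Subgroup.coe_mul, Subgroup.coe_mul, e, ← pW_append]
      exact wEq_sound he
  have hcomm' : commutator qC = Subgroup.center qC := by
    refine le_antisymm ?_ fun x hx => ?_
    · rw [commutator_def, Subgroup.commutator_le]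
      intro x _ y _
      obtain ⟨u, hu, e⟩ := (hlist _).1 (x⁻¹).2
      obtain ⟨v, hv, e'⟩ := (hlist _).1 (y⁻¹).2
      refine (hcent _).2 ((h3 u hu v hv).imp (fun he => ?_) (fun he => ?_)) <;>
      · refine Subtype.ext (Subtype.ext ?_)
        rw [show ⁅x, y⁆ = (x⁻¹)⁻¹ * (y⁻¹)⁻¹ * x⁻¹ * y⁻¹ by rw [commutatorElement_def]; group]
        simp only [Subgroup.coe_mul, Subgroup.coe_inv, Subgroup.coe_subtype] at e e' ⊢
        rw [e, e', ← pW_wInv, ← pW_wInv, ← pW_append, ← pW_append, ← pW_append]
        exact wEq_sound he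
    · rcases (hcent x).1 hx with rfl | rfl
      · exact one_mem _
      · have hmem := Subgroup.commutator_mem_commutator (H₁ := (⊤ : Subgroup qC)) (H₂ := ⊤)
          (Subgroup.mem_top (mkq u1 hu1)⁻¹) (Subgroup.mem_top (mkq v1 hv1)⁻¹)
        rw [← commutator_def] at hmem
        convert hmem using 1
        refine Subtype.ext (Subtype.ext ?_)
        simp only [commutatorElement_def, inv_inv, Subgroup.coe_mul, Subgroup.coe_inv]
        show pW invWord = (pW u1)⁻¹ * (pW v1)⁻¹ * pW u1 * pW v1
        rw [← pW_wInv, ← pW_wInv, ← pW_append, ← pW_append, ← pW_append]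
        exact (wEq_sound hcomm).symm
  refine ⟨⟨hp, le_antisymm (CfsgLib.Solvable.frattini_le_of_elementary (p := 2) hcomm'.le hpow) ?_,
    hcomm'⟩, hcard⟩
  intro x hx
  rcases (hcent x).1 hx with rfl | rfl
  · exact one_mem _
  · have hmem := CfsgLib.Solvable.pow_mem_frattini hp (mkq u0 hu0)
    convert hmem using 1
    refine Subtype.ext (Subtype.ext ?_)
    rw [pow_two, Subgroup.coe_mul, Subgroup.coe_mul]
    show pW invWord = pW u0 * pW u0
    rw [← pW_append]
    exact (wEq_sound hsq).symm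

theorem rank_qC (E : Subgroup qC) (hE : Cfsg.IsElementaryAbelian 2 E) : Nat.card E ≤ 2 ^ 2 := by
  by_contra hlt
  push_neg at hlt
  classical
  haveI : Fintype E := Fintype.ofFinite E
  rw [Nat.card_eq_fintype_card] at hlt
  have pick : ∀ S : Finset E, S.card ≤ 4 → ∃ x : E, x ∉ S := fun S hS => by
    by_contra hne
    push_neg at hne
    have := Finset.card_le_card (fun x (_ : x ∈ Finset.univ) => hne x)
    rw [Finset.card_univ] at this
    omega
  obtain ⟨a, ha⟩ := pick {1} (by simp)
  obtain ⟨b, hb⟩ := pick {1, a} (Finset.card_le_two.trans (by norm_num))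
  obtain ⟨c, hc⟩ := pick {1, a, b, a * b} (Finset.card_le_four)
  simp only [Finset.mem_insert, Finset.mem_singleton, not_or] at ha hb hc
  have h := rankOK
  simp only [chkRank, List.all_eq_true, Bool.or_eq_true, Bool.not_eq_true'] at h
  let ι : E →* J3P := ((Subgroup.centralizer ({tJ} : Set J3P)).subtype.comp qC.subtype).comp E.subtype
  have hι : Function.Injective ι := fun x y e => Subtype.ext (Subtype.ext (Subtype.ext e))
  have hw : ∀ x : E, ∃ u ∈ qEltW, ι x = pW u := fun x => ((listed_spec qListed).1 _).1 x.1.2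
  obtain ⟨u, hu, eu⟩ := hw a
  obtain ⟨v, hv, ev'⟩ := hw b
  obtain ⟨w, hw', ew⟩ := hw c
  have hsq : ∀ x : E, x * x = 1 := fun x => Subtype.ext (by
    rw [Subgroup.coe_mul, ← pow_two]; exact hE.2 x x.2)
  have hcm : ∀ x y : E, x * y = y * x := fun x y => by
    haveI := hE.1; exact mul_comm' x y
  have no : ∀ {x : E} {p q : List ℕ}, ι x = pW p → ∀ {y : E}, ι y = pW q → x ≠ y → wEq p q ≠ true :=
    by intro x p q hp y hq hxy e; exact hxy (hι (hp.trans ((wEq_sound e).trans hq.symm)))
  have e1 : ι 1 = pW [] := (map_one ι).trans pW_nil.symm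
  have sq : ∀ {x : E} {p : List ℕ}, ι x = pW p → wEq (p ++ p) [] = true := fun {x} {p} hp =>
    wEq_complete (by rw [pW_append, ← hp, ← map_mul, hsq, map_one, pW_nil])
  have cm : ∀ {x y : E} {p q : List ℕ}, ι x = pW p → ι y = pW q → wCommute p q = true :=
    fun {x} {y} {p} {q} hp hq => wEq_complete (by
      rw [pW_append, pW_append, ← hp, ← hq, ← map_mul, ← map_mul, hcm])
  have huv : ι (a * b) = pW (u ++ v) := by rw [map_mul, eu, ev', pW_append]
  have hau := (h u hu).resolve_left (no eu e1 ha)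
  rw [sq eu] at hau
  have hbv := ((((hau.resolve_left (by simp)) v hv).resolve_left (no ev' e1 hb.1)).resolve_left
    (no ev' eu hb.2))
  rw [sq ev', cm eu ev'] at hbv
  have hcw := (((((hbv.resolve_left (by simp)).resolve_left (by simp)) w hw').resolve_left
    (no ew e1 hc.1)).resolve_left (no ew eu hc.2.1)).resolve_left (no ew ev' hc.2.2.1)
    |>.resolve_left (no ew huv hc.2.2.2)
  rw [sq ew, cm eu ew, cm ev' ew] at hcw
  simp at hcw

theorem isConj_tJ_of_orderOf {x : J3P} (hx : orderOf x = 2) : IsConj tJ x := by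
  haveI : Fact (Nat.Prime 2) := ⟨Nat.prime_two⟩
  obtain ⟨hP, hcard⟩ := listed_spec pListed
  have h128 : Nat.card (wordGroup pGenW) = 128 := by rw [hcard]; decide +kernel
  have hPp : IsPGroup 2 (wordGroup pGenW) := IsPGroup.of_card (n := 7) (by rw [h128]; norm_num)
  have hPs : ¬ 2 ∣ (wordGroup pGenW).index := by
    have := (wordGroup pGenW).card_mul_index
    rw [h128, card_J3P] at this
    omega
  let S : Sylow 2 J3P := hPp.toSylow hPs
  have hz : IsPGroup 2 (Subgroup.zpowers x) :=
    IsPGroup.of_card (n := 1) (by rw [Nat.card_zpowers, hx]; norm_num)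
  obtain ⟨Q, hQ⟩ := hz.exists_le_sylow
  obtain ⟨g, hg⟩ := MulAction.exists_smul_eq J3P Q S
  have hmem : g * x * g⁻¹ ∈ wordGroup pGenW := by
    have h1 : x ∈ (Q : Subgroup J3P) := hQ (Subgroup.mem_zpowers x)
    have h2 : (S : Subgroup J3P) = wordGroup pGenW := rfl
    rw [← h2, ← hg, Sylow.coe_subgroup_smul]
    exact Subgroup.smul_mem_pointwise_smul x (MulAut.conj g) _ h1
  obtain ⟨w, hw, e⟩ := (hP _).1 hmem
  obtain ⟨i, hi, rfl⟩ := List.getElem_of_mem hw
  have h := allLt_spec pConjOK i (by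
    have hl : pEltW.length = 128 := by decide +kernel
    omega)
  simp only [Bool.or_eq_true, Bool.not_eq_true', List.getD_eq_getElem _ [] hi] at h
  rcases h with h | h | h
  · exfalso
    have hi0 : i = 0 := Nat.eq_of_beq_eq_true h
    subst hi0
    have h0 : pW pEltW[0] = 1 := by
      rw [← List.getD_eq_getElem pEltW [] hi, ← pW_nil]; exact wEq_sound (by decide +kernel)
    rw [h0, conj_eq_one_iff] at e
    rw [e, orderOf_one] at hx
    exact absurd hx (by norm_num)
  · exfalso
    have : wEq (pEltW[i] ++ pEltW[i]) [] = true := wEq_complete (by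
      have hxx : x * x = 1 := by rw [← pow_two, ← hx]; exact pow_orderOf_eq_one x
      rw [pW_append, ← e, pW_nil, conj_mul, hxx, mul_one, mul_inv_cancel])
    rw [this] at h
    exact Bool.noConfusion h
  · have h' := wEq_sound h
    rw [pW_wConj, ← e] at h'
    refine isConj_iff.2 ⟨g⁻¹ * pW (pConjW.getD i []), ?_⟩
    rw [mul_inv_rev, inv_inv, show g⁻¹ * pW (pConjW.getD i []) * tJ *
      ((pW (pConjW.getD i []))⁻¹ * g) = g⁻¹ * (pW (pConjW.getD i []) * tJ *
      (pW (pConjW.getD i []))⁻¹) * g by group, show tJ = pW invWord from rfl, h']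
    group

/-- A permutation of five letters from its list of images. -/
noncomputable def permFive (l : List ℕ) : Equiv.Perm (Fin 5) :=
  if h : Function.Bijective (fun x : Fin 5 => (Fin.ofNat 5 (l.getD x 0))) then Equiv.ofBijective _ h
  else 1

theorem altFacts : aPerm.length = 60 ∧ aPerm.getD 0 [] = [0, 1, 2, 3, 4] ∧
    (∀ i, i < 60 → ∀ a, a < 2 → aPerm.getD (aEdge.getD (2 * i + a) 0) [] =
      (aPerm.getD i []).map fun x => (aPerm.getD (aEdge.getD a 0) []).getD x 0) ∧
    (∀ p ∈ aPerm, p.length = 5 ∧ ∀ x ∈ p, x < 5) ∧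
    (∀ i j, i < 60 → j < 60 → aPerm.getD i [] = aPerm.getD j [] → i = j) := by
  have h := altOK
  simp only [chkAlt, Bool.and_eq_true, List.all_eq_true, beq_iff_eq] at h
  obtain ⟨⟨⟨⟨h1, h2⟩, h3⟩, h4⟩, h5⟩ := h
  refine ⟨Nat.eq_of_beq_eq_true h1, h3, fun i hi a ha => ?_, fun p hp =>
    ⟨Nat.eq_of_beq_eq_true (h2 p hp).1, fun x hx => Nat.le_of_ble_eq_true ((h2 p hp).2 x hx)⟩,
    fun i j hi hj e => ?_⟩
  · simpa using allLt_spec (allLt_spec h4 i hi) a ha
  · rcases Nat.lt_trichotomy i j with h | h | h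
    · have := allLt_spec (allLt_spec h5 j hj) i h
      simp only [e, beq_self_eq_true, Bool.not_true] at this
      exact absurd this Bool.false_ne_true
    · exact h
    · have := allLt_spec (allLt_spec h5 i hi) j h
      simp only [e, beq_self_eq_true, Bool.not_true] at this
      exact absurd this Bool.false_ne_true

end CfsgLib.J23
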