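import Mathlib

/-!
# One level of a coset certificate

If `s a * t i ∈ t j H` for every generator `s a` and representative `t i`, and a function constant
on left cosets of `H` separates the representatives, then the representatives form a transversal of
`H` in the generated group.
-/

set_option autoImplicit false

namespace CfsgLib.J23

variable {G : Type*} [Group G] {n m : ℕ} {β : Type*}

theorem level_spec (s : Fin m → G) (t : Fin n → G) (H : Subgroup G) (key : G → β)
    (hH : H ≤ Subgroup.closure (Set.range s)) (ht : ∀ i, t i ∈ Subgroup.closure (Set.range s))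
    (h1 : ∃ i, t i = 1) (step : ∀ a i, ∃ j, ∃ h ∈ H, s a * t i = t j * h)
    (hinv : ∀ g, ∀ h ∈ H, key (g * h) = key g) (hinj : Function.Injective (key ∘ t)) :
    (∀ g ∈ Subgroup.closure (Set.range s), ∃ i, ∃ h ∈ H, g = t i * h) ∧
      Nat.card (Subgroup.closure (Set.range s)) = n * Nat.card H := by
  have huniq : ∀ i j, ∀ h ∈ H, t i = t j * h → i = j := fun i j h hh e =>
    hinj (show key (t i) = key (t j) by rw [e, hinv _ h hh])
  choose f h hh hf using step
  have hfinj : ∀ a, Function.Injective (f a) := by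
    intro a i i' e
    refine huniq i i' ((h a i')⁻¹ * h a i) (H.mul_mem (H.inv_mem (hh a i')) (hh a i)) ?_
    have h1 := hf a i
    rw [e] at h1
    have h2 := hf a i'
    calc t i = (s a)⁻¹ * (s a * t i) := by group
      _ = (s a)⁻¹ * (t (f a i') * h a i) := by rw [h1]
      _ = (s a)⁻¹ * ((s a * t i') * ((h a i')⁻¹ * h a i)) := by rw [h2]; group
      _ = t i' * ((h a i')⁻¹ * h a i) := by group
  have hcover : ∀ g ∈ Subgroup.closure (Set.range s), ∃ i, ∃ h ∈ H, g = t i * h := by
    intro g hg
    induction hg using Subgroup.closure_induction_left with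
    | one =>
      obtain ⟨i, hi⟩ := h1
      exact ⟨i, 1, H.one_mem, by rw [hi, one_mul]⟩
    | mul_left x hx y _ ih =>
      obtain ⟨a, rfl⟩ := hx
      obtain ⟨i, k, hk, rfl⟩ := ih
      exact ⟨f a i, h a i * k, H.mul_mem (hh a i) hk, by rw [← mul_assoc, hf a i, mul_assoc]⟩
    | inv_mul_cancel x hx y _ ih =>
      obtain ⟨a, rfl⟩ := hx
      obtain ⟨j, k, hk, rfl⟩ := ih
      obtain ⟨i, rfl⟩ := Finite.injective_iff_surjective.1 (hfinj a) j
      refine ⟨i, (h a i)⁻¹ * k, H.mul_mem (H.inv_mem (hh a i)) hk, ?_⟩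
      rw [← mul_assoc, ← mul_assoc]
      congr 1
      rw [eq_mul_inv_iff_mul_eq, mul_assoc, inv_mul_eq_iff_eq_mul, hf a i]
  refine ⟨hcover, ?_⟩
  have hb : Function.Bijective (fun x : Fin n × H =>
      (⟨t x.1 * x.2, mul_mem (ht x.1) (hH x.2.2)⟩ : Subgroup.closure (Set.range s))) := by
    refine ⟨?_, fun g => ?_⟩
    · rintro ⟨i, h⟩ ⟨j, k⟩ e
      have e' : t i * (h : G) = t j * k := congrArg Subtype.val e
      have : i = j := huniq i j ((k : G) * (h : G)⁻¹) (H.mul_mem k.2 (H.inv_mem h.2))
        (by rw [← mul_assoc, ← e', mul_inv_cancel_right])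
      subst this
      simpa using e'
    · obtain ⟨i, h, hh, e⟩ := hcover g g.2
      exact ⟨(i, ⟨h, hh⟩), Subtype.ext e.symm⟩
  rw [← Nat.card_eq_of_bijective _ hb, Nat.card_prod, Nat.card_eq_fintype_card, Fintype.card_fin]

end CfsgLib.J23
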