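import Mathlib

/-!
# Packed 9 × 9 matrices over the field with four elements

A matrix is two 81-bit numbers: bit `9i + j` of the first (second) is the coefficient of `1`
(of `ω`) in the entry `(i, j)`. A product is nine outer products per bit plane, each a single
multiplication.
-/

set_option autoImplicit false

namespace CfsgLib.J23

/-- Bits `0, 9, …, 72`. -/
def colMask : ℕ := 4731607904558235517441

/-- The binary matrix product of two planes. -/
def bm (a c : ℕ) : ℕ :=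
  ((a &&& colMask) * (c &&& 511)) ^^^ (((a >>> 1) &&& colMask) * ((c >>> 9) &&& 511))
  ^^^ (((a >>> 2) &&& colMask) * ((c >>> 18) &&& 511))
  ^^^ (((a >>> 3) &&& colMask) * ((c >>> 27) &&& 511))
  ^^^ (((a >>> 4) &&& colMask) * ((c >>> 36) &&& 511))
  ^^^ (((a >>> 5) &&& colMask) * ((c >>> 45) &&& 511))
  ^^^ (((a >>> 6) &&& colMask) * ((c >>> 54) &&& 511))
  ^^^ (((a >>> 7) &&& colMask) * ((c >>> 63) &&& 511))
  ^^^ (((a >>> 8) &&& colMask) * ((c >>> 72) &&& 511))

/-- Two bit planes. -/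
structure M9 where
  a : ℕ
  b : ℕ

/-- The product (three plane products). -/
def mul (P Q : M9) : M9 :=
  let x := bm P.a Q.a
  let y := bm P.b Q.b
  let z := bm (P.a ^^^ P.b) (Q.a ^^^ Q.b)
  ⟨x ^^^ y, z ^^^ x⟩

/-- Boolean equality. -/
def eqb (P Q : M9) : Bool := Nat.beq P.a Q.a && Nat.beq P.b Q.b

/-- Sum. -/
def addV (P Q : M9) : M9 := ⟨P.a ^^^ Q.a, P.b ^^^ Q.b⟩

/-- The zero matrix. -/
def mZero : M9 := ⟨0, 0⟩

/-- The identity matrix. -/
def mOne : M9 := ⟨2 ^ 0 + 2 ^ 10 + 2 ^ 20 + 2 ^ 30 + 2 ^ 40 + 2 ^ 50 +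
  2 ^ 60 + 2 ^ 70 + 2 ^ 80, 0⟩

/-- The scalar `x₀ + x₁ ω` times a matrix. -/
def smulV (x₀ x₁ : Bool) (P : M9) : M9 :=
  match x₀, x₁ with
  | false, false => mZero
  | true, false => P
  | false, true => ⟨P.b, P.a ^^^ P.b⟩
  | true, true => ⟨P.a ^^^ P.b, P.a⟩

/-- Column `r` moved to column `0`. -/
def colV (P : M9) (r : ℕ) : M9 := ⟨(P.a >>> r) &&& colMask, (P.b >>> r) &&& colMask⟩

/-- Bits `0, 9, …, 9(n-1)`. -/
def cols : ℕ → ℕ
  | 0 => 0
  | n + 1 => 1 + 2 ^ 9 * cols n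

theorem colMask_eq : colMask = cols 9 := by decide +kernel

theorem mOne_a : mOne.a = 2 ^ 0 + 2 ^ 10 + 2 ^ 20 + 2 ^ 30 + 2 ^ 40 + 2 ^ 50 +
    2 ^ 60 + 2 ^ 70 + 2 ^ 80 := by decide +kernel

theorem eq_of_eqb {P Q : M9} (h : eqb P Q = true) : P = Q := by
  cases P; cases Q
  simp only [eqb, Bool.and_eq_true] at h
  rw [Nat.eq_of_beq_eq_true h.1, Nat.eq_of_beq_eq_true h.2]

theorem land_cols_succ (x n : ℕ) :
    x &&& cols (n + 1) = (x.testBit 0).toNat + 2 ^ 9 * ((x >>> 9) &&& cols n) := by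
  refine Nat.eq_of_testBit_eq fun k => ?_
  rw [Nat.testBit_land, cols, add_comm 1, add_comm (x.testBit 0).toNat,
    Nat.testBit_two_pow_mul_add _ (by norm_num : (1 : ℕ) < 2 ^ 9),
    Nat.testBit_two_pow_mul_add _ (lt_of_le_of_lt (Bool.toNat_le _) (by norm_num : (1 : ℕ) < 2 ^ 9))]
  by_cases hk : k < 9
  · rw [if_pos hk, if_pos hk]
    cases k with
    | zero => cases x.testBit 0 <;> rfl
    | succ k => cases x.testBit 0 <;> simp [Nat.testBit_succ]
  · rw [if_neg hk, if_neg hk, Nat.testBit_land, Nat.testBit_shiftRight,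
      Nat.add_sub_cancel' (by omega)]

/-- The bits of an outer product. -/
theorem testBit_land_cols_mul (n : ℕ) : ∀ (x r : ℕ), r < 2 ^ 9 → ∀ i j, j < 9 →
    ((x &&& cols n) * r).testBit (9 * i + j) =
      (decide (i < n) && x.testBit (9 * i) && r.testBit j) := by
  induction n with
  | zero => simp [cols]
  | succ n ih =>
    intro x r hr i j hj
    rw [land_cols_succ, add_mul, mul_assoc, add_comm]
    rw [Nat.testBit_two_pow_mul_add _ (show (x.testBit 0).toNat * r < 2 ^ 9 from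
      lt_of_le_of_lt (Nat.le_trans (Nat.mul_le_mul_right r (Bool.toNat_le _)) (le_of_eq (one_mul r))) hr)]
    cases i with
    | zero =>
      rw [if_pos (by omega), Nat.mul_zero, Nat.zero_add]
      cases x.testBit 0 <;> simp
    | succ i =>
      rw [if_neg (by omega), show 9 * (i + 1) + j - 9 = 9 * i + j by omega, ih _ _ hr i j hj,
        Nat.testBit_shiftRight, show 9 + 9 * i = 9 * (i + 1) by omega]
      simp

theorem cols_mul_lt (n : ℕ) : cols n * (2 ^ 9 - 1) < 2 ^ (9 * n) := by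
  induction n with
  | zero => simp [cols]
  | succ n ih =>
    simp only [cols]
    generalize cols n = c at ih ⊢
    rw [Nat.mul_succ, pow_add]
    norm_num at ih ⊢
    nlinarith

theorem land_cols_mul_lt (n x r : ℕ) (hr : r < 2 ^ 9) : (x &&& cols n) * r < 2 ^ (9 * n) :=
  lt_of_le_of_lt (Nat.mul_le_mul Nat.and_le_right (Nat.le_sub_one_of_lt hr)) (cols_mul_lt n)

/-- One outer product of the plane product. -/
def outer (a c k : ℕ) : ℕ := ((a >>> k) &&& colMask) * ((c >>> (9 * k)) &&& 511)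

theorem land_511_lt (x : ℕ) : x &&& 511 < 2 ^ 9 :=
  lt_of_le_of_lt Nat.and_le_right (by norm_num)

theorem outer_lt (a c k : ℕ) : outer a c k < 2 ^ 81 := by
  rw [outer, colMask_eq]
  exact land_cols_mul_lt 9 _ _ (land_511_lt _)

theorem testBit_outer (a c : ℕ) {k i j : ℕ} (hi : i < 9) (hj : j < 9) :
    (outer a c k).testBit (9 * i + j) = (a.testBit (9 * i + k) && c.testBit (9 * k + j)) := by
  rw [outer, colMask_eq, testBit_land_cols_mul _ _ _ (land_511_lt _) i j hj,
    Nat.testBit_shiftRight, Nat.testBit_land, Nat.testBit_shiftRight,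
    show (511 : ℕ) = 2 ^ 9 - 1 by norm_num, Nat.testBit_two_pow_sub_one]
  simp [hi, hj, add_comm k]

theorem bm_eq (a c : ℕ) : bm a c = outer a c 0 ^^^ outer a c 1 ^^^ outer a c 2 ^^^ outer a c 3 ^^^
    outer a c 4 ^^^ outer a c 5 ^^^ outer a c 6 ^^^ outer a c 7 ^^^ outer a c 8 := by
  simp [bm, outer]

theorem bm_lt (a c : ℕ) : bm a c < 2 ^ 81 := by
  rw [bm_eq]
  repeat' apply Nat.xor_lt_two_pow
  all_goals exact outer_lt _ _ _

/-- The bits of the plane product. -/
theorem testBit_bm (a c : ℕ) {i j : ℕ} (hi : i < 9) (hj : j < 9) :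
    (bm a c).testBit (9 * i + j) =
      ((a.testBit (9 * i + 0) && c.testBit (9 * 0 + j)) ^^
      (a.testBit (9 * i + 1) && c.testBit (9 * 1 + j)) ^^
      (a.testBit (9 * i + 2) && c.testBit (9 * 2 + j)) ^^
      (a.testBit (9 * i + 3) && c.testBit (9 * 3 + j)) ^^
      (a.testBit (9 * i + 4) && c.testBit (9 * 4 + j)) ^^
      (a.testBit (9 * i + 5) && c.testBit (9 * 5 + j)) ^^
      (a.testBit (9 * i + 6) && c.testBit (9 * 6 + j)) ^^
      (a.testBit (9 * i + 7) && c.testBit (9 * 7 + j)) ^^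
      (a.testBit (9 * i + 8) && c.testBit (9 * 8 + j))) := by
  simp only [bm_eq, Nat.testBit_xor, testBit_outer _ _ hi hj]

end CfsgLib.J23
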