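import Cfsg.Agent.JankoTwoThree.Bits
import Cfsg.Prelude.Def_Spor_J3

/-!
# Decoding packed matrices over a field with a primitive cube root of unity in characteristic 2
-/

set_option autoImplicit false

namespace CfsgLib.J23

open Cfsg.Spor

/-- The bound on the planes. -/
def WF (P : M9) : Prop := P.a < 2 ^ 81 ∧ P.b < 2 ^ 81

theorem wf_mul (P Q : M9) : WF (mul P Q) :=
  ⟨Nat.xor_lt_two_pow (bm_lt _ _) (bm_lt _ _), Nat.xor_lt_two_pow (bm_lt _ _) (bm_lt _ _)⟩

/-- Boolean test for `WF`. -/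
def wfB (P : M9) : Bool :=
  Nat.blt P.a 2417851639229258349412352 && Nat.blt P.b 2417851639229258349412352

theorem wf_of_wfB {P : M9} (h : wfB P = true) : WF P := by
  simp only [wfB, Bool.and_eq_true] at h
  exact ⟨lt_of_lt_of_eq (Nat.le_of_ble_eq_true h.1) (by norm_num),
    lt_of_lt_of_eq (Nat.le_of_ble_eq_true h.2) (by norm_num)⟩

theorem wf_mOne : WF mOne := wf_of_wfB (by decide +kernel)

/-- The index of a point of the 9-element set. -/
def idx (z : F9) : ℕ := 3 * z.1.val + z.2.val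

theorem idx_lt (z : F9) : idx z < 9 := by
  have h1 := z.1.val_lt; have h2 := z.2.val_lt
  unfold idx; omega

/-- The point with index `r`. -/
def pt (r : ℕ) : F9 := ((r / 3 : ℕ), (r % 3 : ℕ))

theorem idx_pt : ∀ r < 9, idx (pt r) = r := by decide +kernel

theorem pt_idx : ∀ z : F9, pt (idx z) = z := by decide +kernel

theorem idx_inj {z z' : F9} (h : idx z = idx z') : z = z' := by
  rw [← pt_idx z, h, pt_idx]

theorem idx_zero : idx (0 : F9) = 0 := by decide +kernel

theorem sum_F9 {A : Type*} [AddCommMonoid A] (f : F9 → A) :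
    ∑ z, f z = f (pt 0) + f (pt 1) + f (pt 2) + f (pt 3) + f (pt 4) + f (pt 5) + f (pt 6) +
      f (pt 7) + f (pt 8) := by
  rw [Fintype.sum_prod_type, show (Finset.univ : Finset (ZMod 3)) = {0, 1, 2} from by decide +kernel]
  simp only [Finset.sum_insert, Finset.sum_singleton, show (0 : ZMod 3) ∉ ({1, 2} : Finset (ZMod 3))
    from by decide +kernel, show (1 : ZMod 3) ∉ ({2} : Finset (ZMod 3)) from by decide +kernel,
    not_false_eq_true]
  simp only [show pt 0 = (0, 0) from rfl, show pt 1 = (0, 1) from rfl, show pt 2 = (0, 2) from rfl,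
    show pt 3 = (1, 0) from rfl, show pt 4 = (1, 1) from rfl, show pt 5 = (1, 2) from rfl,
    show pt 6 = (2, 0) from rfl, show pt 7 = (2, 1) from rfl, show pt 8 = (2, 2) from rfl]
  abel

theorem xor_pair (a a' b b' : Bool) : ((a ^^ a') ^^ (b ^^ b')) = ((a ^^ b) ^^ (a' ^^ b')) := by
  cases a <;> cases a' <;> cases b <;> cases b' <;> rfl

theorem xor_shuffle (a0 a1 a2 a3 a4 a5 a6 a7 a8 b0 b1 b2 b3 b4 b5 b6 b7 b8 : Bool) :
    (((a0 ^^ a1 ^^ a2 ^^ a3 ^^ a4 ^^ a5 ^^ a6 ^^ a7 ^^ a8) ^^ (b0 ^^ b1 ^^ b2 ^^ b3 ^^ b4 ^^ b5 ^^ b6 ^^ b7 ^^ b8)) : Bool) = ((a0 ^^ b0) ^^ (a1 ^^ b1) ^^ (a2 ^^ b2) ^^ (a3 ^^ b3) ^^ (a4 ^^ b4) ^^ (a5 ^^ b5) ^^ (a6 ^^ b6) ^^ (a7 ^^ b7) ^^ (a8 ^^ b8)) := by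
  exact (xor_pair _ a8 _ b8).trans (congrArg (fun x => x ^^ (a8 ^^ b8)) ((xor_pair _ a7 _ b7).trans (congrArg (fun x => x ^^ (a7 ^^ b7)) ((xor_pair _ a6 _ b6).trans (congrArg (fun x => x ^^ (a6 ^^ b6)) ((xor_pair _ a5 _ b5).trans (congrArg (fun x => x ^^ (a5 ^^ b5)) ((xor_pair _ a4 _ b4).trans (congrArg (fun x => x ^^ (a4 ^^ b4)) ((xor_pair _ a3 _ b3).trans (congrArg (fun x => x ^^ (a3 ^^ b3)) ((xor_pair _ a2 _ b2).trans (congrArg (fun x => x ^^ (a2 ^^ b2)) ((xor_pair _ a1 _ b1).trans (congrArg (fun x => x ^^ (a1 ^^ b1)) (rfl))))))))))))))))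

variable {F : Type*} [Field F] (ω : F)

/-- The field element with two given bits. -/
def ev (x₀ x₁ : Bool) : F := cond x₀ 1 0 + cond x₁ ω 0

/-- The matrix that is encoded. -/
def dec (P : M9) : Matrix F9 F9 F := fun w z =>
  ev ω (P.a.testBit (9 * idx w + idx z)) (P.b.testBit (9 * idx w + idx z))

/-- The column vector that is encoded in column `0`. -/
def cv (v : M9) : F9 → F := fun w => ev ω (v.a.testBit (9 * idx w)) (v.b.testBit (9 * idx w))

theorem cv_eq (v : M9) (w : F9) : cv ω v w = dec ω v w 0 := by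
  simp [cv, dec, idx_zero]

section
variable {ω}

theorem omega_ne_zero (hω : ω ^ 2 + ω + 1 = 0) : ω ≠ 0 := fun h => by simp [h] at hω

theorem omega_sq [CharP F 2] (hω : ω ^ 2 + ω + 1 = 0) : ω * ω = ω + 1 := by
  have h : ω * ω + (ω + 1) = 0 := by rw [← hω]; ring
  rwa [CharTwo.add_eq_zero] at h

theorem omega_ne_one [CharP F 2] (hω : ω ^ 2 + ω + 1 = 0) : ω ≠ 1 := fun h => by
  rw [h] at hω
  simp [one_pow, CharTwo.add_self_eq_zero] at hω

theorem ev_xor [CharP F 2] (a b c d : Bool) :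
    ev ω (a ^^ c) (b ^^ d) = ev ω a b + ev ω c d := by
  have h1 : (1 : F) + 1 = 0 := CharTwo.add_self_eq_zero 1
  have h2 : ω + ω = 0 := CharTwo.add_self_eq_zero ω
  cases a <;> cases b <;> cases c <;> cases d <;>
    simp [ev, add_comm, add_left_comm, h1, h2, CharTwo.add_self_eq_zero] <;>
    (try linear_combination (norm := ring_nf) h2) <;>
    simp_all [CharTwo.two_eq_zero, show (4 : F) = 2 * 2 by norm_num]

theorem ev_mul [CharP F 2] (hω : ω ^ 2 + ω + 1 = 0) (a b c d : Bool) :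
    ev ω a b * ev ω c d =
      ev ω ((a && c) ^^ (b && d)) (((a ^^ b) && (c ^^ d)) ^^ (a && c)) := by
  have hs := omega_sq hω
  have h1 : (2 : F) = 0 := CharTwo.two_eq_zero
  cases a <;> cases b <;> cases c <;> cases d <;> simp [ev] <;> ring_nf <;>
    simp [pow_two, hs, h1, add_comm, add_left_comm, CharTwo.add_self_eq_zero] <;>
    rw [← add_assoc, CharTwo.add_self_eq_zero, zero_add]

theorem ev_inj [CharP F 2] (hω : ω ^ 2 + ω + 1 = 0) {a b c d : Bool}
    (h : ev ω a b = ev ω c d) : a = c ∧ b = d := by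
  have h0 := omega_ne_zero hω
  have h1 := omega_ne_one hω
  have h2 : ev ω (a ^^ c) (b ^^ d) = 0 := by rw [ev_xor, h, CharTwo.add_self_eq_zero]
  have key : ∀ x y, ev ω x y = 0 → x = false ∧ y = false := by
    intro x y
    cases x <;> cases y <;> simp [ev, h0, add_comm]
    intro e
    exact h1 (CharTwo.add_eq_zero.1 e).symm.symm
  obtain ⟨e1, e2⟩ := key _ _ h2
  exact ⟨by cases a <;> cases c <;> simp_all, by cases b <;> cases d <;> simp_all⟩

variable [CharP F 2]

theorem dec_addV (P Q : M9) : dec ω (addV P Q) = dec ω P + dec ω Q := by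
  ext w z
  simp only [dec, addV, Nat.testBit_xor, ev_xor, Matrix.add_apply]

theorem cv_addV (P Q : M9) : cv ω (addV P Q) = cv ω P + cv ω Q := by
  ext w
  simp only [cv, addV, Nat.testBit_xor, ev_xor, Pi.add_apply]

omit [CharP F 2] in
theorem cv_zero : cv ω mZero = 0 := by
  ext w; simp [cv, mZero, ev]

theorem cv_smulV (hω : ω ^ 2 + ω + 1 = 0) (x₀ x₁ : Bool) (P : M9) :
    cv ω (smulV x₀ x₁ P) = ev ω x₀ x₁ • cv ω P := by
  ext w
  rw [Pi.smul_apply, smul_eq_mul]
  simp only [cv]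
  rw [ev_mul hω]
  cases x₀ <;> cases x₁ <;> simp [smulV, mZero, Nat.testBit_xor, Bool.xor_comm]

theorem cv_colV (P : M9) {r : ℕ} (hr : r < 9) (w : F9) : cv ω (colV P r) w = dec ω P w (pt r) := by
  simp only [cv, colV, dec, idx_pt r hr, colMask_eq]
  have key : ∀ x : ℕ, ((x >>> r) &&& cols 9).testBit (9 * idx w) = x.testBit (9 * idx w + r) := by
    intro x
    have h := testBit_land_cols_mul 9 (x >>> r) 1 (by norm_num) (idx w) 0 (by norm_num)
    rw [mul_one, add_zero, Nat.testBit_shiftRight] at h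
    rw [h]
    simp [idx_lt, add_comm r]
  rw [key, key]

theorem dec_mul (hω : ω ^ 2 + ω + 1 = 0) (P Q : M9) :
    dec ω (mul P Q) = dec ω P * dec ω Q := by
  ext w z
  rw [Matrix.mul_apply, sum_F9]
  simp only [dec, mul, Nat.testBit_xor, testBit_bm _ _ (idx_lt w) (idx_lt z), idx_pt 0 (by norm_num),
    idx_pt 1 (by norm_num), idx_pt 2 (by norm_num), idx_pt 3 (by norm_num), idx_pt 4 (by norm_num),
    idx_pt 5 (by norm_num), idx_pt 6 (by norm_num), idx_pt 7 (by norm_num), idx_pt 8 (by norm_num),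
    ev_mul hω, ← ev_xor]
  congr 1 <;> exact xor_shuffle _ _ _ _ _ _ _ _ _ _ _ _ _ _ _ _ _ _

theorem cv_mul (hω : ω ^ 2 + ω + 1 = 0) (P v : M9) :
    cv ω (mul P v) = (dec ω P).mulVec (cv ω v) := by
  ext w
  rw [cv_eq, dec_mul hω, Matrix.mul_apply]
  simp only [Matrix.mulVec, dotProduct, cv_eq]

omit [CharP F 2] in
theorem dec_mOne : dec ω mOne = 1 := by
  ext w z
  have h : ∀ w z : F9, mOne.a.testBit (9 * idx w + idx z) = decide (w = z) ∧
      mOne.b.testBit (9 * idx w + idx z) = false := by decide +kernel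
  obtain ⟨h1, h2⟩ := h w z
  rw [dec, h1, h2, Matrix.one_apply]
  by_cases e : w = z <;> simp [ev, e]

theorem dec_inj (hω : ω ^ 2 + ω + 1 = 0) {P Q : M9} (hP : WF P) (hQ : WF Q)
    (h : dec ω P = dec ω Q) : P = Q := by
  have key : ∀ k, P.a.testBit k = Q.a.testBit k ∧ P.b.testBit k = Q.b.testBit k := by
    intro k
    by_cases hk : k < 81
    · have e := congrFun (congrFun h (pt (k / 9))) (pt (k % 9))
      simp only [dec, idx_pt _ (show k / 9 < 9 by omega), idx_pt _ (show k % 9 < 9 by omega),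
        show 9 * (k / 9) + k % 9 = k by omega] at e
      exact ev_inj hω e
    · have : 2 ^ 81 ≤ 2 ^ k := Nat.pow_le_pow_right (by norm_num) (by omega)
      exact ⟨(Nat.testBit_lt_two_pow (lt_of_lt_of_le hP.1 this)).trans
          (Nat.testBit_lt_two_pow (lt_of_lt_of_le hQ.1 this)).symm,
        (Nat.testBit_lt_two_pow (lt_of_lt_of_le hP.2 this)).trans
          (Nat.testBit_lt_two_pow (lt_of_lt_of_le hQ.2 this)).symm⟩
  cases P; cases Q
  congr
  · exact Nat.eq_of_testBit_eq fun k => (key k).1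
  · exact Nat.eq_of_testBit_eq fun k => (key k).2

end

end CfsgLib.J23
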