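import Cfsg.Agent.JankoTwoThree.J2FusionCheck
import Cfsg.Agent.JankoTwoThree.Level
import Cfsg.Agent.FusionSimple.Generic
import Cfsg.Agent.BlocksCharsC.PGroupCenter

/-!
# The 2-fusion system of `J₂` is simple

Working in `hj`: a Sylow 2-subgroup has centre of order two generated by `z`; conjugation inside a
strongly closed subgroup reaches its generators; the centraliser of `z` is generated by elements
of 2-power order normalising its normal subgroup of order 32.
-/

set_option autoImplicit false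
set_option linter.style.haveILetI false
set_option maxRecDepth 20000

namespace CfsgLib.J2

open CfsgLib.Mathieu CfsgLib.FusionSimple
open CfsgLib.Mathieu.HallJanko (hj)

/-- The table is that of the element. -/
def Rp (g : hj) (t : ℕ) : Prop := Rep (Equiv.refl (Fin 100)) g.1 t

theorem Rp.eq {g g' : hj} {t : ℕ} (h : Rp g t) (h' : Rp g' t) : g = g' :=
  Subtype.ext (Equiv.ext fun x => Mathieu.Rep.apply_eq _ h (h' x))

theorem Rp.app_eq {g : hj} {t : ℕ} (h : Rp g t) (x : Fin 100) : app t x = (g.1 x : ℕ) := h x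

theorem rp_mul {g h : hj} {s t c : ℕ} (hg : Rp g s) (hh : Rp h t) (hc : mulEq s t c = true) :
    Rp (g * h) c := fun x => by
  have := Nat.eq_of_beq_eq_true (allBelow_iff.1 hc x x.2)
  show app c x = ((g * h).1 x : ℕ)
  rw [this, hh.app_eq, hg.app_eq]
  rfl

theorem rp_of_sameB {g : hj} {t c : ℕ} (hg : Rp g c) (h : sameB t c = true) : Rp g t := fun x => by
  show app t x = (g.1 x : ℕ)
  rw [Nat.eq_of_beq_eq_true (allBelow_iff.1 h x x.2), hg.app_eq]

theorem sameB_symm {t c : ℕ} (h : sameB t c = true) : sameB c t = true :=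
  allBelow_iff.2 fun i hi => by
    rw [Nat.eq_of_beq_eq_true (allBelow_iff.1 h i hi)]; exact Nat.beq_refl _

theorem rp_one : Rp 1 idTab := fun x => by
  have h : ∀ i : Fin 100, app idTab i = (i : ℕ) := by decide +kernel
  exact h x

theorem comm_of_commB {g h : hj} {s t : ℕ} (hg : Rp g s) (hh : Rp h t) (hc : commB s t = true) :
    g * h = h * g := Subtype.ext (Equiv.ext fun x => Fin.ext (by
  have := Nat.eq_of_beq_eq_true (allBelow_iff.1 hc x x.2)
  rw [hh.app_eq, hg.app_eq, hg.app_eq, hh.app_eq] at this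
  exact this))

theorem commB_of_comm {g h : hj} {s t : ℕ} (hg : Rp g s) (hh : Rp h t) (hc : g * h = h * g) :
    commB s t = true := allBelow_iff.2 fun i hi => by
  have := congrArg (fun f : hj => ((f.1 ⟨i, hi⟩ : Fin 100) : ℕ)) hc
  have e1 : app s (app t i) = ((g * h).1 ⟨i, hi⟩ : ℕ) := by
    rw [show app t i = (h.1 ⟨i, hi⟩ : ℕ) from hh.app_eq ⟨i, hi⟩, hg.app_eq]; rfl
  have e2 : app t (app s i) = ((h * g).1 ⟨i, hi⟩ : ℕ) := by
    rw [show app s i = (g.1 ⟨i, hi⟩ : ℕ) from hg.app_eq ⟨i, hi⟩, hh.app_eq]; rfl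
  rw [e1, e2]
  exact (show ((g * h).1 ⟨i, hi⟩ : ℕ) = ((h * g).1 ⟨i, hi⟩ : ℕ) from this) ▸ Nat.beq_refl _

theorem keyT_congr {g : hj} {s t : ℕ} (hs : Rp g s) (ht : Rp g t) : keyT s = keyT t := by
  have aux : ∀ (l : List ℕ) (acc : ℕ), (∀ i ∈ l, app s i = app t i) →
      l.foldl (fun acc i => 256 * acc + app s i) acc = l.foldl (fun acc i => 256 * acc + app t i) acc := by
    intro l
    induction l with
    | nil => intros; rfl
    | cons i l ih =>
      intro acc h
      rw [List.foldl_cons, List.foldl_cons, h i List.mem_cons_self]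
      exact ih _ fun j hj => h j (List.mem_cons_of_mem _ hj)
  exact aux _ 0 fun i hi => (hs.app_eq ⟨i, List.mem_range.1 hi⟩).trans (ht.app_eq _).symm

theorem distinctB_spec : ∀ {l : List ℕ}, distinctB l = true → l.Nodup
  | [], _ => List.nodup_nil
  | a :: l, h => by
    simp only [distinctB, Bool.and_eq_true, List.all_eq_true, Bool.not_eq_true'] at h
    refine List.nodup_cons.2 ⟨fun ha => ?_, distinctB_spec h.2⟩
    have := h.1 a ha
    rw [Nat.beq_refl] at this
    exact Bool.noConfusion this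

theorem index_eq_of_rp {els : List ℕ} (hnd : distinctB (els.map keyT) = true) {g : hj} {i j : ℕ}
    (hi : i < els.length) (hj' : j < els.length) (h : Rp g (els.getD i 0)) (h' : Rp g (els.getD j 0)) :
    i = j := by
  refine ((distinctB_spec hnd).getElem_inj_iff (hi := by simpa using hi) (hj := by simpa using hj')).1 ?_
  rw [List.getElem_map, List.getElem_map, ← List.getD_eq_getElem _ 0 hi,
    ← List.getD_eq_getElem _ 0 hj']
  exact keyT_congr h h'

theorem exists_rp {t : ℕ} (ht : Schreier.sift 100 HallJanko.chain [t] = true)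
    (hp : ∃ σ : Equiv.Perm (Fin 100), Rep (Equiv.refl (Fin 100)) σ t) : ∃ g : hj, Rp g t := by
  obtain ⟨σ, r⟩ := hp
  have := (Schreier.sift_sound HallJanko.chain
    (Schreier.levelSpec_of_ok _ HallJanko.chain_ok HallJanko.chain_perms) [t] [σ] (.cons r .nil) ht).1
  exact ⟨⟨σ, by simpa [hj] using this⟩, r⟩

/-- A sifting table whose values stay below 100 gives a permutation when it is invertible. -/
theorem exists_perm_of_sift {t : ℕ}
    (h : (allBelow 100 fun i => Nat.blt (app t i) 100 && allBelow i fun j =>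
      !Nat.beq (app t i) (app t j)) = true) :
    ∃ σ : Equiv.Perm (Fin 100), Rep (Equiv.refl (Fin 100)) σ t := by
  simp only [allBelow_iff, Bool.and_eq_true, Bool.not_eq_true'] at h
  have hlt : ∀ i : Fin 100, app t i < 100 := fun i => Nat.le_of_ble_eq_true (h i i.2).1
  have hinj : Function.Injective fun i : Fin 100 => (⟨app t i, hlt i⟩ : Fin 100) := by
    intro i j e
    have e' : app t i = app t j := congrArg Fin.val e
    rcases Nat.lt_trichotomy (i : ℕ) j with hlt | he | hlt
    · have := (h j j.2).2 i hlt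
      rw [e', Nat.beq_refl] at this
      exact Bool.noConfusion this
    · exact Fin.ext he
    · have := (h i i.2).2 j hlt
      rw [e', Nat.beq_refl] at this
      exact Bool.noConfusion this
  exact ⟨Equiv.ofBijective _ (Finite.injective_iff_bijective.1 hinj), fun _ => rfl⟩

/-- The tables used. -/
def usedTabs : List ℕ :=
  uGenT ++ qGenT ++ kTwoT ++ [zTab] ++ closeSteps.map (fun s => s.2.2) ++ classGens

theorem used_perm : usedTabs.all (fun t => allBelow 100 fun i =>
    Nat.blt (app t i) 100 && allBelow i fun j => !Nat.beq (app t i) (app t j)) = true := by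
  decide +kernel

theorem exists_used {t : ℕ} (ht : t ∈ usedTabs) : ∃ g : hj, Rp g t := by
  refine exists_rp ?_ (exists_perm_of_sift (List.all_eq_true.1 used_perm t ht))
  have h := chkInGroup_ok
  have h' := chkClass_ok
  simp only [chkInGroup, List.all_eq_true] at h
  simp only [chkClass, Bool.and_eq_true, List.all_eq_true] at h'
  rcases List.mem_append.1 ht with ht | ht
  · exact h t ht
  · exact h'.2.2.2.1 t ht

open Classical in
/-- The element of a table. -/
noncomputable def pT (t : ℕ) : hj := if h : ∃ g : hj, Rp g t then h.choose else 1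

theorem rp_pT {t : ℕ} (ht : ∃ g : hj, Rp g t) : Rp (pT t) t := by
  rw [pT, dif_pos ht]; exact ht.choose_spec

attribute [irreducible] pT

theorem rp_used {t : ℕ} (ht : t ∈ usedTabs) : Rp (pT t) t := rp_pT (exists_used ht)

/-- The group generated by listed tables. -/
noncomputable def tabGroup (gens : List ℕ) : Subgroup hj :=
  Subgroup.closure (Set.range fun a : Fin gens.length => pT (gens.getD a 0))

theorem pT_mem_tabGroup {gens : List ℕ} {t : ℕ} (ht : t ∈ gens) : pT t ∈ tabGroup gens := by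
  obtain ⟨i, hi, rfl⟩ := List.getElem_of_mem ht
  exact Subgroup.subset_closure ⟨⟨i, hi⟩, congrArg pT (List.getD_eq_getElem _ _ hi)⟩

theorem listed_spec {gens els : List ℕ} {par : List (ℕ × ℕ)} {edge : List ℕ}
    (hg : ∀ t ∈ gens, t ∈ usedTabs) (h : chkListedT gens els par edge = true) :
    (∀ g, g ∈ tabGroup gens ↔ ∃ t ∈ els, Rp g t) ∧ Nat.card (tabGroup gens) = els.length := by
  simp only [chkListedT, Bool.and_eq_true, Bool.or_eq_true, allBelow_iff] at h
  obtain ⟨hlen, h0, hall, hnd⟩ := h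
  have hlen' : 0 < els.length := Nat.le_of_ble_eq_true hlen
  have hgD : ∀ a, a < gens.length → Rp (pT (gens.getD a 0)) (gens.getD a 0) := fun a ha =>
    rp_used (hg _ (by rw [List.getD_eq_getElem _ _ ha]; exact List.getElem_mem _))
  have ht : ∀ i, i < els.length → ∃ g ∈ tabGroup gens, Rp g (els.getD i 0) := by
    intro i
    induction i using Nat.strong_induction_on with
    | _ i ih =>
      intro hi
      rcases (hall i hi).1 with hz | ⟨ha, hp, he⟩
      · rw [Nat.eq_of_beq_eq_true hz]
        exact ⟨1, one_mem _, rp_of_sameB rp_one h0⟩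
      · have hp' : (par.getD i (0, 0)).2 < i := Nat.le_of_ble_eq_true hp
        obtain ⟨g, hgm, hgr⟩ := ih _ hp' (by omega)
        exact ⟨_, mul_mem (Subgroup.subset_closure ⟨⟨_, Nat.le_of_ble_eq_true ha⟩, rfl⟩) hgm,
          rp_mul (hgD _ (Nat.le_of_ble_eq_true ha)) hgr he⟩
  choose T hTm hTr using ht
  have hl := J23.level_spec (fun a : Fin gens.length => pT (gens.getD a 0))
    (fun i : Fin els.length => T i i.2) (⊥ : Subgroup hj) id bot_le (fun i => hTm i i.2)
    ⟨⟨0, hlen'⟩, (hTr 0 hlen').eq (rp_of_sameB rp_one h0)⟩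
    (fun a i => by
      obtain ⟨he1, he2⟩ := (hall i i.2).2 a a.2
      refine ⟨⟨_, Nat.le_of_ble_eq_true he1⟩, 1, one_mem _, ?_⟩
      rw [mul_one]
      exact (rp_mul (hgD a a.2) (hTr i i.2) he2).eq (hTr _ _))
    (fun g k hk => by rw [Subgroup.mem_bot.1 hk, mul_one])
    (fun i j e => Fin.ext (index_eq_of_rp hnd i.2 j.2 (hTr i i.2)
      ((show T i i.2 = T j j.2 from e) ▸ hTr j j.2)))
  refine ⟨fun g => ⟨fun hgm => ?_, ?_⟩, hl.2.trans (by simp)⟩
  · obtain ⟨i, k, hk, rfl⟩ := hl.1 g hgm
    refine ⟨els.getD i 0, by rw [List.getD_eq_getElem _ _ i.2]; exact List.getElem_mem _, ?_⟩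
    rw [Subgroup.mem_bot.1 hk, mul_one]
    exact hTr i i.2
  · rintro ⟨t, htm, htr⟩
    obtain ⟨i, hi, rfl⟩ := List.getElem_of_mem htm
    rw [← List.getD_eq_getElem _ 0 hi] at htr
    exact htr.eq (hTr i hi) ▸ hTm i hi

theorem uGen_used : ∀ t ∈ uGenT, t ∈ usedTabs := fun t ht => by simp [usedTabs, ht]

theorem qGen_used : ∀ t ∈ qGenT, t ∈ usedTabs := fun t ht => by simp [usedTabs, ht]

theorem kTwo_used : ∀ t ∈ kTwoT, t ∈ usedTabs := fun t ht => by simp [usedTabs, ht]

theorem z_used : zTab ∈ usedTabs := by simp [usedTabs]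

/-- The Sylow subgroup. -/
noncomputable def uGrp : Subgroup hj := tabGroup uGenT

/-- The normal subgroup of order 32. -/
noncomputable def qGrp : Subgroup hj := tabGroup qGenT

/-- The involution. -/
noncomputable def zH : hj := pT zTab

theorem u_spec : (∀ g, g ∈ uGrp ↔ ∃ t ∈ uEltT, Rp g t) ∧ Nat.card uGrp = 128 :=
  ⟨(listed_spec uGen_used uListed).1, (listed_spec uGen_used uListed).2.trans (by decide +kernel)⟩

theorem q_spec : (∀ g, g ∈ qGrp ↔ ∃ t ∈ qEltT, Rp g t) ∧ Nat.card qGrp = 32 :=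
  ⟨(listed_spec qGen_used qListed).1, (listed_spec qGen_used qListed).2.trans (by decide +kernel)⟩

theorem centralFacts :
    (∀ t ∈ uGenT ++ qGenT ++ kTwoT, pT t ∈ Subgroup.centralizer ({zH} : Set hj)) ∧
    qGrp ≤ uGrp ∧ zH ∈ uGrp := by
  have h := chkCentral_ok
  simp only [chkCentral, Bool.and_eq_true, List.all_eq_true, List.any_eq_true] at h
  obtain ⟨h1, h2, ⟨c, hc, hcz⟩, -, -⟩ := h
  refine ⟨fun t ht => ?_, (Subgroup.closure_le _).2 ?_,
    (u_spec.1 _).2 ⟨c, hc, rp_of_sameB (rp_used z_used) (sameB_symm hcz)⟩⟩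
  · refine Subgroup.mem_centralizer_singleton_iff.2
      (comm_of_commB (rp_used ?_) (rp_used z_used) (h1 t ht))
    rcases List.mem_append.1 ht with ht | ht
    · rcases List.mem_append.1 ht with ht | ht
      · exact uGen_used t ht
      · exact qGen_used t ht
    · exact kTwo_used t ht
  · rintro _ ⟨a, rfl⟩
    have hm : qGenT.getD a 0 ∈ qGenT := by
      rw [List.getD_eq_getElem _ _ a.2]; exact List.getElem_mem _
    obtain ⟨c, hc, hs⟩ := h2 _ hm
    exact (u_spec.1 _).2 ⟨c, hc, rp_of_sameB (rp_used (qGen_used _ hm)) (sameB_symm hs)⟩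

theorem u_le_centralizer : uGrp ≤ Subgroup.centralizer ({zH} : Set hj) := by
  refine (Subgroup.closure_le _).2 ?_
  rintro _ ⟨a, rfl⟩
  exact centralFacts.1 _ (List.mem_append_left _ (List.mem_append_left _
    (by rw [List.getD_eq_getElem _ _ a.2]; exact List.getElem_mem _)))

theorem center_u {x : hj} (hx : x ∈ uGrp) (hc : ∀ y ∈ uGrp, y * x = x * y) : x = 1 ∨ x = zH := by
  have h := chkCentral_ok
  simp only [chkCentral, Bool.and_eq_true, List.all_eq_true, List.any_eq_true, Bool.or_eq_true,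
    Bool.not_eq_true', List.all_eq_false] at h
  obtain ⟨u, hu, hr⟩ := (u_spec.1 _).1 hx
  rcases h.2.2.2.1 u hu with he | he | ⟨g, hg, he⟩
  · exact Or.inl ((rp_of_sameB hr (sameB_symm he)).eq rp_one)
  · exact Or.inr ((rp_of_sameB hr (sameB_symm he)).eq (rp_used z_used))
  · exact absurd (commB_of_comm (rp_used (uGen_used g hg)) hr (hc _ (pT_mem_tabGroup hg))) he

theorem u_inf_centralizer : uGrp ⊓ Subgroup.centralizer (qGrp : Set hj) ≤ qGrp := by
  have h := chkCentral_ok
  simp only [chkCentral, Bool.and_eq_true, List.all_eq_true, List.any_eq_true, Bool.or_eq_true,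
    Bool.not_eq_true', List.all_eq_false] at h
  rintro x ⟨hx, hc⟩
  obtain ⟨u, hu, hr⟩ := (u_spec.1 _).1 hx
  rcases h.2.2.2.2 u hu with ⟨c, hc', he⟩ | ⟨q, hq, he⟩
  · exact (q_spec.1 _).2 ⟨c, hc', rp_of_sameB hr (sameB_symm he)⟩
  · exact absurd (commB_of_comm (rp_used (qGen_used q hq)) hr
      (Subgroup.mem_centralizer_iff.1 hc _ (pT_mem_tabGroup hq))) he

theorem rp_word {H : Subgroup hj} (L : ℕ → ℕ) : ∀ (w : List ℕ),
    (∀ a ∈ w, ∃ g ∈ H, Rp g (L a)) →
    ∃ g ∈ H, ∀ x : Fin 100, Schreier.evalWord (w.map L) x = (g.1 x : ℕ)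
  | [], _ => ⟨1, one_mem _, fun _ => rfl⟩
  | a :: w, h => by
    obtain ⟨g, hg, r⟩ := h a List.mem_cons_self
    obtain ⟨k, hk, e⟩ := rp_word L w fun b hb => h b (List.mem_cons_of_mem _ hb)
    refine ⟨g * k, mul_mem hg hk, fun x => ?_⟩
    show app (L a) (Schreier.evalWord (w.map L) x) = _
    rw [e, r.app_eq]; rfl

/-- The elements of 2-power order normalising the subgroup of order 32. -/
def twoNorm : Set hj :=
  {y | y ∈ Subgroup.normalizer (qGrp : Set hj) ∧ ∃ k : ℕ, orderOf y = 2 ^ k}

theorem kTwo_mem {t : ℕ} (ht : t ∈ kTwoT) : pT t ∈ twoNorm := by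
  have h := chkKTwo_ok
  simp only [chkKTwo, Bool.and_eq_true, List.all_eq_true, List.any_eq_true, allBelow_iff] at h
  obtain ⟨h8, hn⟩ := h.1 t ht
  have hr := rp_used (kTwo_used t ht)
  set g := pT t
  have h8' : g ^ 2 ^ 3 = 1 := Subtype.ext (Equiv.ext fun x => Fin.ext (by
    have := Nat.eq_of_beq_eq_true (h8 x x.2)
    simp only [hr.app_eq] at this
    simpa [pow_succ, Equiv.Perm.mul_apply] using this))
  refine ⟨?_, ?_⟩
  · have hgen : ∀ q ∈ qGrp, g * q * g⁻¹ ∈ qGrp := by
      intro q hq
      induction hq using Subgroup.closure_induction with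
      | mem q hq =>
        obtain ⟨a, rfl⟩ := hq
        have hm : qGenT.getD a 0 ∈ qGenT := by
          rw [List.getD_eq_getElem _ _ a.2]; exact List.getElem_mem _
        obtain ⟨c, hc, he⟩ := hn _ hm
        refine (q_spec.1 _).2 ⟨c, hc, fun y => ?_⟩
        have hy := Nat.eq_of_beq_eq_true (he (g.1⁻¹ y : Fin 100) (g.1⁻¹ y).2)
        rw [(rp_used (qGen_used _ hm)).app_eq, hr.app_eq, hr.app_eq, perm_apply_inv] at hy
        exact hy
      | one => rw [mul_one, mul_inv_cancel]; exact one_mem _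
      | mul u v _ _ hu hv => rw [← conj_mul]; exact mul_mem hu hv
      | inv u _ hu => rw [← conj_inv]; exact inv_mem hu
    rw [Subgroup.mem_normalizer_iff]
    intro q
    refine ⟨hgen q, fun hq => ?_⟩
    let φ : qGrp → qGrp := fun r => ⟨g * r * g⁻¹, hgen r r.2⟩
    have hφ : Function.Injective φ := fun r s e => Subtype.ext
      (mul_left_cancel (mul_right_cancel (congrArg Subtype.val e :)))
    obtain ⟨r, hr'⟩ := Finite.injective_iff_surjective.1 hφ ⟨_, hq⟩
    exact (mul_left_cancel (mul_right_cancel (congrArg Subtype.val hr' :))) ▸ r.2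
  · obtain ⟨k, -, hk⟩ := (Nat.dvd_prime_pow Nat.prime_two).1 (orderOf_dvd_of_pow_eq_one h8')
    exact ⟨k, hk⟩

theorem kChain_perms : Schreier.HasPerms 100 kChain := by
  have hs := Schreier.exists_rep_of_gensOK kChain_gens
  exact ⟨fun g hg => hs g (by rw [List.map_append]; exact List.mem_append_left _ hg),
    fun g hg => hs g (by rw [List.map_append]; exact List.mem_append_right _ hg), trivial⟩

theorem card_kGrp : Nat.card (Schreier.group 100 kChain) = 1920 := by
  rw [Schreier.card_group _ kChain_ok kChain_perms]; decide +kernel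

theorem kGrp_le : Schreier.group 100 kChain ≤
    (Subgroup.closure {g : hj | ∃ t ∈ kTwoT, pT t = g}).map hj.subtype := by
  refine (Subgroup.closure_le _).2 ?_
  rintro σ ⟨t, ht, r⟩
  have h := chkKTwo_ok
  simp only [chkKTwo, Bool.and_eq_true, List.all_eq_true, allBelow_iff] at h
  obtain ⟨j, hj', rfl⟩ := List.getElem_of_mem (show t ∈ kGens0.map Prod.fst from ht)
  have hj0 : j < kGens0.length := by simpa using hj'
  obtain ⟨hlt, he⟩ := h.2 j hj0
  obtain ⟨g, hg, e⟩ := rp_word (H := Subgroup.closure {g : hj | ∃ t ∈ kTwoT, pT t = g})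
    (fun a => kTwoT.getD a 0) (kTwoWords.getD j []) fun a ha => by
      have ha' : a < kTwoT.length := Nat.le_of_ble_eq_true (hlt a ha)
      have hm : kTwoT.getD a 0 ∈ kTwoT := by
        rw [List.getD_eq_getElem _ _ ha']; exact List.getElem_mem _
      exact ⟨_, Subgroup.subset_closure ⟨_, hm, rfl⟩, rp_used (kTwo_used _ hm)⟩
  refine ⟨g, hg, Equiv.ext fun x => Fin.ext ?_⟩
  show (g.1 x : ℕ) = (σ x : ℕ)
  rw [← e, ← Nat.eq_of_beq_eq_true (he x x.2), List.getD_eq_getElem _ _ hj']
  exact r x

theorem class_conj : ∀ i, i < 315 → ∃ c : hj, Rp (c * zH * c⁻¹) (clsTabs.getD i 0) := by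
  have h := chkClass_ok
  simp only [chkClass, Bool.and_eq_true, Bool.or_eq_true, allBelow_iff, List.all_eq_true] at h
  obtain ⟨-, h0, hall, -, -⟩ := h
  intro i
  induction i using Nat.strong_induction_on with
  | _ i ih =>
    intro hi
    rcases hall i hi with hz | ⟨hp, ha, he⟩
    · rw [Nat.eq_of_beq_eq_true hz]
      exact ⟨1, by rw [one_mul, inv_one, mul_one]; exact rp_of_sameB (rp_used z_used) h0⟩
    · have hp' : (clsPar.getD i (0, 0)).1 < i := Nat.le_of_ble_eq_true hp
      obtain ⟨c, hc⟩ := ih _ hp' (by omega)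
      set a := (clsPar.getD i (0, 0)).2
      have ha' : a < 4 := Nat.le_of_ble_eq_true ha
      have hl : classGens.length = 4 := by decide +kernel
      have hga : classGens.getD a 0 ∈ usedTabs := by
        simp only [usedTabs, List.mem_append]
        right
        rw [List.getD_eq_getElem _ _ (by omega : a < classGens.length)]; exact List.getElem_mem _
      have hr := rp_used hga
      refine ⟨pT (classGens.getD a 0) * c, fun y => ?_⟩
      set g := pT (classGens.getD a 0)
      have hy := Nat.eq_of_beq_eq_true (he (g.1⁻¹ y : Fin 100) (g.1⁻¹ y).2)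
      rw [hc.app_eq, hr.app_eq, hr.app_eq, perm_apply_inv] at hy
      rw [show g * c * zH * (g * c)⁻¹ = g * (c * zH * c⁻¹) * g⁻¹ by group]
      exact hy

/-- The centraliser of `z` is generated by its elements of 2-power order normalising `qGrp`. -/
theorem centralizer_le : Subgroup.centralizer ({zH} : Set hj) ≤ Subgroup.closure twoNorm := by
  set C := Subgroup.centralizer ({zH} : Set hj)
  set K := Subgroup.closure {g : hj | ∃ t ∈ kTwoT, pT t = g}
  have hKC : K ≤ C := by
    refine (Subgroup.closure_le _).2 ?_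
    rintro _ ⟨t, ht, rfl⟩
    exact centralFacts.1 t (List.mem_append_right _ ht)
  have hK : 1920 ≤ Nat.card K := by
    rw [← card_kGrp, ← Subgroup.card_map_of_injective hj.subtype_injective (K := K)]
    exact Subgroup.card_le_of_le kGrp_le
  have hidx : 315 ≤ C.index := by
    choose c hc using class_conj
    have hinj : Function.Injective fun i : Fin 315 => (QuotientGroup.mk (c i i.2) : hj ⧸ C) := by
      intro i j e
      have h := chkClass_ok
      simp only [chkClass, Bool.and_eq_true] at h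
      obtain ⟨hl, -, -, -, hnd⟩ := h
      have hl' : clsTabs.length = 315 := Nat.eq_of_beq_eq_true hl
      have hcc := Subgroup.mem_centralizer_singleton_iff.1 (QuotientGroup.eq.1 e)
      have he : c i i.2 * zH * (c i i.2)⁻¹ = c j j.2 * zH * (c j j.2)⁻¹ := by
        calc c i i.2 * zH * (c i i.2)⁻¹
            = c i i.2 * (zH * ((c i i.2)⁻¹ * c j j.2)) * (c j j.2)⁻¹ := by group
          _ = c i i.2 * ((c i i.2)⁻¹ * c j j.2 * zH) * (c j j.2)⁻¹ := by rw [← hcc]
          _ = _ := by group
      exact Fin.ext (index_eq_of_rp hnd (hl'.symm ▸ i.2) (hl'.symm ▸ j.2) (hc i i.2) (he ▸ hc j j.2))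
    have := Nat.card_le_card_of_injective _ hinj
    rwa [Nat.card_fin] at this
  have hC : Nat.card C ≤ 1920 := by
    have := C.card_mul_index
    rw [HallJanko.card_hj] at this
    have h2 : Nat.card C * 315 ≤ 604800 := this ▸ Nat.mul_le_mul_left _ hidx
    omega
  rw [← Subgroup.eq_of_le_of_card_ge hKC (hC.trans hK)]
  refine Subgroup.closure_mono ?_
  rintro _ ⟨t, ht, rfl⟩
  exact kTwo_mem ht

theorem normalizer_u_le : Subgroup.normalizer (uGrp : Set hj) ≤
    Subgroup.closure (basicElts 2 uGrp) := by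
  intro g hg
  have hUN : uGrp ≤ Subgroup.normalizer (qGrp : Set hj) :=
    u_le_centralizer.trans (centralizer_le.trans ((Subgroup.closure_le _).2 fun y hy => hy.1))
  refine Subgroup.subset_closure ⟨hg, Or.inr (Or.inr ⟨qGrp, centralFacts.2.1, hUN,
    u_inf_centralizer, centralizer_le ?_⟩)⟩
  have hmem : g * zH * g⁻¹ ∈ uGrp :=
    (Subgroup.mem_normalizer_iff.1 hg zH).1 centralFacts.2.2
  have hc : ∀ y ∈ uGrp, y * (g * zH * g⁻¹) = g * zH * g⁻¹ * y := by
    intro y hy
    have hy' : g⁻¹ * y * g ∈ uGrp := by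
      refine (Subgroup.mem_normalizer_iff.1 hg _).2 ?_
      rwa [show g * (g⁻¹ * y * g) * g⁻¹ = y by group]
    have h1 := Subgroup.mem_centralizer_singleton_iff.1 (u_le_centralizer hy')
    calc y * (g * zH * g⁻¹) = g * (g⁻¹ * y * g * zH) * g⁻¹ := by group
      _ = g * (zH * (g⁻¹ * y * g)) * g⁻¹ := by rw [h1]
      _ = g * zH * g⁻¹ * y := by group
  rw [Subgroup.mem_centralizer_singleton_iff]
  rcases center_u hmem hc with e | e
  · rw [conj_eq_one_iff] at e
    rw [e, mul_one, one_mul]
  · exact mul_inv_eq_iff_eq_mul.1 e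

theorem closed_u {T : Subgroup hj} (hT : Closed uGrp T) : T = ⊥ ∨ T = uGrp := by
  haveI : Fact (Nat.Prime 2) := ⟨Nat.prime_two⟩
  by_cases hb : T = ⊥
  · exact Or.inl hb
  right
  refine le_antisymm hT.1 ?_
  haveI : (T.subgroupOf uGrp).Normal := ⟨fun x hx g => hT.2 x hx g ((g * x * g⁻¹ : uGrp).2)⟩
  have hp : IsPGroup 2 uGrp := IsPGroup.of_card (n := 7) (by rw [u_spec.2]; norm_num)
  have hne : T.subgroupOf uGrp ≠ ⊥ := fun e => hb (by
    rw [Subgroup.subgroupOf_eq_bot, disjoint_iff] at e
    rwa [inf_eq_left.2 hT.1] at e)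
  haveI : Nontrivial (T.subgroupOf uGrp) := (Subgroup.nontrivial_iff_ne_bot _).2 hne
  obtain ⟨y, hy, hy1⟩ := CfsgLib.BlocksCharsC.exists_mem_ne_one
    (CfsgLib.BlocksCharsC.inf_center_ne_bot hp (T.subgroupOf uGrp))
  have hyz : (y : hj) = zH := (center_u y.2 fun x hx =>
    congrArg Subtype.val (Subgroup.mem_center_iff.1 hy.2 ⟨x, hx⟩)).resolve_left
      fun e => hy1 (Subtype.ext e)
  have hzT : zH ∈ T := hyz ▸ hy.1
  have h := chkClose_ok
  simp only [chkClose, Bool.and_eq_true, List.all_eq_true, List.any_eq_true, allBelow_iff] at h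
  obtain ⟨hsteps, hgens⟩ := h
  have hstep : ∀ i, i ≤ closeSteps.length → ∃ g ∈ T, Rp g (stepTab i) := by
    intro i
    induction i using Nat.strong_induction_on with
    | _ i ih =>
      intro hi
      match i with
      | 0 => exact ⟨zH, hzT, rp_used z_used⟩
      | i + 1 =>
        obtain ⟨hj', ⟨c, hc, hcs⟩, he⟩ := hsteps i hi
        obtain ⟨w, hwT, hwe⟩ := rp_word (H := T) stepTab (closeSteps.getD i (0, [], 0)).2.1
          fun j hjm => ih j (Nat.le_of_ble_eq_true (hj' j hjm))
            (by have : j < i + 1 := Nat.le_of_ble_eq_true (hj' j hjm); omega)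
        have hg : (closeSteps.getD i (0, [], 0)).2.2 ∈ usedTabs := by
          simp only [usedTabs, List.mem_append, List.mem_map]
          left; right
          refine ⟨_, ?_, rfl⟩
          rw [List.getD_eq_getElem _ _ (by omega : i < closeSteps.length)]
          exact List.getElem_mem _
        set g := pT (closeSteps.getD i (0, [], 0)).2.2
        have hr := rp_used hg
        have hconj : Rp (g * w * g⁻¹) (closeSteps.getD i (0, [], 0)).1 := fun x => by
          have hy := Nat.eq_of_beq_eq_true (he (g.1⁻¹ x : Fin 100) (g.1⁻¹ x).2)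
          rw [hwe, hr.app_eq, hr.app_eq, perm_apply_inv] at hy
          exact hy
        refine ⟨g * w * g⁻¹, hT.2 w hwT g ((u_spec.1 _).2
          ⟨c, hc, rp_of_sameB hconj (sameB_symm hcs)⟩), hconj⟩
  refine (Subgroup.closure_le _).2 ?_
  rintro _ ⟨a, rfl⟩
  obtain ⟨hlt, he⟩ := hgens a a.2
  obtain ⟨w, hwT, hwe⟩ := rp_word (H := T) stepTab (uGenWords.getD a []) fun j hjm =>
    hstep j (Nat.le_of_lt_succ (Nat.le_of_ble_eq_true (hlt j hjm)))
  have hm : uGenT.getD a 0 ∈ uGenT := by
    rw [List.getD_eq_getElem _ _ a.2]; exact List.getElem_mem _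
  have : pT (uGenT.getD a 0) = w := Subtype.ext (Equiv.ext fun x => Fin.ext (by
    rw [← (rp_used (uGen_used _ hm)).app_eq, ← hwe]
    exact Nat.eq_of_beq_eq_true (he x x.2)))
  show pT (uGenT.getD a 0) ∈ T
  exact this.symm ▸ hwT

/-- The Sylow subgroup from the list. -/
noncomputable def uSylow : Sylow 2 hj :=
  haveI : Fact (Nat.Prime 2) := ⟨Nat.prime_two⟩
  (IsPGroup.of_card (n := 7) (show Nat.card uGrp = 2 ^ 7 by rw [u_spec.2]; norm_num)).toSylow (by
    have := uGrp.card_mul_index
    rw [u_spec.2, HallJanko.card_hj] at this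
    omega)

/-- The criterion for any copy of `J₂`. -/
theorem isSimple_fusion_J2 {G : Type*} [Group G] [Finite G] (e : G ≃* hj) (S : Sylow 2 G) :
    (Cfsg.groupFusionSystem (S : Subgroup G)).IsSimple 2 := by
  haveI : Fact (Nat.Prime 2) := ⟨Nat.prime_two⟩
  let U : Sylow 2 G := uSylow.comapOfInjective e.toMonoidHom e.injective
    fun x _ => ⟨e.symm x, e.apply_symm_apply x⟩
  have hU : (U : Subgroup G) = uGrp.map e.symm.toMonoidHom :=
    (Subgroup.map_equiv_eq_comap_symm e.symm uGrp).symm
  refine isSimple_of_one_sylow U ?_ ?_ ?_ S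
  · rw [hU]
    intro hbot
    have := u_spec.2
    rw [(Subgroup.map_eq_bot_iff_of_injective _ e.symm.injective).1 hbot, Subgroup.card_bot] at this
    exact absurd this (by norm_num)
  · intro T hT
    rw [hU] at hT ⊢
    have hmap : (T.comap e.symm.toMonoidHom).map e.symm.toMonoidHom = T :=
      Subgroup.map_comap_eq_self_of_surjective e.symm.surjective T
    rcases closed_u (closed_comap e.symm hT) with h | h
    · left; rw [← hmap, h, Subgroup.map_bot]
    · right; rw [← hmap, h]
  · intro g hg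
    have hn : e g ∈ Subgroup.normalizer (uGrp : Set hj) := by
      have h := mem_normalizer_map_equiv e hg
      rwa [hU, Subgroup.map_map, show e.toMonoidHom.comp e.symm.toMonoidHom = MonoidHom.id hj from
        MonoidHom.ext fun x => e.apply_symm_apply x, Subgroup.map_id] at h
    have := Subgroup.mem_map_of_mem e.symm.toMonoidHom (normalizer_u_le hn)
    rw [MonoidHom.map_closure] at this
    have h2 : Subgroup.closure (e.symm.toMonoidHom '' basicElts 2 uGrp) ≤
        Subgroup.closure (basicElts 2 (U : Subgroup G)) := by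
      refine Subgroup.closure_mono ?_
      rintro _ ⟨y, hy, rfl⟩
      rw [hU]
      exact basicElts_map e.symm hy
    simpa using h2 this

end CfsgLib.J2
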