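import Cfsg.Agent.JankoTwoThree.J2FusionData
import Cfsg.Agent.Mathieu.HallJanko

/-!
# Checks on the tables for the 2-fusion of `J₂`
-/

set_option autoImplicit false

namespace CfsgLib.J2

open CfsgLib.Mathieu

/-- The table of the identity. -/
def idTab : ℕ := (List.range 100).foldr (fun i acc => acc ||| i <<< (8 * i)) 0

/-- A product of two tables agrees with a third. -/
def mulEq (g t c : ℕ) : Bool := allBelow 100 fun i => Nat.beq (app c i) (app g (app t i))

/-- Two tables commute. -/
def commB (g t : ℕ) : Bool := allBelow 100 fun i => Nat.beq (app g (app t i)) (app t (app g i))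

/-- Two tables agree. -/
def sameB (t c : ℕ) : Bool := allBelow 100 fun i => Nat.beq (app t i) (app c i)

/-- A key of a table. -/
def keyT (t : ℕ) : ℕ := (List.range 100).foldl (fun acc i => 256 * acc + app t i) 0

/-- Distinct keys. -/
def distinctB : List ℕ → Bool
  | [] => true
  | a :: l => (l.all fun b => !Nat.beq a b) && distinctB l

/-- A listed group. -/
def chkListedT (gens els : List ℕ) (par : List (ℕ × ℕ)) (edge : List ℕ) : Bool :=
  Nat.blt 0 els.length && (sameB (els.getD 0 0) idTab &&
    (allBelow els.length (fun i =>
      (Nat.beq i 0 || (Nat.blt (par.getD i (0, 0)).1 gens.length && (Nat.blt (par.getD i (0, 0)).2 i &&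
        mulEq (gens.getD (par.getD i (0, 0)).1 0) (els.getD (par.getD i (0, 0)).2 0) (els.getD i 0)))) &&
      allBelow gens.length fun a =>
        Nat.blt (edge.getD (gens.length * i + a) 0) els.length &&
          mulEq (gens.getD a 0) (els.getD i 0) (els.getD (edge.getD (gens.length * i + a) 0) 0)) &&
    distinctB (els.map keyT)))

/-- A generator of the 100-point group. -/
def sGen (a : ℕ) : ℕ := HallJanko.strong.getD a 0

/-- The class of the involution has at least 315 members. -/
def chkClass : Bool :=
  Nat.beq clsTabs.length 315 && (sameB (clsTabs.getD 0 0) zTab &&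
    (allBelow 315 (fun i => Nat.beq i 0 || (Nat.blt (clsPar.getD i (0, 0)).1 i &&
      (Nat.blt (clsPar.getD i (0, 0)).2 4 &&
        allBelow 100 fun x => Nat.beq
          (app (clsTabs.getD i 0) (app (classGens.getD (clsPar.getD i (0, 0)).2 0) x))
          (app (classGens.getD (clsPar.getD i (0, 0)).2 0) (app (clsTabs.getD (clsPar.getD i (0, 0)).1 0) x))))) &&
    (classGens.all (fun t => Schreier.sift 100 HallJanko.chain [t]) &&
      distinctB (clsTabs.map keyT))))

/-- All tables used lie in the 100-point group. -/
def chkInGroup : Bool :=
  (uGenT ++ qGenT ++ kTwoT ++ [zTab] ++ closeSteps.map (fun s => s.2.2)).all fun t =>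
    Schreier.sift 100 HallJanko.chain [t]

/-- Centraliser facts. -/
def chkCentral : Bool :=
  (uGenT ++ qGenT ++ kTwoT).all (fun g => commB g zTab) &&
    (qGenT.all (fun q => uEltT.any (sameB q)) && (uEltT.any (sameB zTab) &&
    (uEltT.all (fun u => sameB u idTab || (sameB u zTab || !uGenT.all fun g => commB g u)) &&
    uEltT.all (fun u => qEltT.any (sameB u) || !qGenT.all fun q => commB q u))))

/-- The elements of 2-power order normalise the subgroup of order 32 and generate the centraliser. -/
def chkKTwo : Bool :=
  kTwoT.all (fun g => allBelow 100 (fun x =>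
      Nat.beq (app g (app g (app g (app g (app g (app g (app g (app g x)))))))) x) &&
    qGenT.all fun q => qEltT.any fun c => allBelow 100 fun x => Nat.beq (app c (app g x)) (app g (app q x))) &&
  allBelow kGens0.length (fun j => (kTwoWords.getD j []).all (fun a => Nat.blt a kTwoT.length) &&
    allBelow 100 fun x => Nat.beq (app ((kGens0.map Prod.fst).getD j 0) x)
      (Schreier.evalWord ((kTwoWords.getD j []).map fun a => kTwoT.getD a 0) x))

/-- The elements reached by conjugation. -/
def stepTab : ℕ → ℕ
  | 0 => zTab
  | i + 1 => (closeSteps.getD i (0, [], 0)).1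

/-- The generators of the Sylow subgroup lie in every strongly closed subgroup containing `z`. -/
def chkClose : Bool :=
  allBelow closeSteps.length (fun i =>
    (closeSteps.getD i (0, [], 0)).2.1.all (fun j => Nat.blt j (i + 1)) &&
      (uEltT.any (sameB (closeSteps.getD i (0, [], 0)).1) &&
        allBelow 100 fun x => Nat.beq
          (app (closeSteps.getD i (0, [], 0)).1 (app (closeSteps.getD i (0, [], 0)).2.2 x))
          (app (closeSteps.getD i (0, [], 0)).2.2
            (Schreier.evalWord ((closeSteps.getD i (0, [], 0)).2.1.map stepTab) x)))) &&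
  allBelow uGenT.length (fun j => (uGenWords.getD j []).all (fun a => Nat.blt a (closeSteps.length + 1)) &&
    allBelow 100 fun x => Nat.beq (app (uGenT.getD j 0) x)
      (Schreier.evalWord ((uGenWords.getD j []).map stepTab) x))

theorem uListed : chkListedT uGenT uEltT uParT uEdgeT = true := by decide +kernel

theorem qListed : chkListedT qGenT qEltT qParT qEdgeT = true := by decide +kernel

theorem chkClass_ok : chkClass = true := by decide +kernel

theorem chkInGroup_ok : chkInGroup = true := by decide +kernel

theorem chkCentral_ok : chkCentral = true := by decide +kernel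

theorem chkKTwo_ok : chkKTwo = true := by decide +kernel

theorem chkClose_ok : chkClose = true := by decide +kernel

theorem kChain_ok : Schreier.chainOK 100 kChain = true := by decide +kernel

theorem kChain_gens : Schreier.gensOK 100 (kGens0 ++ kGens1) = true := by decide +kernel

end CfsgLib.J2
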