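import Cfsg.Agent.IcoLeech.Reflections
import Cfsg.Agent.Mathieu.HallJanko
import Cfsg.Agent.JankoTwoThree.J2Data

/-!
# The tables of the four generating reflections
-/

set_option autoImplicit false

namespace CfsgLib.J2

open Cfsg.IcoLeech Cfsg.IcoLeech.Data

/-- The line of a generator. -/
def gLine (a : ℕ) : ℕ := gens.getD a 0

/-- The image of a line under a generator. -/
def sLine (a i : ℕ) : ℕ := (lineTabs.getD a 0 >>> (9 * i)) &&& 511

/-- A block. -/
def block (k : ℕ) : ℕ := blocks.getD k 0

/-- The image of a block under a generator. -/
def sBlock (a k : ℕ) : ℕ := Mathieu.app (blockTabs.getD a 0) k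

/-- The generators permute the lines by the tables. -/
def chkLines : Bool :=
  Mathieu.allBelow 4 fun a => Mathieu.allBelow 315 fun i =>
    Nat.blt (gLine a) 315 && (Nat.blt (sLine a i) 315 && (Nat.beq (sLine a (sLine a i)) i &&
      (code (ip (lineAt i) (lineAt (gLine a))) == 0 &&
        projKey (reflI (lineAt (gLine a)) (lineAt i)) == projKey (lineAt (sLine a i)))))

/-- The generators permute the blocks by the tables. -/
def chkBlocks : Bool :=
  Mathieu.allBelow 4 fun a => Mathieu.allBelow 100 fun k =>
    Nat.blt (sBlock a k) 100 && (Nat.beq (sBlock a (sBlock a k)) k &&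
      Mathieu.allBelow 315 fun i => (block k).testBit i == (block (sBlock a k)).testBit (sLine a i))

/-- The blocks separate the lines. -/
def chkSeparate : Bool :=
  Mathieu.allBelow 315 fun i => Mathieu.allBelow i fun j =>
    (List.range 100).any fun k => (block k).testBit i != (block k).testBit j

/-- The lines separate the blocks. -/
def chkBlocksDistinct : Bool :=
  Mathieu.allBelow 100 fun k => Mathieu.allBelow k fun l =>
    (List.range 315).any fun i => (block k).testBit i != (block l).testBit i

/-- The image of a point under a word in the generators. -/
def wBlock : List ℕ → ℕ → ℕ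
  | [], k => k
  | a :: w, k => sBlock a (wBlock w k)

/-- The strong generators are the given words, and the generators lie in the chain group. -/
def chkRange : Bool :=
  Mathieu.allBelow 5 (fun j => (strongWords.getD j []).all (fun a => Nat.blt a 4) &&
    Mathieu.allBelow 100 fun k =>
      Nat.beq (wBlock (strongWords.getD j []) k) (Mathieu.app (Mathieu.HallJanko.strong.getD j 0) k)) &&
    blockTabs.all fun t => Mathieu.Schreier.sift 100 Mathieu.HallJanko.chain [t]

theorem chkLines_ok : chkLines = true := by decide +kernel

theorem chkBlocks_ok : chkBlocks = true := by decide +kernel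

theorem chkSeparate_ok : chkSeparate = true := by decide +kernel

theorem chkBlocksDistinct_ok : chkBlocksDistinct = true := by decide +kernel

theorem chkRange_ok : chkRange = true := by decide +kernel

theorem lines_nodup : lines.Nodup := List.Nodup.of_map projKey lineKeys_nodup

end CfsgLib.J2
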