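import Cfsg.Agent.JankoTwoThree.J3PermCheck
import Cfsg.Agent.Schur.Collect
import Mathlib.GroupTheory.Perm.Basic

/-!
# The permutation group on 6156 points given by the certificate tables
-/

set_option autoImplicit false

namespace CfsgLib.J23

open CfsgLib.J1 CfsgLib.Schur

theorem invFacts {i : ℕ} (hi : i < 6156) :
    app 2 i < 6156 ∧ app 3 i < 6156 ∧ app 2 (app 0 i) = i ∧ app 0 (app 2 i) = i ∧
      app 3 (app 1 i) = i ∧ app 1 (app 3 i) = i := by
  have h := allLt_spec chkInv_all i hi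
  simp only [chkInv, Bool.and_eq_true] at h
  exact ⟨Nat.le_of_ble_eq_true h.1, Nat.le_of_ble_eq_true h.2.1, Nat.eq_of_beq_eq_true h.2.2.1,
    Nat.eq_of_beq_eq_true h.2.2.2.1, Nat.eq_of_beq_eq_true h.2.2.2.2.1,
    Nat.eq_of_beq_eq_true h.2.2.2.2.2⟩

/-- Permutations from a map and a section on a finite set. -/
noncomputable def permOf (f g : ℕ → ℕ) (hg : ∀ i, i < 6156 → g i < 6156)
    (h : ∀ i, i < 6156 → f (g i) = i) : Equiv.Perm (Fin 6156) :=
  Equiv.ofBijective (fun i : Fin 6156 => (⟨g i, hg i i.2⟩ : Fin 6156))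
    (Finite.injective_iff_bijective.1 fun i j e => Fin.ext (by
      rw [← h i i.2, ← h j j.2]; exact congrArg f (congrArg Fin.val e)))

theorem permOf_apply (f g : ℕ → ℕ) (hg : ∀ i, i < 6156 → g i < 6156)
    (h : ∀ i, i < 6156 → f (g i) = i) (i : Fin 6156) : (permOf f g hg h i : ℕ) = g i := rfl

/-- The permutation of the letter 2. -/
noncomputable def perm2 : Equiv.Perm (Fin 6156) :=
  permOf (app 0) (app 2) (fun _ h => (invFacts h).1) fun _ h => (invFacts h).2.2.2.1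

/-- The permutation of the letter 3. -/
noncomputable def perm3 : Equiv.Perm (Fin 6156) :=
  permOf (app 1) (app 3) (fun _ h => (invFacts h).2.1) fun _ h => (invFacts h).2.2.2.2.2

theorem app_section {f g : ℕ → ℕ} {hg : ∀ i, i < 6156 → g i < 6156}
    {h : ∀ i, i < 6156 → f (g i) = i} (i : Fin 6156) :
    ((permOf f g hg h)⁻¹ i : ℕ) = f i := by
  have e : g ((permOf f g hg h)⁻¹ i : ℕ) = i := by
    rw [← permOf_apply f g hg h]; simp
  conv_rhs => rw [← e]
  rw [h _ ((permOf f g hg h)⁻¹ i).2]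

/-- The permutation of a letter. -/
noncomputable def pgen : ℕ → Equiv.Perm (Fin 6156)
  | 0 => perm2⁻¹
  | 1 => perm3⁻¹
  | 2 => perm2
  | _ => perm3

theorem pgen_apply : ∀ (a : ℕ) (i : Fin 6156), (pgen a i : ℕ) = app a i
  | 0, i => app_section i
  | 1, i => app_section i
  | 2, _ => rfl
  | _ + 3, _ => rfl

theorem pgen_invL : ∀ a : ℕ, pgen (invL a) = (pgen a)⁻¹
  | 0 => (inv_inv perm2).symm
  | 1 => (inv_inv perm3).symm
  | 2 => rfl
  | _ + 3 => rfl

theorem ev_wInv_of {G : Type*} [Group G] (y : ℕ → G) (h : ∀ a, y (invL a) = (y a)⁻¹) :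
    ∀ w, Pc.ev y (wInv w) = (Pc.ev y w)⁻¹
  | [] => by simp [wInv]
  | a :: w => by
    rw [show wInv (a :: w) = wInv w ++ [invL a] by simp [wInv], Pc.ev_append, ev_wInv_of y h w,
      Pc.ev_cons, Pc.ev_cons, Pc.ev_nil, mul_one, h, mul_inv_rev]

theorem ev_wPow {G : Type*} [Monoid G] (y : ℕ → G) (w : List ℕ) :
    ∀ k, Pc.ev y (wPow w k) = Pc.ev y w ^ k
  | 0 => by simp [wPow]
  | k + 1 => by rw [wPow, Pc.ev_append, ev_wPow y w k, pow_succ']

theorem pev_wInv (w : List ℕ) : Pc.ev pgen (wInv w) = (Pc.ev pgen w)⁻¹ := ev_wInv_of pgen pgen_invL w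

theorem pev_apply : ∀ (w : List ℕ) (i : Fin 6156), (Pc.ev pgen w i : ℕ) = appW w i
  | [], _ => rfl
  | a :: w, i => by
    rw [Pc.ev_cons, Equiv.Perm.mul_apply, pgen_apply, pev_apply w i, appW, frc_eq]

/-- `J₃` as a group of permutations of 6156 points. -/
noncomputable def J3P : Subgroup (Equiv.Perm (Fin 6156)) := Subgroup.closure {pgen 0, pgen 1}

theorem pgen_mem : ∀ a : ℕ, pgen a ∈ J3P
  | 0 => Subgroup.subset_closure (Or.inl rfl)
  | 1 => Subgroup.subset_closure (Or.inr rfl)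
  | 2 => by
    rw [show pgen 2 = (pgen 0)⁻¹ from pgen_invL 0]; exact inv_mem (pgen_mem 0)
  | n + 3 => by
    rw [show pgen (n + 3) = (pgen 1)⁻¹ from pgen_invL 1]; exact inv_mem (pgen_mem 1)

theorem pev_mem (w : List ℕ) : Pc.ev pgen w ∈ J3P := Pc.ev_mem _ fun a _ => pgen_mem a

/-- A word as an element of `J3P`. -/
noncomputable def pW (w : List ℕ) : J3P := ⟨Pc.ev pgen w, pev_mem w⟩

theorem pW_nil : pW [] = 1 := rfl

theorem pW_append (u w : List ℕ) : pW (u ++ w) = pW u * pW w := Subtype.ext (Pc.ev_append _ u w)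

theorem pW_wInv (w : List ℕ) : pW (wInv w) = (pW w)⁻¹ := Subtype.ext (pev_wInv w)

theorem pW_wPow (w : List ℕ) (k : ℕ) : pW (wPow w k) = pW w ^ k :=
  Subtype.ext ((ev_wPow pgen w k).trans (by rw [Subgroup.coe_pow]; rfl))

theorem closure_pW : Subgroup.closure {pW [0], pW [1]} = (⊤ : Subgroup J3P) := by
  refine Subgroup.map_injective J3P.subtype_injective ?_
  rw [MonoidHom.map_closure, Set.image_pair, ← MonoidHom.range_eq_map, Subgroup.range_subtype]
  show Subgroup.closure {Pc.ev pgen [0], Pc.ev pgen [1]} = _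
  simp [Pc.ev_cons, J3P]

end CfsgLib.J23
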