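import Cfsg.Agent.JankoTwoThree.J3Group
import Cfsg.Agent.JankoTwoThree.J3Perm

/-!
# The action of `3·J₃` on 6156 points, its kernel and its centre

`threeJ3 F ω` acts on the cosets of `j3H`; the kernel consists of the three scalars and is the
centre, so `J3 F ω` is the permutation group `J3P`.
-/

set_option autoImplicit false

namespace CfsgLib.J23

open Cfsg.Spor CfsgLib.J1 CfsgLib.Schur

variable {F : Type*} [Field F] {ω : F} [CharP F 2] (hω : ω ^ 2 + ω + 1 = 0)
include hω

attribute [local irreducible] appW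

theorem wordsFacts : mul (letM 0) (letM 2) = mOne ∧ mul (letM 1) (letM 3) = mOne ∧
    (∀ a : Fin 2, wordM (hWord a) = s1Tab.get a ∧ wordM (kWord a) = s2Tab.get a ∧
      appW (hWord a) 0 = 0 ∧ appW (kWord a) 2945 = 2945) ∧
    wordM (commProd scalWord) = ⟨0, mOne.a⟩ ∧ kTab.get 26 = ⟨0, mOne.a⟩ ∧
      kTab.get 179 = ⟨mOne.a, mOne.a⟩ := by
  have h := chkWords_ok
  simp only [chkWords, Bool.and_eq_true] at h
  obtain ⟨h1, h2, h3, h4, h5, h6, h7, h8, h9, h10, h11, h12, h13⟩ := h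
  refine ⟨eq_of_eqb h1, eq_of_eqb h2, fun a => ?_, eq_of_eqb h11, eq_of_eqb h12, eq_of_eqb h13⟩
  match a with
  | 0 =>
    rw [show ((0 : Fin 2) : ℕ) = 0 from rfl]
    exact ⟨eq_of_eqb h3, eq_of_eqb h5, Nat.eq_of_beq_eq_true h7, Nat.eq_of_beq_eq_true h9⟩
  | 1 =>
    rw [show ((1 : Fin 2) : ℕ) = 1 from rfl]
    exact ⟨eq_of_eqb h4, eq_of_eqb h6, Nat.eq_of_beq_eq_true h8, Nat.eq_of_beq_eq_true h10⟩

/-- The matrix of a letter, as a unit. -/
def lgen : ℕ → Matrix.GeneralLinearGroup F9 F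
  | 0 => sG hω 0
  | 1 => sG hω 1
  | 2 => (sG hω 0)⁻¹
  | _ => (sG hω 1)⁻¹

theorem lgen_mem : ∀ a : ℕ, lgen hω a ∈ threeJ3 F ω
  | 0 => sG_mem hω 0
  | 1 => sG_mem hω 1
  | 2 => inv_mem (sG_mem hω 0)
  | _ + 3 => inv_mem (sG_mem hω 1)

theorem Rep.inv {P Q : M9} {g : Matrix.GeneralLinearGroup F9 F} (hg : Rep ω P g)
    (h : J23.mul P Q = mOne) : Rep ω Q g⁻¹ := by
  rw [Rep]
  refine Units.inv_eq_of_mul_eq_one_right ?_
  rw [hg, ← dec_mul hω, h, dec_mOne]

theorem rep_lgen : ∀ a : ℕ, Rep ω (letM a) (lgen hω a)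
  | 0 => rep_sG hω 0
  | 1 => rep_sG hω 1
  | 2 => (rep_sG hω 0).inv hω (wordsFacts hω).1
  | _ + 3 => (rep_sG hω 1).inv hω (wordsFacts hω).2.1

theorem rep_wordM : ∀ w : List ℕ, Rep ω (wordM w) (Pc.ev (lgen hω) w)
  | [] => by rw [wordM, Pc.ev_nil]; exact rep_one
  | a :: w => by
    rw [wordM, frcM_eq, Pc.ev_cons]
    exact (rep_lgen hω a).mul hω (rep_wordM w)

/-- A letter as an element of the group. -/
def tgen (a : ℕ) : threeJ3 F ω := ⟨lgen hω a, lgen_mem hω a⟩

theorem coe_tev : ∀ w : List ℕ,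
    ((Pc.ev (tgen hω) w : threeJ3 F ω) : Matrix.GeneralLinearGroup F9 F) = Pc.ev (lgen hω) w
  | [] => rfl
  | a :: w => by rw [Pc.ev_cons, Pc.ev_cons, Subgroup.coe_mul, coe_tev w]; rfl

theorem genGroup_le : genGroup hω ≤ threeJ3 F ω := (genGroup_eq hω).le

/-- A coset representative as an element of the group. -/
noncomputable def tT (i : Fin 6156) : threeJ3 F ω := ⟨tG hω i, genGroup_le hω (tG_mem hω i)⟩

/-- `j3H` inside the group. -/
noncomputable def jH : Subgroup (threeJ3 F ω) := (j3H hω).subgroupOf (threeJ3 F ω)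

theorem cosetMap_bijective :
    Function.Bijective fun i : Fin 6156 => (QuotientGroup.mk (tT hω i) : threeJ3 F ω ⧸ jH hω) := by
  refine ⟨fun i j e => key0_injective hω ?_, fun q => ?_⟩
  · have h := QuotientGroup.eq.1 e
    rw [jH, Subgroup.mem_subgroupOf, Subgroup.coe_mul, Subgroup.coe_inv] at h
    simp only [Function.comp_apply]
    rw [← key0_mul_of_mem hω (tG hω i) h]
    exact congrArg _ (mul_inv_cancel_left _ _)
  · obtain ⟨⟨g, hg⟩, rfl⟩ := QuotientGroup.mk_surjective q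
    obtain ⟨i, k, hk, e⟩ := (threeJ3_spec hω).1 g hg
    refine ⟨i, QuotientGroup.eq.2 ?_⟩
    rw [jH, Subgroup.mem_subgroupOf]
    show (tG hω i)⁻¹ * g ∈ j3H hω
    rw [e, inv_mul_cancel_left]; exact hk

/-- Points and cosets. -/
noncomputable def cosetEquiv : Fin 6156 ≃ threeJ3 F ω ⧸ jH hω :=
  Equiv.ofBijective _ (cosetMap_bijective hω)

/-- The action on 6156 points. -/
noncomputable def act : threeJ3 F ω →* Equiv.Perm (Fin 6156) :=
  (cosetEquiv hω).symm.permCongrHom.toMonoidHom.comp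
    (MulAction.toPermHom (threeJ3 F ω) (threeJ3 F ω ⧸ jH hω))

theorem act_eq_iff {g : threeJ3 F ω} {i j : Fin 6156} :
    act hω g i = j ↔ (tG hω j)⁻¹ * ((g : Matrix.GeneralLinearGroup F9 F) * tG hω i) ∈ j3H hω := by
  show (cosetEquiv hω).symm (g • cosetEquiv hω i) = j ↔ _
  rw [Equiv.symm_apply_eq, eq_comm, cosetEquiv, Equiv.ofBijective_apply, Equiv.ofBijective_apply,
    MulAction.Quotient.smul_mk, QuotientGroup.eq, jH, Subgroup.mem_subgroupOf]
  rfl

theorem e0_app {i : ℕ} (hi : i < 6156) {a : ℕ} (ha : a < 2) :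
    e0Tab.get (2 * i + a) / 24480 = app a i := by
  have h := allLt_spec chkApp_all i hi
  simp only [chkApp, Bool.and_eq_true] at h
  interval_cases a
  · simpa using Nat.eq_of_beq_eq_true h.1
  · exact Nat.eq_of_beq_eq_true h.2

theorem act_tgen_lt {a : ℕ} (ha : a < 2) : act hω (tgen hω a) = pgen a := by
  refine Equiv.ext fun i => (act_eq_iff hω).2 ?_
  have hlt : 2 * (i : ℕ) + a < 12312 := by omega
  have hj : (pgen a i : ℕ) = e0Tab.get (2 * (i : ℕ) + a) / 24480 := by
    rw [pgen_apply, e0_app hω i.2 ha]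
  have he : edgeElt hω ⟨_, hlt⟩ ∈ j3H hω := by
    rw [(rep_edgeElt hω ⟨_, hlt⟩).unique (rep_hElt hω (Nat.mod_lt _ (by norm_num : 24480 > 0)))]
    exact mul_mem (uG_mem hω _) (j3K_le hω (kG_mem hω _))
  convert he using 1
  rw [edgeElt]
  congr 2
  · exact congrArg _ (Fin.ext hj)
  · interval_cases a
    · simp only [Nat.add_zero, Nat.mul_mod_right]; rfl
    · simp only [Nat.mul_add_mod]; rfl
  · exact congrArg _ (Fin.ext (by simp only; omega))

theorem act_tgen : ∀ a : ℕ, act hω (tgen hω a) = pgen a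
  | 0 => act_tgen_lt hω (by norm_num)
  | 1 => act_tgen_lt hω (by norm_num)
  | 2 => by
    rw [show tgen hω 2 = (tgen hω 0)⁻¹ from rfl, map_inv, act_tgen_lt hω (by norm_num)]
    exact (pgen_invL 0).symm
  | n + 3 => by
    rw [show tgen hω (n + 3) = (tgen hω 1)⁻¹ from rfl, map_inv, act_tgen_lt hω (by norm_num)]
    exact (pgen_invL 1).symm

theorem act_tev : ∀ w : List ℕ, act hω (Pc.ev (tgen hω) w) = Pc.ev pgen w
  | [] => map_one _
  | a :: w => by rw [Pc.ev_cons, Pc.ev_cons, map_mul, act_tgen, act_tev w]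

theorem act_tT_zero (i : Fin 6156) : act hω (tT hω i) 0 = i := (act_eq_iff hω).2 (by
  rw [tG_zero, mul_one]
  show (tG hω i)⁻¹ * tG hω i ∈ _
  rw [inv_mul_cancel]; exact one_mem _)

theorem act_zero_iff {g : threeJ3 F ω} :
    act hω g 0 = 0 ↔ (g : Matrix.GeneralLinearGroup F9 F) ∈ j3H hω := by
  rw [act_eq_iff, tG_zero, inv_one, one_mul, mul_one]

theorem closure_tgen : Subgroup.closure {tgen hω 0, tgen hω 1} = (⊤ : Subgroup (threeJ3 F ω)) := by
  refine Subgroup.map_injective (threeJ3 F ω).subtype_injective ?_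
  rw [MonoidHom.map_closure, Set.image_pair, ← MonoidHom.range_eq_map, Subgroup.range_subtype]
  refine Eq.trans ?_ (genGroup_eq hω)
  rw [genGroup]
  congr 1
  ext x
  simp only [Set.mem_insert_iff, Set.mem_singleton_iff, Set.mem_range, Fin.exists_fin_two]
  constructor <;> rintro (rfl | rfl) <;> simp [tgen, lgen]

theorem range_act : (act hω).range = J3P := by
  rw [MonoidHom.range_eq_map, ← closure_tgen hω, MonoidHom.map_closure, Set.image_pair,
    act_tgen, act_tgen, J3P]

/-- The generators of the subgroup are given by their words. -/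
theorem hGen_eq (a : Fin 2) : hGen hω a = Pc.ev (lgen hω) (hWord a) := by
  have h := rep_wordM hω (hWord a)
  rw [((wordsFacts hω).2.2.1 a).1] at h
  exact (rep_hGen hω a).unique h

theorem kGen_eq (a : Fin 2) : kGen hω a = Pc.ev (lgen hω) (kWord a) := by
  have h := rep_wordM hω (kWord a)
  rw [((wordsFacts hω).2.2.1 a).2.1] at h
  exact (rep_kGen hω a).unique h

theorem uG_step {i : ℕ} (hi : i < 85) (h0 : i ≠ 0) : ∃ (h : par1Tab.get i / 2 < i),
    uG hω ⟨i, hi⟩ = hGen hω ⟨par1Tab.get i % 2, Nat.mod_lt _ (by norm_num)⟩ *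
      uG hω ⟨par1Tab.get i / 2, by omega⟩ := by
  have hP := allLt_spec chkI1_all i hi
  simp only [chkI1, Bool.or_eq_true, Bool.and_eq_true] at hP
  rcases hP.1 with h | ⟨hlt, hc⟩
  · exact absurd (Nat.eq_of_beq_eq_true h) h0
  · have hlt' := lt_of_blt hlt
    refine ⟨hlt', ?_⟩
    have he := allLt_spec chkE1_all (par1Tab.get i) (by omega)
    simp only [chkE1, Bool.and_eq_true] at he
    rw [Nat.eq_of_beq_eq_true hc, show 288 * i / 288 = i by omega,
      show 288 * i % 288 = 0 by omega] at he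
    have h1 := (rep_hGen hω ⟨par1Tab.get i % 2, Nat.mod_lt _ (by norm_num)⟩).mul hω
      (rep_uG hω ⟨par1Tab.get i / 2, by omega⟩)
    rw [eq_of_eqb (show eqb _ _ = true from he.2)] at h1
    exact (rep_uG hω ⟨i, hi⟩).unique h1

theorem kG_step {i : ℕ} (hi : i < 288) (h0 : i ≠ 0) : ∃ (h : par2Tab.get i / 2 < i),
    kG hω ⟨i, hi⟩ = kGen hω ⟨par2Tab.get i % 2, Nat.mod_lt _ (by norm_num)⟩ *
      kG hω ⟨par2Tab.get i / 2, by omega⟩ := by
  have hP := allLt_spec chkI2_all i hi
  simp only [chkI2, Bool.or_eq_true, Bool.and_eq_true] at hP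
  rcases hP.1 with h | ⟨hlt, hc⟩
  · exact absurd (Nat.eq_of_beq_eq_true h) h0
  · have hlt' := lt_of_blt hlt
    refine ⟨hlt', ?_⟩
    have he := allLt_spec chkE2_all (par2Tab.get i) (by omega)
    simp only [chkE2, Bool.and_eq_true] at he
    rw [Nat.eq_of_beq_eq_true hc] at he
    have h1 := (rep_kGen hω ⟨par2Tab.get i % 2, Nat.mod_lt _ (by norm_num)⟩).mul hω
      (rep_kG hω ⟨par2Tab.get i / 2, by omega⟩)
    rw [eq_of_eqb he.2] at h1
    exact (rep_kG hω ⟨i, hi⟩).unique h1

/-- A member of `j3H` as an element of the group. -/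
noncomputable def inT (g : Matrix.GeneralLinearGroup F9 F) (hg : g ∈ j3H hω) : threeJ3 F ω :=
  ⟨g, genGroup_le hω (j3H_le hω hg)⟩

theorem act_hGen (a : Fin 2) (h : hGen hω a ∈ j3H hω) :
    act hω (inT hω _ h) = Pc.ev pgen (hWord a) := by
  rw [show inT hω _ h = Pc.ev (tgen hω) (hWord a) from
    Subtype.ext ((hGen_eq hω a).trans (coe_tev hω _).symm), act_tev]

theorem act_uG_point : ∀ (i : ℕ) (hi : i < 85),
    (act hω (inT hω _ (uG_mem hω ⟨i, hi⟩)) ⟨2945, by norm_num⟩ : ℕ) = imgUTab.get i := by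
  intro i
  induction i using Nat.strong_induction_on with
  | _ i ih =>
    intro hi
    have hC := allLt_spec chkImgU_all i hi
    simp only [chkImgU, Bool.and_eq_true] at hC
    by_cases h0 : i = 0
    · subst h0
      rw [show inT hω _ (uG_mem hω ⟨0, hi⟩) = 1 from Subtype.ext (uG_zero hω), map_one,
        Nat.eq_of_beq_eq_true (show Nat.beq (imgUTab.get 0) 2945 = true from hC.2)]
      rfl
    · obtain ⟨hlt, he⟩ := uG_step hω hi h0
      have hb : Nat.beq i 0 = false := by
        cases hb : Nat.beq i 0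
        · rfl
        · exact absurd (Nat.eq_of_beq_eq_true hb) h0
      rw [hb, cond_false] at hC
      have hp : par1Tab.get i / 2 < 85 := by omega
      have hh : hGen hω ⟨par1Tab.get i % 2, Nat.mod_lt _ (by norm_num)⟩ ∈ j3H hω :=
        Subgroup.subset_closure ⟨_, rfl⟩
      rw [show inT hω _ (uG_mem hω ⟨i, hi⟩) = inT hω _ hh *
            inT hω _ (uG_mem hω ⟨par1Tab.get i / 2, hp⟩) from Subtype.ext he,
        map_mul, act_hGen, Equiv.Perm.mul_apply, pev_apply, ih _ hlt hp]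
      exact Nat.eq_of_beq_eq_true hC.2

theorem act_kG_point : ∀ (i : ℕ) (hi : i < 288) (p : Fin 6156),
    ((p : ℕ) = 0 →
      (act hω (inT hω _ (j3K_le hω (kG_mem hω ⟨i, hi⟩))) p : ℕ) = (imgKTab.get i).1) ∧
    ((p : ℕ) = 2945 →
      (act hω (inT hω _ (j3K_le hω (kG_mem hω ⟨i, hi⟩))) p : ℕ) = (imgKTab.get i).2.1) ∧
    ((p : ℕ) = 1 →
      (act hω (inT hω _ (j3K_le hω (kG_mem hω ⟨i, hi⟩))) p : ℕ) = (imgKTab.get i).2.2) := by
  intro i
  induction i using Nat.strong_induction_on with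
  | _ i ih =>
    intro hi p
    have hC := allLt_spec chkImgK_all i hi
    simp only [chkImgK, Bool.and_eq_true] at hC
    by_cases h0 : i = 0
    · subst h0
      have h := hC.1
      rw [show Nat.beq 0 0 = true from rfl, cond_true, tEq] at h
      simp only [Bool.and_eq_true] at h
      simp only [show inT hω _ (j3K_le hω (kG_mem hω ⟨0, hi⟩)) = 1 from Subtype.ext (kG_zero hω),
        map_one, Equiv.Perm.one_apply, Nat.eq_of_beq_eq_true h.1, Nat.eq_of_beq_eq_true h.2.1,
        Nat.eq_of_beq_eq_true h.2.2]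
      exact ⟨id, id, id⟩
    · obtain ⟨hlt, he⟩ := kG_step hω hi h0
      have hb : Nat.beq i 0 = false := by
        cases hb : Nat.beq i 0
        · rfl
        · exact absurd (Nat.eq_of_beq_eq_true hb) h0
      have h := hC.1
      rw [hb, cond_false, tEq] at h
      simp only [Bool.and_eq_true] at h
      have hp : par2Tab.get i / 2 < 288 := by omega
      have hk : kGen hω ⟨par2Tab.get i % 2, Nat.mod_lt _ (by norm_num)⟩ ∈ j3H hω :=
        j3K_le hω (Subgroup.subset_closure ⟨_, rfl⟩)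
      obtain ⟨i1, i2, i3⟩ := ih _ hlt hp p
      simp only [show inT hω _ (j3K_le hω (kG_mem hω ⟨i, hi⟩)) = inT hω _ hk *
          inT hω _ (j3K_le hω (kG_mem hω ⟨par2Tab.get i / 2, hp⟩)) from Subtype.ext he, map_mul,
        show inT hω _ hk = Pc.ev (tgen hω) (kWord (par2Tab.get i % 2)) from
          Subtype.ext ((kGen_eq hω _).trans (coe_tev hω _).symm), act_tev, Equiv.Perm.mul_apply,
        pev_apply]
      refine ⟨fun e => ?_, fun e => ?_, fun e => ?_⟩
      · rw [i1 e]; exact Nat.eq_of_beq_eq_true h.1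
      · rw [i2 e]; exact Nat.eq_of_beq_eq_true h.2.1
      · rw [i3 e]; exact Nat.eq_of_beq_eq_true h.2.2

/-- An element fixing the three base points is one of three elements of the bottom group. -/
theorem exists_kG_of_fix {g : threeJ3 F ω} (h : ∀ p : Fin 6156,
    (p : ℕ) = 0 ∨ (p : ℕ) = 2945 ∨ (p : ℕ) = 1 → act hω g p = p) :
    ∃ k : Fin 288, (g : Matrix.GeneralLinearGroup F9 F) = kG hω k ∧
      ((k : ℕ) = 0 ∨ (k : ℕ) = 26 ∨ (k : ℕ) = 179) := by
  obtain ⟨⟨u, hu⟩, k, e⟩ := (j3H_spec hω).1 g ((act_zero_iff hω).1 (h 0 (Or.inl rfl)))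
  have hg : g = inT hω _ (uG_mem hω ⟨u, hu⟩) * inT hω _ (j3K_le hω (kG_mem hω k)) :=
    Subtype.ext e
  let p : Fin 6156 := ⟨2945, by norm_num⟩
  have hkp : act hω (inT hω _ (j3K_le hω (kG_mem hω k))) p = p := by
    have hfix : ∀ a : Fin 2, Pc.ev pgen (kWord a) p = p := fun a => Fin.ext (by
      rw [pev_apply]; exact ((wordsFacts hω).2.2.1 a).2.2.2)
    suffices H : ∀ x (hx : x ∈ j3K hω), act hω (inT hω x (j3K_le hω hx)) p = p from H _ (kG_mem hω k)
    intro x hx
    induction hx using Subgroup.closure_induction with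
    | mem x hx =>
      obtain ⟨a, rfl⟩ := hx
      rw [show inT hω (kGen hω a) _ = Pc.ev (tgen hω) (kWord a) from
        Subtype.ext ((kGen_eq hω a).trans (coe_tev hω _).symm), act_tev]
      exact hfix a
    | one => rw [show inT hω 1 _ = 1 from rfl, map_one]; rfl
    | mul x y hx hy ihx ihy =>
      rw [show inT hω (x * y) _ = inT hω x (j3K_le hω hx) * inT hω y (j3K_le hω hy) from rfl,
        map_mul, Equiv.Perm.mul_apply, ihy, ihx]
    | inv x hx ihx =>
      rw [show inT hω x⁻¹ _ = (inT hω x (j3K_le hω hx))⁻¹ from rfl, map_inv,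
        Equiv.Perm.inv_eq_iff_eq, ihx]
  have hu0 : u = 0 := by
    have h1 : act hω g p = p := h p (Or.inr (Or.inl rfl))
    rw [hg, map_mul, Equiv.Perm.mul_apply, hkp] at h1
    have h2 := congrArg Fin.val h1
    rw [act_uG_point] at h2
    have hC := allLt_spec chkImgU_all u hu
    have h0 := allLt_spec chkImgU_all 0 (by norm_num)
    simp only [chkImgU, Bool.and_eq_true] at hC h0
    rw [← Nat.eq_of_beq_eq_true hC.1, h2]
    show findU.search 2945 = 0
    rw [
      ← Nat.eq_of_beq_eq_true (show Nat.beq (imgUTab.get 0) 2945 = true from h0.2),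
      Nat.eq_of_beq_eq_true h0.1]
  subst hu0
  have hgk : g = inT hω _ (j3K_le hω (kG_mem hω k)) := Subtype.ext (by
    rw [e, show uG hω ⟨0, hu⟩ = 1 from uG_zero hω, one_mul]; rfl)
  refine ⟨k, congrArg Subtype.val hgk, ?_⟩
  have hC := (Bool.and_eq_true_iff.1 (allLt_spec chkImgK_all k k.2)).2
  have ht : tEq (imgKTab.get k) (0, 2945, 1) = true := by
    simp only [tEq, Bool.and_eq_true]
    have hb : ∀ a b : ℕ, a = b → Nat.beq a b = true := fun a b e => e ▸ Nat.beq_refl a
    refine ⟨hb _ _ ?_, hb _ _ ?_, hb _ _ ?_⟩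
    · rw [← (act_kG_point hω k k.2 0).1 rfl, ← hgk, h 0 (Or.inl rfl)]; rfl
    · rw [← (act_kG_point hω k k.2 p).2.1 rfl, ← hgk, h p (Or.inr (Or.inl rfl))]
    · rw [← (act_kG_point hω k k.2 ⟨1, by norm_num⟩).2.2 rfl, ← hgk,
        h _ (Or.inr (Or.inr rfl))]
  rw [ht] at hC
  simp only [Bool.not_true, Bool.false_or, Bool.or_eq_true] at hC
  rcases hC with h | h | h
  · exact Or.inl (Nat.eq_of_beq_eq_true h)
  · exact Or.inr (Or.inl (Nat.eq_of_beq_eq_true h))
  · exact Or.inr (Or.inr (Nat.eq_of_beq_eq_true h))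

omit hω [CharP F 2] in
theorem dec_scalar (ω : F) (x y : Bool) :
    dec ω ⟨cond x mOne.a 0, cond y mOne.a 0⟩ = (ev ω x y) • (1 : Matrix F9 F9 F) := by
  ext w z
  have h : ∀ w z : F9, mOne.a.testBit (9 * idx w + idx z) = decide (w = z) := by decide +kernel
  rw [dec, Matrix.smul_apply, Matrix.one_apply]
  cases x <;> cases y <;> by_cases e : w = z <;> simp [h, e, ev]

theorem kG_scalar (k : Fin 288) (hk : (k : ℕ) = 0 ∨ (k : ℕ) = 26 ∨ (k : ℕ) = 179) :
    ∃ c : F, (kG hω k : Matrix F9 F9 F) = c • (1 : Matrix F9 F9 F) := by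
  rcases hk with h | h | h
  · refine ⟨1, ?_⟩
    rw [show k = 0 from Fin.ext h, kG_zero, Units.val_one, one_smul]
  · have hR := rep_kG hω k
    rw [h, (wordsFacts hω).2.2.2.2.1] at hR
    exact ⟨_, hR.trans (dec_scalar ω false true)⟩
  · have hR := rep_kG hω k
    rw [h, (wordsFacts hω).2.2.2.2.2] at hR
    exact ⟨_, hR.trans (dec_scalar ω true true)⟩

theorem mem_center_of_scalar {g : threeJ3 F ω} {c : F}
    (hc : ((g : Matrix.GeneralLinearGroup F9 F) : Matrix F9 F9 F) = c • (1 : Matrix F9 F9 F)) :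
    g ∈ Subgroup.center (threeJ3 F ω) := Subgroup.mem_center_iff.2 fun x => Subtype.ext (Units.ext (by
  rw [Subgroup.coe_mul, Subgroup.coe_mul, Units.val_mul, Units.val_mul, hc, Matrix.mul_smul,
    Matrix.smul_mul, mul_one, one_mul]))

theorem ker_act_eq_center : (act hω).ker = Subgroup.center (threeJ3 F ω) := by
  refine le_antisymm (fun g hg => ?_) (fun g hg => MonoidHom.mem_ker.2 (Equiv.ext fun i => ?_))
  · obtain ⟨k, hgk, hk⟩ := exists_kG_of_fix hω (g := g) fun p _ => by
      rw [MonoidHom.mem_ker.1 hg]; rfl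
    obtain ⟨c, hc⟩ := kG_scalar hω k hk
    exact mem_center_of_scalar hω (c := c) (by rw [hgk, hc])
  · rw [Equiv.Perm.one_apply]
    have h0 : act hω g 0 = 0 := by
      by_contra hne
      set p := act hω g 0 with hp
      have hfix : ∀ a : Fin 2, appW (hWord a) (p : ℕ) = p := by
        intro a
        have h0a : Pc.ev pgen (hWord a) 0 = 0 := Fin.ext (by
          rw [pev_apply]; exact ((wordsFacts hω).2.2.1 a).2.2.1)
        rw [← pev_apply, ← act_tev hω, hp, ← Equiv.Perm.mul_apply, ← map_mul,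
          Subgroup.mem_center_iff.1 hg, map_mul, Equiv.Perm.mul_apply, act_tev, h0a]
      have hM := allLt_spec chkMove_all p p.2
      simp only [chkMove, hfix 0, hfix 1] at hM
      have h00 : appW (hWord 0) (p : ℕ) = p := hfix 0
      have h01 : appW (hWord 1) (p : ℕ) = p := hfix 1
      rw [h00, h01, Nat.beq_refl, Bool.and_self, Bool.not_true, Bool.or_false] at hM
      exact hne (Fin.ext (Nat.eq_of_beq_eq_true hM))
    calc act hω g i = act hω g (act hω (tT hω i) 0) := by rw [act_tT_zero]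
      _ = act hω (tT hω i) (act hω g 0) := by
        rw [← Equiv.Perm.mul_apply, ← map_mul, ← Subgroup.mem_center_iff.1 hg, map_mul,
          Equiv.Perm.mul_apply]
      _ = i := by rw [h0, act_tT_zero]

theorem card_center_threeJ3 : Nat.card (Subgroup.center (threeJ3 F ω)) = 3 := by
  let z : Fin 3 → Fin 288 := ![0, 26, 179]
  have hz : ∀ j, ((z j : Fin 288) : ℕ) = 0 ∨ (z j : ℕ) = 26 ∨ (z j : ℕ) = 179 := by
    intro j; fin_cases j <;> simp [z]
  let f : Fin 3 → Subgroup.center (threeJ3 F ω) := fun j =>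
    ⟨⟨kG hω (z j), genGroup_le hω (j3H_le hω (j3K_le hω (kG_mem hω _)))⟩,
      mem_center_of_scalar hω (kG_scalar hω _ (hz j)).choose_spec⟩
  refine ((Nat.card_eq_of_bijective f ⟨fun i j e => ?_, fun ⟨g, hg⟩ => ?_⟩).symm).trans
    (Nat.card_fin 3)
  · have := kG_injective hω (congrArg (fun x : Subgroup.center (threeJ3 F ω) =>
      ((x : threeJ3 F ω) : Matrix.GeneralLinearGroup F9 F)) e)
    revert this
    fin_cases i <;> fin_cases j <;> simp [z, Fin.ext_iff]
  · obtain ⟨k, hgk, hk⟩ := exists_kG_of_fix hω (g := g) fun p _ => by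
      rw [MonoidHom.mem_ker.1 ((ker_act_eq_center hω).symm ▸ hg)]; rfl
    rcases hk with h | h | h
    · rw [show k = z 0 from Fin.ext h] at hgk; exact ⟨0, Subtype.ext (Subtype.ext hgk.symm)⟩
    · rw [show k = z 1 from Fin.ext h] at hgk; exact ⟨1, Subtype.ext (Subtype.ext hgk.symm)⟩
    · rw [show k = z 2 from Fin.ext h] at hgk; exact ⟨2, Subtype.ext (Subtype.ext hgk.symm)⟩

/-- `J₃` is the permutation group on 6156 points. -/
noncomputable def equivP : J3 F ω ≃* J3P :=
  ((QuotientGroup.quotientMulEquivOfEq (ker_act_eq_center hω)).symm.trans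
    (QuotientGroup.quotientKerEquivRange (act hω))).trans (MulEquiv.subgroupCongr (range_act hω))

/-- The scalar of order 3 is a product of commutators. -/
theorem center_le_commutator : Subgroup.center (threeJ3 F ω) ≤ commutator (threeJ3 F ω) := by
  have hcomm : ∀ l : List (List ℕ × List ℕ),
      Pc.ev (tgen hω) (commProd l) ∈ commutator (threeJ3 F ω) := by
    intro l
    induction l with
    | nil => exact one_mem _
    | cons q l ih =>
      obtain ⟨u, v⟩ := q
      rw [commProd, Pc.ev_append]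
      refine mul_mem ?_ ih
      rw [wComm, Pc.ev_append, Pc.ev_append, Pc.ev_append, ev_wInv_of, ev_wInv_of]
      · have h := Subgroup.commutator_mem_commutator (H₁ := (⊤ : Subgroup (threeJ3 F ω)))
          (H₂ := (⊤ : Subgroup (threeJ3 F ω))) (Subgroup.mem_top (Pc.ev (tgen hω) u)⁻¹)
          (Subgroup.mem_top (Pc.ev (tgen hω) v)⁻¹)
        rwa [commutatorElement_def, inv_inv, inv_inv] at h
      all_goals
        intro a
        match a with
        | 0 => rfl
        | 1 => rfl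
        | 2 => exact (inv_inv _).symm
        | n + 3 => exact (inv_inv _).symm
  set z := Pc.ev (tgen hω) (commProd scalWord) with hzdef
  have hz : (z : Matrix.GeneralLinearGroup F9 F) = kG hω 26 := by
    have h1 := rep_wordM hω (commProd scalWord)
    have h2 := rep_kG hω 26
    rw [(wordsFacts hω).2.2.2.1] at h1
    rw [show ((26 : Fin 288) : ℕ) = 26 from rfl, (wordsFacts hω).2.2.2.2.1] at h2
    rw [hzdef, coe_tev]
    exact h1.unique h2
  obtain ⟨c, hc⟩ := kG_scalar hω 26 (Or.inr (Or.inl rfl))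
  have hzc : z ∈ Subgroup.center (threeJ3 F ω) := mem_center_of_scalar hω (c := c) (by rw [hz, hc])
  have hne : z ≠ 1 := fun e => by
    have h : kG hω 26 = kG hω 0 := by rw [← hz, e, kG_zero]; rfl
    exact absurd (congrArg Fin.val (kG_injective hω h)) (by simp)
  intro g hg
  haveI : Fact (Nat.Prime 3) := ⟨by norm_num⟩
  have := mem_zpowers_of_prime_card (p := 3) (card_center_threeJ3 hω)
    (g := (⟨z, hzc⟩ : Subgroup.center (threeJ3 F ω))) (g' := ⟨g, hg⟩)
    (fun e => hne (congrArg Subtype.val e))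
  obtain ⟨n, hn⟩ := Subgroup.mem_zpowers_iff.1 this
  rw [show g = z ^ n from (congrArg Subtype.val hn).symm]
  exact zpow_mem (hcomm scalWord) n

end CfsgLib.J23
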