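import Cfsg.Agent.J1.Tree
import Cfsg.Agent.JankoTwoThree.Bits

/-!
Edges of the coset graph on 6156 cosets.
-/

set_option autoImplicit false
set_option linter.style.longLine false

namespace CfsgLib.J23

open CfsgLib.J1

/-- Part 0 of `e0Tab`. -/
def e0Tab_0 : BT ℕ :=
  (.node 513 (.node 256 (.node 128 (.node 64 (.node 32 (.node 16 (.node 8 (.node 4 (.node 2 (.node 1 (.leaf 24480) (.leaf 48960)) (.node 1 (.leaf 73440) (.leaf 97920))) (.node 2 (.node 1 (.leaf 122400) (.leaf 0)) (.node 1 (.leaf 146880) (.leaf 91265)))) (.node 4 (.node 2 (.node 1 (.leaf 171360) (.leaf 24480)) (.node 1 (.leaf 195840) (.leaf 220320))) (.node 2 (.node 1 (.leaf 244800) (.leaf 269280)) (.node 1 (.leaf 293760) (.leaf 318240))))) (.node 8 (.node 4 (.node 2 (.node 1 (.leaf 342720) (.leaf 367200)) (.node 1 (.leaf 391680) (.leaf 122400))) (.node 2 (.node 1 (.leaf 416160) (.leaf 440640)) (.node 1 (.leaf 465120) (.leaf 146880)))) (.node 4 (.node 2 (.node 1 (.leaf 489600)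 (.leaf 514080)) (.node 1 (.leaf 538560) (.leaf 171360))) (.node 2 (.node 1 (.leaf 563040) (.leaf 587520)) (.node 1 (.leaf 612000) (.leaf 195840)))))) (.node 16 (.node 8 (.node 4 (.node 2 (.node 1 (.leaf 636480) (.leaf 660960)) (.node 1 (.leaf 685440) (.leaf 709920))) (.node 2 (.node 1 (.leaf 734400) (.leaf 244800)) (.node 1 (.leaf 758880) (.leaf 783360)))) (.node 4 (.node 2 (.node 1 (.leaf 807840) (.leaf 832320)) (.node 1 (.leaf 856800) (.leaf 293760))) (.node 2 (.node 1 (.leaf 881280) (.leaf 905760)) (.node 1 (.leaf 930240) (.leaf 954720))))) (.node 8 (.node 4 (.node 2 (.node 1 (.leaf 979200) (.leaf 342720)) (.node 1 (.leaf 1003680) (.leaf 1028160))) (.node 2 (.node 1 (.leaf 1052640) (.leaf 1077120)) (.node 1 (.leaf 1101600) (.leaf 391680)))) (.node 4 (.node 2 (.node 1 (.leaf 1126080) (.leaf 1150560)) (.node 1 (.leaf 1175040) (.leaf 416160))) (.node 2 (.node 1 (.leaf 1199520) (.leaf 1224000)) (.node 1 (.leaf 1248480) (.leaf 1272960)))))))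 (.node 32 (.node 16 (.node 8 (.node 4 (.node 2 (.node 1 (.leaf 1297440) (.leaf 465120)) (.node 1 (.leaf 1321920) (.leaf 1346400))) (.node 2 (.node 1 (.leaf 1370880) (.leaf 489600)) (.node 1 (.leaf 1395360) (.leaf 1419840)))) (.node 4 (.node 2 (.node 1 (.leaf 1444320) (.leaf 1468800)) (.node 1 (.leaf 1493280) (.leaf 538560))) (.node 2 (.node 1 (.leaf 1517760) (.leaf 1542240)) (.node 1 (.leaf 1566720) (.leaf 563040))))) (.node 8 (.node 4 (.node 2 (.node 1 (.leaf 106770) (.leaf 1591200)) (.node 1 (.leaf 1615680) (.leaf 1640160))) (.node 2 (.node 1 (.leaf 1664640) (.leaf 612000)) (.node 1 (.leaf 1689120) (.leaf 1713600)))) (.node 4 (.node 2 (.node 1 (.leaf 1738080) (.leaf 636480)) (.node 1 (.leaf 1762560) (.leaf 1787040))) (.node 2 (.node 1 (.leaf 0) (.leaf 1811520)) (.node 1 (.leaf 1836000) (.leaf 685440)))))) (.node 16 (.node 8 (.node 4 (.node 2 (.node 1 (.leaf 1860480) (.leaf 1884960)) (.node 1 (.leaf 1909440) (.leaf 1933920))) (.node 2 (.node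 1 (.leaf 1958400) (.leaf 734400)) (.node 1 (.leaf 1982880) (.leaf 2007360)))) (.node 4 (.node 2 (.node 1 (.leaf 2031840) (.leaf 758880)) (.node 1 (.leaf 2056320) (.leaf 2080800))) (.node 2 (.node 1 (.leaf 595377) (.leaf 2105280)) (.node 1 (.leaf 2129760) (.leaf 807840))))) (.node 8 (.node 4 (.node 2 (.node 1 (.leaf 2154240) (.leaf 2178720)) (.node 1 (.leaf 2203200) (.leaf 1409814))) (.node 2 (.node 1 (.leaf 2227680) (.leaf 856800)) (.node 1 (.leaf 2252160) (.leaf 2276640)))) (.node 4 (.node 2 (.node 1 (.leaf 2301120) (.leaf 881280)) (.node 1 (.leaf 2325600) (.leaf 2350080))) (.node 2 (.node 1 (.leaf 2374560) (.leaf 2399040)) (.node 1 (.leaf 2423520) (.leaf 930240)))))))) (.node 64 (.node 32 (.node 16 (.node 8 (.node 4 (.node 2 (.node 1 (.leaf 2448000) (.leaf 2472480)) (.node 1 (.leaf 2496960) (.leaf 979200))) (.node 2 (.node 1 (.leaf 2521440) (.leaf 2545920)) (.node 1 (.leaf 2570400) (.leaf 1003680)))) (.node 4 (.node 2 (.node 1 (.leaf 2594880)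 (.leaf 2619360)) (.node 1 (.leaf 2643840) (.leaf 2668320))) (.node 2 (.node 1 (.leaf 2692800) (.leaf 1052640)) (.node 1 (.leaf 2717280) (.leaf 2741760))))) (.node 8 (.node 4 (.node 2 (.node 1 (.leaf 2766240) (.leaf 2790720)) (.node 1 (.leaf 2815200) (.leaf 1101600))) (.node 2 (.node 1 (.leaf 2839680) (.leaf 1126080)) (.node 1 (.leaf 2864160) (.leaf 2888640)))) (.node 4 (.node 2 (.node 1 (.leaf 2913120) (.leaf 2937600)) (.node 1 (.leaf 2962080) (.leaf 1175040))) (.node 2 (.node 1 (.leaf 2986560) (.leaf 3011040)) (.node 1 (.leaf 3035520) (.leaf 1199520)))))) (.node 16 (.node 8 (.node 4 (.node 2 (.node 1 (.leaf 3060000) (.leaf 3084480)) (.node 1 (.leaf 3108960) (.leaf 3133440))) (.node 2 (.node 1 (.leaf 3157920) (.leaf 1248480)) (.node 1 (.leaf 3182400) (.leaf 3206880)))) (.node 4 (.node 2 (.node 1 (.leaf 3231360) (.leaf 3255840)) (.node 1 (.leaf 3280320) (.leaf 1297440))) (.node 2 (.node 1 (.leaf 3304800) (.leaf 1321920)) (.node 1 (.leaf 3329280)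 (.leaf 3353760))))) (.node 8 (.node 4 (.node 2 (.node 1 (.leaf 3378240) (.leaf 3402720)) (.node 1 (.leaf 3427200) (.leaf 1370880))) (.node 2 (.node 1 (.leaf 3451680) (.leaf 3476160)) (.node 1 (.leaf 3500640) (.leaf 3525120)))) (.node 4 (.node 2 (.node 1 (.leaf 3549600) (.leaf 3574080)) (.node 1 (.leaf 3598560) (.leaf 1444320))) (.node 2 (.node 1 (.leaf 3623040) (.leaf 3647520)) (.node 1 (.leaf 3672000) (.leaf 3696480))))))) (.node 32 (.node 16 (.node 8 (.node 4 (.node 2 (.node 1 (.leaf 3720960) (.leaf 1493280)) (.node 1 (.leaf 48960) (.leaf 3745440))) (.node 2 (.node 1 (.leaf 3769920) (.leaf 1517760)) (.node 1 (.leaf 3794400) (.leaf 3818880)))) (.node 4 (.node 2 (.node 1 (.leaf 3843360) (.leaf 3867840)) (.node 1 (.leaf 3892320) (.leaf 1566720))) (.node 2 (.node 1 (.leaf 3916800) (.leaf 3941280)) (.node 1 (.leaf 3965760) (.leaf 3990240))))) (.node 8 (.node 4 (.node 2 (.node 1 (.leaf 4014720) (.leaf 1615680)) (.node 1 (.leaf 4039200) (.leaf 4063680)))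 (.node 2 (.node 1 (.leaf 4088160) (.leaf 4112640)) (.node 1 (.leaf 4137120) (.leaf 1664640)))) (.node 4 (.node 2 (.node 1 (.leaf 4161600) (.leaf 4186080)) (.node 1 (.leaf 4210560) (.leaf 1689120))) (.node 2 (.node 1 (.leaf 4235040) (.leaf 4259520)) (.node 1 (.leaf 4284000) (.leaf 4308480)))))) (.node 16 (.node 8 (.node 4 (.node 2 (.node 1 (.leaf 4332960) (.leaf 1738080)) (.node 1 (.leaf 4357440) (.leaf 4381920))) (.node 2 (.node 1 (.leaf 4406400) (.leaf 1762560)) (.node 1 (.leaf 4430880) (.leaf 4455360)))) (.node 4 (.node 2 (.node 1 (.leaf 4479840) (.leaf 4504320)) (.node 1 (.leaf 4528800) (.leaf 4553280))) (.node 2 (.node 1 (.leaf 4577760) (.leaf 1836000)) (.node 1 (.leaf 4602240) (.leaf 4626720))))) (.node 8 (.node 4 (.node 2 (.node 1 (.leaf 4651200) (.leaf 1860480)) (.node 1 (.leaf 4675680) (.leaf 2978877))) (.node 2 (.node 1 (.leaf 4700160) (.leaf 4724640)) (.node 1 (.leaf 4749120) (.leaf 1909440)))) (.node 4 (.node 2 (.node 1 (.leaf 4773600)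 (.leaf 4798080)) (.node 1 (.leaf 4822560) (.leaf 4847040))) (.node 2 (.node 1 (.leaf 4871520) (.leaf 1958400)) (.node 1 (.leaf 4896000) (.leaf 4920480))))))))) (.node 128 (.node 64 (.node 32 (.node 16 (.node 8 (.node 4 (.node 2 (.node 1 (.leaf 4944960) (.leaf 1982880)) (.node 1 (.leaf 4969440) (.leaf 4993920))) (.node 2 (.node 1 (.leaf 5018400) (.leaf 5042880)) (.node 1 (.leaf 5067360) (.leaf 2031840)))) (.node 4 (.node 2 (.node 1 (.leaf 5091840) (.leaf 5116320)) (.node 1 (.leaf 5140800) (.leaf 2056320))) (.node 2 (.node 1 (.leaf 5165280) (.leaf 5189760)) (.node 1 (.leaf 5214240) (.leaf 5238720))))) (.node 8 (.node 4 (.node 2 (.node 1 (.leaf 5263200) (.leaf 5287680)) (.node 1 (.leaf 5312160) (.leaf 2129760))) (.node 2 (.node 1 (.leaf 5336640) (.leaf 5361120)) (.node 1 (.leaf 5385600) (.leaf 2154240)))) (.node 4 (.node 2 (.node 1 (.leaf 5410080) (.leaf 5434560)) (.node 1 (.leaf 5459040) (.leaf 5483520))) (.node 2 (.node 1 (.leaf 5508000) (.leaf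 2203200)) (.node 1 (.leaf 5532480) (.leaf 5556960)))))) (.node 16 (.node 8 (.node 4 (.node 2 (.node 1 (.leaf 5581440) (.leaf 2227680)) (.node 1 (.leaf 5605920) (.leaf 5630400))) (.node 2 (.node 1 (.leaf 5654880) (.leaf 2252160)) (.node 1 (.leaf 5679360) (.leaf 5703840)))) (.node 4 (.node 2 (.node 1 (.leaf 5728320) (.leaf 5752800)) (.node 1 (.leaf 5777280) (.leaf 2301120))) (.node 2 (.node 1 (.leaf 5801760) (.leaf 5826240)) (.node 1 (.leaf 5850720) (.leaf 2325600))))) (.node 8 (.node 4 (.node 2 (.node 1 (.leaf 5875200) (.leaf 5899680)) (.node 1 (.leaf 5924160) (.leaf 2374560))) (.node 2 (.node 1 (.leaf 5948640) (.leaf 5973120)) (.node 1 (.leaf 5997600) (.leaf 6022080)))) (.node 4 (.node 2 (.node 1 (.leaf 6046560) (.leaf 2423520)) (.node 1 (.leaf 6071040) (.leaf 6095520))) (.node 2 (.node 1 (.leaf 6120000) (.leaf 2448000)) (.node 1 (.leaf 6144480) (.leaf 6168960))))))) (.node 32 (.node 16 (.node 8 (.node 4 (.node 2 (.node 1 (.leaf 6193440) (.leaf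 6217920)) (.node 1 (.leaf 6242400) (.leaf 2496960))) (.node 2 (.node 1 (.leaf 6266880) (.leaf 6291360)) (.node 1 (.leaf 6315840) (.leaf 2521440)))) (.node 4 (.node 2 (.node 1 (.leaf 6340320) (.leaf 6364800)) (.node 1 (.leaf 6389280) (.leaf 6413760))) (.node 2 (.node 1 (.leaf 6438240) (.leaf 2570400)) (.node 1 (.leaf 6462720) (.leaf 6487200))))) (.node 8 (.node 4 (.node 2 (.node 1 (.leaf 6511680) (.leaf 2594880)) (.node 1 (.leaf 6536160) (.leaf 6560640))) (.node 2 (.node 1 (.leaf 6585120) (.leaf 6609600)) (.node 1 (.leaf 6634080) (.leaf 2643840)))) (.node 4 (.node 2 (.node 1 (.leaf 6658560) (.leaf 6683040)) (.node 1 (.leaf 6707520) (.leaf 6732000))) (.node 2 (.node 1 (.leaf 6756480) (.leaf 2692800)) (.node 1 (.leaf 6780960) (.leaf 6805440)))))) (.node 16 (.node 8 (.node 4 (.node 2 (.node 1 (.leaf 6829920) (.leaf 2717280)) (.node 1 (.leaf 6854400) (.leaf 6878880))) (.node 2 (.node 1 (.leaf 6903360) (.leaf 6927840)) (.node 1 (.leaf 6952320) (.leaf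 2766240)))) (.node 4 (.node 2 (.node 1 (.leaf 6976800) (.leaf 7001280)) (.node 1 (.leaf 7025760) (.leaf 7050240))) (.node 2 (.node 1 (.leaf 7074720) (.leaf 2815200)) (.node 1 (.leaf 7099200) (.leaf 7123680))))) (.node 8 (.node 4 (.node 2 (.node 1 (.leaf 7148160) (.leaf 2839680)) (.node 1 (.leaf 7172640) (.leaf 7197120))) (.node 2 (.node 1 (.leaf 7221600) (.leaf 2864160)) (.node 1 (.leaf 7246080) (.leaf 7270560)))) (.node 4 (.node 2 (.node 1 (.leaf 7295040) (.leaf 7319520)) (.node 1 (.leaf 7344000) (.leaf 2913120))) (.node 2 (.node 1 (.leaf 7368480) (.leaf 7392960)) (.node 1 (.leaf 7417440) (.leaf 7441920)))))))) (.node 64 (.node 32 (.node 16 (.node 8 (.node 4 (.node 2 (.node 1 (.leaf 7466400) (.leaf 7490880)) (.node 1 (.leaf 7515360) (.leaf 2986560))) (.node 2 (.node 1 (.leaf 7539840) (.leaf 7564320)) (.node 1 (.leaf 7588800) (.leaf 7613280)))) (.node 4 (.node 2 (.node 1 (.leaf 7637760) (.leaf 3035520)) (.node 1 (.leaf 7662240) (.leaf 7686720)))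 (.node 2 (.node 1 (.leaf 7711200) (.leaf 3060000)) (.node 1 (.leaf 7735680) (.leaf 7760160))))) (.node 8 (.node 4 (.node 2 (.node 1 (.leaf 7784640) (.leaf 7809120)) (.node 1 (.leaf 7833600) (.leaf 3108960))) (.node 2 (.node 1 (.leaf 7858080) (.leaf 7882560)) (.node 1 (.leaf 7907040) (.leaf 7931520)))) (.node 4 (.node 2 (.node 1 (.leaf 7956000) (.leaf 3157920)) (.node 1 (.leaf 7980480) (.leaf 8004960))) (.node 2 (.node 1 (.leaf 8029440) (.leaf 3182400)) (.node 1 (.leaf 8053920) (.leaf 8078400)))))) (.node 16 (.node 8 (.node 4 (.node 2 (.node 1 (.leaf 8102880) (.leaf 8127360)) (.node 1 (.leaf 8151840) (.leaf 3231360))) (.node 2 (.node 1 (.leaf 8176320) (.leaf 8200800)) (.node 1 (.leaf 8225280) (.leaf 8249760)))) (.node 4 (.node 2 (.node 1 (.leaf 1097161) (.leaf 3280320)) (.node 1 (.leaf 8274240) (.leaf 8298720))) (.node 2 (.node 1 (.leaf 8323200) (.leaf 3304800)) (.node 1 (.leaf 8347680) (.leaf 5272188))))) (.node 8 (.node 4 (.node 2 (.node 1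 (.leaf 8372160) (.leaf 3329280)) (.node 1 (.leaf 8396640) (.leaf 8421120))) (.node 2 (.node 1 (.leaf 8445600) (.leaf 8470080)) (.node 1 (.leaf 8494560) (.leaf 3378240)))) (.node 4 (.node 2 (.node 1 (.leaf 2681963) (.leaf 8519040)) (.node 1 (.leaf 8543520) (.leaf 8568000))) (.node 2 (.node 1 (.leaf 8592480) (.leaf 3427200)) (.node 1 (.leaf 8616960) (.leaf 5471807))))))) (.node 32 (.node 16 (.node 8 (.node 4 (.node 2 (.node 1 (.leaf 8641440) (.leaf 3451680)) (.node 1 (.leaf 8665920) (.leaf 8690400))) (.node 2 (.node 1 (.leaf 8714880) (.leaf 8739360)) (.node 1 (.leaf 8763840) (.leaf 3500640)))) (.node 4 (.node 2 (.node 1 (.leaf 8788320) (.leaf 8812800)) (.node 1 (.leaf 8837280) (.leaf 8861760))) (.node 2 (.node 1 (.leaf 8886240) (.leaf 3549600)) (.node 1 (.leaf 8910720) (.leaf 8935200))))) (.node 8 (.node 4 (.node 2 (.node 1 (.leaf 8959680) (.leaf 5690341)) (.node 1 (.leaf 8984160) (.leaf 3598560))) (.node 2 (.node 1 (.leaf 9008640) (.leaf 9033120))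 (.node 1 (.leaf 9057600) (.leaf 3623040)))) (.node 4 (.node 2 (.node 1 (.leaf 9082080) (.leaf 9106560)) (.node 1 (.leaf 9131040) (.leaf 9155520))) (.node 2 (.node 1 (.leaf 9180000) (.leaf 3672000)) (.node 1 (.leaf 1939452) (.leaf 9204480)))))) (.node 16 (.node 8 (.node 4 (.node 2 (.node 1 (.leaf 9228960) (.leaf 8857011)) (.node 1 (.leaf 9253440) (.leaf 3720960))) (.node 2 (.node 1 (.leaf 9277920) (.leaf 9302400)) (.node 1 (.leaf 9326880) (.leaf 9351360)))) (.node 4 (.node 2 (.node 1 (.leaf 9375840) (.leaf 3769920)) (.node 1 (.leaf 9400320) (.leaf 9424800))) (.node 2 (.node 1 (.leaf 9449280) (.leaf 3794400)) (.node 1 (.leaf 9473760) (.leaf 9498240))))) (.node 8 (.node 4 (.node 2 (.node 1 (.leaf 9522720) (.leaf 9547200)) (.node 1 (.leaf 9571680) (.leaf 3843360))) (.node 2 (.node 1 (.leaf 9596160) (.leaf 9620640)) (.node 1 (.leaf 9645120) (.leaf 9669600)))) (.node 4 (.node 2 (.node 1 (.leaf 9694080) (.leaf 3892320)) (.node 1 (.leaf 9718560) (.leaf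 9743040))) (.node 2 (.node 1 (.leaf 9767520) (.leaf 3916800)) (.node 1 (.leaf 9792000) (.node 1 (.leaf 9816480) (.leaf 9840960))))))))))) (.node 256 (.node 128 (.node 64 (.node 32 (.node 16 (.node 8 (.node 4 (.node 2 (.node 1 (.leaf 9865440) (.leaf 9889920)) (.node 1 (.leaf 3965760) (.leaf 9914400))) (.node 2 (.node 1 (.leaf 9938880) (.leaf 9963360)) (.node 1 (.leaf 9987840) (.leaf 10012320)))) (.node 4 (.node 2 (.node 1 (.leaf 4014720) (.leaf 10036800)) (.node 1 (.leaf 10061280) (.leaf 10085760))) (.node 2 (.node 1 (.leaf 4039200) (.leaf 10110240)) (.node 1 (.leaf 10134720) (.leaf 10159200))))) (.node 8 (.node 4 (.node 2 (.node 1 (.leaf 10183680) (.leaf 10208160)) (.node 1 (.leaf 4088160) (.leaf 10232640))) (.node 2 (.node 1 (.leaf 10257120) (.leaf 10281600)) (.node 1 (.leaf 10306080) (.leaf 10330560)))) (.node 4 (.node 2 (.node 1 (.leaf 4137120) (.leaf 220320)) (.node 1 (.leaf 10355040) (.leaf 10379520))) (.node 2 (.node 1 (.leaf 4161600)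 (.leaf 10404000)) (.node 1 (.leaf 6647909) (.leaf 10428480)))))) (.node 16 (.node 8 (.node 4 (.node 2 (.node 1 (.leaf 10452960) (.leaf 10477440)) (.node 1 (.leaf 4210560) (.leaf 10501920))) (.node 2 (.node 1 (.leaf 10526400) (.leaf 10550880)) (.node 1 (.leaf 4235040) (.leaf 10575360)))) (.node 4 (.node 2 (.node 1 (.leaf 10599840) (.leaf 10624320)) (.node 1 (.leaf 10648800) (.leaf 10673280))) (.node 2 (.node 1 (.leaf 4284000) (.leaf 10697760)) (.node 1 (.leaf 10722240) (.leaf 10746720))))) (.node 8 (.node 4 (.node 2 (.node 1 (.leaf 10771200) (.leaf 10795680)) (.node 1 (.leaf 4332960) (.leaf 10820160))) (.node 2 (.node 1 (.leaf 10844640) (.leaf 10869120)) (.node 1 (.leaf 4357440) (.leaf 10893600)))) (.node 4 (.node 2 (.node 1 (.leaf 10918080) (.leaf 10942560)) (.node 1 (.leaf 10967040) (.leaf 10991520))) (.node 2 (.node 1 (.leaf 4406400) (.leaf 11016000)) (.node 1 (.leaf 11040480) (.leaf 11064960))))))) (.node 32 (.node 16 (.node 8 (.node 4 (.node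 2 (.node 1 (.leaf 4430880) (.leaf 11089440)) (.node 1 (.leaf 11113920) (.leaf 11138400))) (.node 2 (.node 1 (.leaf 11162880) (.leaf 11187360)) (.node 1 (.leaf 4479840) (.leaf 11211840)))) (.node 4 (.node 2 (.node 1 (.leaf 11236320) (.leaf 11260800)) (.node 1 (.leaf 11285280) (.leaf 11309760))) (.node 2 (.node 1 (.leaf 4528800) (.leaf 11334240)) (.node 1 (.leaf 11358720) (.leaf 11383200))))) (.node 8 (.node 4 (.node 2 (.node 1 (.leaf 11407680) (.leaf 11432160)) (.node 1 (.leaf 4577760) (.leaf 11456640))) (.node 2 (.node 1 (.leaf 11481120) (.leaf 11505600)) (.node 1 (.leaf 4602240) (.leaf 11530080)))) (.node 4 (.node 2 (.node 1 (.leaf 11554560) (.leaf 11579040)) (.node 1 (.leaf 11603520) (.leaf 11628000))) (.node 2 (.node 1 (.leaf 4651200) (.leaf 11652480)) (.node 1 (.leaf 11676960) (.leaf 11701440)))))) (.node 16 (.node 8 (.node 4 (.node 2 (.node 1 (.leaf 4675680) (.leaf 11725920)) (.node 1 (.leaf 11750400) (.leaf 11774880))) (.node 2 (.node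 1 (.leaf 4700160) (.leaf 11799360)) (.node 1 (.leaf 11823840) (.leaf 11848320)))) (.node 4 (.node 2 (.node 1 (.leaf 11872800) (.leaf 11897280)) (.node 1 (.leaf 4749120) (.leaf 11921760))) (.node 2 (.node 1 (.leaf 11946240) (.leaf 11970720)) (.node 1 (.leaf 4773600) (.leaf 11995200))))) (.node 8 (.node 4 (.node 2 (.node 1 (.leaf 12019680) (.leaf 12044160)) (.node 1 (.leaf 12068640) (.leaf 12093120))) (.node 2 (.node 1 (.leaf 4822560) (.leaf 12117600)) (.node 1 (.leaf 11537784) (.leaf 12142080)))) (.node 4 (.node 2 (.node 1 (.leaf 12166560) (.leaf 12191040)) (.node 1 (.leaf 4871520) (.leaf 269280))) (.node 2 (.node 1 (.leaf 12215520) (.leaf 12240000)) (.node 1 (.leaf 4896000) (.leaf 12264480)))))))) (.node 64 (.node 32 (.node 16 (.node 8 (.node 4 (.node 2 (.node 1 (.leaf 12288960) (.leaf 12313440)) (.node 1 (.leaf 12337920) (.leaf 12362400))) (.node 2 (.node 1 (.leaf 4944960) (.leaf 12386880)) (.node 1 (.leaf 12411360) (.leaf 12435840)))) (.node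 4 (.node 2 (.node 1 (.leaf 4969440) (.leaf 12460320)) (.node 1 (.leaf 12484800) (.leaf 12509280))) (.node 2 (.node 1 (.leaf 12533760) (.leaf 12558240)) (.node 1 (.leaf 5018400) (.leaf 12582720))))) (.node 8 (.node 4 (.node 2 (.node 1 (.leaf 12607200) (.leaf 12631680)) (.node 1 (.leaf 12656160) (.leaf 12680640))) (.node 2 (.node 1 (.leaf 5067360) (.leaf 12705120)) (.node 1 (.leaf 12729600) (.leaf 12754080)))) (.node 4 (.node 2 (.node 1 (.leaf 5091840) (.leaf 12778560)) (.node 1 (.leaf 12803040) (.leaf 12430466))) (.node 2 (.node 1 (.leaf 12827520) (.leaf 12852000)) (.node 1 (.leaf 5140800) (.leaf 12876480)))))) (.node 16 (.node 8 (.node 4 (.node 2 (.node 1 (.leaf 12900960) (.leaf 12925440)) (.node 1 (.leaf 5165280) (.leaf 12949920))) (.node 2 (.node 1 (.leaf 12974400) (.leaf 12998880)) (.node 1 (.leaf 5214240) (.leaf 13023360)))) (.node 4 (.node 2 (.node 1 (.leaf 13047840) (.leaf 13072320)) (.node 1 (.leaf 13096800) (.leaf 13121280))) (.node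 2 (.node 1 (.leaf 13145760) (.leaf 13170240)) (.node 1 (.leaf 13194720) (.leaf 13219200))))) (.node 8 (.node 4 (.node 2 (.node 1 (.leaf 5312160) (.leaf 13243680)) (.node 1 (.leaf 13268160) (.leaf 13292640))) (.node 2 (.node 1 (.leaf 5336640) (.leaf 13317120)) (.node 1 (.leaf 13341600) (.leaf 13366080)))) (.node 4 (.node 2 (.node 1 (.leaf 5385600) (.leaf 13390560)) (.node 1 (.leaf 13415040) (.leaf 13439520))) (.node 2 (.node 1 (.leaf 5410080) (.leaf 13464000)) (.node 1 (.leaf 13488480) (.leaf 13512960))))))) (.node 32 (.node 16 (.node 8 (.node 4 (.node 2 (.node 1 (.leaf 13537440) (.leaf 13561920)) (.node 1 (.leaf 12255430) (.leaf 13586400))) (.node 2 (.node 1 (.leaf 13610880) (.leaf 13635360)) (.node 1 (.leaf 5508000) (.leaf 13659840)))) (.node 4 (.node 2 (.node 1 (.leaf 13684320) (.leaf 13708800)) (.node 1 (.leaf 5532480) (.leaf 13733280))) (.node 2 (.node 1 (.leaf 13757760) (.leaf 13782240)) (.node 1 (.leaf 13806720) (.leaf 13831200))))) (.node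 8 (.node 4 (.node 2 (.node 1 (.leaf 5581440) (.leaf 318240)) (.node 1 (.leaf 5895063) (.leaf 13855680))) (.node 2 (.node 1 (.leaf 5605920) (.leaf 13880160)) (.node 1 (.leaf 13904640) (.leaf 13929120)))) (.node 4 (.node 2 (.node 1 (.leaf 13953600) (.leaf 13978080)) (.node 1 (.leaf 5654880) (.leaf 14002560))) (.node 2 (.node 1 (.leaf 14027040) (.leaf 14051520)) (.node 1 (.leaf 14076000) (.leaf 14100480)))))) (.node 16 (.node 8 (.node 4 (.node 2 (.node 1 (.leaf 14124960) (.leaf 14149440)) (.node 1 (.leaf 5728320) (.leaf 14173920))) (.node 2 (.node 1 (.leaf 14198400) (.leaf 14222880)) (.node 1 (.leaf 14247360) (.leaf 14271840)))) (.node 4 (.node 2 (.node 1 (.leaf 5777280) (.leaf 14296320)) (.node 1 (.leaf 14320800) (.leaf 14345280))) (.node 2 (.node 1 (.leaf 5801760) (.leaf 14369760)) (.node 1 (.leaf 14394240) (.leaf 14418720))))) (.node 8 (.node 4 (.node 2 (.node 1 (.leaf 5850720) (.leaf 14443200)) (.node 1 (.leaf 14467680) (.leaf 14492160)))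 (.node 2 (.node 1 (.leaf 14516640) (.leaf 14541120)) (.node 1 (.leaf 14565600) (.leaf 14590080)))) (.node 4 (.node 2 (.node 1 (.leaf 5924160) (.leaf 14614560)) (.node 1 (.leaf 14639040) (.leaf 14663520))) (.node 2 (.node 1 (.leaf 5948640) (.leaf 14688000)) (.node 1 (.leaf 14712480) (.leaf 14736960))))))))) (.node 128 (.node 64 (.node 32 (.node 16 (.node 8 (.node 4 (.node 2 (.node 1 (.leaf 14761440) (.leaf 14785920)) (.node 1 (.leaf 5997600) (.leaf 14810400))) (.node 2 (.node 1 (.leaf 14834880) (.leaf 14859360)) (.node 1 (.leaf 14883840) (.leaf 14908320)))) (.node 4 (.node 2 (.node 1 (.leaf 6046560) (.leaf 14932800)) (.node 1 (.leaf 14957280) (.leaf 14981760))) (.node 2 (.node 1 (.leaf 6071040) (.leaf 15006240)) (.node 1 (.leaf 15030720) (.leaf 15055200))))) (.node 8 (.node 4 (.node 2 (.node 1 (.leaf 15079680) (.leaf 15104160)) (.node 1 (.leaf 6120000) (.leaf 15128640))) (.node 2 (.node 1 (.leaf 15153120) (.leaf 15177600)) (.node 1 (.leaf 6144480)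 (.leaf 15202080)))) (.node 4 (.node 2 (.node 1 (.leaf 15226560) (.leaf 15251040)) (.node 1 (.leaf 15275520) (.leaf 15300000))) (.node 2 (.node 1 (.leaf 6193440) (.leaf 15324480)) (.node 1 (.leaf 15348960) (.leaf 15373440)))))) (.node 16 (.node 8 (.node 4 (.node 2 (.node 1 (.leaf 15397920) (.leaf 15422400)) (.node 1 (.leaf 6242400) (.leaf 367200))) (.node 2 (.node 1 (.leaf 15446880) (.leaf 15471360)) (.node 1 (.leaf 6266880) (.leaf 15495840)))) (.node 4 (.node 2 (.node 1 (.leaf 15520320) (.leaf 12233714)) (.node 1 (.leaf 15544800) (.leaf 15569280))) (.node 2 (.node 1 (.leaf 6315840) (.leaf 15593760)) (.node 1 (.leaf 15618240) (.leaf 15642720))))) (.node 8 (.node 4 (.node 2 (.node 1 (.leaf 6340320) (.leaf 15667200)) (.node 1 (.leaf 15691680) (.leaf 15716160))) (.node 2 (.node 1 (.leaf 15740640) (.leaf 15765120)) (.node 1 (.leaf 6389280) (.leaf 15789600)))) (.node 4 (.node 2 (.node 1 (.leaf 15814080) (.leaf 15838560)) (.node 1 (.leaf 14881810)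 (.leaf 15863040))) (.node 2 (.node 1 (.leaf 6438240) (.leaf 15887520)) (.node 1 (.leaf 15912000) (.leaf 15936480))))))) (.node 32 (.node 16 (.node 8 (.node 4 (.node 2 (.node 1 (.leaf 6462720) (.leaf 15960960)) (.node 1 (.leaf 15985440) (.leaf 16009920))) (.node 2 (.node 1 (.leaf 16034400) (.leaf 16058880)) (.node 1 (.leaf 6511680) (.leaf 16083360)))) (.node 4 (.node 2 (.node 1 (.leaf 16107840) (.leaf 16132320)) (.node 1 (.leaf 6536160) (.leaf 16156800))) (.node 2 (.node 1 (.leaf 16181280) (.leaf 7784022)) (.node 1 (.leaf 6585120) (.leaf 16205760))))) (.node 8 (.node 4 (.node 2 (.node 1 (.leaf 16230240) (.leaf 16254720)) (.node 1 (.leaf 12329827) (.leaf 16279200))) (.node 2 (.node 1 (.leaf 16303680) (.leaf 16328160)) (.node 1 (.leaf 6658560) (.leaf 10844794)))) (.node 4 (.node 2 (.node 1 (.leaf 16352640) (.leaf 16377120)) (.node 1 (.leaf 16401600) (.leaf 16426080))) (.node 2 (.node 1 (.leaf 6707520) (.leaf 16450560)) (.node 1 (.leaf 16475040)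 (.leaf 16499520)))))) (.node 16 (.node 8 (.node 4 (.node 2 (.node 1 (.leaf 16524000) (.leaf 16548480)) (.node 1 (.leaf 6756480) (.leaf 16572960))) (.node 2 (.node 1 (.leaf 16597440) (.leaf 16621920)) (.node 1 (.leaf 6780960) (.leaf 16646400)))) (.node 4 (.node 2 (.node 1 (.leaf 16670880) (.leaf 16695360)) (.node 1 (.leaf 16719840) (.leaf 16744320))) (.node 2 (.node 1 (.leaf 6829920) (.leaf 16768800)) (.node 1 (.leaf 16793280) (.leaf 16817760))))) (.node 8 (.node 4 (.node 2 (.node 1 (.leaf 6854400) (.leaf 16842240)) (.node 1 (.leaf 16866720) (.leaf 16891200))) (.node 2 (.node 1 (.leaf 16915680) (.leaf 16940160)) (.node 1 (.leaf 6903360) (.leaf 16964640)))) (.node 4 (.node 2 (.node 1 (.leaf 16989120) (.leaf 17013600)) (.node 1 (.leaf 17038080) (.leaf 17062560))) (.node 2 (.node 1 (.leaf 6952320) (.leaf 17087040)) (.node 1 (.leaf 17111520) (.leaf 17136000)))))))) (.node 64 (.node 32 (.node 16 (.node 8 (.node 4 (.node 2 (.node 1 (.leaf 6976800)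 (.leaf 17160480)) (.node 1 (.leaf 17184960) (.leaf 17209440))) (.node 2 (.node 1 (.leaf 17233920) (.leaf 9745566)) (.node 1 (.leaf 7025760) (.leaf 17258400)))) (.node 4 (.node 2 (.node 1 (.leaf 17282880) (.leaf 17307360)) (.node 1 (.leaf 17331840) (.leaf 17356320))) (.node 2 (.node 1 (.leaf 7074720) (.leaf 17380800)) (.node 1 (.leaf 17405280) (.leaf 17429760))))) (.node 8 (.node 4 (.node 2 (.node 1 (.leaf 7099200) (.leaf 17454240)) (.node 1 (.leaf 17478720) (.leaf 17503200))) (.node 2 (.node 1 (.leaf 17527680) (.leaf 17552160)) (.node 1 (.leaf 7148160) (.leaf 17576640)))) (.node 4 (.node 2 (.node 1 (.leaf 17601120) (.leaf 17625600)) (.node 1 (.leaf 7172640) (.leaf 17650080))) (.node 2 (.node 1 (.leaf 17674560) (.leaf 17699040)) (.node 1 (.leaf 17723520) (.leaf 17748000)))))) (.node 16 (.node 8 (.node 4 (.node 2 (.node 1 (.leaf 7221600) (.leaf 17772480)) (.node 1 (.leaf 17796960) (.leaf 17821440))) (.node 2 (.node 1 (.leaf 7246080) (.leaf 12991794))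 (.node 1 (.leaf 17845920) (.leaf 17870400)))) (.node 4 (.node 2 (.node 1 (.leaf 17894880) (.leaf 17919360)) (.node 1 (.leaf 7295040) (.leaf 15355348))) (.node 2 (.node 1 (.leaf 17943840) (.leaf 17968320)) (.node 1 (.leaf 7725025) (.leaf 17992800))))) (.node 8 (.node 4 (.node 2 (.node 1 (.leaf 7344000) (.leaf 18017280)) (.node 1 (.leaf 18041760) (.leaf 18066240))) (.node 2 (.node 1 (.leaf 7368480) (.leaf 18090720)) (.node 1 (.leaf 11979512) (.leaf 18115200)))) (.node 4 (.node 2 (.node 1 (.leaf 18139680) (.leaf 18164160)) (.node 1 (.leaf 7417440) (.leaf 18188640))) (.node 2 (.node 1 (.leaf 18213120) (.leaf 440640)) (.node 1 (.leaf 18237600) (.leaf 18262080))))))) (.node 32 (.node 16 (.node 8 (.node 4 (.node 2 (.node 1 (.leaf 7466400) (.leaf 18286560)) (.node 1 (.leaf 18311040) (.leaf 18335520))) (.node 2 (.node 1 (.leaf 18360000) (.leaf 18384480)) (.node 1 (.leaf 7515360) (.leaf 18408960)))) (.node 4 (.node 2 (.node 1 (.leaf 18433440) (.leaf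 18457920)) (.node 1 (.leaf 7539840) (.leaf 18482400))) (.node 2 (.node 1 (.leaf 18506880) (.leaf 18531360)) (.node 1 (.leaf 18555840) (.leaf 18580320))))) (.node 8 (.node 4 (.node 2 (.node 1 (.leaf 7588800) (.leaf 18604800)) (.node 1 (.leaf 11631267) (.leaf 18629280))) (.node 2 (.node 1 (.leaf 18653760) (.leaf 18678240)) (.node 1 (.leaf 7637760) (.leaf 18702720)))) (.node 4 (.node 2 (.node 1 (.leaf 18727200) (.leaf 18751680)) (.node 1 (.leaf 7662240) (.leaf 18776160))) (.node 2 (.node 1 (.leaf 18800640) (.leaf 18825120)) (.node 1 (.leaf 14449130) (.leaf 18849600)))))) (.node 16 (.node 8 (.node 4 (.node 2 (.node 1 (.leaf 18874080) (.leaf 18898560)) (.node 1 (.leaf 7735680) (.leaf 18923040))) (.node 2 (.node 1 (.leaf 18947520) (.leaf 18972000)) (.node 1 (.leaf 7784640) (.leaf 18996480)))) (.node 4 (.node 2 (.node 1 (.leaf 8657910) (.leaf 19020960)) (.node 1 (.leaf 19045440) (.leaf 19069920))) (.node 2 (.node 1 (.leaf 7833600) (.leaf 19094400))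 (.node 1 (.leaf 10428131) (.leaf 19118880))))) (.node 8 (.node 4 (.node 2 (.node 1 (.leaf 7858080) (.leaf 19143360)) (.node 1 (.leaf 19167840) (.leaf 19192320))) (.node 2 (.node 1 (.leaf 19216800) (.leaf 19241280)) (.node 1 (.leaf 7907040) (.leaf 19265760)))) (.node 4 (.node 2 (.node 1 (.leaf 19290240) (.leaf 19314720)) (.node 1 (.leaf 19339200) (.leaf 19363680))) (.node 2 (.node 1 (.leaf 7956000) (.leaf 19388160)) (.node 1 (.leaf 19412640) (.node 1 (.leaf 19437120) (.leaf 7980480))))))))))))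

/-- Part 1 of `e0Tab`. -/
def e0Tab_1 : BT ℕ :=
  (.node 513 (.node 256 (.node 128 (.node 64 (.node 32 (.node 16 (.node 8 (.node 4 (.node 2 (.node 1 (.leaf 19461600) (.leaf 19486080)) (.node 1 (.leaf 19510560) (.leaf 19535040))) (.node 2 (.node 1 (.leaf 19559520) (.leaf 8029440)) (.node 1 (.leaf 19584000) (.leaf 19608480)))) (.node 4 (.node 2 (.node 1 (.leaf 19632960) (.leaf 8053920)) (.node 1 (.leaf 19657440) (.leaf 19681920))) (.node 2 (.node 1 (.leaf 19706400) (.leaf 19730880)) (.node 1 (.leaf 19755360) (.leaf 8102880))))) (.node 8 (.node 4 (.node 2 (.node 1 (.leaf 19779840) (.leaf 19804320)) (.node 1 (.leaf 19828800) (.leaf 19853280))) (.node 2 (.node 1 (.leaf 19877760) (.leaf 8151840)) (.node 1 (.leaf 19902240) (.leaf 8176320)))) (.node 4 (.node 2 (.node 1 (.leaf 19926720) (.leaf 19951200)) (.node 1 (.leaf 19975680) (.leaf 20000160))) (.node 2 (.node 1 (.leaf 20024640) (.leaf 8225280)) (.node 1 (.leaf 20049120) (.leaf 20073600)))))) (.node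 16 (.node 8 (.node 4 (.node 2 (.node 1 (.leaf 20098080) (.leaf 20122560)) (.node 1 (.leaf 20147040) (.leaf 8274240))) (.node 2 (.node 1 (.leaf 20171520) (.leaf 20196000)) (.node 1 (.leaf 20220480) (.leaf 20244960)))) (.node 4 (.node 2 (.node 1 (.leaf 20269440) (.leaf 8323200)) (.node 1 (.leaf 20293920) (.leaf 20318400))) (.node 2 (.node 1 (.leaf 20342880) (.leaf 8347680)) (.node 1 (.leaf 9950648) (.leaf 20367360))))) (.node 8 (.node 4 (.node 2 (.node 1 (.leaf 20391840) (.leaf 8372160)) (.node 1 (.leaf 20416320) (.leaf 20440800))) (.node 2 (.node 1 (.leaf 20465280) (.leaf 8396640)) (.node 1 (.leaf 20489760) (.leaf 20514240)))) (.node 4 (.node 2 (.node 1 (.leaf 20538720) (.leaf 20563200)) (.node 1 (.leaf 20587680) (.leaf 8445600))) (.node 2 (.node 1 (.leaf 20612160) (.leaf 20636640)) (.node 1 (.leaf 20661120) (.leaf 20685600))))))) (.node 32 (.node 16 (.node 8 (.node 4 (.node 2 (.node 1 (.leaf 20710080) (.leaf 8494560)) (.node 1 (.leaf 20734560)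 (.leaf 20759040))) (.node 2 (.node 1 (.leaf 20783520) (.leaf 20808000)) (.node 1 (.leaf 20832480) (.leaf 8543520)))) (.node 4 (.node 2 (.node 1 (.leaf 20856960) (.leaf 20881440)) (.node 1 (.leaf 20905920) (.leaf 20930400))) (.node 2 (.node 1 (.leaf 20954880) (.leaf 8592480)) (.node 1 (.leaf 514080) (.leaf 20979360))))) (.node 8 (.node 4 (.node 2 (.node 1 (.leaf 21003840) (.leaf 8616960)) (.node 1 (.leaf 21028320) (.leaf 18776461))) (.node 2 (.node 1 (.leaf 21052800) (.leaf 21077280)) (.node 1 (.leaf 21101760) (.leaf 8665920)))) (.node 4 (.node 2 (.node 1 (.leaf 21126240) (.leaf 21150720)) (.node 1 (.leaf 21175200) (.leaf 21199680))) (.node 2 (.node 1 (.leaf 21224160) (.leaf 8714880)) (.node 1 (.leaf 21248640) (.leaf 21273120)))))) (.node 16 (.node 8 (.node 4 (.node 2 (.node 1 (.leaf 21297600) (.leaf 21322080)) (.node 1 (.leaf 21346560) (.leaf 8763840))) (.node 2 (.node 1 (.leaf 21371040) (.leaf 21395520)) (.node 1 (.leaf 21420000) (.leaf 8788320))))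 (.node 4 (.node 2 (.node 1 (.leaf 5066876) (.leaf 21444480)) (.node 1 (.leaf 21468960) (.leaf 21493440))) (.node 2 (.node 1 (.leaf 21517920) (.leaf 21542400)) (.node 1 (.leaf 10324393) (.leaf 8886240))))) (.node 8 (.node 4 (.node 2 (.node 1 (.leaf 21566880) (.leaf 21591360)) (.node 1 (.leaf 21615840) (.leaf 8910720))) (.node 2 (.node 1 (.leaf 21640320) (.leaf 21664800)) (.node 1 (.leaf 21689280) (.leaf 21713760)))) (.node 4 (.node 2 (.node 1 (.leaf 21738240) (.leaf 8959680)) (.node 1 (.leaf 3488257) (.leaf 21762720))) (.node 2 (.node 1 (.leaf 21787200) (.leaf 8984160)) (.node 1 (.leaf 21811680) (.leaf 21836160)))))))) (.node 64 (.node 32 (.node 16 (.node 8 (.node 4 (.node 2 (.node 1 (.leaf 21860640) (.leaf 9008640)) (.node 1 (.leaf 21885120) (.leaf 21909600))) (.node 2 (.node 1 (.leaf 21934080) (.leaf 21958560)) (.node 1 (.leaf 21983040) (.leaf 9057600)))) (.node 4 (.node 2 (.node 1 (.leaf 22007520) (.leaf 22032000)) (.node 1 (.leaf 22056480)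 (.leaf 9082080))) (.node 2 (.node 1 (.leaf 22080960) (.leaf 22105440)) (.node 1 (.leaf 22129920) (.leaf 22154400))))) (.node 8 (.node 4 (.node 2 (.node 1 (.leaf 22178880) (.leaf 9131040)) (.node 1 (.leaf 22203360) (.leaf 22227840))) (.node 2 (.node 1 (.leaf 22252320) (.leaf 17270706)) (.node 1 (.leaf 22276800) (.leaf 9180000)))) (.node 4 (.node 2 (.node 1 (.leaf 22301280) (.leaf 22325760)) (.node 1 (.leaf 22350240) (.leaf 12120568))) (.node 2 (.node 1 (.leaf 22374720) (.leaf 9228960)) (.node 1 (.leaf 22399200) (.leaf 22423680)))))) (.node 16 (.node 8 (.node 4 (.node 2 (.node 1 (.leaf 22448160) (.leaf 9253440)) (.node 1 (.leaf 22472640) (.leaf 22497120))) (.node 2 (.node 1 (.leaf 22521600) (.leaf 9277920)) (.node 1 (.leaf 22546080) (.leaf 22570560)))) (.node 4 (.node 2 (.node 1 (.leaf 22595040) (.leaf 22619520)) (.node 1 (.leaf 22644000) (.leaf 9326880))) (.node 2 (.node 1 (.leaf 22668480) (.leaf 22692960)) (.node 1 (.leaf 22717440) (.leaf 22741920)))))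 (.node 8 (.node 4 (.node 2 (.node 1 (.leaf 22766400) (.leaf 9375840)) (.node 1 (.leaf 22790880) (.leaf 22815360))) (.node 2 (.node 1 (.leaf 22839840) (.leaf 9400320)) (.node 1 (.leaf 22864320) (.leaf 22888800)))) (.node 4 (.node 2 (.node 1 (.leaf 22913280) (.leaf 22937760)) (.node 1 (.leaf 22962240) (.leaf 9449280))) (.node 2 (.node 1 (.leaf 22986720) (.leaf 10125953)) (.node 1 (.leaf 23011200) (.leaf 9473760))))))) (.node 32 (.node 16 (.node 8 (.node 4 (.node 2 (.node 1 (.leaf 23035680) (.leaf 23060160)) (.node 1 (.leaf 23084640) (.leaf 23109120))) (.node 2 (.node 1 (.leaf 23133600) (.leaf 9522720)) (.node 1 (.leaf 23158080) (.leaf 23182560)))) (.node 4 (.node 2 (.node 1 (.leaf 23207040) (.leaf 23231520)) (.node 1 (.leaf 23256000) (.leaf 9571680))) (.node 2 (.node 1 (.leaf 23280480) (.leaf 23304960)) (.node 1 (.leaf 23329440) (.leaf 9596160))))) (.node 8 (.node 4 (.node 2 (.node 1 (.leaf 23353920) (.leaf 15105500)) (.node 1 (.leaf 23378400)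 (.leaf 23402880))) (.node 2 (.node 1 (.leaf 23427360) (.leaf 9645120)) (.node 1 (.leaf 23451840) (.leaf 23476320)))) (.node 4 (.node 2 (.node 1 (.leaf 23500800) (.leaf 23525280)) (.node 1 (.leaf 23549760) (.leaf 9694080))) (.node 2 (.node 1 (.leaf 23574240) (.leaf 23598720)) (.node 1 (.leaf 23623200) (.leaf 9718560)))))) (.node 16 (.node 8 (.node 4 (.node 2 (.node 1 (.leaf 23647680) (.leaf 23672160)) (.node 1 (.leaf 23696640) (.leaf 23721120))) (.node 2 (.node 1 (.leaf 23745600) (.leaf 9767520)) (.node 1 (.leaf 23770080) (.leaf 23794560)))) (.node 4 (.node 2 (.node 1 (.leaf 23819040) (.leaf 9792000)) (.node 1 (.leaf 23843520) (.leaf 23868000))) (.node 2 (.node 1 (.leaf 23892480) (.leaf 9840960)) (.node 1 (.leaf 23916960) (.leaf 23941440))))) (.node 8 (.node 4 (.node 2 (.node 1 (.leaf 23965920) (.leaf 23990400)) (.node 1 (.leaf 24014880) (.leaf 9889920))) (.node 2 (.node 1 (.leaf 18569936) (.leaf 9914400)) (.node 1 (.leaf 24039360) (.leaf 24063840))))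 (.node 4 (.node 2 (.node 1 (.leaf 24088320) (.leaf 24112800)) (.node 1 (.leaf 24137280) (.leaf 9963360))) (.node 2 (.node 1 (.leaf 24161760) (.leaf 24186240)) (.node 1 (.leaf 24210720) (.leaf 24235200))))))))) (.node 128 (.node 64 (.node 32 (.node 16 (.node 8 (.node 4 (.node 2 (.node 1 (.leaf 24259680) (.leaf 10012320)) (.node 1 (.leaf 24284160) (.leaf 24308640))) (.node 2 (.node 1 (.leaf 24333120) (.leaf 10036800)) (.node 1 (.leaf 24357600) (.leaf 24382080)))) (.node 4 (.node 2 (.node 1 (.leaf 24406560) (.leaf 24431040)) (.node 1 (.leaf 24455520) (.leaf 10085760))) (.node 2 (.node 1 (.leaf 24480000) (.leaf 24504480)) (.node 1 (.leaf 24528960) (.leaf 24553440))))) (.node 8 (.node 4 (.node 2 (.node 1 (.leaf 24577920) (.leaf 24602400)) (.node 1 (.leaf 24626880) (.leaf 10159200))) (.node 2 (.node 1 (.leaf 24651360) (.leaf 24675840)) (.node 1 (.leaf 24700320) (.leaf 24724800)))) (.node 4 (.node 2 (.node 1 (.leaf 24749280) (.leaf 10208160)) (.node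 1 (.leaf 24773760) (.leaf 17450016))) (.node 2 (.node 1 (.leaf 24798240) (.leaf 10232640)) (.node 1 (.leaf 24822720) (.leaf 24847200)))))) (.node 16 (.node 8 (.node 4 (.node 2 (.node 1 (.leaf 24871680) (.leaf 24896160)) (.node 1 (.leaf 24920640) (.leaf 10281600))) (.node 2 (.node 1 (.leaf 24945120) (.leaf 24969600)) (.node 1 (.leaf 24994080) (.leaf 25018560)))) (.node 4 (.node 2 (.node 1 (.leaf 25043040) (.leaf 10330560)) (.node 1 (.leaf 25067520) (.leaf 25092000))) (.node 2 (.node 1 (.leaf 25116480) (.leaf 10379520)) (.node 1 (.leaf 25140960) (.leaf 25165440))))) (.node 8 (.node 4 (.node 2 (.node 1 (.leaf 25189920) (.leaf 16299294)) (.node 1 (.leaf 25214400) (.leaf 10428480))) (.node 2 (.node 1 (.leaf 25238880) (.leaf 25263360)) (.node 1 (.leaf 25287840) (.leaf 10477440)))) (.node 4 (.node 2 (.node 1 (.leaf 25312320) (.leaf 20187946)) (.node 1 (.leaf 25336800) (.leaf 10501920))) (.node 2 (.node 1 (.leaf 25361280) (.leaf 25385760)) (.node 1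 (.leaf 25410240) (.leaf 25434720))))))) (.node 32 (.node 16 (.node 8 (.node 4 (.node 2 (.node 1 (.leaf 25459200) (.leaf 10550880)) (.node 1 (.leaf 25483680) (.leaf 25508160))) (.node 2 (.node 1 (.leaf 25532640) (.leaf 10575360)) (.node 1 (.leaf 25557120) (.leaf 25581600)))) (.node 4 (.node 2 (.node 1 (.leaf 5195155) (.leaf 21199631)) (.node 1 (.leaf 25606080) (.leaf 10624320))) (.node 2 (.node 1 (.leaf 25630560) (.leaf 25655040)) (.node 1 (.leaf 25679520) (.leaf 25704000))))) (.node 8 (.node 4 (.node 2 (.node 1 (.leaf 25728480) (.leaf 10673280)) (.node 1 (.leaf 25752960) (.leaf 25777440))) (.node 2 (.node 1 (.leaf 25801920) (.leaf 10697760)) (.node 1 (.leaf 25826400) (.leaf 25850880)))) (.node 4 (.node 2 (.node 1 (.leaf 25875360) (.leaf 25899840)) (.node 1 (.leaf 25924320) (.leaf 10746720))) (.node 2 (.node 1 (.leaf 23423433) (.leaf 25948800)) (.node 1 (.leaf 25973280) (.leaf 25997760)))))) (.node 16 (.node 8 (.node 4 (.node 2 (.node 1 (.leaf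 20708395) (.leaf 10795680)) (.node 1 (.leaf 660960) (.leaf 26022240))) (.node 2 (.node 1 (.leaf 26046720) (.leaf 10820160)) (.node 1 (.leaf 26071200) (.leaf 26095680)))) (.node 4 (.node 2 (.node 1 (.leaf 26120160) (.leaf 26144640)) (.node 1 (.leaf 26169120) (.leaf 10869120))) (.node 2 (.node 1 (.leaf 26193600) (.leaf 26218080)) (.node 1 (.leaf 26242560) (.leaf 10893600))))) (.node 8 (.node 4 (.node 2 (.node 1 (.leaf 26267040) (.leaf 26291520)) (.node 1 (.leaf 26316000) (.leaf 26340480))) (.node 2 (.node 1 (.leaf 26364960) (.leaf 10942560)) (.node 1 (.leaf 26389440) (.leaf 26413920)))) (.node 4 (.node 2 (.node 1 (.leaf 26438400) (.leaf 26462880)) (.node 1 (.leaf 26487360) (.leaf 10991520))) (.node 2 (.node 1 (.leaf 26511840) (.leaf 26536320)) (.node 1 (.leaf 26560800) (.leaf 11016000)))))))) (.node 64 (.node 32 (.node 16 (.node 8 (.node 4 (.node 2 (.node 1 (.leaf 26585280) (.leaf 14389087)) (.node 1 (.leaf 26609760) (.leaf 11064960))) (.node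 2 (.node 1 (.leaf 26634240) (.leaf 26658720)) (.node 1 (.leaf 11413651) (.leaf 11089440)))) (.node 4 (.node 2 (.node 1 (.leaf 26683200) (.leaf 26707680)) (.node 1 (.leaf 26732160) (.leaf 26756640))) (.node 2 (.node 1 (.leaf 26781120) (.leaf 11138400)) (.node 1 (.leaf 26805600) (.leaf 16020156))))) (.node 8 (.node 4 (.node 2 (.node 1 (.leaf 26830080) (.leaf 21518398)) (.node 1 (.leaf 26854560) (.leaf 11187360))) (.node 2 (.node 1 (.leaf 26879040) (.leaf 26903520)) (.node 1 (.leaf 26928000) (.leaf 11211840)))) (.node 4 (.node 2 (.node 1 (.leaf 26952480) (.leaf 26976960)) (.node 1 (.leaf 27001440) (.leaf 27025920))) (.node 2 (.node 1 (.leaf 27050400) (.leaf 11260800)) (.node 1 (.leaf 27074880) (.leaf 27099360)))))) (.node 16 (.node 8 (.node 4 (.node 2 (.node 1 (.leaf 27123840) (.leaf 27148320)) (.node 1 (.leaf 27172800) (.leaf 11309760))) (.node 2 (.node 1 (.leaf 27197280) (.leaf 27221760)) (.node 1 (.leaf 27246240) (.leaf 11334240)))) (.node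 4 (.node 2 (.node 1 (.leaf 27270720) (.leaf 27295200)) (.node 1 (.leaf 27319680) (.leaf 27344160))) (.node 2 (.node 1 (.leaf 27368640) (.leaf 11383200)) (.node 1 (.leaf 27393120) (.leaf 27417600))))) (.node 8 (.node 4 (.node 2 (.node 1 (.leaf 27442080) (.leaf 11432160)) (.node 1 (.leaf 709920) (.leaf 27466560))) (.node 2 (.node 1 (.leaf 27491040) (.leaf 11456640)) (.node 1 (.leaf 27515520) (.leaf 27540000)))) (.node 4 (.node 2 (.node 1 (.leaf 27564480) (.leaf 11505600)) (.node 1 (.leaf 27588960) (.leaf 27199377))) (.node 2 (.node 1 (.leaf 27613440) (.leaf 27637920)) (.node 1 (.leaf 27662400) (.leaf 27686880))))))) (.node 32 (.node 16 (.node 8 (.node 4 (.node 2 (.node 1 (.leaf 27711360) (.leaf 11579040)) (.node 1 (.leaf 27735840) (.leaf 27760320))) (.node 2 (.node 1 (.leaf 17847062) (.leaf 27784800)) (.node 1 (.leaf 27809280) (.leaf 27833760)))) (.node 4 (.node 2 (.node 1 (.leaf 27858240) (.leaf 11652480)) (.node 1 (.leaf 27882720) (.leaf 27907200)))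 (.node 2 (.node 1 (.leaf 27931680) (.leaf 27956160)) (.node 1 (.leaf 27980640) (.leaf 11701440))))) (.node 8 (.node 4 (.node 2 (.node 1 (.leaf 28005120) (.leaf 11725920)) (.node 1 (.leaf 28029600) (.leaf 28054080))) (.node 2 (.node 1 (.leaf 28078560) (.leaf 28103040)) (.node 1 (.leaf 28127520) (.leaf 11774880)))) (.node 4 (.node 2 (.node 1 (.leaf 28152000) (.leaf 28176480)) (.node 1 (.leaf 28200960) (.leaf 11799360))) (.node 2 (.node 1 (.leaf 28225440) (.leaf 28249920)) (.node 1 (.leaf 28274400) (.leaf 28298880)))))) (.node 16 (.node 8 (.node 4 (.node 2 (.node 1 (.leaf 11825315) (.leaf 11848320)) (.node 1 (.leaf 28323360) (.leaf 28347840))) (.node 2 (.node 1 (.leaf 28372320) (.leaf 28396800)) (.node 1 (.leaf 28421280) (.leaf 11897280)))) (.node 4 (.node 2 (.node 1 (.leaf 3711070) (.leaf 18553353)) (.node 1 (.leaf 28445760) (.leaf 11921760))) (.node 2 (.node 1 (.leaf 28470240) (.leaf 28494720)) (.node 1 (.leaf 28519200) (.leaf 28543680)))))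 (.node 8 (.node 4 (.node 2 (.node 1 (.leaf 28568160) (.leaf 28592640)) (.node 1 (.leaf 28617120) (.leaf 11995200))) (.node 2 (.node 1 (.leaf 28641600) (.leaf 28666080)) (.node 1 (.leaf 28690560) (.leaf 28715040)))) (.node 4 (.node 2 (.node 1 (.leaf 28739520) (.leaf 12044160)) (.node 1 (.leaf 28764000) (.leaf 28788480))) (.node 2 (.node 1 (.leaf 28812960) (.leaf 13563438)) (.node 1 (.leaf 28837440) (.node 1 (.leaf 12093120) (.leaf 28861920))))))))))) (.node 256 (.node 128 (.node 64 (.node 32 (.node 16 (.node 8 (.node 4 (.node 2 (.node 1 (.leaf 28886400) (.leaf 28910880)) (.node 1 (.leaf 28935360) (.leaf 28959840))) (.node 2 (.node 1 (.leaf 12142080) (.leaf 28984320)) (.node 1 (.leaf 29008800) (.leaf 29033280)))) (.node 4 (.node 2 (.node 1 (.leaf 29057760) (.leaf 29082240)) (.node 1 (.leaf 12191040) (.leaf 29106720))) (.node 2 (.node 1 (.leaf 27134736) (.leaf 29131200)) (.node 1 (.leaf 29155680) (.leaf 29180160))))) (.node 8 (.node 4 (.node 2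 (.node 1 (.leaf 29204640) (.leaf 29229120)) (.node 1 (.leaf 12264480) (.leaf 15045581))) (.node 2 (.node 1 (.leaf 29253600) (.leaf 29278080)) (.node 1 (.leaf 29302560) (.leaf 29327040)))) (.node 4 (.node 2 (.node 1 (.leaf 29351520) (.leaf 29376000)) (.node 1 (.leaf 29400480) (.leaf 8100511))) (.node 2 (.node 1 (.leaf 12362400) (.leaf 29424960)) (.node 1 (.leaf 29449440) (.leaf 29473920)))))) (.node 16 (.node 8 (.node 4 (.node 2 (.node 1 (.leaf 12386880) (.leaf 29498400)) (.node 1 (.leaf 25152664) (.leaf 29522880))) (.node 2 (.node 1 (.leaf 29547360) (.leaf 29571840)) (.node 1 (.leaf 12435840) (.leaf 29596320)))) (.node 4 (.node 2 (.node 1 (.leaf 29620800) (.leaf 29645280)) (.node 1 (.leaf 12460320) (.leaf 29669760))) (.node 2 (.node 1 (.leaf 29694240) (.leaf 29718720)) (.node 1 (.leaf 29743200) (.leaf 29767680))))) (.node 8 (.node 4 (.node 2 (.node 1 (.leaf 12509280) (.leaf 29792160)) (.node 1 (.leaf 29816640) (.leaf 29841120))) (.node 2 (.node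 1 (.leaf 29865600) (.leaf 29890080)) (.node 1 (.leaf 12558240) (.leaf 29914560)))) (.node 4 (.node 2 (.node 1 (.leaf 29939040) (.leaf 29963520)) (.node 1 (.leaf 12582720) (.leaf 29988000))) (.node 2 (.node 1 (.leaf 30012480) (.leaf 30036960)) (.node 1 (.leaf 30061440) (.leaf 6221159))))))) (.node 32 (.node 16 (.node 8 (.node 4 (.node 2 (.node 1 (.leaf 12631680) (.leaf 30085920)) (.node 1 (.leaf 30110400) (.leaf 30134880))) (.node 2 (.node 1 (.leaf 30159360) (.leaf 30183840)) (.node 1 (.leaf 12680640) (.leaf 783360)))) (.node 4 (.node 2 (.node 1 (.leaf 30208320) (.leaf 30232800)) (.node 1 (.leaf 12705120) (.leaf 30257280))) (.node 2 (.node 1 (.leaf 30281760) (.leaf 30306240)) (.node 1 (.leaf 20844014) (.leaf 30330720))))) (.node 8 (.node 4 (.node 2 (.node 1 (.leaf 12754080) (.leaf 30355200)) (.node 1 (.leaf 30379680) (.leaf 30404160))) (.node 2 (.node 1 (.leaf 12778560) (.leaf 30428640)) (.node 1 (.leaf 30453120) (.leaf 30477600)))) (.node 4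 (.node 2 (.node 1 (.leaf 30502080) (.leaf 30526560)) (.node 1 (.leaf 30551040) (.leaf 30575520))) (.node 2 (.node 1 (.leaf 12852000) (.leaf 30600000)) (.node 1 (.leaf 30624480) (.leaf 30648960)))))) (.node 16 (.node 8 (.node 4 (.node 2 (.node 1 (.leaf 12876480) (.leaf 10939905)) (.node 1 (.leaf 30673440) (.leaf 30697920))) (.node 2 (.node 1 (.leaf 30722400) (.leaf 30746880)) (.node 1 (.leaf 12925440) (.leaf 30771360)))) (.node 4 (.node 2 (.node 1 (.leaf 30795840) (.leaf 30820320)) (.node 1 (.leaf 12949920) (.leaf 30844800))) (.node 2 (.node 1 (.leaf 30869280) (.leaf 30893760)) (.node 1 (.leaf 16391789) (.leaf 30918240))))) (.node 8 (.node 4 (.node 2 (.node 1 (.leaf 12998880) (.leaf 30942720)) (.node 1 (.leaf 30967200) (.leaf 30991680))) (.node 2 (.node 1 (.leaf 13023360) (.leaf 31016160)) (.node 1 (.leaf 31040640) (.leaf 31065120)))) (.node 4 (.node 2 (.node 1 (.leaf 31089600) (.leaf 31114080)) (.node 1 (.leaf 13072320) (.leaf 31138560))) (.node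 2 (.node 1 (.leaf 31163040) (.leaf 31187520)) (.node 1 (.leaf 13121280) (.leaf 31212000)))))))) (.node 64 (.node 32 (.node 16 (.node 8 (.node 4 (.node 2 (.node 1 (.leaf 31236480) (.leaf 31260960)) (.node 1 (.leaf 31285440) (.leaf 31309920))) (.node 2 (.node 1 (.leaf 13170240) (.leaf 31334400)) (.node 1 (.leaf 31358880) (.leaf 31383360)))) (.node 4 (.node 2 (.node 1 (.leaf 31407840) (.leaf 31432320)) (.node 1 (.leaf 13219200) (.leaf 832320))) (.node 2 (.node 1 (.leaf 31456800) (.leaf 31481280)) (.node 1 (.leaf 13243680) (.leaf 31505760))))) (.node 8 (.node 4 (.node 2 (.node 1 (.leaf 23644772) (.leaf 31530240)) (.node 1 (.leaf 31554720) (.leaf 31579200))) (.node 2 (.node 1 (.leaf 13292640) (.leaf 31603680)) (.node 1 (.leaf 31215524) (.leaf 31628160)))) (.node 4 (.node 2 (.node 1 (.leaf 13317120) (.leaf 31652640)) (.node 1 (.leaf 31677120) (.leaf 31701600))) (.node 2 (.node 1 (.leaf 31726080) (.leaf 31750560)) (.node 1 (.leaf 13366080) (.leaf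 31775040)))))) (.node 16 (.node 8 (.node 4 (.node 2 (.node 1 (.leaf 31799520) (.leaf 24993109)) (.node 1 (.leaf 13390560) (.leaf 31824000))) (.node 2 (.node 1 (.leaf 19789271) (.leaf 31848480)) (.node 1 (.leaf 31872960) (.leaf 31897440)))) (.node 4 (.node 2 (.node 1 (.leaf 13439520) (.leaf 31921920)) (.node 1 (.leaf 31946400) (.leaf 31970880))) (.node 2 (.node 1 (.leaf 13464000) (.leaf 31995360)) (.node 1 (.leaf 32019840) (.leaf 32044320))))) (.node 8 (.node 4 (.node 2 (.node 1 (.leaf 13512960) (.leaf 32068800)) (.node 1 (.leaf 32093280) (.leaf 17682513))) (.node 2 (.node 1 (.leaf 32117760) (.leaf 5708705)) (.node 1 (.leaf 32142240) (.leaf 32166720)))) (.node 4 (.node 2 (.node 1 (.leaf 13586400) (.leaf 32191200)) (.node 1 (.leaf 32215680) (.leaf 32240160))) (.node 2 (.node 1 (.leaf 32264640) (.leaf 32289120)) (.node 1 (.leaf 13635360) (.leaf 32313600))))))) (.node 32 (.node 16 (.node 8 (.node 4 (.node 2 (.node 1 (.leaf 16593091) (.leaf 32338080))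 (.node 1 (.leaf 13659840) (.leaf 32362560))) (.node 2 (.node 1 (.leaf 32387040) (.leaf 32411520)) (.node 1 (.leaf 32436000) (.leaf 32460480)))) (.node 4 (.node 2 (.node 1 (.leaf 13708800) (.leaf 30680752)) (.node 1 (.leaf 32484960) (.leaf 32509440))) (.node 2 (.node 1 (.leaf 13733280) (.leaf 32533920)) (.node 1 (.leaf 32558400) (.leaf 32582880))))) (.node 8 (.node 4 (.node 2 (.node 1 (.leaf 32607360) (.leaf 32631840)) (.node 1 (.leaf 13782240) (.leaf 32656320))) (.node 2 (.node 1 (.leaf 32680800) (.leaf 32705280)) (.node 1 (.leaf 13831200) (.leaf 32729760)))) (.node 4 (.node 2 (.node 1 (.leaf 32754240) (.leaf 32778720)) (.node 1 (.leaf 13855680) (.leaf 32803200))) (.node 2 (.node 1 (.leaf 17475781) (.leaf 32827680)) (.node 1 (.leaf 13880160) (.leaf 32852160)))))) (.node 16 (.node 8 (.node 4 (.node 2 (.node 1 (.leaf 32876640) (.leaf 32901120)) (.node 1 (.leaf 13929120) (.leaf 32925600))) (.node 2 (.node 1 (.leaf 32950080) (.leaf 32974560)) (.node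 1 (.leaf 32999040) (.leaf 33023520)))) (.node 4 (.node 2 (.node 1 (.leaf 13978080) (.leaf 33048000)) (.node 1 (.leaf 33072480) (.leaf 33096960))) (.node 2 (.node 1 (.leaf 14002560) (.leaf 33121440)) (.node 1 (.leaf 33145920) (.leaf 33170400))))) (.node 8 (.node 4 (.node 2 (.node 1 (.leaf 14051520) (.leaf 33194880)) (.node 1 (.leaf 33219360) (.leaf 33243840))) (.node 2 (.node 1 (.leaf 33268320) (.leaf 33292800)) (.node 1 (.leaf 14100480) (.leaf 33317280)))) (.node 4 (.node 2 (.node 1 (.leaf 33341760) (.leaf 33366240)) (.node 1 (.leaf 33390720) (.leaf 33415200))) (.node 2 (.node 1 (.leaf 14149440) (.leaf 33439680)) (.node 1 (.leaf 33464160) (.leaf 33488640))))))))) (.node 128 (.node 64 (.node 32 (.node 16 (.node 8 (.node 4 (.node 2 (.node 1 (.leaf 14173920) (.leaf 33513120)) (.node 1 (.leaf 33537600) (.leaf 33562080))) (.node 2 (.node 1 (.leaf 33586560) (.leaf 33611040)) (.node 1 (.leaf 14222880) (.leaf 33635520)))) (.node 4 (.node 2 (.node 1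 (.leaf 33660000) (.leaf 33684480)) (.node 1 (.leaf 33708960) (.leaf 33733440))) (.node 2 (.node 1 (.leaf 14271840) (.leaf 905760)) (.node 1 (.leaf 33757920) (.leaf 21965777))))) (.node 8 (.node 4 (.node 2 (.node 1 (.leaf 14296320) (.leaf 33782400)) (.node 1 (.leaf 33806880) (.leaf 33831360))) (.node 2 (.node 1 (.leaf 33855840) (.leaf 33880320)) (.node 1 (.leaf 14345280) (.leaf 33904800)))) (.node 4 (.node 2 (.node 1 (.leaf 33929280) (.leaf 33953760)) (.node 1 (.leaf 33978240) (.leaf 34002720))) (.node 2 (.node 1 (.leaf 34027200) (.leaf 20811854)) (.node 1 (.leaf 14418720) (.leaf 27562198)))))) (.node 16 (.node 8 (.node 4 (.node 2 (.node 1 (.leaf 25240122) (.leaf 34051680)) (.node 1 (.leaf 34076160) (.leaf 23726945))) (.node 2 (.node 1 (.leaf 34100640) (.leaf 34125120)) (.node 1 (.leaf 14492160) (.leaf 34149600)))) (.node 4 (.node 2 (.node 1 (.leaf 34174080) (.leaf 34198560)) (.node 1 (.leaf 34223040) (.leaf 34247520))) (.node 2 (.node 1 (.leaf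 14541120) (.leaf 34272000)) (.node 1 (.leaf 34296480) (.leaf 34320960))))) (.node 8 (.node 4 (.node 2 (.node 1 (.leaf 34345440) (.leaf 34369920)) (.node 1 (.leaf 14590080) (.leaf 34394400))) (.node 2 (.node 1 (.leaf 34418880) (.leaf 34443360)) (.node 1 (.leaf 14614560) (.leaf 34467840)))) (.node 4 (.node 2 (.node 1 (.leaf 34492320) (.leaf 34516800)) (.node 1 (.leaf 34541280) (.leaf 17412988))) (.node 2 (.node 1 (.leaf 14663520) (.leaf 34565760)) (.node 1 (.leaf 34590240) (.leaf 34614720))))))) (.node 32 (.node 16 (.node 8 (.node 4 (.node 2 (.node 1 (.leaf 14688000) (.leaf 34639200)) (.node 1 (.leaf 34663680) (.leaf 34688160))) (.node 2 (.node 1 (.leaf 34712640) (.leaf 34737120)) (.node 1 (.leaf 14736960) (.leaf 34761600)))) (.node 4 (.node 2 (.node 1 (.leaf 34786080) (.leaf 34810560)) (.node 1 (.leaf 34835040) (.leaf 34859520))) (.node 2 (.node 1 (.leaf 14785920) (.leaf 34884000)) (.node 1 (.leaf 34908480) (.leaf 34932960))))) (.node 8 (.node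 4 (.node 2 (.node 1 (.leaf 14810400) (.leaf 34957440)) (.node 1 (.leaf 34692626) (.leaf 34981920))) (.node 2 (.node 1 (.leaf 35006400) (.leaf 35030880)) (.node 1 (.leaf 35055360) (.leaf 35079840)))) (.node 4 (.node 2 (.node 1 (.leaf 35104320) (.leaf 35128800)) (.node 1 (.leaf 14908320) (.leaf 954720))) (.node 2 (.node 1 (.leaf 35153280) (.leaf 35177760)) (.node 1 (.leaf 14932800) (.leaf 35202240)))))) (.node 16 (.node 8 (.node 4 (.node 2 (.node 1 (.leaf 35226720) (.leaf 35251200)) (.node 1 (.leaf 35275680) (.leaf 35300160))) (.node 2 (.node 1 (.leaf 14981760) (.leaf 20123506)) (.node 1 (.leaf 35324640) (.leaf 35349120)))) (.node 4 (.node 2 (.node 1 (.leaf 15006240) (.leaf 35373600)) (.node 1 (.leaf 35398080) (.leaf 35422560))) (.node 2 (.node 1 (.leaf 35447040) (.leaf 35471520)) (.node 1 (.leaf 15055200) (.leaf 35496000))))) (.node 8 (.node 4 (.node 2 (.node 1 (.leaf 35520480) (.leaf 35544960)) (.node 1 (.leaf 35569440) (.leaf 35593920))) (.node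 2 (.node 1 (.leaf 35618400) (.leaf 35642880)) (.node 1 (.leaf 15128640) (.leaf 35667360)))) (.node 4 (.node 2 (.node 1 (.leaf 35691840) (.leaf 35716320)) (.node 1 (.leaf 35740800) (.leaf 35765280))) (.node 2 (.node 1 (.leaf 15177600) (.leaf 35789760)) (.node 1 (.leaf 35814240) (.leaf 35838720)))))))) (.node 64 (.node 32 (.node 16 (.node 8 (.node 4 (.node 2 (.node 1 (.leaf 15202080) (.leaf 35863200)) (.node 1 (.leaf 35887680) (.leaf 35912160))) (.node 2 (.node 1 (.leaf 35936640) (.leaf 35961120)) (.node 1 (.leaf 15251040) (.leaf 35985600)))) (.node 4 (.node 2 (.node 1 (.leaf 20592789) (.leaf 10457995)) (.node 1 (.leaf 36010080) (.leaf 36034560))) (.node 2 (.node 1 (.leaf 15300000) (.leaf 36059040)) (.node 1 (.leaf 36083520) (.leaf 36108000))))) (.node 8 (.node 4 (.node 2 (.node 1 (.leaf 15324480) (.leaf 36132480)) (.node 1 (.leaf 36156960) (.leaf 36181440))) (.node 2 (.node 1 (.leaf 36205920) (.leaf 23496238)) (.node 1 (.leaf 15373440) (.leaf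 36230400)))) (.node 4 (.node 2 (.node 1 (.leaf 36254880) (.leaf 36279360)) (.node 1 (.leaf 36303840) (.leaf 36328320))) (.node 2 (.node 1 (.leaf 15422400) (.leaf 36352800)) (.node 1 (.leaf 36377280) (.leaf 30462241)))))) (.node 16 (.node 8 (.node 4 (.node 2 (.node 1 (.leaf 36401760) (.leaf 36426240)) (.node 1 (.leaf 15471360) (.leaf 36450720))) (.node 2 (.node 1 (.leaf 36475200) (.leaf 33818108)) (.node 1 (.leaf 15495840) (.leaf 36499680)))) (.node 4 (.node 2 (.node 1 (.leaf 36524160) (.leaf 36548640)) (.node 1 (.leaf 36573120) (.leaf 36597600))) (.node 2 (.node 1 (.leaf 15569280) (.leaf 36622080)) (.node 1 (.leaf 36646560) (.leaf 36671040))))) (.node 8 (.node 4 (.node 2 (.node 1 (.leaf 15593760) (.leaf 36695520)) (.node 1 (.leaf 36720000) (.leaf 36744480))) (.node 2 (.node 1 (.leaf 36768960) (.leaf 36793440)) (.node 1 (.leaf 15642720) (.leaf 12357205)))) (.node 4 (.node 2 (.node 1 (.leaf 36817920) (.leaf 36842400)) (.node 1 (.leaf 15667200)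 (.leaf 21294984))) (.node 2 (.node 1 (.leaf 36866880) (.leaf 36891360)) (.node 1 (.leaf 36915840) (.leaf 36940320))))))) (.node 32 (.node 16 (.node 8 (.node 4 (.node 2 (.node 1 (.leaf 15716160) (.leaf 36964800)) (.node 1 (.leaf 36989280) (.leaf 37013760))) (.node 2 (.node 1 (.leaf 37038240) (.leaf 37062720)) (.node 1 (.leaf 15765120) (.leaf 37087200)))) (.node 4 (.node 2 (.node 1 (.leaf 37111680) (.leaf 37136160)) (.node 1 (.leaf 15789600) (.leaf 37160640))) (.node 2 (.node 1 (.leaf 37185120) (.leaf 37209600)) (.node 1 (.leaf 37234080) (.leaf 37258560))))) (.node 8 (.node 4 (.node 2 (.node 1 (.leaf 15838560) (.leaf 37283040)) (.node 1 (.leaf 37307520) (.leaf 37332000))) (.node 2 (.node 1 (.leaf 15863040) (.leaf 1028160)) (.node 1 (.leaf 37356480) (.leaf 37380960)))) (.node 4 (.node 2 (.node 1 (.leaf 15887520) (.leaf 37405440)) (.node 1 (.leaf 37429920) (.leaf 37454400))) (.node 2 (.node 1 (.leaf 37478880) (.leaf 37503360)) (.node 1 (.leaf 15936480)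 (.leaf 37527840)))))) (.node 16 (.node 8 (.node 4 (.node 2 (.node 1 (.leaf 37552320) (.leaf 37576800)) (.node 1 (.leaf 15960960) (.leaf 37601280))) (.node 2 (.node 1 (.leaf 37625760) (.leaf 37650240)) (.node 1 (.leaf 37674720) (.leaf 37699200)))) (.node 4 (.node 2 (.node 1 (.leaf 37723680) (.leaf 37748160)) (.node 1 (.leaf 37772640) (.leaf 15169830))) (.node 2 (.node 1 (.leaf 16058880) (.leaf 37797120)) (.node 1 (.leaf 37821600) (.leaf 37846080))))) (.node 8 (.node 4 (.node 2 (.node 1 (.leaf 16083360) (.leaf 37870560)) (.node 1 (.leaf 37895040) (.leaf 37919520))) (.node 2 (.node 1 (.leaf 37944000) (.leaf 37968480)) (.node 1 (.leaf 16132320) (.leaf 37992960)))) (.node 4 (.node 2 (.node 1 (.leaf 38017440) (.leaf 38041920)) (.node 1 (.leaf 16156800) (.leaf 38066400))) (.node 2 (.node 1 (.leaf 38090880) (.leaf 36662298)) (.node 1 (.leaf 38115360) (.node 1 (.leaf 38139840) (.leaf 16205760))))))))))))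

/-- Part 2 of `e0Tab`. -/
def e0Tab_2 : BT ℕ :=
  (.node 513 (.node 256 (.node 128 (.node 64 (.node 32 (.node 16 (.node 8 (.node 4 (.node 2 (.node 1 (.leaf 38164320) (.leaf 38188800)) (.node 1 (.leaf 12739322) (.leaf 19258551))) (.node 2 (.node 1 (.leaf 38213280) (.leaf 16254720)) (.node 1 (.leaf 3416288) (.leaf 38237760)))) (.node 4 (.node 2 (.node 1 (.leaf 38262240) (.leaf 38286720)) (.node 1 (.leaf 38311200) (.leaf 22369885))) (.node 2 (.node 1 (.leaf 38335680) (.leaf 16328160)) (.node 1 (.leaf 38360160) (.leaf 38384640))))) (.node 8 (.node 4 (.node 2 (.node 1 (.leaf 38409120) (.leaf 38433600)) (.node 1 (.leaf 38458080) (.leaf 38482560))) (.node 2 (.node 1 (.leaf 38507040) (.leaf 38531520)) (.node 1 (.leaf 38556000) (.leaf 16426080)))) (.node 4 (.node 2 (.node 1 (.leaf 38580480) (.leaf 38604960)) (.node 1 (.leaf 38629440) (.leaf 16450560))) (.node 2 (.node 1 (.leaf 38653920) (.leaf 38678400)) (.node 1 (.leaf 38702880) (.leaf 38727360))))))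 (.node 16 (.node 8 (.node 4 (.node 2 (.node 1 (.leaf 38751840) (.leaf 16499520)) (.node 1 (.leaf 38776320) (.leaf 38800800))) (.node 2 (.node 1 (.leaf 38825280) (.leaf 38849760)) (.node 1 (.leaf 38874240) (.leaf 16548480)))) (.node 4 (.node 2 (.node 1 (.leaf 32629255) (.leaf 25606706)) (.node 1 (.leaf 38898720) (.leaf 38923200))) (.node 2 (.node 1 (.leaf 38947680) (.leaf 16621920)) (.node 1 (.leaf 38972160) (.leaf 38996640))))) (.node 8 (.node 4 (.node 2 (.node 1 (.leaf 39021120) (.leaf 16646400)) (.node 1 (.leaf 39045600) (.leaf 39070080))) (.node 2 (.node 1 (.leaf 39094560) (.leaf 39119040)) (.node 1 (.leaf 39143520) (.leaf 16695360)))) (.node 4 (.node 2 (.node 1 (.leaf 39168000) (.leaf 39192480)) (.node 1 (.leaf 39216960) (.leaf 39241440))) (.node 2 (.node 1 (.leaf 39265920) (.leaf 16744320)) (.node 1 (.leaf 39290400) (.leaf 39314880))))))) (.node 32 (.node 16 (.node 8 (.node 4 (.node 2 (.node 1 (.leaf 39339360) (.leaf 16768800)) (.node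 1 (.leaf 39363840) (.leaf 39388320))) (.node 2 (.node 1 (.leaf 39412800) (.leaf 16817760)) (.node 1 (.leaf 39437280) (.leaf 39461760)))) (.node 4 (.node 2 (.node 1 (.leaf 39486240) (.leaf 16842240)) (.node 1 (.leaf 39510720) (.leaf 16891200))) (.node 2 (.node 1 (.leaf 22117743) (.leaf 39535200)) (.node 1 (.leaf 39559680) (.leaf 39584160))))) (.node 8 (.node 4 (.node 2 (.node 1 (.leaf 39608640) (.leaf 16940160)) (.node 1 (.leaf 39633120) (.leaf 39657600))) (.node 2 (.node 1 (.leaf 39682080) (.leaf 16964640)) (.node 1 (.leaf 39706560) (.leaf 39731040)))) (.node 4 (.node 2 (.node 1 (.leaf 39755520) (.leaf 39780000)) (.node 1 (.leaf 39804480) (.leaf 17013600))) (.node 2 (.node 1 (.leaf 3593019) (.leaf 29195316)) (.node 1 (.leaf 39828960) (.leaf 39853440)))))) (.node 16 (.node 8 (.node 4 (.node 2 (.node 1 (.leaf 39877920) (.leaf 17062560)) (.node 1 (.leaf 39902400) (.leaf 39926880))) (.node 2 (.node 1 (.leaf 39951360) (.leaf 17087040)) (.node 1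 (.leaf 39975840) (.leaf 40000320)))) (.node 4 (.node 2 (.node 1 (.leaf 40024800) (.leaf 40049280)) (.node 1 (.leaf 40073760) (.leaf 17136000))) (.node 2 (.node 1 (.leaf 40098240) (.leaf 40122720)) (.node 1 (.leaf 40147200) (.leaf 17160480))))) (.node 8 (.node 4 (.node 2 (.node 1 (.leaf 40171680) (.leaf 40196160)) (.node 1 (.leaf 40220640) (.leaf 33638712))) (.node 2 (.node 1 (.leaf 40245120) (.leaf 17209440)) (.node 1 (.leaf 40269600) (.leaf 30925868)))) (.node 4 (.node 2 (.node 1 (.leaf 40294080) (.leaf 40318560)) (.node 1 (.leaf 40343040) (.leaf 40367520))) (.node 2 (.node 1 (.leaf 40392000) (.leaf 40416480)) (.node 1 (.leaf 14526325) (.leaf 17307360)))))))) (.node 64 (.node 32 (.node 16 (.node 8 (.node 4 (.node 2 (.node 1 (.leaf 40440960) (.leaf 40465440)) (.node 1 (.leaf 40489920) (.leaf 17356320))) (.node 2 (.node 1 (.leaf 40514400) (.leaf 40538880)) (.node 1 (.leaf 27976658) (.leaf 17380800)))) (.node 4 (.node 2 (.node 1 (.leaf 40563360)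 (.leaf 40587840)) (.node 1 (.leaf 40612320) (.leaf 40636800))) (.node 2 (.node 1 (.leaf 26559382) (.leaf 40661280)) (.node 1 (.leaf 40685760) (.leaf 40710240))))) (.node 8 (.node 4 (.node 2 (.node 1 (.leaf 32754641) (.leaf 40734720)) (.node 1 (.leaf 40759200) (.leaf 17503200))) (.node 2 (.node 1 (.leaf 40783680) (.leaf 40808160)) (.node 1 (.leaf 40832640) (.leaf 40857120)))) (.node 4 (.node 2 (.node 1 (.leaf 40881600) (.leaf 17552160)) (.node 1 (.leaf 1150560) (.leaf 40906080))) (.node 2 (.node 1 (.leaf 10543682) (.leaf 17576640)) (.node 1 (.leaf 40930560) (.leaf 40955040)))))) (.node 16 (.node 8 (.node 4 (.node 2 (.node 1 (.leaf 40979520) (.leaf 41004000)) (.node 1 (.leaf 41028480) (.leaf 17625600))) (.node 2 (.node 1 (.leaf 41052960) (.leaf 18980860)) (.node 1 (.leaf 41077440) (.leaf 17650080)))) (.node 4 (.node 2 (.node 1 (.leaf 41101920) (.leaf 41126400)) (.node 1 (.leaf 41150880) (.leaf 17982474))) (.node 2 (.node 1 (.leaf 41175360) (.leaf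 17699040)) (.node 1 (.leaf 41199840) (.leaf 41224320))))) (.node 8 (.node 4 (.node 2 (.node 1 (.leaf 41248800) (.leaf 41273280)) (.node 1 (.leaf 41297760) (.leaf 17748000))) (.node 2 (.node 1 (.leaf 41322240) (.leaf 41346720)) (.node 1 (.leaf 41371200) (.leaf 17772480)))) (.node 4 (.node 2 (.node 1 (.leaf 36310979) (.leaf 41395680)) (.node 1 (.leaf 41420160) (.leaf 41444640))) (.node 2 (.node 1 (.leaf 41469120) (.leaf 17821440)) (.node 1 (.leaf 41493600) (.leaf 41518080))))))) (.node 32 (.node 16 (.node 8 (.node 4 (.node 2 (.node 1 (.leaf 41542560) (.leaf 17870400)) (.node 1 (.leaf 41567040) (.leaf 41591520))) (.node 2 (.node 1 (.leaf 41616000) (.leaf 41640480)) (.node 1 (.leaf 41664960) (.leaf 17919360)))) (.node 4 (.node 2 (.node 1 (.leaf 41689440) (.leaf 41713920)) (.node 1 (.leaf 41738400) (.leaf 41762880))) (.node 2 (.node 1 (.leaf 41787360) (.leaf 41811840)) (.node 1 (.leaf 41836320) (.leaf 17992800))))) (.node 8 (.node 4 (.node 2 (.node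 1 (.leaf 41860800) (.leaf 41885280)) (.node 1 (.leaf 41909760) (.leaf 18017280))) (.node 2 (.node 1 (.leaf 41934240) (.leaf 41958720)) (.node 1 (.leaf 41983200) (.leaf 41695311)))) (.node 4 (.node 2 (.node 1 (.leaf 42007680) (.leaf 18066240)) (.node 1 (.leaf 42032160) (.leaf 18090720))) (.node 2 (.node 1 (.leaf 42056640) (.leaf 42081120)) (.node 1 (.leaf 42105600) (.leaf 18115200)))))) (.node 16 (.node 8 (.node 4 (.node 2 (.node 1 (.leaf 42130080) (.leaf 42154560)) (.node 1 (.leaf 42179040) (.leaf 42203520))) (.node 2 (.node 1 (.leaf 42228000) (.leaf 18164160)) (.node 1 (.leaf 42252480) (.leaf 42276960)))) (.node 4 (.node 2 (.node 1 (.leaf 42301440) (.leaf 18188640)) (.node 1 (.leaf 42325920) (.leaf 42350400))) (.node 2 (.node 1 (.leaf 42374880) (.leaf 42399360)) (.node 1 (.leaf 42423840) (.leaf 38518718))))) (.node 8 (.node 4 (.node 2 (.node 1 (.leaf 42448320) (.leaf 18262080)) (.node 1 (.leaf 42472800) (.leaf 42497280))) (.node 2 (.node 1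 (.leaf 42521760) (.leaf 18286560)) (.node 1 (.leaf 42546240) (.leaf 42570720)))) (.node 4 (.node 2 (.node 1 (.leaf 42595200) (.leaf 42619680)) (.node 1 (.leaf 42644160) (.leaf 18335520))) (.node 2 (.node 1 (.leaf 42668640) (.leaf 42693120)) (.node 1 (.leaf 42717600) (.leaf 42742080))))))))) (.node 128 (.node 64 (.node 32 (.node 16 (.node 8 (.node 4 (.node 2 (.node 1 (.leaf 42766560) (.leaf 18384480)) (.node 1 (.leaf 42791040) (.leaf 42815520))) (.node 2 (.node 1 (.leaf 42840000) (.leaf 18408960)) (.node 1 (.leaf 8302014) (.leaf 42864480)))) (.node 4 (.node 2 (.node 1 (.leaf 19821234) (.leaf 18457920)) (.node 1 (.leaf 42888960) (.leaf 42913440))) (.node 2 (.node 1 (.leaf 37914523) (.leaf 18482400)) (.node 1 (.leaf 42937920) (.leaf 42962400))))) (.node 8 (.node 4 (.node 2 (.node 1 (.leaf 42986880) (.leaf 33619651)) (.node 1 (.leaf 43011360) (.leaf 43035840))) (.node 2 (.node 1 (.leaf 43060320) (.leaf 18580320)) (.node 1 (.leaf 43084800) (.leaf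 43109280)))) (.node 4 (.node 2 (.node 1 (.leaf 43133760) (.leaf 18604800)) (.node 1 (.leaf 43158240) (.leaf 36960503))) (.node 2 (.node 1 (.leaf 43182720) (.leaf 18629280)) (.node 1 (.leaf 43207200) (.leaf 43231680)))))) (.node 16 (.node 8 (.node 4 (.node 2 (.node 1 (.leaf 35620224) (.leaf 43256160)) (.node 1 (.leaf 43280640) (.leaf 18678240))) (.node 2 (.node 1 (.leaf 1224000) (.leaf 43305120)) (.node 1 (.leaf 34037286) (.leaf 18702720)))) (.node 4 (.node 2 (.node 1 (.leaf 43329600) (.leaf 43354080)) (.node 1 (.leaf 43378560) (.leaf 43403040))) (.node 2 (.node 1 (.leaf 43427520) (.leaf 18751680)) (.node 1 (.leaf 41287207) (.leaf 43452000))))) (.node 8 (.node 4 (.node 2 (.node 1 (.leaf 43476480) (.leaf 43500960)) (.node 1 (.leaf 43525440) (.leaf 28877689))) (.node 2 (.node 1 (.leaf 43549920) (.leaf 18825120)) (.node 1 (.leaf 29424841) (.leaf 43574400)))) (.node 4 (.node 2 (.node 1 (.leaf 43598880) (.leaf 18849600)) (.node 1 (.leaf 43623360)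 (.leaf 43647840))) (.node 2 (.node 1 (.leaf 43672320) (.leaf 28986015)) (.node 1 (.leaf 43696800) (.leaf 18898560))))))) (.node 32 (.node 16 (.node 8 (.node 4 (.node 2 (.node 1 (.leaf 43721280) (.leaf 43745760)) (.node 1 (.leaf 43770240) (.leaf 18923040))) (.node 2 (.node 1 (.leaf 43794720) (.leaf 29539020)) (.node 1 (.leaf 43819200) (.leaf 43843680)))) (.node 4 (.node 2 (.node 1 (.leaf 43868160) (.leaf 43892640)) (.node 1 (.leaf 43917120) (.leaf 18996480))) (.node 2 (.node 1 (.leaf 43941600) (.leaf 26259652)) (.node 1 (.leaf 43966080) (.leaf 19020960))))) (.node 8 (.node 4 (.node 2 (.node 1 (.leaf 43990560) (.leaf 44015040)) (.node 1 (.leaf 44039520) (.leaf 19069920))) (.node 2 (.node 1 (.leaf 44064000) (.leaf 44088480)) (.node 1 (.leaf 44112960) (.leaf 19094400)))) (.node 4 (.node 2 (.node 1 (.leaf 44137440) (.leaf 44161920)) (.node 1 (.leaf 44186400) (.leaf 19118880))) (.node 2 (.node 1 (.leaf 44210880) (.leaf 44235360)) (.node 1 (.leaf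 40553345) (.leaf 19143360)))))) (.node 16 (.node 8 (.node 4 (.node 2 (.node 1 (.leaf 44259840) (.leaf 44284320)) (.node 1 (.leaf 44308800) (.leaf 19192320))) (.node 2 (.node 1 (.leaf 44333280) (.leaf 44357760)) (.node 1 (.leaf 44382240) (.leaf 44406720)))) (.node 4 (.node 2 (.node 1 (.leaf 44431200) (.leaf 29089373)) (.node 1 (.leaf 44455680) (.leaf 19265760))) (.node 2 (.node 1 (.leaf 44480160) (.leaf 44504640)) (.node 1 (.leaf 44529120) (.leaf 44553600))))) (.node 8 (.node 4 (.node 2 (.node 1 (.leaf 44578080) (.leaf 19314720)) (.node 1 (.leaf 44602560) (.leaf 44627040))) (.node 2 (.node 1 (.leaf 44651520) (.leaf 44676000)) (.node 1 (.leaf 44700480) (.leaf 19363680)))) (.node 4 (.node 2 (.node 1 (.leaf 1272960) (.leaf 44724960)) (.node 1 (.leaf 44749440) (.leaf 19388160))) (.node 2 (.node 1 (.leaf 44773920) (.leaf 44798400)) (.node 1 (.leaf 44822880) (.leaf 44847360)))))))) (.node 64 (.node 32 (.node 16 (.node 8 (.node 4 (.node 2 (.node 1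 (.leaf 44871840) (.leaf 19437120)) (.node 1 (.leaf 44896320) (.leaf 44920800))) (.node 2 (.node 1 (.leaf 44945280) (.leaf 19461600)) (.node 1 (.leaf 44969760) (.leaf 44994240)))) (.node 4 (.node 2 (.node 1 (.leaf 45018720) (.leaf 45043200)) (.node 1 (.leaf 45067680) (.leaf 19510560))) (.node 2 (.node 1 (.leaf 45092160) (.leaf 45116640)) (.node 1 (.leaf 17246251) (.leaf 45141120))))) (.node 8 (.node 4 (.node 2 (.node 1 (.leaf 45165600) (.leaf 19559520)) (.node 1 (.leaf 45190080) (.leaf 45214560))) (.node 2 (.node 1 (.leaf 45239040) (.leaf 19584000)) (.node 1 (.leaf 45263520) (.leaf 45288000)))) (.node 4 (.node 2 (.node 1 (.leaf 45312480) (.leaf 19632960)) (.node 1 (.leaf 45336960) (.leaf 45361440))) (.node 2 (.node 1 (.leaf 45385920) (.leaf 19657440)) (.node 1 (.leaf 45410400) (.leaf 45434880)))))) (.node 16 (.node 8 (.node 4 (.node 2 (.node 1 (.leaf 45459360) (.leaf 19706400)) (.node 1 (.leaf 45483840) (.leaf 45508320))) (.node 2 (.node 1 (.leaf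 4199806) (.leaf 45532800)) (.node 1 (.leaf 45557280) (.leaf 19755360)))) (.node 4 (.node 2 (.node 1 (.leaf 45581760) (.leaf 40268897)) (.node 1 (.leaf 45606240) (.leaf 45630720))) (.node 2 (.node 1 (.leaf 45526437) (.leaf 45655200)) (.node 1 (.leaf 45679680) (.leaf 19828800))))) (.node 8 (.node 4 (.node 2 (.node 1 (.leaf 45704160) (.leaf 45728640)) (.node 1 (.leaf 45753120) (.leaf 45777600))) (.node 2 (.node 1 (.leaf 45802080) (.leaf 19877760)) (.node 1 (.leaf 45826560) (.leaf 45851040)))) (.node 4 (.node 2 (.node 1 (.leaf 45875520) (.leaf 19902240)) (.node 1 (.leaf 45900000) (.leaf 45924480))) (.node 2 (.node 1 (.leaf 45948960) (.leaf 19926720)) (.node 1 (.leaf 45973440) (.leaf 45997920))))))) (.node 32 (.node 16 (.node 8 (.node 4 (.node 2 (.node 1 (.leaf 36878522) (.leaf 44161130)) (.node 1 (.leaf 46022400) (.leaf 19975680))) (.node 2 (.node 1 (.leaf 46046880) (.leaf 46071360)) (.node 1 (.leaf 46095840) (.leaf 20024640)))) (.node 4 (.node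 2 (.node 1 (.leaf 46120320) (.leaf 46144800)) (.node 1 (.leaf 46169280) (.leaf 20049120))) (.node 2 (.node 1 (.leaf 46193760) (.leaf 44479625)) (.node 1 (.leaf 46218240) (.leaf 46242720))))) (.node 8 (.node 4 (.node 2 (.node 1 (.leaf 16248728) (.leaf 20098080)) (.node 1 (.leaf 46267200) (.leaf 46291680))) (.node 2 (.node 1 (.leaf 46316160) (.leaf 46340640)) (.node 1 (.leaf 46365120) (.leaf 20147040)))) (.node 4 (.node 2 (.node 1 (.leaf 46389600) (.leaf 44612327)) (.node 1 (.leaf 46414080) (.leaf 26569132))) (.node 2 (.node 1 (.leaf 46438560) (.leaf 38235907)) (.node 1 (.leaf 46463040) (.leaf 20220480)))))) (.node 16 (.node 8 (.node 4 (.node 2 (.node 1 (.leaf 46487520) (.leaf 46512000)) (.node 1 (.leaf 46536480) (.leaf 46560960))) (.node 2 (.node 1 (.leaf 46585440) (.leaf 20269440)) (.node 1 (.leaf 1346400) (.leaf 46609920)))) (.node 4 (.node 2 (.node 1 (.leaf 46634400) (.leaf 20293920)) (.node 1 (.leaf 46658880) (.leaf 46683360))) (.node 2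 (.node 1 (.leaf 46707840) (.leaf 46732320)) (.node 1 (.leaf 46756800) (.leaf 20342880))))) (.node 8 (.node 4 (.node 2 (.node 1 (.leaf 15748224) (.leaf 46781280)) (.node 1 (.leaf 46805760) (.leaf 20667984))) (.node 2 (.node 1 (.leaf 46830240) (.leaf 20391840)) (.node 1 (.leaf 46854720) (.leaf 36191301)))) (.node 4 (.node 2 (.node 1 (.leaf 46879200) (.leaf 20416320)) (.node 1 (.leaf 32702147) (.leaf 46903680))) (.node 2 (.node 1 (.leaf 46928160) (.leaf 46952640)) (.node 1 (.leaf 46977120) (.node 1 (.leaf 20465280) (.leaf 8445372))))))))))) (.node 256 (.node 128 (.node 64 (.node 32 (.node 16 (.node 8 (.node 4 (.node 2 (.node 1 (.leaf 47001600) (.leaf 47026080)) (.node 1 (.leaf 20489760) (.leaf 47050560))) (.node 2 (.node 1 (.leaf 47075040) (.leaf 47099520)) (.node 1 (.leaf 20538720) (.leaf 37697499)))) (.node 4 (.node 2 (.node 1 (.leaf 43220286) (.leaf 47124000)) (.node 1 (.leaf 47148480) (.leaf 47172960))) (.node 2 (.node 1 (.leaf 47197440) (.leaf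 47221920)) (.node 1 (.leaf 20612160) (.leaf 47246400))))) (.node 8 (.node 4 (.node 2 (.node 1 (.leaf 47270880) (.leaf 47295360)) (.node 1 (.leaf 47319840) (.leaf 47344320))) (.node 2 (.node 1 (.leaf 47368800) (.leaf 47393280)) (.node 1 (.leaf 47417760) (.leaf 47442240)))) (.node 4 (.node 2 (.node 1 (.leaf 20710080) (.leaf 47466720)) (.node 1 (.leaf 47491200) (.leaf 47515680))) (.node 2 (.node 1 (.leaf 20734560) (.leaf 47540160)) (.node 1 (.leaf 47564640) (.leaf 47589120)))))) (.node 16 (.node 8 (.node 4 (.node 2 (.node 1 (.leaf 47613600) (.leaf 47638080)) (.node 1 (.leaf 20783520) (.leaf 47662560))) (.node 2 (.node 1 (.leaf 44587176) (.leaf 47687040)) (.node 1 (.leaf 47711520) (.leaf 47736000)))) (.node 4 (.node 2 (.node 1 (.leaf 20856960) (.leaf 47760480)) (.node 1 (.leaf 47784960) (.leaf 47809440))) (.node 2 (.node 1 (.leaf 47833920) (.leaf 47858400)) (.node 1 (.leaf 20905920) (.leaf 47882880))))) (.node 8 (.node 4 (.node 2 (.node 1 (.leaf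 47907360) (.leaf 47931840)) (.node 1 (.leaf 47956320) (.leaf 47980800))) (.node 2 (.node 1 (.leaf 20954880) (.leaf 34542428)) (.node 1 (.leaf 48005280) (.leaf 48029760)))) (.node 4 (.node 2 (.node 1 (.leaf 48054240) (.leaf 48078720)) (.node 1 (.leaf 21003840) (.leaf 48103200))) (.node 2 (.node 1 (.leaf 21028320) (.leaf 48127680)) (.node 1 (.leaf 21052800) (.leaf 48152160))))))) (.node 32 (.node 16 (.node 8 (.node 4 (.node 2 (.node 1 (.leaf 48176640) (.leaf 8541772)) (.node 1 (.leaf 48201120) (.leaf 48225600))) (.node 2 (.node 1 (.leaf 21101760) (.leaf 39483114)) (.node 1 (.leaf 48250080) (.leaf 48274560)))) (.node 4 (.node 2 (.node 1 (.leaf 21126240) (.leaf 48299040)) (.node 1 (.leaf 48323520) (.leaf 1419840))) (.node 2 (.node 1 (.leaf 48348000) (.leaf 48372480)) (.node 1 (.leaf 48396960) (.leaf 48421440))))) (.node 8 (.node 4 (.node 2 (.node 1 (.leaf 48445920) (.leaf 48470400)) (.node 1 (.leaf 21224160) (.leaf 48494880))) (.node 2 (.node 1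 (.leaf 48519360) (.leaf 48543840)) (.node 1 (.leaf 21248640) (.leaf 48568320)))) (.node 4 (.node 2 (.node 1 (.leaf 48592800) (.leaf 48617280)) (.node 1 (.leaf 21297600) (.leaf 48641760))) (.node 2 (.node 1 (.leaf 48666240) (.leaf 48690720)) (.node 1 (.leaf 48715200) (.leaf 48739680)))))) (.node 16 (.node 8 (.node 4 (.node 2 (.node 1 (.leaf 21346560) (.leaf 48764160)) (.node 1 (.leaf 48788640) (.leaf 48813120))) (.node 2 (.node 1 (.leaf 21371040) (.leaf 48837600)) (.node 1 (.leaf 48862080) (.leaf 48886560)))) (.node 4 (.node 2 (.node 1 (.leaf 32672476) (.leaf 21614148)) (.node 1 (.leaf 21420000) (.leaf 48911040))) (.node 2 (.node 1 (.leaf 48935520) (.leaf 48960000)) (.node 1 (.leaf 48984480) (.leaf 49008960))))) (.node 8 (.node 4 (.node 2 (.node 1 (.leaf 21468960) (.leaf 49033440)) (.node 1 (.leaf 49057920) (.leaf 49082400))) (.node 2 (.node 1 (.leaf 49106880) (.leaf 49131360)) (.node 1 (.leaf 49155840) (.leaf 17038624)))) (.node 4 (.node 2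 (.node 1 (.leaf 49180320) (.leaf 49204800)) (.node 1 (.leaf 21566880) (.leaf 49229280))) (.node 2 (.node 1 (.leaf 37420043) (.leaf 49253760)) (.node 1 (.leaf 49278240) (.leaf 49302720)))))))) (.node 64 (.node 32 (.node 16 (.node 8 (.node 4 (.node 2 (.node 1 (.leaf 21615840) (.leaf 49060016)) (.node 1 (.leaf 49327200) (.leaf 49351680))) (.node 2 (.node 1 (.leaf 21640320) (.leaf 49376160)) (.node 1 (.leaf 49400640) (.leaf 49425120)))) (.node 4 (.node 2 (.node 1 (.leaf 49449600) (.leaf 49474080)) (.node 1 (.leaf 21689280) (.leaf 49498560))) (.node 2 (.node 1 (.leaf 49523040) (.leaf 49547520)) (.node 1 (.leaf 49572000) (.leaf 49596480))))) (.node 8 (.node 4 (.node 2 (.node 1 (.leaf 21738240) (.leaf 49620960)) (.node 1 (.leaf 46727654) (.leaf 49645440))) (.node 2 (.node 1 (.leaf 49669920) (.leaf 49694400)) (.node 1 (.leaf 21787200) (.leaf 1468800)))) (.node 4 (.node 2 (.node 1 (.leaf 49718880) (.leaf 31811658)) (.node 1 (.leaf 21811680) (.leaf 49743360)))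 (.node 2 (.node 1 (.leaf 49767840) (.leaf 49792320)) (.node 1 (.leaf 49816800) (.leaf 24572644)))))) (.node 16 (.node 8 (.node 4 (.node 2 (.node 1 (.leaf 21860640) (.leaf 49841280)) (.node 1 (.leaf 49865760) (.leaf 49890240))) (.node 2 (.node 1 (.leaf 21885120) (.leaf 49914720)) (.node 1 (.leaf 49939200) (.leaf 49963680)))) (.node 4 (.node 2 (.node 1 (.leaf 49988160) (.leaf 50012640)) (.node 1 (.leaf 21934080) (.leaf 50037120))) (.node 2 (.node 1 (.leaf 50061600) (.leaf 36206715)) (.node 1 (.leaf 50086080) (.leaf 50110560))))) (.node 8 (.node 4 (.node 2 (.node 1 (.leaf 21983040) (.leaf 50135040)) (.node 1 (.leaf 50159520) (.leaf 42413890))) (.node 2 (.node 1 (.leaf 22007520) (.leaf 50184000)) (.node 1 (.leaf 28465684) (.leaf 50208480)))) (.node 4 (.node 2 (.node 1 (.leaf 26520760) (.leaf 50232960)) (.node 1 (.leaf 22056480) (.leaf 50257440))) (.node 2 (.node 1 (.leaf 50281920) (.leaf 50306400)) (.node 1 (.leaf 22080960) (.leaf 50330880)))))))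 (.node 32 (.node 16 (.node 8 (.node 4 (.node 2 (.node 1 (.leaf 50355360) (.leaf 50379840)) (.node 1 (.leaf 22129920) (.leaf 50404320))) (.node 2 (.node 1 (.leaf 50428800) (.leaf 50453280)) (.node 1 (.leaf 22178880) (.leaf 50477760)))) (.node 4 (.node 2 (.node 1 (.leaf 50502240) (.leaf 50526720)) (.node 1 (.leaf 22203360) (.leaf 50551200))) (.node 2 (.node 1 (.leaf 48155639) (.leaf 50575680)) (.node 1 (.leaf 50600160) (.leaf 50624640))))) (.node 8 (.node 4 (.node 2 (.node 1 (.leaf 22252320) (.leaf 50649120)) (.node 1 (.leaf 50673600) (.leaf 50698080))) (.node 2 (.node 1 (.leaf 22276800) (.leaf 50722560)) (.node 1 (.leaf 50747040) (.leaf 50771520)))) (.node 4 (.node 2 (.node 1 (.leaf 22301280) (.leaf 50796000)) (.node 1 (.leaf 50820480) (.leaf 50844960))) (.node 2 (.node 1 (.leaf 22374720) (.leaf 50869440)) (.node 1 (.leaf 22399200) (.leaf 50893920)))))) (.node 16 (.node 8 (.node 4 (.node 2 (.node 1 (.leaf 50918400) (.leaf 38404675)) (.node 1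 (.leaf 50942880) (.leaf 50967360))) (.node 2 (.node 1 (.leaf 22448160) (.leaf 50991840)) (.node 1 (.leaf 51016320) (.leaf 51040800)))) (.node 4 (.node 2 (.node 1 (.leaf 22472640) (.leaf 51065280)) (.node 1 (.leaf 51089760) (.leaf 51114240))) (.node 2 (.node 1 (.leaf 51138720) (.leaf 51163200)) (.node 1 (.leaf 22521600) (.leaf 51187680))))) (.node 8 (.node 4 (.node 2 (.node 1 (.leaf 51212160) (.leaf 51236640)) (.node 1 (.leaf 22546080) (.leaf 51261120))) (.node 2 (.node 1 (.leaf 51285600) (.leaf 51310080)) (.node 1 (.leaf 51334560) (.leaf 51359040)))) (.node 4 (.node 2 (.node 1 (.leaf 22595040) (.leaf 51383520)) (.node 1 (.leaf 51408000) (.leaf 51432480))) (.node 2 (.node 1 (.leaf 51456960) (.leaf 51481440)) (.node 1 (.leaf 22644000) (.leaf 51505920))))))))) (.node 128 (.node 64 (.node 32 (.node 16 (.node 8 (.node 4 (.node 2 (.node 1 (.leaf 51530400) (.leaf 51554880)) (.node 1 (.leaf 22668480) (.leaf 51579360))) (.node 2 (.node 1 (.leaf 51603840)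 (.leaf 51628320)) (.node 1 (.leaf 22717440) (.leaf 51652800)))) (.node 4 (.node 2 (.node 1 (.leaf 51677280) (.leaf 51701760)) (.node 1 (.leaf 51726240) (.leaf 51750720))) (.node 2 (.node 1 (.leaf 22766400) (.leaf 1542240)) (.node 1 (.leaf 22986426) (.leaf 51775200))))) (.node 8 (.node 4 (.node 2 (.node 1 (.leaf 22790880) (.leaf 51799680)) (.node 1 (.leaf 51824160) (.leaf 51848640))) (.node 2 (.node 1 (.leaf 51873120) (.leaf 51897600)) (.node 1 (.leaf 22839840) (.leaf 51922080)))) (.node 4 (.node 2 (.node 1 (.leaf 51946560) (.leaf 51971040)) (.node 1 (.leaf 22864320) (.leaf 51995520))) (.node 2 (.node 1 (.leaf 52020000) (.leaf 52044480)) (.node 1 (.leaf 52068960) (.leaf 52093440)))))) (.node 16 (.node 8 (.node 4 (.node 2 (.node 1 (.leaf 22913280) (.leaf 52117920)) (.node 1 (.leaf 52142400) (.leaf 52166880))) (.node 2 (.node 1 (.leaf 52191360) (.leaf 52215840)) (.node 1 (.leaf 52240320) (.leaf 52264800)))) (.node 4 (.node 2 (.node 1 (.leaf 22986720)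 (.leaf 52289280)) (.node 1 (.leaf 52313760) (.leaf 33279343))) (.node 2 (.node 1 (.leaf 23011200) (.leaf 40721478)) (.node 1 (.leaf 52338240) (.leaf 52362720))))) (.node 8 (.node 4 (.node 2 (.node 1 (.leaf 23035680) (.leaf 43862808)) (.node 1 (.leaf 52387200) (.leaf 13277955))) (.node 2 (.node 1 (.leaf 23084640) (.leaf 52411680)) (.node 1 (.leaf 52436160) (.leaf 52460640)))) (.node 4 (.node 2 (.node 1 (.leaf 52485120) (.leaf 52509600)) (.node 1 (.leaf 23133600) (.leaf 52534080))) (.node 2 (.node 1 (.leaf 52558560) (.leaf 52583040)) (.node 1 (.leaf 23158080) (.leaf 10188443))))))) (.node 32 (.node 16 (.node 8 (.node 4 (.node 2 (.node 1 (.leaf 52607520) (.leaf 52632000)) (.node 1 (.leaf 23207040) (.leaf 52656480))) (.node 2 (.node 1 (.leaf 52680960) (.leaf 52705440)) (.node 1 (.leaf 45246841) (.leaf 52729920)))) (.node 4 (.node 2 (.node 1 (.leaf 23256000) (.leaf 52754400)) (.node 1 (.leaf 52778880) (.leaf 45155466))) (.node 2 (.node 1 (.leaf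 23280480) (.leaf 52803360)) (.node 1 (.leaf 52827840) (.leaf 52852320))))) (.node 8 (.node 4 (.node 2 (.node 1 (.leaf 52876800) (.leaf 52901280)) (.node 1 (.leaf 23329440) (.leaf 52925760))) (.node 2 (.node 1 (.leaf 52950240) (.leaf 52974720)) (.node 1 (.leaf 23353920) (.leaf 52999200)))) (.node 4 (.node 2 (.node 1 (.leaf 53023680) (.leaf 53048160)) (.node 1 (.leaf 23378400) (.leaf 53072640))) (.node 2 (.node 1 (.leaf 53097120) (.leaf 53121600)) (.node 1 (.leaf 53146080) (.leaf 53170560)))))) (.node 16 (.node 8 (.node 4 (.node 2 (.node 1 (.leaf 23427360) (.leaf 53195040)) (.node 1 (.leaf 53219520) (.leaf 53244000))) (.node 2 (.node 1 (.leaf 23451840) (.leaf 53268480)) (.node 1 (.leaf 53292960) (.leaf 53317440)))) (.node 4 (.node 2 (.node 1 (.leaf 53341920) (.leaf 13215003)) (.node 1 (.leaf 23500800) (.leaf 53366400))) (.node 2 (.node 1 (.leaf 53390880) (.leaf 50074058)) (.node 1 (.leaf 53415360) (.leaf 53439840))))) (.node 8 (.node 4 (.node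 2 (.node 1 (.leaf 23549760) (.leaf 1591200)) (.node 1 (.leaf 53464320) (.leaf 53488800))) (.node 2 (.node 1 (.leaf 23574240) (.leaf 53513280)) (.node 1 (.leaf 53537760) (.leaf 53562240)))) (.node 4 (.node 2 (.node 1 (.leaf 53586720) (.leaf 53611200)) (.node 1 (.leaf 23647680) (.leaf 53635680))) (.node 2 (.node 1 (.leaf 53660160) (.leaf 53684640)) (.node 1 (.leaf 53709120) (.leaf 53733600)))))))) (.node 64 (.node 32 (.node 16 (.node 8 (.node 4 (.node 2 (.node 1 (.leaf 23696640) (.leaf 53758080)) (.node 1 (.leaf 53782560) (.leaf 53807040))) (.node 2 (.node 1 (.leaf 53831520) (.leaf 53856000)) (.node 1 (.leaf 23745600) (.leaf 53880480)))) (.node 4 (.node 2 (.node 1 (.leaf 31284311) (.leaf 53904960)) (.node 1 (.leaf 23770080) (.leaf 25038531))) (.node 2 (.node 1 (.leaf 43159782) (.leaf 53929440)) (.node 1 (.leaf 23819040) (.leaf 53953920))))) (.node 8 (.node 4 (.node 2 (.node 1 (.leaf 53978400) (.leaf 54002880)) (.node 1 (.leaf 23843520) (.leaf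 54027360))) (.node 2 (.node 1 (.leaf 54051840) (.leaf 54076320)) (.node 1 (.leaf 54100800) (.leaf 54125280)))) (.node 4 (.node 2 (.node 1 (.leaf 23892480) (.leaf 54149760)) (.node 1 (.leaf 23916960) (.leaf 54174240))) (.node 2 (.node 1 (.leaf 54198720) (.leaf 54223200)) (.node 1 (.leaf 54247680) (.leaf 54272160)))))) (.node 16 (.node 8 (.node 4 (.node 2 (.node 1 (.leaf 23965920) (.leaf 54296640)) (.node 1 (.leaf 54321120) (.leaf 54345600))) (.node 2 (.node 1 (.leaf 24014880) (.leaf 54370080)) (.node 1 (.leaf 54394560) (.leaf 54419040)))) (.node 4 (.node 2 (.node 1 (.leaf 24039360) (.leaf 54443520)) (.node 1 (.leaf 54468000) (.leaf 54492480))) (.node 2 (.node 1 (.leaf 54516960) (.leaf 54541440)) (.node 1 (.leaf 24088320) (.leaf 54565920))))) (.node 8 (.node 4 (.node 2 (.node 1 (.leaf 54590400) (.leaf 54614880)) (.node 1 (.leaf 54639360) (.leaf 54663840))) (.node 2 (.node 1 (.leaf 24137280) (.leaf 54688320)) (.node 1 (.leaf 54712800) (.leaf 54737280))))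 (.node 4 (.node 2 (.node 1 (.leaf 24161760) (.leaf 54761760)) (.node 1 (.leaf 54786240) (.leaf 54810720))) (.node 2 (.node 1 (.leaf 24210720) (.leaf 54835200)) (.node 1 (.leaf 54859680) (.leaf 2097868))))))) (.node 32 (.node 16 (.node 8 (.node 4 (.node 2 (.node 1 (.leaf 24259680) (.leaf 1640160)) (.node 1 (.leaf 54884160) (.leaf 19740454))) (.node 2 (.node 1 (.leaf 24284160) (.leaf 47375573)) (.node 1 (.leaf 28584075) (.leaf 54908640)))) (.node 4 (.node 2 (.node 1 (.leaf 54933120) (.leaf 54957600)) (.node 1 (.leaf 24333120) (.leaf 54982080))) (.node 2 (.node 1 (.leaf 55006560) (.leaf 55031040)) (.node 1 (.leaf 24357600) (.leaf 55055520))))) (.node 8 (.node 4 (.node 2 (.node 1 (.leaf 41995561) (.leaf 55080000)) (.node 1 (.leaf 55104480) (.leaf 55128960))) (.node 2 (.node 1 (.leaf 24406560) (.leaf 4868464)) (.node 1 (.leaf 55153440) (.leaf 55177920)))) (.node 4 (.node 2 (.node 1 (.leaf 55202400) (.leaf 55226880)) (.node 1 (.leaf 24455520) (.leaf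 55251360))) (.node 2 (.node 1 (.leaf 55275840) (.leaf 55300320)) (.node 1 (.leaf 24480000) (.leaf 43045240)))))) (.node 16 (.node 8 (.node 4 (.node 2 (.node 1 (.leaf 55324800) (.leaf 55349280)) (.node 1 (.leaf 55373760) (.leaf 55398240))) (.node 2 (.node 1 (.leaf 24528960) (.leaf 34801061)) (.node 1 (.leaf 55422720) (.leaf 55447200)))) (.node 4 (.node 2 (.node 1 (.leaf 24577920) (.leaf 55471680)) (.node 1 (.leaf 55496160) (.leaf 55520640))) (.node 2 (.node 1 (.leaf 32921177) (.leaf 55545120)) (.node 1 (.leaf 24626880) (.leaf 55569600))))) (.node 8 (.node 4 (.node 2 (.node 1 (.leaf 55594080) (.leaf 3886131)) (.node 1 (.leaf 24651360) (.leaf 55618560))) (.node 2 (.node 1 (.leaf 55643040) (.leaf 55667520)) (.node 1 (.leaf 55692000) (.leaf 55716480)))) (.node 4 (.node 2 (.node 1 (.leaf 24700320) (.leaf 55740960)) (.node 1 (.leaf 40504338) (.leaf 55765440))) (.node 2 (.node 1 (.leaf 55789920) (.leaf 55814400)) (.node 1 (.leaf 24749280) (.node 1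 (.leaf 55838880) (.leaf 55863360))))))))))))

/-- Part 3 of `e0Tab`. -/
def e0Tab_3 : BT ℕ :=
  (.node 513 (.node 256 (.node 128 (.node 64 (.node 32 (.node 16 (.node 8 (.node 4 (.node 2 (.node 1 (.leaf 55887840) (.leaf 24773760)) (.node 1 (.leaf 55912320) (.leaf 55936800))) (.node 2 (.node 1 (.leaf 55961280) (.leaf 24798240)) (.node 1 (.leaf 55985760) (.leaf 56010240)))) (.node 4 (.node 2 (.node 1 (.leaf 56034720) (.leaf 24822720)) (.node 1 (.leaf 56059200) (.leaf 56083680))) (.node 2 (.node 1 (.leaf 56108160) (.leaf 24871680)) (.node 1 (.leaf 56132640) (.leaf 56157120))))) (.node 8 (.node 4 (.node 2 (.node 1 (.leaf 56181600) (.leaf 56206080)) (.node 1 (.leaf 56230560) (.leaf 24920640))) (.node 2 (.node 1 (.leaf 56255040) (.leaf 56279520)) (.node 1 (.leaf 56304000) (.leaf 24945120)))) (.node 4 (.node 2 (.node 1 (.leaf 56328480) (.leaf 54164420)) (.node 1 (.leaf 56352960) (.leaf 56377440))) (.node 2 (.node 1 (.leaf 56401920) (.leaf 24994080))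 (.node 1 (.leaf 56426400) (.leaf 56450880)))))) (.node 16 (.node 8 (.node 4 (.node 2 (.node 1 (.leaf 56475360) (.leaf 56499840)) (.node 1 (.leaf 56524320) (.leaf 25043040))) (.node 2 (.node 1 (.leaf 55799572) (.leaf 25067520)) (.node 1 (.leaf 56548800) (.leaf 56573280)))) (.node 4 (.node 2 (.node 1 (.leaf 11700314) (.leaf 56597760)) (.node 1 (.leaf 50679013) (.leaf 25116480))) (.node 2 (.node 1 (.leaf 56622240) (.leaf 30950063)) (.node 1 (.leaf 56646720) (.leaf 25189920))))) (.node 8 (.node 4 (.node 2 (.node 1 (.leaf 56671200) (.leaf 56695680)) (.node 1 (.leaf 56720160) (.leaf 25214400))) (.node 2 (.node 1 (.leaf 11060352) (.leaf 56744640)) (.node 1 (.leaf 56769120) (.leaf 56793600)))) (.node 4 (.node 2 (.node 1 (.leaf 56818080) (.leaf 56842560)) (.node 1 (.leaf 56867040) (.leaf 25287840))) (.node 2 (.node 1 (.leaf 1713600) (.leaf 56891520)) (.node 1 (.leaf 56916000) (.leaf 25312320))))))) (.node 32 (.node 16 (.node 8 (.node 4 (.node 2 (.node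 1 (.leaf 56940480) (.leaf 56964960)) (.node 1 (.leaf 56989440) (.leaf 25336800))) (.node 2 (.node 1 (.leaf 57013920) (.leaf 28033531)) (.node 1 (.leaf 57038400) (.leaf 25361280)))) (.node 4 (.node 2 (.node 1 (.leaf 34504732) (.leaf 57062880)) (.node 1 (.leaf 57087360) (.leaf 57111840))) (.node 2 (.node 1 (.leaf 57136320) (.leaf 25410240)) (.node 1 (.leaf 57160800) (.leaf 57185280))))) (.node 8 (.node 4 (.node 2 (.node 1 (.leaf 57209760) (.leaf 57234240)) (.node 1 (.leaf 57258720) (.leaf 25459200))) (.node 2 (.node 1 (.leaf 57283200) (.leaf 57307680)) (.node 1 (.leaf 57332160) (.leaf 25483680)))) (.node 4 (.node 2 (.node 1 (.leaf 57356640) (.leaf 57381120)) (.node 1 (.leaf 35584269) (.leaf 57405600))) (.node 2 (.node 1 (.leaf 57430080) (.leaf 25532640)) (.node 1 (.leaf 57454560) (.leaf 57479040)))))) (.node 16 (.node 8 (.node 4 (.node 2 (.node 1 (.leaf 50172585) (.leaf 25557120)) (.node 1 (.leaf 57503520) (.leaf 57528000))) (.node 2 (.node 1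 (.leaf 57552480) (.leaf 57576960)) (.node 1 (.leaf 42517389) (.leaf 25630560)))) (.node 4 (.node 2 (.node 1 (.leaf 57601440) (.leaf 57625920)) (.node 1 (.leaf 57650400) (.leaf 57674880))) (.node 2 (.node 1 (.leaf 57699360) (.leaf 25679520)) (.node 1 (.leaf 57723840) (.leaf 57748320))))) (.node 8 (.node 4 (.node 2 (.node 1 (.leaf 57772800) (.leaf 57797280)) (.node 1 (.leaf 57821760) (.leaf 25728480))) (.node 2 (.node 1 (.leaf 57846240) (.leaf 57870720)) (.node 1 (.leaf 57895200) (.leaf 25752960)))) (.node 4 (.node 2 (.node 1 (.leaf 57919680) (.leaf 57944160)) (.node 1 (.leaf 57968640) (.leaf 57993120))) (.node 2 (.node 1 (.leaf 22237510) (.leaf 25801920)) (.node 1 (.leaf 58017600) (.leaf 58042080)))))))) (.node 64 (.node 32 (.node 16 (.node 8 (.node 4 (.node 2 (.node 1 (.leaf 36031109) (.leaf 25826400)) (.node 1 (.leaf 58066560) (.leaf 58091040))) (.node 2 (.node 1 (.leaf 58115520) (.leaf 58140000)) (.node 1 (.leaf 58164480) (.leaf 25875360))))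 (.node 4 (.node 2 (.node 1 (.leaf 58188960) (.leaf 58213440)) (.node 1 (.leaf 58237920) (.leaf 58262400))) (.node 2 (.node 1 (.leaf 23672214) (.leaf 25924320)) (.node 1 (.leaf 58286880) (.leaf 58311360))))) (.node 8 (.node 4 (.node 2 (.node 1 (.leaf 58335840) (.leaf 58360320)) (.node 1 (.leaf 58384800) (.leaf 25973280))) (.node 2 (.node 1 (.leaf 58409280) (.leaf 58433760)) (.node 1 (.leaf 58458240) (.leaf 58482720)))) (.node 4 (.node 2 (.node 1 (.leaf 25403814) (.leaf 26046720)) (.node 1 (.leaf 58507200) (.leaf 58531680))) (.node 2 (.node 1 (.leaf 58556160) (.leaf 26071200)) (.node 1 (.leaf 21764292) (.leaf 58580640)))))) (.node 16 (.node 8 (.node 4 (.node 2 (.node 1 (.leaf 58605120) (.leaf 58629600)) (.node 1 (.leaf 58654080) (.leaf 26120160))) (.node 2 (.node 1 (.leaf 58678560) (.leaf 58703040)) (.node 1 (.leaf 58727520) (.leaf 58752000)))) (.node 4 (.node 2 (.node 1 (.leaf 58776480) (.leaf 26169120)) (.node 1 (.leaf 58800960) (.leaf 58825440)))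 (.node 2 (.node 1 (.leaf 58849920) (.leaf 26193600)) (.node 1 (.leaf 58874400) (.leaf 58898880))))) (.node 8 (.node 4 (.node 2 (.node 1 (.leaf 58923360) (.leaf 58947840)) (.node 1 (.leaf 58972320) (.leaf 26267040))) (.node 2 (.node 1 (.leaf 58996800) (.leaf 59021280)) (.node 1 (.leaf 59045760) (.leaf 59070240)))) (.node 4 (.node 2 (.node 1 (.leaf 59094720) (.leaf 26316000)) (.node 1 (.leaf 59119200) (.leaf 59143680))) (.node 2 (.node 1 (.leaf 59168160) (.leaf 59192640)) (.node 1 (.leaf 59217120) (.leaf 26364960))))))) (.node 32 (.node 16 (.node 8 (.node 4 (.node 2 (.node 1 (.leaf 59241600) (.leaf 59266080)) (.node 1 (.leaf 59290560) (.leaf 26389440))) (.node 2 (.node 1 (.leaf 59315040) (.leaf 59339520)) (.node 1 (.leaf 59364000) (.leaf 59388480)))) (.node 4 (.node 2 (.node 1 (.leaf 33229373) (.leaf 26438400)) (.node 1 (.leaf 59412960) (.leaf 59437440))) (.node 2 (.node 1 (.leaf 59461920) (.leaf 59486400)) (.node 1 (.leaf 59510880) (.leaf 26487360)))))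 (.node 8 (.node 4 (.node 2 (.node 1 (.leaf 1787040) (.leaf 40242005)) (.node 1 (.leaf 59535360) (.leaf 30322543))) (.node 2 (.node 1 (.leaf 59559840) (.leaf 59584320)) (.node 1 (.leaf 59608800) (.leaf 59633280)))) (.node 4 (.node 2 (.node 1 (.leaf 59657760) (.leaf 26585280)) (.node 1 (.leaf 59682240) (.leaf 59706720))) (.node 2 (.node 1 (.leaf 59731200) (.leaf 26609760)) (.node 1 (.leaf 59755680) (.leaf 59780160)))))) (.node 16 (.node 8 (.node 4 (.node 2 (.node 1 (.leaf 59804640) (.leaf 26634240)) (.node 1 (.leaf 59829120) (.leaf 59853600))) (.node 2 (.node 1 (.leaf 59878080) (.leaf 26683200)) (.node 1 (.leaf 59902560) (.leaf 37590645)))) (.node 4 (.node 2 (.node 1 (.leaf 1811520) (.leaf 43689610)) (.node 1 (.leaf 3085800) (.leaf 26732160))) (.node 2 (.node 1 (.leaf 59927040) (.leaf 59951520)) (.node 1 (.leaf 59976000) (.leaf 26781120))))) (.node 8 (.node 4 (.node 2 (.node 1 (.leaf 60000480) (.leaf 41499869)) (.node 1 (.leaf 60024960) (.leaf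 26805600))) (.node 2 (.node 1 (.leaf 60049440) (.leaf 26830080)) (.node 1 (.leaf 60073920) (.leaf 60098400)))) (.node 4 (.node 2 (.node 1 (.leaf 60122880) (.leaf 26854560)) (.node 1 (.leaf 60147360) (.leaf 26879040))) (.node 2 (.node 1 (.leaf 60171840) (.leaf 60196320)) (.node 1 (.leaf 60220800) (.leaf 60245280))))))))) (.node 128 (.node 64 (.node 32 (.node 16 (.node 8 (.node 4 (.node 2 (.node 1 (.leaf 60269760) (.leaf 26928000)) (.node 1 (.leaf 60294240) (.leaf 60318720))) (.node 2 (.node 1 (.leaf 17743310) (.leaf 26952480)) (.node 1 (.leaf 60343200) (.leaf 60367680)))) (.node 4 (.node 2 (.node 1 (.leaf 60392160) (.leaf 27001440)) (.node 1 (.leaf 60416640) (.leaf 60441120))) (.node 2 (.node 1 (.leaf 60465600) (.leaf 27050400)) (.node 1 (.leaf 60490080) (.leaf 60514560))))) (.node 8 (.node 4 (.node 2 (.node 1 (.leaf 60539040) (.leaf 27074880)) (.node 1 (.leaf 31728912) (.leaf 60563520))) (.node 2 (.node 1 (.leaf 60588000) (.leaf 60612480))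 (.node 1 (.leaf 60636960) (.leaf 60661440)))) (.node 4 (.node 2 (.node 1 (.leaf 60685920) (.leaf 60710400)) (.node 1 (.leaf 60734880) (.leaf 27172800))) (.node 2 (.node 1 (.leaf 60759360) (.leaf 60783840)) (.node 1 (.leaf 60808320) (.leaf 60832800)))))) (.node 16 (.node 8 (.node 4 (.node 2 (.node 1 (.leaf 60857280) (.leaf 60881760)) (.node 1 (.leaf 60906240) (.leaf 27246240))) (.node 2 (.node 1 (.leaf 60930720) (.leaf 60955200)) (.node 1 (.leaf 60979680) (.leaf 27270720)))) (.node 4 (.node 2 (.node 1 (.leaf 61004160) (.leaf 46045499)) (.node 1 (.leaf 61028640) (.leaf 61053120))) (.node 2 (.node 1 (.leaf 61077600) (.leaf 27319680)) (.node 1 (.leaf 53485929) (.leaf 61102080))))) (.node 8 (.node 4 (.node 2 (.node 1 (.leaf 61126560) (.leaf 27368640)) (.node 1 (.leaf 61151040) (.leaf 61175520))) (.node 2 (.node 1 (.leaf 50922868) (.leaf 27393120)) (.node 1 (.leaf 55217561) (.leaf 61200000)))) (.node 4 (.node 2 (.node 1 (.leaf 61224480) (.leaf 40621333))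 (.node 1 (.leaf 61248960) (.leaf 27442080))) (.node 2 (.node 1 (.leaf 61273440) (.leaf 61297920)) (.node 1 (.leaf 61322400) (.leaf 61346880))))))) (.node 32 (.node 16 (.node 8 (.node 4 (.node 2 (.node 1 (.leaf 61371360) (.leaf 27491040)) (.node 1 (.leaf 61395840) (.leaf 61420320))) (.node 2 (.node 1 (.leaf 41400559) (.leaf 27515520)) (.node 1 (.leaf 2362646) (.leaf 61444800)))) (.node 4 (.node 2 (.node 1 (.leaf 61469280) (.leaf 27757868)) (.node 1 (.leaf 61493760) (.leaf 27564480))) (.node 2 (.node 1 (.leaf 61518240) (.leaf 61542720)) (.node 1 (.leaf 61567200) (.leaf 27588960))))) (.node 8 (.node 4 (.node 2 (.node 1 (.leaf 61591680) (.leaf 61616160)) (.node 1 (.leaf 61640640) (.leaf 27613440))) (.node 2 (.node 1 (.leaf 61665120) (.leaf 59620569)) (.node 1 (.leaf 61689600) (.leaf 61714080)))) (.node 4 (.node 2 (.node 1 (.leaf 61738560) (.leaf 27662400)) (.node 1 (.leaf 61763040) (.leaf 61787520))) (.node 2 (.node 1 (.leaf 61812000) (.leaf 61836480))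 (.node 1 (.leaf 61860960) (.leaf 27711360)))))) (.node 16 (.node 8 (.node 4 (.node 2 (.node 1 (.leaf 61885440) (.leaf 37070662)) (.node 1 (.leaf 61909920) (.leaf 42019327))) (.node 2 (.node 1 (.leaf 61934400) (.leaf 61958880)) (.node 1 (.leaf 1884960) (.leaf 46511101)))) (.node 4 (.node 2 (.node 1 (.leaf 61983360) (.leaf 27809280)) (.node 1 (.leaf 62007840) (.leaf 62032320))) (.node 2 (.node 1 (.leaf 62056800) (.leaf 49210654)) (.node 1 (.leaf 19860482) (.leaf 27858240))))) (.node 8 (.node 4 (.node 2 (.node 1 (.leaf 30804136) (.leaf 62081280)) (.node 1 (.leaf 62105760) (.leaf 27882720))) (.node 2 (.node 1 (.leaf 62130240) (.leaf 62154720)) (.node 1 (.leaf 62179200) (.leaf 62203680)))) (.node 4 (.node 2 (.node 1 (.leaf 62228160) (.leaf 27931680)) (.node 1 (.leaf 40678283) (.leaf 62252640))) (.node 2 (.node 1 (.leaf 62277120) (.leaf 62301600)) (.node 1 (.leaf 62326080) (.leaf 27980640)))))))) (.node 64 (.node 32 (.node 16 (.node 8 (.node 4 (.node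 2 (.node 1 (.leaf 62350560) (.leaf 62375040)) (.node 1 (.leaf 62399520) (.leaf 28005120))) (.node 2 (.node 1 (.leaf 62424000) (.leaf 62448480)) (.node 1 (.leaf 62472960) (.leaf 62497440)))) (.node 4 (.node 2 (.node 1 (.leaf 62521920) (.leaf 47029561)) (.node 1 (.leaf 62546400) (.leaf 28078560))) (.node 2 (.node 1 (.leaf 62570880) (.leaf 62595360)) (.node 1 (.leaf 62619840) (.leaf 48003149))))) (.node 8 (.node 4 (.node 2 (.node 1 (.leaf 62644320) (.leaf 28127520)) (.node 1 (.leaf 62668800) (.leaf 62693280))) (.node 2 (.node 1 (.leaf 62717760) (.leaf 28152000)) (.node 1 (.leaf 62742240) (.leaf 62766720)))) (.node 4 (.node 2 (.node 1 (.leaf 62791200) (.leaf 62815680)) (.node 1 (.leaf 62840160) (.leaf 28200960))) (.node 2 (.node 1 (.leaf 62864640) (.leaf 62889120)) (.node 1 (.leaf 62913600) (.leaf 28225440)))))) (.node 16 (.node 8 (.node 4 (.node 2 (.node 1 (.leaf 62938080) (.leaf 62962560)) (.node 1 (.leaf 62987040) (.leaf 63011520))) (.node 2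 (.node 1 (.leaf 63036000) (.leaf 28274400)) (.node 1 (.leaf 63060480) (.leaf 63084960)))) (.node 4 (.node 2 (.node 1 (.leaf 63109440) (.leaf 28323360)) (.node 1 (.leaf 63133920) (.leaf 63158400))) (.node 2 (.node 1 (.leaf 63182880) (.leaf 28372320)) (.node 1 (.leaf 63207360) (.leaf 63231840))))) (.node 8 (.node 4 (.node 2 (.node 1 (.leaf 63256320) (.leaf 28421280)) (.node 1 (.leaf 21929621) (.leaf 46900236))) (.node 2 (.node 1 (.leaf 63280800) (.leaf 52055728)) (.node 1 (.leaf 27419315) (.leaf 28470240)))) (.node 4 (.node 2 (.node 1 (.leaf 63305280) (.leaf 63329760)) (.node 1 (.leaf 63354240) (.leaf 43784961))) (.node 2 (.node 1 (.leaf 13362639) (.leaf 28519200)) (.node 1 (.leaf 63378720) (.leaf 63403200))))))) (.node 32 (.node 16 (.node 8 (.node 4 (.node 2 (.node 1 (.leaf 63427680) (.leaf 36241316)) (.node 1 (.leaf 16991627) (.leaf 63452160))) (.node 2 (.node 1 (.leaf 63476640) (.leaf 31500234)) (.node 1 (.leaf 63501120) (.leaf 28617120))))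 (.node 4 (.node 2 (.node 1 (.leaf 63525600) (.leaf 28641600)) (.node 1 (.leaf 63550080) (.leaf 63574560))) (.node 2 (.node 1 (.leaf 63599040) (.leaf 28690560)) (.node 1 (.leaf 63623520) (.leaf 63648000))))) (.node 8 (.node 4 (.node 2 (.node 1 (.leaf 63672480) (.leaf 28739520)) (.node 1 (.leaf 63696960) (.leaf 63721440))) (.node 2 (.node 1 (.leaf 63745920) (.leaf 28764000)) (.node 1 (.leaf 25512630) (.leaf 57106091)))) (.node 4 (.node 2 (.node 1 (.leaf 63770400) (.leaf 28812960)) (.node 1 (.leaf 28397402) (.leaf 63794880))) (.node 2 (.node 1 (.leaf 63819360) (.leaf 28837440)) (.node 1 (.leaf 24452615) (.leaf 63843840)))))) (.node 16 (.node 8 (.node 4 (.node 2 (.node 1 (.leaf 63868320) (.leaf 63892800)) (.node 1 (.leaf 63917280) (.leaf 28910880))) (.node 2 (.node 1 (.leaf 63941760) (.leaf 46182364)) (.node 1 (.leaf 63966240) (.leaf 63990720)))) (.node 4 (.node 2 (.node 1 (.leaf 64015200) (.leaf 28959840)) (.node 1 (.leaf 12178488) (.leaf 40516886)))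 (.node 2 (.node 1 (.leaf 64039680) (.leaf 64064160)) (.node 1 (.leaf 64088640) (.leaf 64113120))))) (.node 8 (.node 4 (.node 2 (.node 1 (.leaf 64137600) (.leaf 29033280)) (.node 1 (.leaf 23619048) (.leaf 43085502))) (.node 2 (.node 1 (.leaf 64162080) (.leaf 64186560)) (.node 1 (.leaf 64211040) (.leaf 64235520)))) (.node 4 (.node 2 (.node 1 (.leaf 55651155) (.leaf 29106720)) (.node 1 (.leaf 64260000) (.leaf 64284480))) (.node 2 (.node 1 (.leaf 64308960) (.leaf 29131200)) (.node 1 (.leaf 64333440) (.node 1 (.leaf 64357920) (.leaf 64382400))))))))))) (.node 256 (.node 128 (.node 64 (.node 32 (.node 16 (.node 8 (.node 4 (.node 2 (.node 1 (.leaf 64406880) (.leaf 64431360)) (.node 1 (.leaf 64455840) (.leaf 64480320))) (.node 2 (.node 1 (.leaf 64504800) (.leaf 64529280)) (.node 1 (.leaf 29229120) (.leaf 61440408)))) (.node 4 (.node 2 (.node 1 (.leaf 64553760) (.leaf 64578240)) (.node 1 (.leaf 64602720) (.leaf 64627200))) (.node 2 (.node 1 (.leaf 29278080)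 (.leaf 51970388)) (.node 1 (.leaf 64651680) (.leaf 6367938))))) (.node 8 (.node 4 (.node 2 (.node 1 (.leaf 30609443) (.leaf 64676160)) (.node 1 (.leaf 29327040) (.leaf 64700640))) (.node 2 (.node 1 (.leaf 64725120) (.leaf 64749600)) (.node 1 (.leaf 64774080) (.leaf 64798560)))) (.node 4 (.node 2 (.node 1 (.leaf 29376000) (.leaf 2007360)) (.node 1 (.leaf 64823040) (.leaf 41526086))) (.node 2 (.node 1 (.leaf 29424960) (.leaf 29473461)) (.node 1 (.leaf 64847520) (.leaf 64872000)))))) (.node 16 (.node 8 (.node 4 (.node 2 (.node 1 (.leaf 64896480) (.leaf 64920960)) (.node 1 (.leaf 29473920) (.leaf 64945440))) (.node 2 (.node 1 (.leaf 64969920) (.leaf 64994400)) (.node 1 (.leaf 29498400) (.leaf 65018880)))) (.node 4 (.node 2 (.node 1 (.leaf 65043360) (.leaf 65067840)) (.node 1 (.leaf 30768773) (.leaf 65092320))) (.node 2 (.node 1 (.leaf 65116800) (.leaf 65141280)) (.node 1 (.leaf 29571840) (.leaf 65165760))))) (.node 8 (.node 4 (.node 2 (.node 1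 (.leaf 65190240) (.leaf 65214720)) (.node 1 (.leaf 29596320) (.leaf 65239200))) (.node 2 (.node 1 (.leaf 31834438) (.leaf 65263680)) (.node 1 (.leaf 30907524) (.leaf 65288160)))) (.node 4 (.node 2 (.node 1 (.leaf 29645280) (.leaf 65312640)) (.node 1 (.leaf 65337120) (.leaf 65361600))) (.node 2 (.node 1 (.leaf 29669760) (.leaf 65386080)) (.node 1 (.leaf 65410560) (.leaf 65435040))))))) (.node 32 (.node 16 (.node 8 (.node 4 (.node 2 (.node 1 (.leaf 29718720) (.leaf 65459520)) (.node 1 (.leaf 44749642) (.leaf 65484000))) (.node 2 (.node 1 (.leaf 57924194) (.leaf 65508480)) (.node 1 (.leaf 29767680) (.leaf 65532960)))) (.node 4 (.node 2 (.node 1 (.leaf 65557440) (.leaf 65581920)) (.node 1 (.leaf 29792160) (.leaf 65606400))) (.node 2 (.node 1 (.leaf 65630880) (.leaf 65655360)) (.node 1 (.leaf 64273395) (.leaf 65679840))))) (.node 8 (.node 4 (.node 2 (.node 1 (.leaf 29841120) (.leaf 65704320)) (.node 1 (.leaf 65728800) (.leaf 65753280))) (.node 2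 (.node 1 (.leaf 65777760) (.leaf 65802240)) (.node 1 (.leaf 29890080) (.leaf 8817003)))) (.node 4 (.node 2 (.node 1 (.leaf 65826720) (.leaf 65851200)) (.node 1 (.leaf 29914560) (.leaf 15422377))) (.node 2 (.node 1 (.leaf 65875680) (.leaf 65900160)) (.node 1 (.leaf 65924640) (.leaf 65949120)))))) (.node 16 (.node 8 (.node 4 (.node 2 (.node 1 (.leaf 29963520) (.leaf 65973600)) (.node 1 (.leaf 29988000) (.leaf 65998080))) (.node 2 (.node 1 (.leaf 66022560) (.leaf 62694246)) (.node 1 (.leaf 66047040) (.leaf 66071520)))) (.node 4 (.node 2 (.node 1 (.leaf 30036960) (.leaf 66096000)) (.node 1 (.leaf 35392365) (.leaf 66120480))) (.node 2 (.node 1 (.leaf 66144960) (.leaf 66169440)) (.node 1 (.leaf 30085920) (.leaf 66193920))))) (.node 8 (.node 4 (.node 2 (.node 1 (.leaf 66218400) (.leaf 66242880)) (.node 1 (.leaf 66267360) (.leaf 66291840))) (.node 2 (.node 1 (.leaf 30134880) (.leaf 66316320)) (.node 1 (.leaf 66340800) (.leaf 66365280)))) (.node 4 (.node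 2 (.node 1 (.leaf 66389760) (.leaf 66414240)) (.node 1 (.leaf 30183840) (.leaf 39941449))) (.node 2 (.node 1 (.leaf 66438720) (.leaf 66463200)) (.node 1 (.leaf 66487680) (.leaf 66512160)))))))) (.node 64 (.node 32 (.node 16 (.node 8 (.node 4 (.node 2 (.node 1 (.leaf 30232800) (.leaf 66536640)) (.node 1 (.leaf 30257280) (.leaf 66561120))) (.node 2 (.node 1 (.leaf 66585600) (.leaf 66610080)) (.node 1 (.leaf 66634560) (.leaf 66659040)))) (.node 4 (.node 2 (.node 1 (.leaf 66683520) (.leaf 66402351)) (.node 1 (.leaf 30330720) (.leaf 7058439))) (.node 2 (.node 1 (.leaf 30355200) (.leaf 66708000)) (.node 1 (.leaf 66732480) (.leaf 66756960))))) (.node 8 (.node 4 (.node 2 (.node 1 (.leaf 66781440) (.leaf 66805920)) (.node 1 (.leaf 30404160) (.leaf 66830400))) (.node 2 (.node 1 (.leaf 66854880) (.leaf 66879360)) (.node 1 (.leaf 30428640) (.leaf 66903840)))) (.node 4 (.node 2 (.node 1 (.leaf 66928320) (.leaf 66952800)) (.node 1 (.leaf 45843558) (.leaf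 66977280))) (.node 2 (.node 1 (.leaf 30477600) (.leaf 67001760)) (.node 1 (.leaf 67026240) (.leaf 67050720)))))) (.node 16 (.node 8 (.node 4 (.node 2 (.node 1 (.leaf 67075200) (.leaf 67099680)) (.node 1 (.leaf 30526560) (.leaf 67124160))) (.node 2 (.node 1 (.leaf 59948210) (.leaf 67148640)) (.node 1 (.leaf 61871416) (.leaf 67173120)))) (.node 4 (.node 2 (.node 1 (.leaf 30575520) (.leaf 67197600)) (.node 1 (.leaf 41321995) (.leaf 32097164))) (.node 2 (.node 1 (.leaf 55619374) (.leaf 67222080)) (.node 1 (.leaf 30648960) (.leaf 67246560))))) (.node 8 (.node 4 (.node 2 (.node 1 (.leaf 67271040) (.leaf 67295520)) (.node 1 (.leaf 67320000) (.leaf 67344480))) (.node 2 (.node 1 (.leaf 30697920) (.leaf 67368960)) (.node 1 (.leaf 43603832) (.leaf 67393440)))) (.node 4 (.node 2 (.node 1 (.leaf 67417920) (.leaf 2105280)) (.node 1 (.leaf 67442400) (.leaf 67466880))) (.node 2 (.node 1 (.leaf 30771360) (.leaf 67491360)) (.node 1 (.leaf 67515840) (.leaf 67540320)))))))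 (.node 32 (.node 16 (.node 8 (.node 4 (.node 2 (.node 1 (.leaf 30820320) (.leaf 67564800)) (.node 1 (.leaf 67589280) (.leaf 67613760))) (.node 2 (.node 1 (.leaf 30844800) (.leaf 67638240)) (.node 1 (.leaf 67662720) (.leaf 11891686)))) (.node 4 (.node 2 (.node 1 (.leaf 67687200) (.leaf 67711680)) (.node 1 (.leaf 67736160) (.leaf 67760640))) (.node 2 (.node 1 (.leaf 66525242) (.leaf 43595263)) (.node 1 (.leaf 67785120) (.leaf 45747290))))) (.node 8 (.node 4 (.node 2 (.node 1 (.leaf 42075010) (.leaf 42176278)) (.node 1 (.leaf 30991680) (.leaf 67809600))) (.node 2 (.node 1 (.leaf 57169204) (.leaf 21326938)) (.node 1 (.leaf 31016160) (.leaf 67834080)))) (.node 4 (.node 2 (.node 1 (.leaf 67858560) (.leaf 67883040)) (.node 1 (.leaf 31065120) (.leaf 67907520))) (.node 2 (.node 1 (.leaf 67932000) (.leaf 67956480)) (.node 1 (.leaf 67980960) (.leaf 68005440)))))) (.node 16 (.node 8 (.node 4 (.node 2 (.node 1 (.leaf 31114080) (.leaf 45215333)) (.node 1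 (.leaf 33190214) (.leaf 68029920))) (.node 2 (.node 1 (.leaf 31138560) (.leaf 68054400)) (.node 1 (.leaf 68078880) (.leaf 60368483)))) (.node 4 (.node 2 (.node 1 (.leaf 31187520) (.leaf 68103360)) (.node 1 (.leaf 68127840) (.leaf 68152320))) (.node 2 (.node 1 (.leaf 63284477) (.leaf 68176800)) (.node 1 (.leaf 68201280) (.leaf 68225760))))) (.node 8 (.node 4 (.node 2 (.node 1 (.leaf 43009233) (.leaf 66609851)) (.node 1 (.leaf 31309920) (.leaf 68250240))) (.node 2 (.node 1 (.leaf 68274720) (.leaf 63107985)) (.node 1 (.leaf 31334400) (.leaf 41024699)))) (.node 4 (.node 2 (.node 1 (.leaf 68299200) (.leaf 68323680)) (.node 1 (.leaf 31383360) (.leaf 68348160))) (.node 2 (.node 1 (.leaf 42493145) (.leaf 68372640)) (.node 1 (.leaf 68397120) (.leaf 68421600))))))))) (.node 128 (.node 64 (.node 32 (.node 16 (.node 8 (.node 4 (.node 2 (.node 1 (.leaf 31432320) (.leaf 68446080)) (.node 1 (.leaf 68470560) (.leaf 68495040))) (.node 2 (.node 1 (.leaf 68519520)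 (.leaf 68544000)) (.node 1 (.leaf 31505760) (.leaf 68568480)))) (.node 4 (.node 2 (.node 1 (.leaf 50134079) (.leaf 68592960)) (.node 1 (.leaf 31530240) (.leaf 68617440))) (.node 2 (.node 1 (.leaf 68641920) (.leaf 68666400)) (.node 1 (.leaf 68690880) (.leaf 68715360))))) (.node 8 (.node 4 (.node 2 (.node 1 (.leaf 31579200) (.leaf 68739840)) (.node 1 (.leaf 68764320) (.leaf 68788800))) (.node 2 (.node 1 (.leaf 31603680) (.leaf 68813280)) (.node 1 (.leaf 47351621) (.leaf 68837760)))) (.node 4 (.node 2 (.node 1 (.leaf 31628160) (.leaf 68862240)) (.node 1 (.leaf 68886720) (.leaf 68911200))) (.node 2 (.node 1 (.leaf 31652640) (.leaf 47008686)) (.node 1 (.leaf 68935680) (.leaf 13618666)))))) (.node 16 (.node 8 (.node 4 (.node 2 (.node 1 (.leaf 64596960) (.leaf 48078609)) (.node 1 (.leaf 31701600) (.leaf 68960160))) (.node 2 (.node 1 (.leaf 68984640) (.leaf 44683203)) (.node 1 (.leaf 69009120) (.leaf 69033600)))) (.node 4 (.node 2 (.node 1 (.leaf 31750560)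 (.leaf 2178720)) (.node 1 (.leaf 69058080) (.leaf 69082560))) (.node 2 (.node 1 (.leaf 31775040) (.leaf 69107040)) (.node 1 (.leaf 69131520) (.leaf 69156000))))) (.node 8 (.node 4 (.node 2 (.node 1 (.leaf 69180480) (.leaf 69204960)) (.node 1 (.leaf 65379003) (.leaf 30510133))) (.node 2 (.node 1 (.leaf 31848480) (.leaf 69229440)) (.node 1 (.leaf 69253920) (.leaf 69278400)))) (.node 4 (.node 2 (.node 1 (.leaf 69302880) (.leaf 41782616)) (.node 1 (.leaf 31897440) (.leaf 69327360))) (.node 2 (.node 1 (.leaf 69351840) (.leaf 40480069)) (.node 1 (.leaf 31921920) (.leaf 69376320))))))) (.node 32 (.node 16 (.node 8 (.node 4 (.node 2 (.node 1 (.leaf 47859459) (.leaf 14893189)) (.node 1 (.leaf 69400800) (.leaf 69425280))) (.node 2 (.node 1 (.leaf 31970880) (.leaf 25177447)) (.node 1 (.leaf 68044687) (.leaf 69449760)))) (.node 4 (.node 2 (.node 1 (.leaf 31995360) (.leaf 69474240)) (.node 1 (.leaf 42567878) (.leaf 69498720))) (.node 2 (.node 1 (.leaf 32044320)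 (.leaf 69523200)) (.node 1 (.leaf 69547680) (.leaf 69572160))))) (.node 8 (.node 4 (.node 2 (.node 1 (.leaf 32068800) (.leaf 69596640)) (.node 1 (.leaf 69621120) (.leaf 6932932))) (.node 2 (.node 1 (.leaf 69645600) (.leaf 69670080)) (.node 1 (.leaf 69694560) (.leaf 69719040)))) (.node 4 (.node 2 (.node 1 (.leaf 33882271) (.leaf 69743520)) (.node 1 (.leaf 32166720) (.leaf 69768000))) (.node 2 (.node 1 (.leaf 32191200) (.leaf 69792480)) (.node 1 (.leaf 69816960) (.leaf 69841440)))))) (.node 16 (.node 8 (.node 4 (.node 2 (.node 1 (.leaf 32240160) (.leaf 69865920)) (.node 1 (.leaf 69890400) (.leaf 69914880))) (.node 2 (.node 1 (.leaf 69939360) (.leaf 69963840)) (.node 1 (.leaf 32289120) (.leaf 69988320)))) (.node 4 (.node 2 (.node 1 (.leaf 32313600) (.leaf 34735754)) (.node 1 (.leaf 57041570) (.leaf 70012800))) (.node 2 (.node 1 (.leaf 32338080) (.leaf 70037280)) (.node 1 (.leaf 70061760) (.leaf 67341235))))) (.node 8 (.node 4 (.node 2 (.node 1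 (.leaf 32362560) (.leaf 70086240)) (.node 1 (.leaf 70110720) (.leaf 70135200))) (.node 2 (.node 1 (.leaf 70159680) (.leaf 70184160)) (.node 1 (.leaf 32411520) (.leaf 70208640)))) (.node 4 (.node 2 (.node 1 (.leaf 70233120) (.leaf 70257600)) (.node 1 (.leaf 70282080) (.leaf 70306560))) (.node 2 (.node 1 (.leaf 32460480) (.leaf 53985724)) (.node 1 (.leaf 70331040) (.leaf 70355520)))))))) (.node 64 (.node 32 (.node 16 (.node 8 (.node 4 (.node 2 (.node 1 (.leaf 70380000) (.leaf 70404480)) (.node 1 (.leaf 32509440) (.leaf 14661472))) (.node 2 (.node 1 (.leaf 70428960) (.leaf 70453440)) (.node 1 (.leaf 32533920) (.leaf 70477920)))) (.node 4 (.node 2 (.node 1 (.leaf 68580804) (.leaf 70502400)) (.node 1 (.leaf 70526880) (.leaf 70551360))) (.node 2 (.node 1 (.leaf 32582880) (.leaf 70575840)) (.node 1 (.leaf 70600320) (.leaf 9838515))))) (.node 8 (.node 4 (.node 2 (.node 1 (.leaf 70624800) (.leaf 70649280)) (.node 1 (.leaf 32631840) (.leaf 70673760)))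 (.node 2 (.node 1 (.leaf 70698240) (.leaf 70722720)) (.node 1 (.leaf 70747200) (.leaf 17898587)))) (.node 4 (.node 2 (.node 1 (.leaf 32705280) (.leaf 70771680)) (.node 1 (.leaf 70796160) (.leaf 47428716))) (.node 2 (.node 1 (.leaf 32729760) (.leaf 70820640)) (.node 1 (.leaf 70845120) (.leaf 70869600)))))) (.node 16 (.node 8 (.node 4 (.node 2 (.node 1 (.leaf 70894080) (.leaf 70918560)) (.node 1 (.leaf 32778720) (.leaf 70943040))) (.node 2 (.node 1 (.leaf 70967520) (.leaf 67530176)) (.node 1 (.leaf 32803200) (.leaf 30211683)))) (.node 4 (.node 2 (.node 1 (.leaf 70992000) (.leaf 10622336)) (.node 1 (.leaf 32827680) (.leaf 71016480))) (.node 2 (.node 1 (.leaf 32852160) (.leaf 71040960)) (.node 1 (.leaf 42144013) (.leaf 51691371))))) (.node 8 (.node 4 (.node 2 (.node 1 (.leaf 71065440) (.leaf 18162979)) (.node 1 (.leaf 71089920) (.leaf 71114400))) (.node 2 (.node 1 (.leaf 32925600) (.leaf 71138880)) (.node 1 (.leaf 71163360) (.leaf 71187840))))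 (.node 4 (.node 2 (.node 1 (.leaf 32974560) (.leaf 48990487)) (.node 1 (.leaf 71212320) (.leaf 71236800))) (.node 2 (.node 1 (.leaf 71261280) (.leaf 71285760)) (.node 1 (.leaf 33023520) (.leaf 2276640))))))) (.node 32 (.node 16 (.node 8 (.node 4 (.node 2 (.node 1 (.leaf 71310240) (.leaf 71334720)) (.node 1 (.leaf 33048000) (.leaf 71359200))) (.node 2 (.node 1 (.leaf 71383680) (.leaf 71408160)) (.node 1 (.leaf 51570307) (.leaf 71432640)))) (.node 4 (.node 2 (.node 1 (.leaf 33096960) (.leaf 71457120)) (.node 1 (.leaf 71481600) (.leaf 71506080))) (.node 2 (.node 1 (.leaf 33121440) (.leaf 71530560)) (.node 1 (.leaf 71555040) (.leaf 32161797))))) (.node 8 (.node 4 (.node 2 (.node 1 (.leaf 71579520) (.leaf 71604000)) (.node 1 (.leaf 71628480) (.leaf 71652960))) (.node 2 (.node 1 (.leaf 33194880) (.leaf 71677440)) (.node 1 (.leaf 71701920) (.leaf 28567890)))) (.node 4 (.node 2 (.node 1 (.leaf 33243840) (.leaf 71726400)) (.node 1 (.leaf 71750880) (.leaf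 71775360))) (.node 2 (.node 1 (.leaf 33292800) (.leaf 71799840)) (.node 1 (.leaf 71824320) (.leaf 71848800)))))) (.node 16 (.node 8 (.node 4 (.node 2 (.node 1 (.leaf 33317280) (.leaf 71873280)) (.node 1 (.leaf 71897760) (.leaf 71922240))) (.node 2 (.node 1 (.leaf 33366240) (.leaf 71946720)) (.node 1 (.leaf 71971200) (.leaf 71995680)))) (.node 4 (.node 2 (.node 1 (.leaf 72020160) (.leaf 63807157)) (.node 1 (.leaf 33415200) (.leaf 72044640))) (.node 2 (.node 1 (.leaf 72069120) (.leaf 72093600)) (.node 1 (.leaf 33439680) (.leaf 62780436))))) (.node 8 (.node 4 (.node 2 (.node 1 (.leaf 69994089) (.leaf 72118080)) (.node 1 (.leaf 72142560) (.leaf 72167040))) (.node 2 (.node 1 (.leaf 33488640) (.leaf 72191520)) (.node 1 (.leaf 33513120) (.leaf 70969559)))) (.node 4 (.node 2 (.node 1 (.leaf 47194639) (.leaf 58063264)) (.node 1 (.leaf 72216000) (.leaf 72240480))) (.node 2 (.node 1 (.leaf 33562080) (.leaf 72264960)) (.node 1 (.leaf 72289440) (.node 1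 (.leaf 72313920) (.leaf 72338400))))))))))))

/-- Part 4 of `e0Tab`. -/
def e0Tab_4 : BT ℕ :=
  (.node 513 (.node 256 (.node 128 (.node 64 (.node 32 (.node 16 (.node 8 (.node 4 (.node 2 (.node 1 (.leaf 59589598) (.leaf 72362880)) (.node 1 (.leaf 72387360) (.leaf 66371021))) (.node 2 (.node 1 (.leaf 72411840) (.leaf 33684480)) (.node 1 (.leaf 69255025) (.leaf 72436320)))) (.node 4 (.node 2 (.node 1 (.leaf 72460800) (.leaf 58880576)) (.node 1 (.leaf 64791651) (.leaf 33733440))) (.node 2 (.node 1 (.leaf 65739391) (.leaf 72485280)) (.node 1 (.leaf 72509760) (.leaf 72534240))))) (.node 8 (.node 4 (.node 2 (.node 1 (.leaf 72558720) (.leaf 33782400)) (.node 1 (.leaf 35016554) (.leaf 72583200))) (.node 2 (.node 1 (.leaf 72607680) (.leaf 72632160)) (.node 1 (.leaf 16730579) (.leaf 33831360)))) (.node 4 (.node 2 (.node 1 (.leaf 72656640) (.leaf 63537645)) (.node 1 (.leaf 72681120) (.leaf 72705600))) (.node 2 (.node 1 (.leaf 37327608) (.leaf 72730080))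 (.node 1 (.leaf 72754560) (.leaf 33904800)))))) (.node 16 (.node 8 (.node 4 (.node 2 (.node 1 (.leaf 72779040) (.leaf 72803520)) (.node 1 (.leaf 72828000) (.leaf 72852480))) (.node 2 (.node 1 (.leaf 72876960) (.leaf 33953760)) (.node 1 (.leaf 25274953) (.leaf 72901440)))) (.node 4 (.node 2 (.node 1 (.leaf 72925920) (.leaf 72950400)) (.node 1 (.leaf 72974880) (.leaf 34002720))) (.node 2 (.node 1 (.leaf 72999360) (.leaf 73023840)) (.node 1 (.leaf 73048320) (.leaf 73072800))))) (.node 8 (.node 4 (.node 2 (.node 1 (.leaf 73097280) (.leaf 34051680)) (.node 1 (.leaf 73121760) (.leaf 73146240))) (.node 2 (.node 1 (.leaf 30172118) (.leaf 73170720)) (.node 1 (.leaf 73195200) (.leaf 73219680)))) (.node 4 (.node 2 (.node 1 (.leaf 73244160) (.leaf 34125120)) (.node 1 (.leaf 45633252) (.leaf 34149600))) (.node 2 (.node 1 (.leaf 73268640) (.leaf 73293120)) (.node 1 (.leaf 73317600) (.leaf 66619698))))))) (.node 32 (.node 16 (.node 8 (.node 4 (.node 2 (.node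 1 (.leaf 73342080) (.leaf 34198560)) (.node 1 (.leaf 73366560) (.leaf 73391040))) (.node 2 (.node 1 (.leaf 73415520) (.leaf 71668632)) (.node 1 (.leaf 73440000) (.leaf 34247520)))) (.node 4 (.node 2 (.node 1 (.leaf 73464480) (.leaf 73488960)) (.node 1 (.leaf 73513440) (.leaf 34272000))) (.node 2 (.node 1 (.leaf 32040931) (.leaf 73537920)) (.node 1 (.leaf 73562400) (.leaf 73586880))))) (.node 8 (.node 4 (.node 2 (.node 1 (.leaf 73611360) (.leaf 34320960)) (.node 1 (.leaf 73635840) (.leaf 73660320))) (.node 2 (.node 1 (.leaf 25709411) (.leaf 73684800)) (.node 1 (.leaf 73709280) (.leaf 34369920)))) (.node 4 (.node 2 (.node 1 (.leaf 2399040) (.leaf 73733760)) (.node 1 (.leaf 73758240) (.leaf 34394400))) (.node 2 (.node 1 (.leaf 73782720) (.leaf 73807200)) (.node 1 (.leaf 73831680) (.leaf 53200291)))))) (.node 16 (.node 8 (.node 4 (.node 2 (.node 1 (.leaf 73856160) (.leaf 34443360)) (.node 1 (.leaf 13764471) (.leaf 73880640))) (.node 2 (.node 1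 (.leaf 12663927) (.leaf 34467840)) (.node 1 (.leaf 73905120) (.leaf 73929600)))) (.node 4 (.node 2 (.node 1 (.leaf 73954080) (.leaf 73978560)) (.node 1 (.leaf 74003040) (.leaf 34516800))) (.node 2 (.node 1 (.leaf 74027520) (.leaf 49505555)) (.node 1 (.leaf 64014601) (.leaf 61749831))))) (.node 8 (.node 4 (.node 2 (.node 1 (.leaf 6617211) (.leaf 34565760)) (.node 1 (.leaf 28114442) (.leaf 51640462))) (.node 2 (.node 1 (.leaf 74052000) (.leaf 74076480)) (.node 1 (.leaf 74100960) (.leaf 34614720)))) (.node 4 (.node 2 (.node 1 (.leaf 74125440) (.leaf 74149920)) (.node 1 (.leaf 74174400) (.leaf 34639200))) (.node 2 (.node 1 (.leaf 74198880) (.leaf 64547243)) (.node 1 (.leaf 74223360) (.leaf 60082470)))))))) (.node 64 (.node 32 (.node 16 (.node 8 (.node 4 (.node 2 (.node 1 (.leaf 74247840) (.leaf 74272320)) (.node 1 (.leaf 57590516) (.leaf 34737120))) (.node 2 (.node 1 (.leaf 74296800) (.leaf 74321280)) (.node 1 (.leaf 74345760) (.leaf 34761600))))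 (.node 4 (.node 2 (.node 1 (.leaf 74370240) (.leaf 74394720)) (.node 1 (.leaf 74419200) (.leaf 74443680))) (.node 2 (.node 1 (.leaf 74468160) (.leaf 34810560)) (.node 1 (.leaf 74492640) (.leaf 74517120))))) (.node 8 (.node 4 (.node 2 (.node 1 (.leaf 74541600) (.leaf 74566080)) (.node 1 (.leaf 74590560) (.leaf 34859520))) (.node 2 (.node 1 (.leaf 74615040) (.leaf 43031975)) (.node 1 (.leaf 74639520) (.leaf 34884000)))) (.node 4 (.node 2 (.node 1 (.leaf 74664000) (.leaf 74688480)) (.node 1 (.leaf 74712960) (.leaf 74737440))) (.node 2 (.node 1 (.leaf 74761920) (.leaf 34932960)) (.node 1 (.leaf 74786400) (.leaf 74810880)))))) (.node 16 (.node 8 (.node 4 (.node 2 (.node 1 (.leaf 74835360) (.leaf 34957440)) (.node 1 (.leaf 74859840) (.leaf 74884320))) (.node 2 (.node 1 (.leaf 74908800) (.leaf 34981920)) (.node 1 (.leaf 67433855) (.leaf 74933280)))) (.node 4 (.node 2 (.node 1 (.leaf 74957760) (.leaf 74982240)) (.node 1 (.leaf 75006720) (.leaf 35030880)))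 (.node 2 (.node 1 (.leaf 75031200) (.leaf 35079840)) (.node 1 (.leaf 26723189) (.leaf 75055680))))) (.node 8 (.node 4 (.node 2 (.node 1 (.leaf 75080160) (.leaf 35128800)) (.node 1 (.leaf 75104640) (.leaf 75129120))) (.node 2 (.node 1 (.leaf 75153600) (.leaf 35177760)) (.node 1 (.leaf 75178080) (.leaf 75202560)))) (.node 4 (.node 2 (.node 1 (.leaf 75227040) (.leaf 35202240)) (.node 1 (.leaf 34231202) (.leaf 75251520))) (.node 2 (.node 1 (.leaf 64305561) (.leaf 52538962)) (.node 1 (.leaf 75276000) (.leaf 35251200))))))) (.node 32 (.node 16 (.node 8 (.node 4 (.node 2 (.node 1 (.leaf 75300480) (.leaf 75324960)) (.node 1 (.leaf 75349440) (.leaf 35300160))) (.node 2 (.node 1 (.leaf 75373920) (.leaf 75398400)) (.node 1 (.leaf 75422880) (.leaf 75447360)))) (.node 4 (.node 2 (.node 1 (.leaf 75471840) (.leaf 35349120)) (.node 1 (.leaf 47338173) (.leaf 75496320))) (.node 2 (.node 1 (.leaf 75520800) (.leaf 75545280)) (.node 1 (.leaf 37500544) (.leaf 75569760)))))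 (.node 8 (.node 4 (.node 2 (.node 1 (.leaf 75594240) (.leaf 35422560)) (.node 1 (.leaf 75618720) (.leaf 75643200))) (.node 2 (.node 1 (.leaf 75667680) (.leaf 35471520)) (.node 1 (.leaf 75692160) (.leaf 55452785)))) (.node 4 (.node 2 (.node 1 (.leaf 75716640) (.leaf 35496000)) (.node 1 (.leaf 75741120) (.leaf 75765600))) (.node 2 (.node 1 (.leaf 75790080) (.leaf 75814560)) (.node 1 (.leaf 75839040) (.leaf 35544960)))))) (.node 16 (.node 8 (.node 4 (.node 2 (.node 1 (.leaf 73173471) (.leaf 75863520)) (.node 1 (.leaf 2472480) (.leaf 75888000))) (.node 2 (.node 1 (.leaf 75912480) (.leaf 35593920)) (.node 1 (.leaf 75936960) (.leaf 75961440)))) (.node 4 (.node 2 (.node 1 (.leaf 72226831) (.leaf 75985920)) (.node 1 (.leaf 76010400) (.leaf 35642880))) (.node 2 (.node 1 (.leaf 76034880) (.leaf 72121629)) (.node 1 (.leaf 76059360) (.leaf 35667360))))) (.node 8 (.node 4 (.node 2 (.node 1 (.leaf 76083840) (.leaf 60135957)) (.node 1 (.leaf 76108320) (.leaf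 51397631))) (.node 2 (.node 1 (.leaf 76132800) (.leaf 35716320)) (.node 1 (.leaf 76157280) (.leaf 76181760)))) (.node 4 (.node 2 (.node 1 (.leaf 76206240) (.leaf 76230720)) (.node 1 (.leaf 76255200) (.leaf 35765280))) (.node 2 (.node 1 (.leaf 76279680) (.leaf 76304160)) (.node 1 (.leaf 4561092) (.leaf 35789760))))))))) (.node 128 (.node 64 (.node 32 (.node 16 (.node 8 (.node 4 (.node 2 (.node 1 (.leaf 76328640) (.leaf 76353120)) (.node 1 (.leaf 76377600) (.leaf 35838720))) (.node 2 (.node 1 (.leaf 76402080) (.leaf 35863200)) (.node 1 (.leaf 76426560) (.leaf 76451040)))) (.node 4 (.node 2 (.node 1 (.leaf 76475520) (.leaf 35912160)) (.node 1 (.leaf 76500000) (.leaf 76524480))) (.node 2 (.node 1 (.leaf 43469711) (.leaf 61129501)) (.node 1 (.leaf 76548960) (.leaf 35961120))))) (.node 8 (.node 4 (.node 2 (.node 1 (.leaf 76573440) (.leaf 76597920)) (.node 1 (.leaf 76622400) (.leaf 35985600))) (.node 2 (.node 1 (.leaf 67599481) (.leaf 54703899)) (.node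 1 (.leaf 76646880) (.leaf 76671360)))) (.node 4 (.node 2 (.node 1 (.leaf 76695840) (.leaf 36034560)) (.node 1 (.leaf 69314480) (.leaf 76720320))) (.node 2 (.node 1 (.leaf 76744800) (.leaf 36059040)) (.node 1 (.leaf 13113799) (.leaf 76769280)))))) (.node 16 (.node 8 (.node 4 (.node 2 (.node 1 (.leaf 76793760) (.leaf 76818240)) (.node 1 (.leaf 76842720) (.leaf 36108000))) (.node 2 (.node 1 (.leaf 48339814) (.leaf 76867200)) (.node 1 (.leaf 26680847) (.leaf 36132480)))) (.node 4 (.node 2 (.node 1 (.leaf 76891680) (.leaf 76916160)) (.node 1 (.leaf 71726372) (.leaf 72627233))) (.node 2 (.node 1 (.leaf 76940640) (.leaf 76965120)) (.node 1 (.leaf 76989600) (.leaf 77014080))))) (.node 8 (.node 4 (.node 2 (.node 1 (.leaf 21412221) (.leaf 77038560)) (.node 1 (.leaf 77063040) (.leaf 36279360))) (.node 2 (.node 1 (.leaf 17819378) (.leaf 77087520)) (.node 1 (.leaf 77112000) (.leaf 77136480)))) (.node 4 (.node 2 (.node 1 (.leaf 77160960) (.leaf 36328320))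 (.node 1 (.leaf 77185440) (.leaf 77209920))) (.node 2 (.node 1 (.leaf 77234400) (.leaf 36352800)) (.node 1 (.leaf 77258880) (.leaf 77283360))))))) (.node 32 (.node 16 (.node 8 (.node 4 (.node 2 (.node 1 (.leaf 36578990) (.leaf 37987727)) (.node 1 (.leaf 77307840) (.leaf 77332320))) (.node 2 (.node 1 (.leaf 43664691) (.leaf 36426240)) (.node 1 (.leaf 77356800) (.leaf 77381280)))) (.node 4 (.node 2 (.node 1 (.leaf 77405760) (.leaf 36450720)) (.node 1 (.leaf 77430240) (.leaf 69743939))) (.node 2 (.node 1 (.leaf 77454720) (.leaf 67307766)) (.node 1 (.leaf 77479200) (.leaf 36499680))))) (.node 8 (.node 4 (.node 2 (.node 1 (.leaf 77503680) (.leaf 77528160)) (.node 1 (.leaf 5293333) (.leaf 77552640))) (.node 2 (.node 1 (.leaf 32457016) (.leaf 36548640)) (.node 1 (.leaf 77577120) (.leaf 77601600)))) (.node 4 (.node 2 (.node 1 (.leaf 77626080) (.leaf 77650560)) (.node 1 (.leaf 77675040) (.leaf 36597600))) (.node 2 (.node 1 (.leaf 2545920) (.leaf 77699520))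 (.node 1 (.leaf 69648730) (.leaf 36622080)))))) (.node 16 (.node 8 (.node 4 (.node 2 (.node 1 (.leaf 77724000) (.leaf 77748480)) (.node 1 (.leaf 77772960) (.leaf 77797440))) (.node 2 (.node 1 (.leaf 77821920) (.leaf 36671040)) (.node 1 (.leaf 77846400) (.leaf 77870880)))) (.node 4 (.node 2 (.node 1 (.leaf 77895360) (.leaf 36695520)) (.node 1 (.leaf 77919840) (.leaf 77944320))) (.node 2 (.node 1 (.leaf 77968800) (.leaf 53622220)) (.node 1 (.leaf 61367446) (.leaf 36744480))))) (.node 8 (.node 4 (.node 2 (.node 1 (.leaf 77993280) (.leaf 78017760)) (.node 1 (.leaf 78042240) (.leaf 78066720))) (.node 2 (.node 1 (.leaf 78091200) (.leaf 36793440)) (.node 1 (.leaf 78115680) (.leaf 78140160)))) (.node 4 (.node 2 (.node 1 (.leaf 78164640) (.leaf 78189120)) (.node 1 (.leaf 78213600) (.leaf 36842400))) (.node 2 (.node 1 (.leaf 78238080) (.leaf 36891360)) (.node 1 (.leaf 78262560) (.leaf 61481783)))))))) (.node 64 (.node 32 (.node 16 (.node 8 (.node 4 (.node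 2 (.node 1 (.leaf 78287040) (.leaf 36964800)) (.node 1 (.leaf 78311520) (.leaf 55310888))) (.node 2 (.node 1 (.leaf 78336000) (.leaf 78360480)) (.node 1 (.leaf 78384960) (.leaf 37013760)))) (.node 4 (.node 2 (.node 1 (.leaf 78409440) (.leaf 78433920)) (.node 1 (.leaf 78458400) (.leaf 78482880))) (.node 2 (.node 1 (.leaf 78507360) (.leaf 78531840)) (.node 1 (.leaf 67869051) (.leaf 37087200))))) (.node 8 (.node 4 (.node 2 (.node 1 (.leaf 78556320) (.leaf 66122855)) (.node 1 (.leaf 78580800) (.leaf 37136160))) (.node 2 (.node 1 (.leaf 78605280) (.leaf 78629760)) (.node 1 (.leaf 78654240) (.leaf 37160640)))) (.node 4 (.node 2 (.node 1 (.leaf 78678720) (.leaf 78703200)) (.node 1 (.leaf 78727680) (.leaf 60507119))) (.node 2 (.node 1 (.leaf 78752160) (.leaf 37209600)) (.node 1 (.leaf 78776640) (.leaf 54974496)))))) (.node 16 (.node 8 (.node 4 (.node 2 (.node 1 (.leaf 78801120) (.leaf 37258560)) (.node 1 (.leaf 78825600) (.leaf 78850080))) (.node 2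 (.node 1 (.leaf 29308803) (.leaf 37283040)) (.node 1 (.leaf 5832051) (.leaf 78874560)))) (.node 4 (.node 2 (.node 1 (.leaf 78899040) (.leaf 37332000)) (.node 1 (.leaf 78923520) (.leaf 52858358))) (.node 2 (.node 1 (.leaf 78948000) (.leaf 78972480)) (.node 1 (.leaf 78996960) (.leaf 37380960))))) (.node 8 (.node 4 (.node 2 (.node 1 (.leaf 79021440) (.leaf 79045920)) (.node 1 (.leaf 56604597) (.leaf 64811402))) (.node 2 (.node 1 (.leaf 79070400) (.leaf 79094880)) (.node 1 (.leaf 79119360) (.leaf 37454400)))) (.node 4 (.node 2 (.node 1 (.leaf 79143840) (.leaf 46049196)) (.node 1 (.leaf 79168320) (.leaf 37503360))) (.node 2 (.node 1 (.leaf 79192800) (.leaf 65475189)) (.node 1 (.leaf 79217280) (.leaf 37527840))))))) (.node 32 (.node 16 (.node 8 (.node 4 (.node 2 (.node 1 (.leaf 79241760) (.leaf 79266240)) (.node 1 (.leaf 79290720) (.leaf 79315200))) (.node 2 (.node 1 (.leaf 79339680) (.leaf 79364160)) (.node 1 (.leaf 79388640) (.leaf 37601280))))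 (.node 4 (.node 2 (.node 1 (.leaf 53423120) (.leaf 79413120)) (.node 1 (.leaf 79437600) (.leaf 64091461))) (.node 2 (.node 1 (.leaf 77052635) (.leaf 37650240)) (.node 1 (.leaf 79462080) (.leaf 79486560))))) (.node 8 (.node 4 (.node 2 (.node 1 (.leaf 79511040) (.leaf 79535520)) (.node 1 (.leaf 79560000) (.leaf 37699200))) (.node 2 (.node 1 (.leaf 79584480) (.leaf 79608960)) (.node 1 (.leaf 79633440) (.leaf 79657920)))) (.node 4 (.node 2 (.node 1 (.leaf 79682400) (.leaf 37748160)) (.node 1 (.leaf 79706880) (.leaf 79731360))) (.node 2 (.node 1 (.leaf 2619360) (.leaf 79755840)) (.node 1 (.leaf 61729241) (.leaf 37797120)))))) (.node 16 (.node 8 (.node 4 (.node 2 (.node 1 (.leaf 79780320) (.leaf 79804800)) (.node 1 (.leaf 58551178) (.leaf 79829280))) (.node 2 (.node 1 (.leaf 79853760) (.leaf 37846080)) (.node 1 (.leaf 79878240) (.leaf 79902720)))) (.node 4 (.node 2 (.node 1 (.leaf 79927200) (.leaf 37870560)) (.node 1 (.leaf 79951680) (.leaf 79976160)))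 (.node 2 (.node 1 (.leaf 80000640) (.leaf 80025120)) (.node 1 (.leaf 80049600) (.leaf 37919520))))) (.node 8 (.node 4 (.node 2 (.node 1 (.leaf 80074080) (.leaf 80098560)) (.node 1 (.leaf 80123040) (.leaf 80147520))) (.node 2 (.node 1 (.leaf 54908527) (.leaf 80172000)) (.node 1 (.leaf 80196480) (.leaf 37992960)))) (.node 4 (.node 2 (.node 1 (.leaf 80220960) (.leaf 80245440)) (.node 1 (.leaf 29955471) (.leaf 80269920))) (.node 2 (.node 1 (.leaf 35532620) (.leaf 38041920)) (.node 1 (.leaf 80294400) (.node 1 (.leaf 61909985) (.leaf 80318880))))))))))) (.node 256 (.node 128 (.node 64 (.node 32 (.node 16 (.node 8 (.node 4 (.node 2 (.node 1 (.leaf 38066400) (.leaf 80343360)) (.node 1 (.leaf 80367840) (.leaf 80392320))) (.node 2 (.node 1 (.leaf 80416800) (.leaf 42287797)) (.node 1 (.leaf 38139840) (.leaf 80441280)))) (.node 4 (.node 2 (.node 1 (.leaf 38164320) (.leaf 80465760)) (.node 1 (.leaf 78337290) (.leaf 80490240))) (.node 2 (.node 1 (.leaf 80514720)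 (.leaf 80539200)) (.node 1 (.leaf 80563680) (.leaf 35416347))))) (.node 8 (.node 4 (.node 2 (.node 1 (.leaf 38262240) (.leaf 76368647)) (.node 1 (.leaf 80588160) (.leaf 4929018))) (.node 2 (.node 1 (.leaf 38311200) (.leaf 80612640)) (.node 1 (.leaf 71953108) (.leaf 80637120)))) (.node 4 (.node 2 (.node 1 (.leaf 38335680) (.leaf 80661600)) (.node 1 (.leaf 80686080) (.leaf 80710560))) (.node 2 (.node 1 (.leaf 38360160) (.leaf 80735040)) (.node 1 (.leaf 80759520) (.leaf 39741258)))))) (.node 16 (.node 8 (.node 4 (.node 2 (.node 1 (.leaf 38409120) (.leaf 80784000)) (.node 1 (.leaf 80808480) (.leaf 80832960))) (.node 2 (.node 1 (.leaf 80857440) (.leaf 59043892)) (.node 1 (.leaf 38458080) (.leaf 80881920)))) (.node 4 (.node 2 (.node 1 (.leaf 80906400) (.leaf 80930880)) (.node 1 (.leaf 80955360) (.leaf 80979840))) (.node 2 (.node 1 (.leaf 48379708) (.leaf 81004320)) (.node 1 (.leaf 38556000) (.leaf 81028800))))) (.node 8 (.node 4 (.node 2 (.node 1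 (.leaf 43430693) (.leaf 81053280)) (.node 1 (.leaf 38580480) (.leaf 81077760))) (.node 2 (.node 1 (.leaf 81102240) (.leaf 81126720)) (.node 1 (.leaf 46558393) (.leaf 81151200)))) (.node 4 (.node 2 (.node 1 (.leaf 38629440) (.leaf 81175680)) (.node 1 (.leaf 61998290) (.leaf 81200160))) (.node 2 (.node 1 (.leaf 38653920) (.leaf 81224640)) (.node 1 (.leaf 70473329) (.leaf 66863858))))))) (.node 32 (.node 16 (.node 8 (.node 4 (.node 2 (.node 1 (.leaf 81249120) (.leaf 81273600)) (.node 1 (.leaf 38702880) (.leaf 81298080))) (.node 2 (.node 1 (.leaf 81322560) (.leaf 81347040)) (.node 1 (.leaf 77918255) (.leaf 81371520)))) (.node 4 (.node 2 (.node 1 (.leaf 38751840) (.leaf 50008118)) (.node 1 (.leaf 38776320) (.leaf 81396000))) (.node 2 (.node 1 (.leaf 81420480) (.leaf 57812419)) (.node 1 (.leaf 81444960) (.leaf 78151815))))) (.node 8 (.node 4 (.node 2 (.node 1 (.leaf 38825280) (.leaf 81469440)) (.node 1 (.leaf 81493920) (.leaf 61117869))) (.node 2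 (.node 1 (.leaf 38874240) (.leaf 81518400)) (.node 1 (.leaf 81542880) (.leaf 10790754)))) (.node 4 (.node 2 (.node 1 (.leaf 38898720) (.leaf 81567360)) (.node 1 (.leaf 81591840) (.leaf 81616320))) (.node 2 (.node 1 (.leaf 38947680) (.leaf 81640800)) (.node 1 (.leaf 81665280) (.leaf 81689760)))))) (.node 16 (.node 8 (.node 4 (.node 2 (.node 1 (.leaf 38972160) (.leaf 8225023)) (.node 1 (.leaf 81714240) (.leaf 81738720))) (.node 2 (.node 1 (.leaf 81763200) (.leaf 81787680)) (.node 1 (.leaf 39021120) (.leaf 81812160)))) (.node 4 (.node 2 (.node 1 (.leaf 81836640) (.leaf 81861120)) (.node 1 (.leaf 39045600) (.leaf 81885600))) (.node 2 (.node 1 (.leaf 81910080) (.leaf 81934560)) (.node 1 (.leaf 81959040) (.leaf 81983520))))) (.node 8 (.node 4 (.node 2 (.node 1 (.leaf 39094560) (.leaf 82008000)) (.node 1 (.leaf 82032480) (.leaf 82056960))) (.node 2 (.node 1 (.leaf 44778502) (.leaf 82081440)) (.node 1 (.leaf 39143520) (.leaf 82105920)))) (.node 4 (.node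 2 (.node 1 (.leaf 82130400) (.leaf 9357882)) (.node 1 (.leaf 39168000) (.leaf 82154880))) (.node 2 (.node 1 (.leaf 82179360) (.leaf 3650992)) (.node 1 (.leaf 39216960) (.leaf 82203840)))))))) (.node 64 (.node 32 (.node 16 (.node 8 (.node 4 (.node 2 (.node 1 (.leaf 82228320) (.leaf 82252800)) (.node 1 (.leaf 39265920) (.leaf 2741760))) (.node 2 (.node 1 (.leaf 82277280) (.leaf 82301760)) (.node 1 (.leaf 39290400) (.leaf 66034752)))) (.node 4 (.node 2 (.node 1 (.leaf 82326240) (.leaf 82350720)) (.node 1 (.leaf 82375200) (.leaf 14725920))) (.node 2 (.node 1 (.leaf 39339360) (.leaf 38554110)) (.node 1 (.leaf 82399680) (.leaf 82424160))))) (.node 8 (.node 4 (.node 2 (.node 1 (.leaf 39363840) (.leaf 82448640)) (.node 1 (.leaf 82473120) (.leaf 10731334))) (.node 2 (.node 1 (.leaf 39412800) (.leaf 82497600)) (.node 1 (.leaf 82522080) (.leaf 82546560)))) (.node 4 (.node 2 (.node 1 (.leaf 39437280) (.leaf 82571040)) (.node 1 (.leaf 82595520) (.leaf 82620000)))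 (.node 2 (.node 1 (.leaf 82644480) (.leaf 33476971)) (.node 1 (.leaf 39486240) (.leaf 48956467)))))) (.node 16 (.node 8 (.node 4 (.node 2 (.node 1 (.leaf 82668960) (.leaf 82693440)) (.node 1 (.leaf 39510720) (.leaf 82717920))) (.node 2 (.node 1 (.leaf 82742400) (.leaf 82766880)) (.node 1 (.leaf 39559680) (.leaf 82791360)))) (.node 4 (.node 2 (.node 1 (.leaf 82815840) (.leaf 82840320)) (.node 1 (.leaf 39608640) (.leaf 32139320))) (.node 2 (.node 1 (.leaf 82864800) (.leaf 54600734)) (.node 1 (.leaf 39633120) (.leaf 82889280))))) (.node 8 (.node 4 (.node 2 (.node 1 (.leaf 82913760) (.leaf 82251430)) (.node 1 (.leaf 82938240) (.leaf 82962720))) (.node 2 (.node 1 (.leaf 39682080) (.leaf 82987200)) (.node 1 (.leaf 83011680) (.leaf 38242115)))) (.node 4 (.node 2 (.node 1 (.leaf 39706560) (.leaf 83036160)) (.node 1 (.leaf 83060640) (.leaf 64086124))) (.node 2 (.node 1 (.leaf 83085120) (.leaf 83109600)) (.node 1 (.leaf 39755520) (.leaf 83134080)))))))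 (.node 32 (.node 16 (.node 8 (.node 4 (.node 2 (.node 1 (.leaf 83158560) (.leaf 18955514)) (.node 1 (.leaf 50351084) (.leaf 83183040))) (.node 2 (.node 1 (.leaf 39804480) (.leaf 75216315)) (.node 1 (.leaf 83207520) (.leaf 83232000)))) (.node 4 (.node 2 (.node 1 (.leaf 39828960) (.leaf 83256480)) (.node 1 (.leaf 67614556) (.leaf 31296182))) (.node 2 (.node 1 (.leaf 83280960) (.leaf 83305440)) (.node 1 (.leaf 39877920) (.leaf 2790720))))) (.node 8 (.node 4 (.node 2 (.node 1 (.leaf 83329920) (.leaf 83354400)) (.node 1 (.leaf 39902400) (.leaf 83378880))) (.node 2 (.node 1 (.leaf 83403360) (.leaf 83427840)) (.node 1 (.leaf 83452320) (.leaf 57115510)))) (.node 4 (.node 2 (.node 1 (.leaf 39951360) (.leaf 83476800)) (.node 1 (.leaf 83501280) (.leaf 83525760))) (.node 2 (.node 1 (.leaf 39975840) (.leaf 83550240)) (.node 1 (.leaf 83574720) (.leaf 83599200)))))) (.node 16 (.node 8 (.node 4 (.node 2 (.node 1 (.leaf 83623680) (.leaf 64209450)) (.node 1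 (.leaf 40024800) (.leaf 83648160))) (.node 2 (.node 1 (.leaf 83672640) (.leaf 57401356)) (.node 1 (.leaf 83697120) (.leaf 83721600)))) (.node 4 (.node 2 (.node 1 (.leaf 40073760) (.leaf 83746080)) (.node 1 (.leaf 83770560) (.leaf 83795040))) (.node 2 (.node 1 (.leaf 40098240) (.leaf 83819520)) (.node 1 (.leaf 83844000) (.leaf 71580738))))) (.node 8 (.node 4 (.node 2 (.node 1 (.leaf 40147200) (.leaf 82144211)) (.node 1 (.leaf 83868480) (.leaf 83892960))) (.node 2 (.node 1 (.leaf 40171680) (.leaf 83917440)) (.node 1 (.leaf 83941920) (.leaf 83966400)))) (.node 4 (.node 2 (.node 1 (.leaf 83990880) (.leaf 71983358)) (.node 1 (.leaf 78232905) (.leaf 84015360))) (.node 2 (.node 1 (.leaf 40269600) (.leaf 84039840)) (.node 1 (.leaf 41844066) (.leaf 84064320))))))))) (.node 128 (.node 64 (.node 32 (.node 16 (.node 8 (.node 4 (.node 2 (.node 1 (.leaf 40294080) (.leaf 84088800)) (.node 1 (.leaf 82896387) (.leaf 84113280))) (.node 2 (.node 1 (.leaf 84137760)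 (.leaf 84162240)) (.node 1 (.leaf 40343040) (.leaf 84186720)))) (.node 4 (.node 2 (.node 1 (.leaf 84211200) (.leaf 84235680)) (.node 1 (.leaf 79576080) (.leaf 50619164))) (.node 2 (.node 1 (.leaf 40392000) (.leaf 61208945)) (.node 1 (.leaf 71896673) (.leaf 84260160))))) (.node 8 (.node 4 (.node 2 (.node 1 (.leaf 84284640) (.leaf 84309120)) (.node 1 (.leaf 40440960) (.leaf 13049414))) (.node 2 (.node 1 (.leaf 71192931) (.leaf 84333600)) (.node 1 (.leaf 81653829) (.leaf 84358080)))) (.node 4 (.node 2 (.node 1 (.leaf 45965950) (.leaf 73315193)) (.node 1 (.leaf 40563360) (.leaf 84382560))) (.node 2 (.node 1 (.leaf 84407040) (.leaf 84431520)) (.node 1 (.leaf 84456000) (.leaf 84480480)))))) (.node 16 (.node 8 (.node 4 (.node 2 (.node 1 (.leaf 84504960) (.leaf 84529440)) (.node 1 (.leaf 84553920) (.leaf 84578400))) (.node 2 (.node 1 (.leaf 51789728) (.leaf 84602880)) (.node 1 (.leaf 40685760) (.leaf 84627360)))) (.node 4 (.node 2 (.node 1 (.leaf 53182569)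 (.leaf 84651840)) (.node 1 (.leaf 60161108) (.leaf 84676320))) (.node 2 (.node 1 (.leaf 65317072) (.leaf 52700341)) (.node 1 (.leaf 40759200) (.leaf 65433895))))) (.node 8 (.node 4 (.node 2 (.node 1 (.leaf 84700800) (.leaf 84725280)) (.node 1 (.leaf 40783680) (.leaf 84749760))) (.node 2 (.node 1 (.leaf 84774240) (.leaf 84798720)) (.node 1 (.leaf 84823200) (.leaf 84847680)))) (.node 4 (.node 2 (.node 1 (.leaf 40832640) (.leaf 84872160)) (.node 1 (.leaf 84896640) (.leaf 84921120))) (.node 2 (.node 1 (.leaf 40881600) (.leaf 84945600)) (.node 1 (.leaf 84970080) (.leaf 84994560))))))) (.node 32 (.node 16 (.node 8 (.node 4 (.node 2 (.node 1 (.leaf 85019040) (.leaf 85043520)) (.node 1 (.leaf 40930560) (.leaf 85068000))) (.node 2 (.node 1 (.leaf 85092480) (.leaf 85116960)) (.node 1 (.leaf 55258350) (.leaf 85141440)))) (.node 4 (.node 2 (.node 1 (.leaf 40979520) (.leaf 85165920)) (.node 1 (.leaf 85190400) (.leaf 85214880))) (.node 2 (.node 1 (.leaf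 41028480) (.leaf 85239360)) (.node 1 (.leaf 85263840) (.leaf 47720093))))) (.node 8 (.node 4 (.node 2 (.node 1 (.leaf 41052960) (.leaf 75967929)) (.node 1 (.leaf 85288320) (.leaf 14209994))) (.node 2 (.node 1 (.leaf 41077440) (.leaf 5488185)) (.node 1 (.leaf 85312800) (.leaf 24009562)))) (.node 4 (.node 2 (.node 1 (.leaf 41101920) (.leaf 85337280)) (.node 1 (.leaf 85361760) (.leaf 53363451))) (.node 2 (.node 1 (.leaf 85386240) (.leaf 85410720)) (.node 1 (.leaf 41150880) (.leaf 57539961)))))) (.node 16 (.node 8 (.node 4 (.node 2 (.node 1 (.leaf 85435200) (.leaf 80516554)) (.node 1 (.leaf 41175360) (.leaf 85459680))) (.node 2 (.node 1 (.leaf 85484160) (.leaf 85508640)) (.node 1 (.leaf 41199840) (.leaf 85533120)))) (.node 4 (.node 2 (.node 1 (.leaf 77834525) (.leaf 85557600)) (.node 1 (.leaf 85582080) (.leaf 76728542))) (.node 2 (.node 1 (.leaf 41248800) (.leaf 85606560)) (.node 1 (.leaf 85631040) (.leaf 85655520))))) (.node 8 (.node 4 (.node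 2 (.node 1 (.leaf 85680000) (.leaf 2888640)) (.node 1 (.leaf 85704480) (.leaf 85728960))) (.node 2 (.node 1 (.leaf 41322240) (.leaf 70402643)) (.node 1 (.leaf 71508227) (.leaf 85753440)))) (.node 4 (.node 2 (.node 1 (.leaf 41371200) (.leaf 85777920)) (.node 1 (.leaf 53536585) (.leaf 58156611))) (.node 2 (.node 1 (.leaf 85802400) (.leaf 16498642)) (.node 1 (.leaf 41420160) (.leaf 85826880)))))))) (.node 64 (.node 32 (.node 16 (.node 8 (.node 4 (.node 2 (.node 1 (.leaf 41469120) (.leaf 85851360)) (.node 1 (.leaf 85875840) (.leaf 85900320))) (.node 2 (.node 1 (.leaf 85924800) (.leaf 75079781)) (.node 1 (.leaf 79210533) (.leaf 85949280)))) (.node 4 (.node 2 (.node 1 (.leaf 41542560) (.leaf 26031761)) (.node 1 (.leaf 85973760) (.leaf 85998240))) (.node 2 (.node 1 (.leaf 41567040) (.leaf 86022720)) (.node 1 (.leaf 76413237) (.leaf 71490341))))) (.node 8 (.node 4 (.node 2 (.node 1 (.leaf 86047200) (.leaf 20575045)) (.node 1 (.leaf 41616000) (.leaf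 86071680))) (.node 2 (.node 1 (.leaf 41664960) (.leaf 86096160)) (.node 1 (.leaf 54919737) (.leaf 44380225)))) (.node 4 (.node 2 (.node 1 (.leaf 86120640) (.leaf 86145120)) (.node 1 (.leaf 86169600) (.leaf 86194080))) (.node 2 (.node 1 (.leaf 41738400) (.leaf 86218560)) (.node 1 (.leaf 86243040) (.leaf 86267520)))))) (.node 16 (.node 8 (.node 4 (.node 2 (.node 1 (.leaf 80469055) (.leaf 86292000)) (.node 1 (.leaf 41787360) (.leaf 73409421))) (.node 2 (.node 1 (.leaf 86316480) (.leaf 86340960)) (.node 1 (.leaf 86365440) (.leaf 2937600)))) (.node 4 (.node 2 (.node 1 (.leaf 86389920) (.leaf 86414400)) (.node 1 (.leaf 41860800) (.leaf 86438880))) (.node 2 (.node 1 (.leaf 51597978) (.leaf 86463360)) (.node 1 (.leaf 86487840) (.leaf 86512320))))) (.node 8 (.node 4 (.node 2 (.node 1 (.leaf 41909760) (.leaf 44095345)) (.node 1 (.leaf 72187546) (.leaf 86536800))) (.node 2 (.node 1 (.leaf 41934240) (.leaf 86561280)) (.node 1 (.leaf 45986704) (.leaf 86585760))))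 (.node 4 (.node 2 (.node 1 (.leaf 76440212) (.leaf 86610240)) (.node 1 (.leaf 56475369) (.leaf 37559937))) (.node 2 (.node 1 (.leaf 86634720) (.leaf 86659200)) (.node 1 (.leaf 42032160) (.leaf 70256888))))))) (.node 32 (.node 16 (.node 8 (.node 4 (.node 2 (.node 1 (.leaf 57222192) (.leaf 86683680)) (.node 1 (.leaf 86708160) (.leaf 86732640))) (.node 2 (.node 1 (.leaf 42105600) (.leaf 13970037)) (.node 1 (.leaf 65251606) (.leaf 86757120)))) (.node 4 (.node 2 (.node 1 (.leaf 42179040) (.leaf 86781600)) (.node 1 (.leaf 65031192) (.leaf 65793105))) (.node 2 (.node 1 (.leaf 86806080) (.leaf 86830560)) (.node 1 (.leaf 42228000) (.leaf 86855040))))) (.node 8 (.node 4 (.node 2 (.node 1 (.leaf 86879520) (.leaf 86904000)) (.node 1 (.leaf 42252480) (.leaf 86928480))) (.node 2 (.node 1 (.leaf 86952960) (.leaf 86977440)) (.node 1 (.leaf 42301440) (.leaf 87001920)))) (.node 4 (.node 2 (.node 1 (.leaf 65178244) (.leaf 87026400)) (.node 1 (.leaf 42325920)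 (.leaf 87050880))) (.node 2 (.node 1 (.leaf 87075360) (.leaf 87099840)) (.node 1 (.leaf 67817061) (.leaf 87124320)))))) (.node 16 (.node 8 (.node 4 (.node 2 (.node 1 (.leaf 42374880) (.leaf 59282364)) (.node 1 (.leaf 87148800) (.leaf 56017411))) (.node 2 (.node 1 (.leaf 87173280) (.leaf 87197760)) (.node 1 (.leaf 42423840) (.leaf 87222240)))) (.node 4 (.node 2 (.node 1 (.leaf 62484540) (.leaf 87246720)) (.node 1 (.leaf 42448320) (.leaf 87271200))) (.node 2 (.node 1 (.leaf 86482270) (.leaf 87295680)) (.node 1 (.leaf 87320160) (.leaf 87344640))))) (.node 8 (.node 4 (.node 2 (.node 1 (.leaf 87369120) (.leaf 87393600)) (.node 1 (.leaf 42521760) (.leaf 18322540))) (.node 2 (.node 1 (.leaf 87418080) (.leaf 87442560)) (.node 1 (.leaf 87467040) (.leaf 87491520)))) (.node 4 (.node 2 (.node 1 (.leaf 87516000) (.leaf 3228608)) (.node 1 (.leaf 42595200) (.leaf 87540480))) (.node 2 (.node 1 (.leaf 87564960) (.leaf 87589440)) (.node 1 (.leaf 87613920) (.node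 1 (.leaf 87638400) (.leaf 42644160))))))))))))

/-- Part 5 of `e0Tab`. -/
def e0Tab_5 : BT ℕ :=
  (.node 513 (.node 256 (.node 128 (.node 64 (.node 32 (.node 16 (.node 8 (.node 4 (.node 2 (.node 1 (.leaf 87662880) (.leaf 87687360)) (.node 1 (.leaf 87711840) (.leaf 42668640))) (.node 2 (.node 1 (.leaf 87736320) (.leaf 87760800)) (.node 1 (.leaf 87785280) (.leaf 81525863)))) (.node 4 (.node 2 (.node 1 (.leaf 87809760) (.leaf 42717600)) (.node 1 (.leaf 87834240) (.leaf 87858720))) (.node 2 (.node 1 (.leaf 48025263) (.leaf 85085341)) (.node 1 (.leaf 87883200) (.leaf 42766560))))) (.node 8 (.node 4 (.node 2 (.node 1 (.leaf 3011040) (.leaf 87907680)) (.node 1 (.leaf 61842068) (.leaf 42791040))) (.node 2 (.node 1 (.leaf 87932160) (.leaf 87956640)) (.node 1 (.leaf 87981120) (.leaf 88005600)))) (.node 4 (.node 2 (.node 1 (.leaf 88030080) (.leaf 42840000)) (.node 1 (.leaf 88054560) (.leaf 88079040))) (.node 2 (.node 1 (.leaf 88103520) (.leaf 88128000))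 (.node 1 (.leaf 34605951) (.leaf 42888960)))))) (.node 16 (.node 8 (.node 4 (.node 2 (.node 1 (.leaf 88152480) (.leaf 88176960)) (.node 1 (.leaf 81331245) (.leaf 80847329))) (.node 2 (.node 1 (.leaf 33398677) (.leaf 42937920)) (.node 1 (.leaf 88201440) (.leaf 88225920)))) (.node 4 (.node 2 (.node 1 (.leaf 39600259) (.leaf 46846300)) (.node 1 (.leaf 88250400) (.leaf 88274880))) (.node 2 (.node 1 (.leaf 88299360) (.leaf 43060320)) (.node 1 (.leaf 88323840) (.leaf 88348320))))) (.node 8 (.node 4 (.node 2 (.node 1 (.leaf 88372800) (.leaf 88397280)) (.node 1 (.leaf 12490190) (.leaf 43133760))) (.node 2 (.node 1 (.leaf 88421760) (.leaf 63438143)) (.node 1 (.leaf 37825574) (.leaf 43182720)))) (.node 4 (.node 2 (.node 1 (.leaf 87481702) (.leaf 88446240)) (.node 1 (.leaf 88470720) (.leaf 88495200))) (.node 2 (.node 1 (.leaf 88519680) (.leaf 50538587)) (.node 1 (.leaf 88544160) (.leaf 88568640))))))) (.node 32 (.node 16 (.node 8 (.node 4 (.node 2 (.node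 1 (.leaf 88593120) (.leaf 43280640)) (.node 1 (.leaf 88617600) (.leaf 88642080))) (.node 2 (.node 1 (.leaf 88666560) (.leaf 88691040)) (.node 1 (.leaf 88715520) (.leaf 43329600)))) (.node 4 (.node 2 (.node 1 (.leaf 88740000) (.leaf 88764480)) (.node 1 (.leaf 88788960) (.leaf 88813440))) (.node 2 (.node 1 (.leaf 88837920) (.leaf 43378560)) (.node 1 (.leaf 46353373) (.leaf 88862400))))) (.node 8 (.node 4 (.node 2 (.node 1 (.leaf 88886880) (.leaf 88911360)) (.node 1 (.leaf 88935840) (.leaf 43476480))) (.node 2 (.node 1 (.leaf 88960320) (.leaf 88984800)) (.node 1 (.leaf 89009280) (.leaf 43525440)))) (.node 4 (.node 2 (.node 1 (.leaf 30016253) (.leaf 89033760)) (.node 1 (.leaf 89058240) (.leaf 43549920))) (.node 2 (.node 1 (.leaf 89082720) (.leaf 89107200)) (.node 1 (.leaf 89131680) (.leaf 78577814)))))) (.node 16 (.node 8 (.node 4 (.node 2 (.node 1 (.leaf 87567413) (.leaf 89156160)) (.node 1 (.leaf 89180640) (.leaf 43623360))) (.node 2 (.node 1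 (.leaf 89205120) (.leaf 89229600)) (.node 1 (.leaf 89254080) (.leaf 89278560)))) (.node 4 (.node 2 (.node 1 (.leaf 4397041) (.leaf 43696800)) (.node 1 (.leaf 89303040) (.leaf 55857104))) (.node 2 (.node 1 (.leaf 89327520) (.leaf 43721280)) (.node 1 (.leaf 89352000) (.leaf 77363285))))) (.node 8 (.node 4 (.node 2 (.node 1 (.leaf 89376480) (.leaf 64183508)) (.node 1 (.leaf 89400960) (.leaf 43794720))) (.node 2 (.node 1 (.leaf 4002660) (.leaf 89425440)) (.node 1 (.leaf 89449920) (.leaf 43819200)))) (.node 4 (.node 2 (.node 1 (.leaf 89474400) (.leaf 44902471)) (.node 1 (.leaf 89498880) (.leaf 43868160))) (.node 2 (.node 1 (.leaf 89523360) (.leaf 89547840)) (.node 1 (.leaf 89572320) (.leaf 89596800)))))))) (.node 64 (.node 32 (.node 16 (.node 8 (.node 4 (.node 2 (.node 1 (.leaf 89621280) (.leaf 43917120)) (.node 1 (.leaf 56766573) (.leaf 89645760))) (.node 2 (.node 1 (.leaf 89670240) (.leaf 43941600)) (.node 1 (.leaf 59783230) (.leaf 89694720))))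 (.node 4 (.node 2 (.node 1 (.leaf 89719200) (.leaf 43966080)) (.node 1 (.leaf 89743680) (.leaf 89768160))) (.node 2 (.node 1 (.leaf 89792640) (.leaf 43990560)) (.node 1 (.leaf 89817120) (.leaf 51765266))))) (.node 8 (.node 4 (.node 2 (.node 1 (.leaf 27641669) (.leaf 44039520)) (.node 1 (.leaf 3133440) (.leaf 47475360))) (.node 2 (.node 1 (.leaf 89841600) (.leaf 44064000)) (.node 1 (.leaf 89866080) (.leaf 89890560)))) (.node 4 (.node 2 (.node 1 (.leaf 89915040) (.leaf 44112960)) (.node 1 (.leaf 89939520) (.leaf 89964000))) (.node 2 (.node 1 (.leaf 89988480) (.leaf 90012960)) (.node 1 (.leaf 10069943) (.leaf 44186400)))))) (.node 16 (.node 8 (.node 4 (.node 2 (.node 1 (.leaf 90037440) (.leaf 90061920)) (.node 1 (.leaf 90086400) (.leaf 44210880))) (.node 2 (.node 1 (.leaf 90110880) (.leaf 55567924)) (.node 1 (.leaf 90135360) (.leaf 44259840)))) (.node 4 (.node 2 (.node 1 (.leaf 90159840) (.leaf 44308800)) (.node 1 (.leaf 90184320) (.leaf 90208800)))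 (.node 2 (.node 1 (.leaf 65640506) (.leaf 44333280)) (.node 1 (.leaf 72959944) (.leaf 90233280))))) (.node 8 (.node 4 (.node 2 (.node 1 (.leaf 3259594) (.leaf 90257760)) (.node 1 (.leaf 90282240) (.leaf 44382240))) (.node 2 (.node 1 (.leaf 90306720) (.leaf 90331200)) (.node 1 (.leaf 78638965) (.leaf 62117897)))) (.node 4 (.node 2 (.node 1 (.leaf 90355680) (.leaf 44431200)) (.node 1 (.leaf 90380160) (.leaf 90404640))) (.node 2 (.node 1 (.leaf 90429120) (.leaf 90453600)) (.node 1 (.leaf 90478080) (.leaf 44480160))))))) (.node 32 (.node 16 (.node 8 (.node 4 (.node 2 (.node 1 (.leaf 17201655) (.leaf 90502560)) (.node 1 (.leaf 90527040) (.leaf 62297743))) (.node 2 (.node 1 (.leaf 90551520) (.leaf 44529120)) (.node 1 (.leaf 70997398) (.leaf 90576000)))) (.node 4 (.node 2 (.node 1 (.leaf 90600480) (.leaf 62069569)) (.node 1 (.leaf 90624960) (.leaf 90649440))) (.node 2 (.node 1 (.leaf 52246687) (.leaf 90673920)) (.node 1 (.leaf 90698400) (.leaf 60195950)))))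 (.node 8 (.node 4 (.node 2 (.node 1 (.leaf 90722880) (.leaf 44651520)) (.node 1 (.leaf 90747360) (.leaf 47705432))) (.node 2 (.node 1 (.leaf 90771840) (.leaf 90796320)) (.node 1 (.leaf 77766567) (.leaf 44700480)))) (.node 4 (.node 2 (.node 1 (.leaf 79105115) (.leaf 76127436)) (.node 1 (.leaf 21852395) (.leaf 55678760))) (.node 2 (.node 1 (.leaf 54867516) (.leaf 90820800)) (.node 1 (.leaf 90845280) (.leaf 78524159)))))) (.node 16 (.node 8 (.node 4 (.node 2 (.node 1 (.leaf 55445213) (.leaf 82986837)) (.node 1 (.leaf 90869760) (.leaf 44822880))) (.node 2 (.node 1 (.leaf 90894240) (.leaf 76580990)) (.node 1 (.leaf 90918720) (.leaf 90943200)))) (.node 4 (.node 2 (.node 1 (.leaf 90967680) (.leaf 44871840)) (.node 1 (.leaf 90992160) (.leaf 91016640))) (.node 2 (.node 1 (.leaf 91041120) (.leaf 91065600)) (.node 1 (.leaf 26147134) (.leaf 82550883))))) (.node 8 (.node 4 (.node 2 (.node 1 (.leaf 91090080) (.leaf 44945280)) (.node 1 (.leaf 91114560) (.leaf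 91139040))) (.node 2 (.node 1 (.leaf 91163520) (.leaf 44969760)) (.node 1 (.leaf 91188000) (.leaf 91212480)))) (.node 4 (.node 2 (.node 1 (.leaf 91236960) (.leaf 45018720)) (.node 1 (.leaf 71916802) (.leaf 91261440))) (.node 2 (.node 1 (.leaf 91285920) (.leaf 45067680)) (.node 1 (.leaf 43906234) (.leaf 91310400))))))))) (.node 128 (.node 64 (.node 32 (.node 16 (.node 8 (.node 4 (.node 2 (.node 1 (.leaf 91334880) (.leaf 45092160)) (.node 1 (.leaf 62095612) (.leaf 65956943))) (.node 2 (.node 1 (.leaf 21155183) (.leaf 91359360)) (.node 1 (.leaf 91383840) (.leaf 91408320)))) (.node 4 (.node 2 (.node 1 (.leaf 91432800) (.leaf 45165600)) (.node 1 (.leaf 91457280) (.leaf 45190080))) (.node 2 (.node 1 (.leaf 36097218) (.leaf 91481760)) (.node 1 (.leaf 91506240) (.leaf 89832292))))) (.node 8 (.node 4 (.node 2 (.node 1 (.leaf 91530720) (.leaf 55130847)) (.node 1 (.leaf 91555200) (.leaf 45263520))) (.node 2 (.node 1 (.leaf 19225203) (.leaf 91579680))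 (.node 1 (.leaf 91604160) (.leaf 70663295)))) (.node 4 (.node 2 (.node 1 (.leaf 91628640) (.leaf 45312480)) (.node 1 (.leaf 91653120) (.leaf 91677600))) (.node 2 (.node 1 (.leaf 91702080) (.leaf 45336960)) (.node 1 (.leaf 61623155) (.leaf 91726560)))))) (.node 16 (.node 8 (.node 4 (.node 2 (.node 1 (.leaf 91751040) (.leaf 91775520)) (.node 1 (.leaf 91800000) (.leaf 45385920))) (.node 2 (.node 1 (.leaf 70800971) (.leaf 50263936)) (.node 1 (.leaf 91824480) (.leaf 45410400)))) (.node 4 (.node 2 (.node 1 (.leaf 91848960) (.leaf 90060563)) (.node 1 (.leaf 91873440) (.leaf 45459360))) (.node 2 (.node 1 (.leaf 91897920) (.leaf 91922400)) (.node 1 (.leaf 91946880) (.leaf 45483840))))) (.node 8 (.node 4 (.node 2 (.node 1 (.leaf 91971360) (.leaf 46450751)) (.node 1 (.leaf 91995840) (.leaf 92020320))) (.node 2 (.node 1 (.leaf 92044800) (.leaf 92069280)) (.node 1 (.leaf 92093760) (.leaf 45557280)))) (.node 4 (.node 2 (.node 1 (.leaf 91022593) (.leaf 51001375))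 (.node 1 (.leaf 82945395) (.leaf 45581760))) (.node 2 (.node 1 (.leaf 92118240) (.leaf 92142720)) (.node 1 (.leaf 88497522) (.leaf 45606240))))))) (.node 32 (.node 16 (.node 8 (.node 4 (.node 2 (.node 1 (.leaf 92167200) (.leaf 80734393)) (.node 1 (.leaf 22958267) (.leaf 45679680))) (.node 2 (.node 1 (.leaf 89559877) (.leaf 70845062)) (.node 1 (.leaf 22572541) (.leaf 45704160)))) (.node 4 (.node 2 (.node 1 (.leaf 92191680) (.leaf 92216160)) (.node 1 (.leaf 76779522) (.leaf 71849492))) (.node 2 (.node 1 (.leaf 4261866) (.leaf 45753120)) (.node 1 (.leaf 92240640) (.leaf 92265120))))) (.node 8 (.node 4 (.node 2 (.node 1 (.leaf 92289600) (.leaf 92314080)) (.node 1 (.leaf 92338560) (.leaf 45802080))) (.node 2 (.node 1 (.leaf 92363040) (.leaf 92387520)) (.node 1 (.leaf 48542494) (.leaf 92412000)))) (.node 4 (.node 2 (.node 1 (.leaf 92436480) (.leaf 92460960)) (.node 1 (.leaf 92485440) (.leaf 45875520))) (.node 2 (.node 1 (.leaf 39002551) (.leaf 83492167))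 (.node 1 (.leaf 92509920) (.leaf 45900000)))))) (.node 16 (.node 8 (.node 4 (.node 2 (.node 1 (.leaf 92534400) (.leaf 80314935)) (.node 1 (.leaf 40637629) (.leaf 92558880))) (.node 2 (.node 1 (.leaf 92583360) (.leaf 92607840)) (.node 1 (.leaf 92632320) (.leaf 92656800)))) (.node 4 (.node 2 (.node 1 (.leaf 92681280) (.leaf 92705760)) (.node 1 (.leaf 92730240) (.leaf 92012201))) (.node 2 (.node 1 (.leaf 92754720) (.leaf 92779200)) (.node 1 (.leaf 92803680) (.leaf 46095840))))) (.node 8 (.node 4 (.node 2 (.node 1 (.leaf 92828160) (.leaf 54297040)) (.node 1 (.leaf 90460159) (.leaf 46120320))) (.node 2 (.node 1 (.leaf 92852640) (.leaf 87120741)) (.node 1 (.leaf 92877120) (.leaf 92901600)))) (.node 4 (.node 2 (.node 1 (.leaf 92926080) (.leaf 72950186)) (.node 1 (.leaf 92950560) (.leaf 46193760))) (.node 2 (.node 1 (.leaf 92975040) (.leaf 46218240)) (.node 1 (.leaf 92999520) (.leaf 93024000)))))))) (.node 64 (.node 32 (.node 16 (.node 8 (.node 4 (.node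 2 (.node 1 (.leaf 6118275) (.leaf 93048480)) (.node 1 (.leaf 93072960) (.leaf 46267200))) (.node 2 (.node 1 (.leaf 93097440) (.leaf 81060592)) (.node 1 (.leaf 93121920) (.leaf 93146400)))) (.node 4 (.node 2 (.node 1 (.leaf 27155298) (.leaf 46316160)) (.node 1 (.leaf 93170880) (.leaf 58981486))) (.node 2 (.node 1 (.leaf 32395095) (.leaf 93195360)) (.node 1 (.leaf 93219840) (.leaf 46365120))))) (.node 8 (.node 4 (.node 2 (.node 1 (.leaf 93244320) (.leaf 46389600)) (.node 1 (.leaf 93268800) (.leaf 93293280))) (.node 2 (.node 1 (.leaf 93317760) (.leaf 46414080)) (.node 1 (.leaf 93342240) (.leaf 93366720)))) (.node 4 (.node 2 (.node 1 (.leaf 93391200) (.leaf 46463040)) (.node 1 (.leaf 47843518) (.leaf 62355586))) (.node 2 (.node 1 (.leaf 93415680) (.leaf 93440160)) (.node 1 (.leaf 93464640) (.leaf 46585440)))))) (.node 16 (.node 8 (.node 4 (.node 2 (.node 1 (.leaf 93489120) (.leaf 93513600)) (.node 1 (.leaf 93538080) (.leaf 93562560))) (.node 2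 (.node 1 (.leaf 38731630) (.leaf 46634400)) (.node 1 (.leaf 60537373) (.leaf 93587040)))) (.node 4 (.node 2 (.node 1 (.leaf 93611520) (.leaf 46658880)) (.node 1 (.leaf 93636000) (.leaf 93660480))) (.node 2 (.node 1 (.leaf 93684960) (.leaf 47934335)) (.node 1 (.leaf 93709440) (.leaf 93733920))))) (.node 8 (.node 4 (.node 2 (.node 1 (.leaf 93758400) (.leaf 46756800)) (.node 1 (.leaf 93782880) (.leaf 93807360))) (.node 2 (.node 1 (.leaf 93831840) (.leaf 46805760)) (.node 1 (.leaf 93856320) (.leaf 91442278)))) (.node 4 (.node 2 (.node 1 (.leaf 3353760) (.leaf 93880800)) (.node 1 (.leaf 93905280) (.leaf 46854720))) (.node 2 (.node 1 (.leaf 87524093) (.leaf 93929760)) (.node 1 (.leaf 93954240) (.leaf 93978720))))))) (.node 32 (.node 16 (.node 8 (.node 4 (.node 2 (.node 1 (.leaf 27244535) (.leaf 46928160)) (.node 1 (.leaf 20999922) (.leaf 46977120))) (.node 2 (.node 1 (.leaf 45137355) (.leaf 94003200)) (.node 1 (.leaf 94027680) (.leaf 94052160))))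 (.node 4 (.node 2 (.node 1 (.leaf 94076640) (.leaf 94101120)) (.node 1 (.leaf 94125600) (.leaf 47050560))) (.node 2 (.node 1 (.leaf 79385672) (.leaf 94150080)) (.node 1 (.leaf 94174560) (.leaf 94199040))))) (.node 8 (.node 4 (.node 2 (.node 1 (.leaf 94223520) (.leaf 47099520)) (.node 1 (.leaf 94248000) (.leaf 84241936))) (.node 2 (.node 1 (.leaf 70177771) (.leaf 47124000)) (.node 1 (.leaf 27694619) (.leaf 94272480)))) (.node 4 (.node 2 (.node 1 (.leaf 78077686) (.leaf 48752004)) (.node 1 (.leaf 62155705) (.leaf 94296960))) (.node 2 (.node 1 (.leaf 94321440) (.leaf 94345920)) (.node 1 (.leaf 94370400) (.leaf 47221920)))))) (.node 16 (.node 8 (.node 4 (.node 2 (.node 1 (.leaf 94394880) (.leaf 86779751)) (.node 1 (.leaf 94419360) (.leaf 47246400))) (.node 2 (.node 1 (.leaf 94443840) (.leaf 94468320)) (.node 1 (.leaf 94492800) (.leaf 94517280)))) (.node 4 (.node 2 (.node 1 (.leaf 43308890) (.leaf 47295360)) (.node 1 (.leaf 12309245) (.leaf 94541760)))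 (.node 2 (.node 1 (.leaf 94566240) (.leaf 94590720)) (.node 1 (.leaf 94615200) (.leaf 94639680))))) (.node 8 (.node 4 (.node 2 (.node 1 (.leaf 94664160) (.leaf 91957080)) (.node 1 (.leaf 94688640) (.leaf 47393280))) (.node 2 (.node 1 (.leaf 78715055) (.leaf 94713120)) (.node 1 (.leaf 87627896) (.leaf 47442240)))) (.node 4 (.node 2 (.node 1 (.leaf 94737600) (.leaf 94762080)) (.node 1 (.leaf 69142722) (.leaf 47515680))) (.node 2 (.node 1 (.leaf 94786560) (.leaf 47540160)) (.node 1 (.leaf 94811040) (.node 1 (.leaf 94835520) (.leaf 94860000))))))))))) (.node 256 (.node 128 (.node 64 (.node 32 (.node 16 (.node 8 (.node 4 (.node 2 (.node 1 (.leaf 47589120) (.leaf 94884480)) (.node 1 (.leaf 94908960) (.leaf 45947249))) (.node 2 (.node 1 (.leaf 94933440) (.leaf 40206428)) (.node 1 (.leaf 47638080) (.leaf 94957920)))) (.node 4 (.node 2 (.node 1 (.leaf 94982400) (.leaf 95006880)) (.node 1 (.leaf 47662560) (.leaf 95031360))) (.node 2 (.node 1 (.leaf 95055840)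 (.leaf 87370338)) (.node 1 (.leaf 95080320) (.leaf 95104800))))) (.node 8 (.node 4 (.node 2 (.node 1 (.leaf 47736000) (.leaf 95129280)) (.node 1 (.leaf 89353098) (.leaf 19629303))) (.node 2 (.node 1 (.leaf 47760480) (.leaf 86885587)) (.node 1 (.leaf 95153760) (.leaf 56912617)))) (.node 4 (.node 2 (.node 1 (.leaf 47809440) (.leaf 95178240)) (.node 1 (.leaf 95202720) (.leaf 95227200))) (.node 2 (.node 1 (.leaf 47882880) (.leaf 95251680)) (.node 1 (.leaf 95276160) (.leaf 95300640)))))) (.node 16 (.node 8 (.node 4 (.node 2 (.node 1 (.leaf 95325120) (.leaf 95349600)) (.node 1 (.leaf 95374080) (.leaf 95398560))) (.node 2 (.node 1 (.leaf 74678173) (.leaf 57483043)) (.node 1 (.leaf 95423040) (.leaf 84832227)))) (.node 4 (.node 2 (.node 1 (.leaf 48029760) (.leaf 80187400)) (.node 1 (.leaf 95447520) (.leaf 95472000))) (.node 2 (.node 1 (.leaf 95496480) (.leaf 95520960)) (.node 1 (.leaf 48078720) (.leaf 95545440))))) (.node 8 (.node 4 (.node 2 (.node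 1 (.leaf 48103200) (.leaf 26096093)) (.node 1 (.leaf 95569920) (.leaf 95594400))) (.node 2 (.node 1 (.leaf 48127680) (.leaf 75272884)) (.node 1 (.leaf 95618880) (.leaf 90653265)))) (.node 4 (.node 2 (.node 1 (.leaf 54273745) (.leaf 50844429)) (.node 1 (.leaf 95643360) (.leaf 77654737))) (.node 2 (.node 1 (.leaf 73282235) (.leaf 82822959)) (.node 1 (.leaf 48225600) (.leaf 85646475))))))) (.node 32 (.node 16 (.node 8 (.node 4 (.node 2 (.node 1 (.leaf 95667840) (.leaf 95692320)) (.node 1 (.leaf 95716800) (.leaf 95741280))) (.node 2 (.node 1 (.leaf 48274560) (.leaf 95765760)) (.node 1 (.leaf 95790240) (.leaf 95814720)))) (.node 4 (.node 2 (.node 1 (.leaf 48299040) (.leaf 7333742)) (.node 1 (.leaf 70417043) (.leaf 95839200))) (.node 2 (.node 1 (.leaf 50026525) (.leaf 95863680)) (.node 1 (.leaf 95888160) (.leaf 95912640))))) (.node 8 (.node 4 (.node 2 (.node 1 (.leaf 95937120) (.leaf 80283251)) (.node 1 (.leaf 48421440) (.leaf 95961600))) (.node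 2 (.node 1 (.leaf 95986080) (.leaf 96010560)) (.node 1 (.leaf 48470400) (.leaf 96035040)))) (.node 4 (.node 2 (.node 1 (.leaf 96059520) (.leaf 40873095)) (.node 1 (.leaf 48494880) (.leaf 96084000))) (.node 2 (.node 1 (.leaf 96108480) (.leaf 82916650)) (.node 1 (.leaf 96132960) (.leaf 79741870)))))) (.node 16 (.node 8 (.node 4 (.node 2 (.node 1 (.leaf 48543840) (.leaf 89894411)) (.node 1 (.leaf 96157440) (.leaf 95901367))) (.node 2 (.node 1 (.leaf 48568320) (.leaf 96181920)) (.node 1 (.leaf 76027779) (.leaf 95085817)))) (.node 4 (.node 2 (.node 1 (.leaf 48617280) (.leaf 96206400)) (.node 1 (.leaf 96230880) (.leaf 96255360))) (.node 2 (.node 1 (.leaf 48641760) (.leaf 96279840)) (.node 1 (.leaf 69975323) (.leaf 96304320))))) (.node 8 (.node 4 (.node 2 (.node 1 (.leaf 48690720) (.leaf 96328800)) (.node 1 (.leaf 57273396) (.leaf 96353280))) (.node 2 (.node 1 (.leaf 76401064) (.leaf 3525120)) (.node 1 (.leaf 77462055) (.leaf 86638202)))) (.node 4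 (.node 2 (.node 1 (.leaf 48764160) (.leaf 89160951)) (.node 1 (.leaf 96377760) (.leaf 96402240))) (.node 2 (.node 1 (.leaf 86203216) (.leaf 96426720)) (.node 1 (.leaf 48813120) (.leaf 45001213)))))))) (.node 64 (.node 32 (.node 16 (.node 8 (.node 4 (.node 2 (.node 1 (.leaf 48837600) (.leaf 96451200)) (.node 1 (.leaf 66197822) (.leaf 96475680))) (.node 2 (.node 1 (.leaf 87820134) (.leaf 45552370)) (.node 1 (.leaf 48886560) (.leaf 96500160)))) (.node 4 (.node 2 (.node 1 (.leaf 79608513) (.leaf 96524640)) (.node 1 (.leaf 48911040) (.leaf 96549120))) (.node 2 (.node 1 (.leaf 96573600) (.leaf 96598080)) (.node 1 (.leaf 48960000) (.leaf 4523676))))) (.node 8 (.node 4 (.node 2 (.node 1 (.leaf 66773350) (.leaf 37380736)) (.node 1 (.leaf 49008960) (.leaf 96622560))) (.node 2 (.node 1 (.leaf 96647040) (.leaf 96671520)) (.node 1 (.leaf 49033440) (.leaf 96696000)))) (.node 4 (.node 2 (.node 1 (.leaf 96720480) (.leaf 88569481)) (.node 1 (.leaf 96744960)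 (.leaf 96769440))) (.node 2 (.node 1 (.leaf 49082400) (.leaf 62460741)) (.node 1 (.leaf 49131360) (.leaf 96793920)))))) (.node 16 (.node 8 (.node 4 (.node 2 (.node 1 (.leaf 96818400) (.leaf 96842880)) (.node 1 (.leaf 96867360) (.leaf 81677747))) (.node 2 (.node 1 (.leaf 49229280) (.leaf 25673257)) (.node 1 (.leaf 49253760) (.leaf 96891840)))) (.node 4 (.node 2 (.node 1 (.leaf 96916320) (.leaf 96940800)) (.node 1 (.leaf 96965280) (.leaf 96989760))) (.node 2 (.node 1 (.leaf 49302720) (.leaf 16526229)) (.node 1 (.leaf 59883171) (.leaf 97014240))))) (.node 8 (.node 4 (.node 2 (.node 1 (.leaf 49351680) (.leaf 88367728)) (.node 1 (.leaf 97038720) (.leaf 97063200))) (.node 2 (.node 1 (.leaf 49376160) (.leaf 97087680)) (.node 1 (.leaf 97112160) (.leaf 97136640)))) (.node 4 (.node 2 (.node 1 (.leaf 49425120) (.leaf 97161120)) (.node 1 (.leaf 97185600) (.leaf 73147972))) (.node 2 (.node 1 (.leaf 87553693) (.leaf 97210080)) (.node 1 (.leaf 49474080) (.leaf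 97234560))))))) (.node 32 (.node 16 (.node 8 (.node 4 (.node 2 (.node 1 (.leaf 97259040) (.leaf 49538392)) (.node 1 (.leaf 88126102) (.leaf 97283520))) (.node 2 (.node 1 (.leaf 97308000) (.leaf 97332480)) (.node 1 (.leaf 49547520) (.leaf 33765254)))) (.node 4 (.node 2 (.node 1 (.leaf 61092714) (.leaf 97356960)) (.node 1 (.leaf 77112491) (.leaf 97381440))) (.node 2 (.node 1 (.leaf 49596480) (.leaf 42570832)) (.node 1 (.leaf 49620960) (.leaf 86260297))))) (.node 8 (.node 4 (.node 2 (.node 1 (.leaf 97405920) (.leaf 18233700)) (.node 1 (.leaf 49645440) (.leaf 97430400))) (.node 2 (.node 1 (.leaf 51071386) (.leaf 97454880)) (.node 1 (.leaf 97479360) (.leaf 3965732)))) (.node 4 (.node 2 (.node 1 (.leaf 49694400) (.leaf 88916712)) (.node 1 (.leaf 71741106) (.leaf 74332796))) (.node 2 (.node 1 (.leaf 49743360) (.leaf 97503840)) (.node 1 (.leaf 97528320) (.leaf 79330463)))))) (.node 16 (.node 8 (.node 4 (.node 2 (.node 1 (.leaf 97552800) (.leaf 97577280))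 (.node 1 (.leaf 49792320) (.leaf 97601760))) (.node 2 (.node 1 (.leaf 66843908) (.leaf 97626240)) (.node 1 (.leaf 59814672) (.leaf 97650720)))) (.node 4 (.node 2 (.node 1 (.leaf 49841280) (.leaf 97675200)) (.node 1 (.leaf 97699680) (.leaf 72075426))) (.node 2 (.node 1 (.leaf 56787188) (.leaf 12617717)) (.node 1 (.leaf 49890240) (.leaf 15546712))))) (.node 8 (.node 4 (.node 2 (.node 1 (.leaf 71997375) (.leaf 14409079)) (.node 1 (.leaf 49914720) (.leaf 97724160))) (.node 2 (.node 1 (.leaf 97748640) (.leaf 73553965)) (.node 1 (.leaf 49963680) (.leaf 97773120)))) (.node 4 (.node 2 (.node 1 (.leaf 97797600) (.leaf 97822080)) (.node 1 (.leaf 53124032) (.leaf 97846560))) (.node 2 (.node 1 (.leaf 50037120) (.leaf 54060419)) (.node 1 (.leaf 61812685) (.leaf 47501362))))))))) (.node 128 (.node 64 (.node 32 (.node 16 (.node 8 (.node 4 (.node 2 (.node 1 (.leaf 97871040) (.leaf 51830396)) (.node 1 (.leaf 50135040) (.leaf 97895520))) (.node 2 (.node 1 (.leaf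 97920000) (.leaf 97944480)) (.node 1 (.leaf 88478500) (.leaf 97968960)))) (.node 4 (.node 2 (.node 1 (.leaf 50184000) (.leaf 97993440)) (.node 1 (.leaf 98017920) (.leaf 98042400))) (.node 2 (.node 1 (.leaf 50208480) (.leaf 98066880)) (.node 1 (.leaf 50232960) (.leaf 79664556))))) (.node 8 (.node 4 (.node 2 (.node 1 (.leaf 98091360) (.leaf 98115840)) (.node 1 (.leaf 98140320) (.leaf 88019319))) (.node 2 (.node 1 (.leaf 50306400) (.leaf 98164800)) (.node 1 (.leaf 98189280) (.leaf 81608712)))) (.node 4 (.node 2 (.node 1 (.leaf 50379840) (.leaf 98213760)) (.node 1 (.leaf 94092346) (.leaf 9871000))) (.node 2 (.node 1 (.leaf 50404320) (.leaf 98238240)) (.node 1 (.leaf 98262720) (.leaf 98287200)))))) (.node 16 (.node 8 (.node 4 (.node 2 (.node 1 (.leaf 50453280) (.leaf 98311680)) (.node 1 (.leaf 53892842) (.leaf 90256922))) (.node 2 (.node 1 (.leaf 50477760) (.leaf 98336160)) (.node 1 (.leaf 75540236) (.leaf 98360640)))) (.node 4 (.node 2 (.node 1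 (.leaf 98385120) (.leaf 42623097)) (.node 1 (.leaf 50551200) (.leaf 46917616))) (.node 2 (.node 1 (.leaf 50575680) (.leaf 98409600)) (.node 1 (.leaf 79354665) (.leaf 95999782))))) (.node 8 (.node 4 (.node 2 (.node 1 (.leaf 98434080) (.leaf 92236444)) (.node 1 (.leaf 50624640) (.leaf 94554740))) (.node 2 (.node 1 (.leaf 98458560) (.leaf 40423447)) (.node 1 (.leaf 50649120) (.leaf 98483040)))) (.node 4 (.node 2 (.node 1 (.leaf 98507520) (.leaf 98532000)) (.node 1 (.leaf 50698080) (.leaf 98556480))) (.node 2 (.node 1 (.leaf 67398841) (.leaf 98580960)) (.node 1 (.leaf 50722560) (.leaf 98605440))))))) (.node 32 (.node 16 (.node 8 (.node 4 (.node 2 (.node 1 (.leaf 98629920) (.leaf 94057290)) (.node 1 (.leaf 73023247) (.leaf 98654400))) (.node 2 (.node 1 (.leaf 50771520) (.leaf 98678880)) (.node 1 (.leaf 98703360) (.leaf 98727840)))) (.node 4 (.node 2 (.node 1 (.leaf 50796000) (.leaf 98752320)) (.node 1 (.leaf 98776800) (.leaf 83580439))) (.node 2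 (.node 1 (.leaf 98801280) (.leaf 98825760)) (.node 1 (.leaf 50844960) (.leaf 49329027))))) (.node 8 (.node 4 (.node 2 (.node 1 (.leaf 50869440) (.leaf 31237357)) (.node 1 (.leaf 98850240) (.leaf 57967039))) (.node 2 (.node 1 (.leaf 50893920) (.leaf 92680920)) (.node 1 (.leaf 98874720) (.leaf 98899200)))) (.node 4 (.node 2 (.node 1 (.leaf 69806083) (.leaf 98923680)) (.node 1 (.leaf 50967360) (.leaf 3745440))) (.node 2 (.node 1 (.leaf 98948160) (.leaf 49789828)) (.node 1 (.leaf 98972640) (.leaf 98997120)))))) (.node 16 (.node 8 (.node 4 (.node 2 (.node 1 (.leaf 99021600) (.leaf 36175729)) (.node 1 (.leaf 51040800) (.leaf 48605415))) (.node 2 (.node 1 (.leaf 98429249) (.leaf 99046080)) (.node 1 (.leaf 99070560) (.leaf 99095040)))) (.node 4 (.node 2 (.node 1 (.leaf 88806604) (.leaf 9994820)) (.node 1 (.leaf 51114240) (.leaf 99119520))) (.node 2 (.node 1 (.leaf 99144000) (.leaf 99168480)) (.node 1 (.leaf 51163200) (.leaf 99192960))))) (.node 8 (.node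 4 (.node 2 (.node 1 (.leaf 99217440) (.leaf 94219685)) (.node 1 (.leaf 51187680) (.leaf 99241920))) (.node 2 (.node 1 (.leaf 89414484) (.leaf 99266400)) (.node 1 (.leaf 99290880) (.leaf 99315360)))) (.node 4 (.node 2 (.node 1 (.leaf 51236640) (.leaf 20890642)) (.node 1 (.leaf 51261120) (.leaf 18729698))) (.node 2 (.node 1 (.leaf 99339840) (.leaf 99364320)) (.node 1 (.leaf 51310080) (.leaf 45794584)))))))) (.node 64 (.node 32 (.node 16 (.node 8 (.node 4 (.node 2 (.node 1 (.leaf 99388800) (.leaf 40386978)) (.node 1 (.leaf 99413280) (.leaf 99437760))) (.node 2 (.node 1 (.leaf 51359040) (.leaf 99155324)) (.node 1 (.leaf 99462240) (.leaf 98202181)))) (.node 4 (.node 2 (.node 1 (.leaf 99486720) (.leaf 99511200)) (.node 1 (.leaf 51432480) (.leaf 99535680))) (.node 2 (.node 1 (.leaf 97184108) (.leaf 99560160)) (.node 1 (.leaf 51481440) (.leaf 99584640))))) (.node 8 (.node 4 (.node 2 (.node 1 (.leaf 99609120) (.leaf 99633600)) (.node 1 (.leaf 51505920)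 (.leaf 99658080))) (.node 2 (.node 1 (.leaf 99682560) (.leaf 85297807)) (.node 1 (.leaf 99707040) (.leaf 99731520)))) (.node 4 (.node 2 (.node 1 (.leaf 99756000) (.leaf 99780480)) (.node 1 (.leaf 51652800) (.leaf 20451001))) (.node 2 (.node 1 (.leaf 99804960) (.leaf 99829440)) (.node 1 (.leaf 99853920) (.leaf 95291175)))))) (.node 16 (.node 8 (.node 4 (.node 2 (.node 1 (.leaf 51701760) (.leaf 99878400)) (.node 1 (.leaf 99902880) (.leaf 99927360))) (.node 2 (.node 1 (.leaf 80646147) (.leaf 99951840)) (.node 1 (.leaf 99976320) (.leaf 100000800)))) (.node 4 (.node 2 (.node 1 (.leaf 100025280) (.leaf 100049760)) (.node 1 (.leaf 51799680) (.leaf 89973504))) (.node 2 (.node 1 (.leaf 100074240) (.leaf 81964258)) (.node 1 (.leaf 51848640) (.leaf 100098720))))) (.node 8 (.node 4 (.node 2 (.node 1 (.leaf 100123200) (.leaf 100147680)) (.node 1 (.leaf 84890518) (.leaf 56521192))) (.node 2 (.node 1 (.leaf 51897600) (.leaf 62834961)) (.node 1 (.leaf 91829288)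 (.leaf 7003222)))) (.node 4 (.node 2 (.node 1 (.leaf 51922080) (.leaf 100172160)) (.node 1 (.leaf 100196640) (.leaf 100221120))) (.node 2 (.node 1 (.leaf 100245600) (.leaf 28889170)) (.node 1 (.leaf 51971040) (.leaf 100270080))))))) (.node 32 (.node 16 (.node 8 (.node 4 (.node 2 (.node 1 (.leaf 100294560) (.leaf 100319040)) (.node 1 (.leaf 51995520) (.leaf 56158488))) (.node 2 (.node 1 (.leaf 100343520) (.leaf 85024677)) (.node 1 (.leaf 100368000) (.leaf 46632047)))) (.node 4 (.node 2 (.node 1 (.leaf 100392480) (.leaf 95948796)) (.node 1 (.leaf 69502721) (.leaf 67790235))) (.node 2 (.node 1 (.leaf 52093440) (.leaf 100416960)) (.node 1 (.leaf 100441440) (.leaf 100465920))))) (.node 8 (.node 4 (.node 2 (.node 1 (.leaf 52117920) (.leaf 100490400)) (.node 1 (.leaf 100514880) (.leaf 79923006))) (.node 2 (.node 1 (.leaf 100539360) (.leaf 56713645)) (.node 1 (.leaf 52166880) (.leaf 100563840)))) (.node 4 (.node 2 (.node 1 (.leaf 100588320) (.leaf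 3818880)) (.node 1 (.leaf 100612800) (.leaf 93382113))) (.node 2 (.node 1 (.leaf 52215840) (.leaf 100637280)) (.node 1 (.leaf 100661760) (.leaf 27467133)))))) (.node 16 (.node 8 (.node 4 (.node 2 (.node 1 (.leaf 52264800) (.leaf 20938610)) (.node 1 (.leaf 100686240) (.leaf 100710720))) (.node 2 (.node 1 (.leaf 52289280) (.leaf 98978814)) (.node 1 (.leaf 75007833) (.leaf 50366648)))) (.node 4 (.node 2 (.node 1 (.leaf 100735200) (.leaf 61801798)) (.node 1 (.leaf 52362720) (.leaf 100759680))) (.node 2 (.node 1 (.leaf 100784160) (.leaf 73224930)) (.node 1 (.leaf 94973896) (.leaf 100808640))))) (.node 8 (.node 4 (.node 2 (.node 1 (.leaf 52411680) (.leaf 100833120)) (.node 1 (.leaf 100857600) (.leaf 100882080))) (.node 2 (.node 1 (.leaf 100906560) (.leaf 12916907)) (.node 1 (.leaf 52460640) (.leaf 49672468)))) (.node 4 (.node 2 (.node 1 (.leaf 81635102) (.leaf 100931040)) (.node 1 (.leaf 52509600) (.leaf 100955520))) (.node 2 (.node 1 (.leaf 100980000)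 (.leaf 101004480)) (.node 1 (.leaf 84650999) (.node 1 (.leaf 101028960) (.leaf 52583040))))))))))))

/-- Part 6 of `e0Tab`. -/
def e0Tab_6 : BT ℕ :=
  (.node 513 (.node 256 (.node 128 (.node 64 (.node 32 (.node 16 (.node 8 (.node 4 (.node 2 (.node 1 (.leaf 101053440) (.leaf 101077920)) (.node 1 (.leaf 44419005) (.leaf 82773511))) (.node 2 (.node 1 (.leaf 101102400) (.leaf 52632000)) (.node 1 (.leaf 101126880) (.leaf 97675318)))) (.node 4 (.node 2 (.node 1 (.leaf 101151360) (.leaf 52656480)) (.node 1 (.leaf 101175840) (.leaf 101200320))) (.node 2 (.node 1 (.leaf 101224800) (.leaf 52705440)) (.node 1 (.leaf 101249280) (.leaf 72664641))))) (.node 8 (.node 4 (.node 2 (.node 1 (.leaf 13810331) (.leaf 52729920)) (.node 1 (.leaf 101273760) (.leaf 52754400))) (.node 2 (.node 1 (.leaf 54648631) (.leaf 101298240)) (.node 1 (.leaf 101322720) (.leaf 101347200)))) (.node 4 (.node 2 (.node 1 (.leaf 38859153) (.leaf 52803360)) (.node 1 (.leaf 101371680) (.leaf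 101396160))) (.node 2 (.node 1 (.leaf 41615626) (.leaf 101420640)) (.node 1 (.leaf 47634205) (.leaf 77273956)))))) (.node 16 (.node 8 (.node 4 (.node 2 (.node 1 (.leaf 101445120) (.leaf 101469600)) (.node 1 (.leaf 31166020) (.leaf 52901280))) (.node 2 (.node 1 (.leaf 67096557) (.leaf 85536841)) (.node 1 (.leaf 39796654) (.leaf 52925760)))) (.node 4 (.node 2 (.node 1 (.leaf 100079010) (.leaf 101494080)) (.node 1 (.leaf 101518560) (.leaf 52974720))) (.node 2 (.node 1 (.leaf 101543040) (.leaf 52999200)) (.node 1 (.leaf 101567520) (.leaf 101592000))))) (.node 8 (.node 4 (.node 2 (.node 1 (.leaf 101616480) (.leaf 101640960)) (.node 1 (.leaf 39255494) (.leaf 53048160))) (.node 2 (.node 1 (.leaf 101665440) (.leaf 53072640)) (.node 1 (.leaf 101689920) (.leaf 70321494)))) (.node 4 (.node 2 (.node 1 (.leaf 70543497) (.leaf 101226484)) (.node 1 (.leaf 101714400) (.leaf 84748645))) (.node 2 (.node 1 (.leaf 101738880) (.leaf 101763360)) (.node 1 (.leaf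 101787840) (.leaf 65442647))))))) (.node 32 (.node 16 (.node 8 (.node 4 (.node 2 (.node 1 (.leaf 101812320) (.leaf 97909706)) (.node 1 (.leaf 48217691) (.leaf 101389400))) (.node 2 (.node 1 (.leaf 73736802) (.leaf 53244000)) (.node 1 (.leaf 101836800) (.leaf 96405381)))) (.node 4 (.node 2 (.node 1 (.leaf 101861280) (.leaf 53268480)) (.node 1 (.leaf 101885760) (.leaf 101910240))) (.node 2 (.node 1 (.leaf 101934720) (.leaf 76518000)) (.node 1 (.leaf 101959200) (.leaf 53317440))))) (.node 8 (.node 4 (.node 2 (.node 1 (.leaf 36278219) (.leaf 101983680)) (.node 1 (.leaf 44733952) (.leaf 53366400))) (.node 2 (.node 1 (.leaf 99765696) (.leaf 70500142)) (.node 1 (.leaf 102008160) (.leaf 61384700)))) (.node 4 (.node 2 (.node 1 (.leaf 102032640) (.leaf 61899007)) (.node 1 (.leaf 102057120) (.leaf 53439840))) (.node 2 (.node 1 (.leaf 102081600) (.leaf 102106080)) (.node 1 (.leaf 71108171) (.leaf 76287246)))))) (.node 16 (.node 8 (.node 4 (.node 2 (.node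 1 (.leaf 102130560) (.leaf 53488800)) (.node 1 (.leaf 102155040) (.leaf 102179520))) (.node 2 (.node 1 (.leaf 102204000) (.leaf 65600997)) (.node 1 (.leaf 102228480) (.leaf 53562240)))) (.node 4 (.node 2 (.node 1 (.leaf 102252960) (.leaf 76645942)) (.node 1 (.leaf 102277440) (.leaf 102022630))) (.node 2 (.node 1 (.leaf 102301920) (.leaf 53635680)) (.node 1 (.leaf 24245385) (.leaf 102326400))))) (.node 8 (.node 4 (.node 2 (.node 1 (.leaf 102350880) (.leaf 53684640)) (.node 1 (.leaf 92571850) (.leaf 102375360))) (.node 2 (.node 1 (.leaf 80818136) (.leaf 53733600)) (.node 1 (.leaf 5902754) (.leaf 102399840)))) (.node 4 (.node 2 (.node 1 (.leaf 102424320) (.leaf 53758080)) (.node 1 (.leaf 23075511) (.leaf 102448800))) (.node 2 (.node 1 (.leaf 102473280) (.leaf 53807040)) (.node 1 (.leaf 102497760) (.leaf 102522240)))))))) (.node 64 (.node 32 (.node 16 (.node 8 (.node 4 (.node 2 (.node 1 (.leaf 100269616) (.leaf 53856000)) (.node 1 (.leaf 102546720)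 (.leaf 102571200))) (.node 2 (.node 1 (.leaf 102595680) (.leaf 53904960)) (.node 1 (.leaf 78030735) (.leaf 94747614)))) (.node 4 (.node 2 (.node 1 (.leaf 40743404) (.leaf 53929440)) (.node 1 (.leaf 102620160) (.leaf 53953920))) (.node 2 (.node 1 (.leaf 32496853) (.leaf 102644640)) (.node 1 (.leaf 102669120) (.leaf 54002880))))) (.node 8 (.node 4 (.node 2 (.node 1 (.leaf 102693600) (.leaf 71532223)) (.node 1 (.leaf 12083810) (.leaf 54027360))) (.node 2 (.node 1 (.leaf 102718080) (.leaf 102742560)) (.node 1 (.leaf 102767040) (.leaf 102791520)))) (.node 4 (.node 2 (.node 1 (.leaf 102816000) (.leaf 54076320)) (.node 1 (.leaf 102840480) (.leaf 102864960))) (.node 2 (.node 1 (.leaf 102889440) (.leaf 75719628)) (.node 1 (.leaf 54343807) (.leaf 54125280)))))) (.node 16 (.node 8 (.node 4 (.node 2 (.node 1 (.leaf 72151327) (.leaf 102913920)) (.node 1 (.leaf 99620626) (.leaf 54174240))) (.node 2 (.node 1 (.leaf 102938400) (.leaf 64153026)) (.node 1 (.leaf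 102962880) (.leaf 54223200)))) (.node 4 (.node 2 (.node 1 (.leaf 102987360) (.leaf 103011840)) (.node 1 (.leaf 99085086) (.leaf 103036320))) (.node 2 (.node 1 (.leaf 83880829) (.leaf 70514774)) (.node 1 (.leaf 20638174) (.leaf 103060800))))) (.node 8 (.node 4 (.node 2 (.node 1 (.leaf 103085280) (.leaf 78307811)) (.node 1 (.leaf 103109760) (.leaf 54345600))) (.node 2 (.node 1 (.leaf 92729103) (.leaf 54370080)) (.node 1 (.leaf 103134240) (.leaf 103158720)))) (.node 4 (.node 2 (.node 1 (.leaf 103183200) (.leaf 54419040)) (.node 1 (.leaf 103207680) (.leaf 103232160))) (.node 2 (.node 1 (.leaf 103256640) (.leaf 54443520)) (.node 1 (.leaf 77103942) (.leaf 103281120))))))) (.node 32 (.node 16 (.node 8 (.node 4 (.node 2 (.node 1 (.leaf 103305600) (.leaf 54492480)) (.node 1 (.leaf 51615146) (.leaf 103330080))) (.node 2 (.node 1 (.leaf 103354560) (.leaf 54541440)) (.node 1 (.leaf 103379040) (.leaf 85348245)))) (.node 4 (.node 2 (.node 1 (.leaf 7571387)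 (.leaf 54565920)) (.node 1 (.leaf 65938401) (.leaf 60916780))) (.node 2 (.node 1 (.leaf 99981706) (.leaf 103403520)) (.node 1 (.leaf 45066691) (.leaf 54614880))))) (.node 8 (.node 4 (.node 2 (.node 1 (.leaf 52576034) (.leaf 57357379)) (.node 1 (.leaf 103428000) (.leaf 103452480))) (.node 2 (.node 1 (.leaf 103476960) (.leaf 54663840)) (.node 1 (.leaf 103501440) (.leaf 77991364)))) (.node 4 (.node 2 (.node 1 (.leaf 103525920) (.leaf 103550400)) (.node 1 (.leaf 23545507) (.leaf 54737280))) (.node 2 (.node 1 (.leaf 103574880) (.leaf 103599360)) (.node 1 (.leaf 103623840) (.leaf 54761760)))))) (.node 16 (.node 8 (.node 4 (.node 2 (.node 1 (.leaf 103648320) (.leaf 79192429)) (.node 1 (.leaf 103672800) (.leaf 103697280))) (.node 2 (.node 1 (.leaf 103721760) (.leaf 54810720)) (.node 1 (.leaf 103746240) (.leaf 103770720)))) (.node 4 (.node 2 (.node 1 (.leaf 86956528) (.leaf 54835200)) (.node 1 (.leaf 103795200) (.leaf 59581153))) (.node 2 (.node 1 (.leaf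 6565949) (.leaf 103819680)) (.node 1 (.leaf 103844160) (.leaf 103868640))))) (.node 8 (.node 4 (.node 2 (.node 1 (.leaf 103893120) (.leaf 77509884)) (.node 1 (.leaf 101089734) (.leaf 103917600))) (.node 2 (.node 1 (.leaf 103942080) (.leaf 56623645)) (.node 1 (.leaf 103966560) (.leaf 54982080)))) (.node 4 (.node 2 (.node 1 (.leaf 103991040) (.leaf 104015520)) (.node 1 (.leaf 104040000) (.leaf 104064480))) (.node 2 (.node 1 (.leaf 104088960) (.leaf 55031040)) (.node 1 (.leaf 50966035) (.leaf 104113440))))))))) (.node 128 (.node 64 (.node 32 (.node 16 (.node 8 (.node 4 (.node 2 (.node 1 (.leaf 104137920) (.leaf 55055520)) (.node 1 (.leaf 104162400) (.leaf 65518348))) (.node 2 (.node 1 (.leaf 104186880) (.leaf 55080000)) (.node 1 (.leaf 104211360) (.leaf 63952595)))) (.node 4 (.node 2 (.node 1 (.leaf 104235840) (.leaf 104260320)) (.node 1 (.leaf 101644116) (.leaf 84313697))) (.node 2 (.node 1 (.leaf 104284800) (.leaf 55177920)) (.node 1 (.leaf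 104309280) (.leaf 91002727))))) (.node 8 (.node 4 (.node 2 (.node 1 (.leaf 104333760) (.leaf 104358240)) (.node 1 (.leaf 104382720) (.leaf 55226880))) (.node 2 (.node 1 (.leaf 4063680) (.leaf 104407200)) (.node 1 (.leaf 77392406) (.leaf 104431680)))) (.node 4 (.node 2 (.node 1 (.leaf 104456160) (.leaf 104480640)) (.node 1 (.leaf 104505120) (.leaf 104529600))) (.node 2 (.node 1 (.leaf 104554080) (.leaf 104578560)) (.node 1 (.leaf 104603040) (.leaf 55349280)))))) (.node 16 (.node 8 (.node 4 (.node 2 (.node 1 (.leaf 47212188) (.leaf 55398240)) (.node 1 (.leaf 104627520) (.leaf 78911636))) (.node 2 (.node 1 (.leaf 104036975) (.leaf 104652000)) (.node 1 (.leaf 24612994) (.leaf 103648074)))) (.node 4 (.node 2 (.node 1 (.leaf 94101408) (.leaf 55471680)) (.node 1 (.leaf 104676480) (.leaf 104700960))) (.node 2 (.node 1 (.leaf 104725440) (.leaf 91643184)) (.node 1 (.leaf 39661470) (.leaf 55520640))))) (.node 8 (.node 4 (.node 2 (.node 1 (.leaf 23191323)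 (.leaf 104749920)) (.node 1 (.leaf 104774400) (.leaf 55569600))) (.node 2 (.node 1 (.leaf 104798880) (.leaf 104823360)) (.node 1 (.leaf 51224250) (.leaf 104847840)))) (.node 4 (.node 2 (.node 1 (.leaf 104872320) (.leaf 78095299)) (.node 1 (.leaf 104896800) (.leaf 61287898))) (.node 2 (.node 1 (.leaf 104921280) (.leaf 104945760)) (.node 1 (.leaf 104970240) (.leaf 104994720))))))) (.node 32 (.node 16 (.node 8 (.node 4 (.node 2 (.node 1 (.leaf 19059106) (.leaf 55716480)) (.node 1 (.leaf 105019200) (.leaf 105043680))) (.node 2 (.node 1 (.leaf 105068160) (.leaf 55740960)) (.node 1 (.leaf 70447544) (.leaf 72761472)))) (.node 4 (.node 2 (.node 1 (.leaf 105092640) (.leaf 55765440)) (.node 1 (.leaf 105117120) (.leaf 105141600))) (.node 2 (.node 1 (.leaf 105166080) (.leaf 55814400)) (.node 1 (.leaf 4112640) (.leaf 105190560))))) (.node 8 (.node 4 (.node 2 (.node 1 (.leaf 29267175) (.leaf 105215040)) (.node 1 (.leaf 105239520) (.leaf 55887840))) (.node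 2 (.node 1 (.leaf 105264000) (.leaf 105288480)) (.node 1 (.leaf 22825709) (.leaf 55912320)))) (.node 4 (.node 2 (.node 1 (.leaf 105312960) (.leaf 59770635)) (.node 1 (.leaf 105337440) (.leaf 70741976))) (.node 2 (.node 1 (.leaf 105361920) (.leaf 55961280)) (.node 1 (.leaf 105386400) (.leaf 99938675)))))) (.node 16 (.node 8 (.node 4 (.node 2 (.node 1 (.leaf 105410880) (.leaf 55985760)) (.node 1 (.leaf 105435360) (.leaf 105459840))) (.node 2 (.node 1 (.leaf 80967502) (.leaf 90204085)) (.node 1 (.leaf 105484320) (.leaf 56034720)))) (.node 4 (.node 2 (.node 1 (.leaf 87149898) (.leaf 56059200)) (.node 1 (.leaf 81436959) (.leaf 105508800))) (.node 2 (.node 1 (.leaf 105533280) (.leaf 56108160)) (.node 1 (.leaf 105557760) (.leaf 56132640))))) (.node 8 (.node 4 (.node 2 (.node 1 (.leaf 105582240) (.leaf 98700666)) (.node 1 (.leaf 105606720) (.leaf 105631200))) (.node 2 (.node 1 (.leaf 105655680) (.leaf 56181600)) (.node 1 (.leaf 86141624) (.leaf 105680160))))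 (.node 4 (.node 2 (.node 1 (.leaf 105704640) (.leaf 97223905)) (.node 1 (.leaf 28719587) (.leaf 56230560))) (.node 2 (.node 1 (.leaf 105729120) (.leaf 105753600)) (.node 1 (.leaf 23959899) (.leaf 56255040)))))))) (.node 64 (.node 32 (.node 16 (.node 8 (.node 4 (.node 2 (.node 1 (.leaf 105778080) (.leaf 102448748)) (.node 1 (.leaf 52508944) (.leaf 105802560))) (.node 2 (.node 1 (.leaf 94840996) (.leaf 56304000)) (.node 1 (.leaf 105827040) (.leaf 98178468)))) (.node 4 (.node 2 (.node 1 (.leaf 8129397) (.leaf 56328480)) (.node 1 (.leaf 105851520) (.leaf 56352960))) (.node 2 (.node 1 (.leaf 14031463) (.leaf 105876000)) (.node 1 (.leaf 105900480) (.leaf 105924960))))) (.node 8 (.node 4 (.node 2 (.node 1 (.leaf 105949440) (.leaf 56401920)) (.node 1 (.leaf 105973920) (.leaf 56426400))) (.node 2 (.node 1 (.leaf 105998400) (.leaf 67102144)) (.node 1 (.leaf 106022880) (.leaf 106047360)))) (.node 4 (.node 2 (.node 1 (.leaf 106071840) (.leaf 106096320))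 (.node 1 (.leaf 106120800) (.leaf 56524320))) (.node 2 (.node 1 (.leaf 25114517) (.leaf 99187987)) (.node 1 (.leaf 106145280) (.leaf 56548800)))))) (.node 16 (.node 8 (.node 4 (.node 2 (.node 1 (.leaf 26924063) (.leaf 106169760)) (.node 1 (.leaf 13508000) (.leaf 61599587))) (.node 2 (.node 1 (.leaf 85457991) (.leaf 106194240)) (.node 1 (.leaf 106218720) (.leaf 56646720)))) (.node 4 (.node 2 (.node 1 (.leaf 106243200) (.leaf 106267680)) (.node 1 (.leaf 106292160) (.leaf 56671200))) (.node 2 (.node 1 (.leaf 106316640) (.leaf 56720160)) (.node 1 (.leaf 106341120) (.leaf 106365600))))) (.node 8 (.node 4 (.node 2 (.node 1 (.leaf 106390080) (.leaf 74217194)) (.node 1 (.leaf 77619626) (.leaf 106414560))) (.node 2 (.node 1 (.leaf 106439040) (.leaf 56818080)) (.node 1 (.leaf 106463520) (.leaf 66711112)))) (.node 4 (.node 2 (.node 1 (.leaf 53845302) (.leaf 106488000)) (.node 1 (.leaf 76838075) (.leaf 56867040))) (.node 2 (.node 1 (.leaf 106512480) (.leaf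 106536960)) (.node 1 (.leaf 106561440) (.leaf 56916000))))))) (.node 32 (.node 16 (.node 8 (.node 4 (.node 2 (.node 1 (.leaf 106585920) (.leaf 63230470)) (.node 1 (.leaf 106610400) (.leaf 56940480))) (.node 2 (.node 1 (.leaf 95646835) (.leaf 106634880)) (.node 1 (.leaf 106659360) (.leaf 56989440)))) (.node 4 (.node 2 (.node 1 (.leaf 106683840) (.leaf 106708320)) (.node 1 (.leaf 106732800) (.leaf 57013920))) (.node 2 (.node 1 (.leaf 102122606) (.leaf 84377056)) (.node 1 (.leaf 106757280) (.leaf 106781760))))) (.node 8 (.node 4 (.node 2 (.node 1 (.leaf 106806240) (.leaf 94901760)) (.node 1 (.leaf 106830720) (.leaf 67548150))) (.node 2 (.node 1 (.leaf 106855200) (.leaf 97146474)) (.node 1 (.leaf 106879680) (.leaf 57136320)))) (.node 4 (.node 2 (.node 1 (.leaf 38489095) (.leaf 106904160)) (.node 1 (.leaf 106928640) (.leaf 92860751))) (.node 2 (.node 1 (.leaf 106953120) (.leaf 106977600)) (.node 1 (.leaf 13421730) (.leaf 99268072)))))) (.node 16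 (.node 8 (.node 4 (.node 2 (.node 1 (.leaf 107002080) (.leaf 107026560)) (.node 1 (.leaf 107051040) (.leaf 57283200))) (.node 2 (.node 1 (.leaf 107075520) (.leaf 107100000)) (.node 1 (.leaf 107124480) (.leaf 107148960)))) (.node 4 (.node 2 (.node 1 (.leaf 107173440) (.leaf 57332160)) (.node 1 (.leaf 107197920) (.leaf 107222400))) (.node 2 (.node 1 (.leaf 107246880) (.leaf 107271360)) (.node 1 (.leaf 29696280) (.leaf 107295840))))) (.node 8 (.node 4 (.node 2 (.node 1 (.leaf 107320320) (.leaf 57430080)) (.node 1 (.leaf 107344800) (.leaf 57454560))) (.node 2 (.node 1 (.leaf 107369280) (.leaf 107393760)) (.node 1 (.leaf 107418240) (.leaf 57503520)))) (.node 4 (.node 2 (.node 1 (.leaf 107442720) (.leaf 62872570)) (.node 1 (.leaf 107467200) (.leaf 57552480))) (.node 2 (.node 1 (.leaf 35942248) (.leaf 99654254)) (.node 1 (.leaf 107491680) (.node 1 (.leaf 57601440) (.leaf 72732889))))))))))) (.node 256 (.node 128 (.node 64 (.node 32 (.node 16 (.node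 8 (.node 4 (.node 2 (.node 1 (.leaf 75237701) (.leaf 107516160)) (.node 1 (.leaf 59911381) (.leaf 107540640))) (.node 2 (.node 1 (.leaf 57650400) (.leaf 85332752)) (.node 1 (.leaf 107565120) (.leaf 52353029)))) (.node 4 (.node 2 (.node 1 (.leaf 57699360) (.leaf 66796857)) (.node 1 (.leaf 107589600) (.leaf 107614080))) (.node 2 (.node 1 (.leaf 57723840) (.leaf 102650416)) (.node 1 (.leaf 93100312) (.leaf 107638560))))) (.node 8 (.node 4 (.node 2 (.node 1 (.leaf 95275516) (.leaf 107663040)) (.node 1 (.leaf 57772800) (.leaf 49173885))) (.node 2 (.node 1 (.leaf 107687520) (.leaf 107712000)) (.node 1 (.leaf 107736480) (.leaf 107760960)))) (.node 4 (.node 2 (.node 1 (.leaf 57821760) (.leaf 4308480)) (.node 1 (.leaf 107785440) (.leaf 104072371))) (.node 2 (.node 1 (.leaf 57846240) (.leaf 107809920)) (.node 1 (.leaf 107834400) (.leaf 107858880)))))) (.node 16 (.node 8 (.node 4 (.node 2 (.node 1 (.leaf 107883360) (.leaf 58903137)) (.node 1 (.leaf 57895200)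 (.leaf 107907840))) (.node 2 (.node 1 (.leaf 90750093) (.leaf 107932320)) (.node 1 (.leaf 107956800) (.leaf 107981280)))) (.node 4 (.node 2 (.node 1 (.leaf 108005760) (.leaf 85111050)) (.node 1 (.leaf 57968640) (.leaf 107590007))) (.node 2 (.node 1 (.leaf 103908225) (.leaf 108030240)) (.node 1 (.leaf 58017600) (.leaf 47295110))))) (.node 8 (.node 4 (.node 2 (.node 1 (.leaf 108054720) (.leaf 108079200)) (.node 1 (.leaf 58066560) (.leaf 36938735))) (.node 2 (.node 1 (.leaf 108103680) (.leaf 108128160)) (.node 1 (.leaf 58115520) (.leaf 17337580)))) (.node 4 (.node 2 (.node 1 (.leaf 108152640) (.leaf 103166527)) (.node 1 (.leaf 58164480) (.leaf 34846269))) (.node 2 (.node 1 (.leaf 108177120) (.leaf 68905822)) (.node 1 (.leaf 58188960) (.leaf 105159128))))))) (.node 32 (.node 16 (.node 8 (.node 4 (.node 2 (.node 1 (.leaf 58237920) (.leaf 47077722)) (.node 1 (.leaf 108201600) (.leaf 90516151))) (.node 2 (.node 1 (.leaf 108226080) (.leaf 108250560))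 (.node 1 (.leaf 58286880) (.leaf 108275040)))) (.node 4 (.node 2 (.node 1 (.leaf 108299520) (.leaf 108324000)) (.node 1 (.leaf 58335840) (.leaf 108348480))) (.node 2 (.node 1 (.leaf 65722035) (.leaf 93946965)) (.node 1 (.leaf 108372960) (.leaf 108397440))))) (.node 8 (.node 4 (.node 2 (.node 1 (.leaf 58384800) (.leaf 108421920)) (.node 1 (.leaf 108446400) (.leaf 107738631))) (.node 2 (.node 1 (.leaf 58409280) (.leaf 108470880)) (.node 1 (.leaf 58458240) (.leaf 108495360)))) (.node 4 (.node 2 (.node 1 (.leaf 108519840) (.leaf 6683288)) (.node 1 (.leaf 108544320) (.leaf 108568800))) (.node 2 (.node 1 (.leaf 58507200) (.leaf 62044081)) (.node 1 (.leaf 75395638) (.leaf 11948985)))))) (.node 16 (.node 8 (.node 4 (.node 2 (.node 1 (.leaf 108593280) (.leaf 69831717)) (.node 1 (.leaf 58556160) (.leaf 108617760))) (.node 2 (.node 1 (.leaf 88428978) (.leaf 108642240)) (.node 1 (.leaf 58605120) (.leaf 108666720)))) (.node 4 (.node 2 (.node 1 (.leaf 59677725)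 (.leaf 108691200)) (.node 1 (.leaf 58654080) (.leaf 34440525))) (.node 2 (.node 1 (.leaf 58678560) (.leaf 57308066)) (.node 1 (.leaf 65550887) (.leaf 108715680))))) (.node 8 (.node 4 (.node 2 (.node 1 (.leaf 85559663) (.leaf 52781866)) (.node 1 (.leaf 58727520) (.leaf 108740160))) (.node 2 (.node 1 (.leaf 108764640) (.leaf 42930934)) (.node 1 (.leaf 58776480) (.leaf 89604826)))) (.node 4 (.node 2 (.node 1 (.leaf 58800960) (.leaf 108789120)) (.node 1 (.leaf 108813600) (.leaf 108838080))) (.node 2 (.node 1 (.leaf 108862560) (.leaf 47968603)) (.node 1 (.leaf 58849920) (.leaf 108887040)))))))) (.node 64 (.node 32 (.node 16 (.node 8 (.node 4 (.node 2 (.node 1 (.leaf 103215477) (.leaf 55120655)) (.node 1 (.leaf 58923360) (.leaf 49886667))) (.node 2 (.node 1 (.leaf 108911520) (.leaf 108936000)) (.node 1 (.leaf 108960480) (.leaf 108984960)))) (.node 4 (.node 2 (.node 1 (.leaf 58996800) (.leaf 109009440)) (.node 1 (.leaf 87885162) (.leaf 85605775)))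 (.node 2 (.node 1 (.leaf 59045760) (.leaf 109033920)) (.node 1 (.leaf 109058400) (.leaf 21559069))))) (.node 8 (.node 4 (.node 2 (.node 1 (.leaf 109082880) (.leaf 109107360)) (.node 1 (.leaf 59094720) (.leaf 109131840))) (.node 2 (.node 1 (.leaf 109156320) (.leaf 109180800)) (.node 1 (.leaf 59119200) (.leaf 109205280)))) (.node 4 (.node 2 (.node 1 (.leaf 67060130) (.leaf 109229760)) (.node 1 (.leaf 59168160) (.leaf 109254240))) (.node 2 (.node 1 (.leaf 109278720) (.leaf 109303200)) (.node 1 (.leaf 109327680) (.leaf 96980908)))))) (.node 16 (.node 8 (.node 4 (.node 2 (.node 1 (.leaf 59217120) (.leaf 109352160)) (.node 1 (.leaf 106246644) (.leaf 38935922))) (.node 2 (.node 1 (.leaf 59241600) (.leaf 109376640)) (.node 1 (.leaf 88046340) (.leaf 109401120)))) (.node 4 (.node 2 (.node 1 (.leaf 59290560) (.leaf 109425600)) (.node 1 (.leaf 59315040) (.leaf 109450080))) (.node 2 (.node 1 (.leaf 90007917) (.leaf 74456095)) (.node 1 (.leaf 92601738) (.leaf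 98715897))))) (.node 8 (.node 4 (.node 2 (.node 1 (.leaf 59364000) (.leaf 109474560)) (.node 1 (.leaf 109499040) (.leaf 109523520))) (.node 2 (.node 1 (.leaf 109548000) (.leaf 35909307)) (.node 1 (.leaf 59412960) (.leaf 109572480)))) (.node 4 (.node 2 (.node 1 (.leaf 59461920) (.leaf 109596960)) (.node 1 (.leaf 109621440) (.leaf 106557028))) (.node 2 (.node 1 (.leaf 109645920) (.leaf 109670400)) (.node 1 (.leaf 59510880) (.leaf 7125851))))))) (.node 32 (.node 16 (.node 8 (.node 4 (.node 2 (.node 1 (.leaf 109694880) (.leaf 109719360)) (.node 1 (.leaf 59535360) (.leaf 109743840))) (.node 2 (.node 1 (.leaf 109768320) (.leaf 45660994)) (.node 1 (.leaf 109792800) (.leaf 109817280)))) (.node 4 (.node 2 (.node 1 (.leaf 109841760) (.leaf 53167557)) (.node 1 (.leaf 109866240) (.leaf 109890720))) (.node 2 (.node 1 (.leaf 109915200) (.leaf 109939680)) (.node 1 (.leaf 59682240) (.leaf 109964160))))) (.node 8 (.node 4 (.node 2 (.node 1 (.leaf 109988640)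 (.leaf 66652597)) (.node 1 (.leaf 105408452) (.leaf 39860261))) (.node 2 (.node 1 (.leaf 59731200) (.leaf 4455360)) (.node 1 (.leaf 68496951) (.leaf 110013120)))) (.node 4 (.node 2 (.node 1 (.leaf 110037600) (.leaf 50522950)) (.node 1 (.leaf 59829120) (.leaf 39404072))) (.node 2 (.node 1 (.leaf 78619168) (.leaf 110062080)) (.node 1 (.leaf 91295710) (.leaf 110086560)))))) (.node 16 (.node 8 (.node 4 (.node 2 (.node 1 (.leaf 80980235) (.leaf 110111040)) (.node 1 (.leaf 106616191) (.leaf 110135520))) (.node 2 (.node 1 (.leaf 59976000) (.leaf 76000603)) (.node 1 (.leaf 110160000) (.leaf 110184480)))) (.node 4 (.node 2 (.node 1 (.leaf 60000480) (.leaf 110208960)) (.node 1 (.leaf 110233440) (.leaf 110257920))) (.node 2 (.node 1 (.leaf 60024960) (.leaf 110282400)) (.node 1 (.leaf 101954006) (.leaf 110306880))))) (.node 8 (.node 4 (.node 2 (.node 1 (.leaf 60049440) (.leaf 51110831)) (.node 1 (.leaf 110331360) (.leaf 100028285))) (.node 2 (.node 1 (.leaf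 101330832) (.leaf 110355840)) (.node 1 (.leaf 75314984) (.leaf 71317789)))) (.node 4 (.node 2 (.node 1 (.leaf 108053344) (.leaf 37447797)) (.node 1 (.leaf 99879361) (.leaf 110380320))) (.node 2 (.node 1 (.leaf 60220800) (.leaf 110404800)) (.node 1 (.leaf 76082689) (.leaf 110429280))))))))) (.node 128 (.node 64 (.node 32 (.node 16 (.node 8 (.node 4 (.node 2 (.node 1 (.leaf 110453760) (.leaf 110478240)) (.node 1 (.leaf 60269760) (.leaf 110502720))) (.node 2 (.node 1 (.leaf 110527200) (.leaf 110551680)) (.node 1 (.leaf 60294240) (.leaf 98796531)))) (.node 4 (.node 2 (.node 1 (.leaf 110576160) (.leaf 110600640)) (.node 1 (.leaf 74381644) (.leaf 20250022))) (.node 2 (.node 1 (.leaf 60343200) (.leaf 110625120)) (.node 1 (.leaf 110649600) (.leaf 105820072))))) (.node 8 (.node 4 (.node 2 (.node 1 (.leaf 110674080) (.leaf 110698560)) (.node 1 (.leaf 60392160) (.leaf 110723040))) (.node 2 (.node 1 (.leaf 90778023) (.leaf 6036505)) (.node 1 (.leaf 60416640)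 (.leaf 24316920)))) (.node 4 (.node 2 (.node 1 (.leaf 96259814) (.leaf 27781342)) (.node 1 (.leaf 62947934) (.leaf 44517476))) (.node 2 (.node 1 (.leaf 60465600) (.leaf 91068666)) (.node 1 (.leaf 95601775) (.leaf 110747520)))))) (.node 16 (.node 8 (.node 4 (.node 2 (.node 1 (.leaf 85753503) (.leaf 110772000)) (.node 1 (.leaf 110796480) (.leaf 10980572))) (.node 2 (.node 1 (.leaf 60539040) (.leaf 110820960)) (.node 1 (.leaf 110845440) (.leaf 110869920)))) (.node 4 (.node 2 (.node 1 (.leaf 110894400) (.leaf 110918880)) (.node 1 (.leaf 60588000) (.leaf 89285331))) (.node 2 (.node 1 (.leaf 60636960) (.leaf 43234258)) (.node 1 (.leaf 60685920) (.leaf 100789417))))) (.node 8 (.node 4 (.node 2 (.node 1 (.leaf 77793982) (.leaf 19968905)) (.node 1 (.leaf 60734880) (.leaf 11123745))) (.node 2 (.node 1 (.leaf 60759360) (.leaf 110943360)) (.node 1 (.leaf 110967840) (.leaf 110992320)))) (.node 4 (.node 2 (.node 1 (.leaf 60808320) (.leaf 68537348)) (.node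 1 (.leaf 85479127) (.leaf 7637415))) (.node 2 (.node 1 (.leaf 60857280) (.leaf 111016800)) (.node 1 (.leaf 111041280) (.leaf 111065760))))))) (.node 32 (.node 16 (.node 8 (.node 4 (.node 2 (.node 1 (.leaf 75806100) (.leaf 103921458)) (.node 1 (.leaf 83011287) (.leaf 55338740))) (.node 2 (.node 1 (.leaf 60930720) (.leaf 111090240)) (.node 1 (.leaf 92974433) (.leaf 111114720)))) (.node 4 (.node 2 (.node 1 (.leaf 60979680) (.leaf 111139200)) (.node 1 (.leaf 111163680) (.leaf 111188160))) (.node 2 (.node 1 (.leaf 61004160) (.leaf 24696667)) (.node 1 (.leaf 61028640) (.leaf 95738396))))) (.node 8 (.node 4 (.node 2 (.node 1 (.leaf 111212640) (.leaf 111237120)) (.node 1 (.leaf 85141494) (.leaf 69949029))) (.node 2 (.node 1 (.leaf 111261600) (.leaf 111286080)) (.node 1 (.leaf 61151040) (.leaf 90591962)))) (.node 4 (.node 2 (.node 1 (.leaf 98730336) (.leaf 7395664)) (.node 1 (.leaf 98907616) (.leaf 111310560))) (.node 2 (.node 1 (.leaf 61224480) (.leaf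 75133576)) (.node 1 (.leaf 111335040) (.leaf 92388171)))))) (.node 16 (.node 8 (.node 4 (.node 2 (.node 1 (.leaf 61248960) (.leaf 111359520)) (.node 1 (.leaf 111384000) (.leaf 111408480))) (.node 2 (.node 1 (.leaf 61322400) (.leaf 111432960)) (.node 1 (.leaf 86018481) (.leaf 15085719)))) (.node 4 (.node 2 (.node 1 (.leaf 105595345) (.leaf 82339153)) (.node 1 (.leaf 61395840) (.leaf 111457440))) (.node 2 (.node 1 (.leaf 111481920) (.leaf 111506400)) (.node 1 (.leaf 111530880) (.leaf 36782652))))) (.node 8 (.node 4 (.node 2 (.node 1 (.leaf 61493760) (.leaf 4626720)) (.node 1 (.leaf 111555360) (.leaf 111579840))) (.node 2 (.node 1 (.leaf 61518240) (.leaf 103241902)) (.node 1 (.leaf 70596698) (.leaf 111604320)))) (.node 4 (.node 2 (.node 1 (.leaf 111628800) (.leaf 111653280)) (.node 1 (.leaf 61567200) (.leaf 111677760))) (.node 2 (.node 1 (.leaf 111702240) (.leaf 37059623)) (.node 1 (.leaf 111726720) (.leaf 111751200)))))))) (.node 64 (.node 32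 (.node 16 (.node 8 (.node 4 (.node 2 (.node 1 (.leaf 61640640) (.leaf 111775680)) (.node 1 (.leaf 111800160) (.leaf 111824640))) (.node 2 (.node 1 (.leaf 61665120) (.leaf 111849120)) (.node 1 (.leaf 61689600) (.leaf 111873600)))) (.node 4 (.node 2 (.node 1 (.leaf 111898080) (.leaf 111922560)) (.node 1 (.leaf 111947040) (.leaf 111971520))) (.node 2 (.node 1 (.leaf 62541469) (.leaf 111996000)) (.node 1 (.leaf 61763040) (.leaf 112020480))))) (.node 8 (.node 4 (.node 2 (.node 1 (.leaf 111524881) (.leaf 112044960)) (.node 1 (.leaf 112069440) (.leaf 111566933))) (.node 2 (.node 1 (.leaf 112093920) (.leaf 112118400)) (.node 1 (.leaf 112142880) (.leaf 112167360)))) (.node 4 (.node 2 (.node 1 (.leaf 112191840) (.leaf 24854575)) (.node 1 (.leaf 61934400) (.leaf 112216320))) (.node 2 (.node 1 (.leaf 112240800) (.leaf 112265280)) (.node 1 (.leaf 112289760) (.leaf 112314240)))))) (.node 16 (.node 8 (.node 4 (.node 2 (.node 1 (.leaf 62007840) (.leaf 112338720))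 (.node 1 (.leaf 112363200) (.leaf 31692433))) (.node 2 (.node 1 (.leaf 68668108) (.leaf 112387680)) (.node 1 (.leaf 112412160) (.leaf 112436640)))) (.node 4 (.node 2 (.node 1 (.leaf 62130240) (.leaf 54114460)) (.node 1 (.leaf 112461120) (.leaf 93753751))) (.node 2 (.node 1 (.leaf 112485600) (.leaf 5455178)) (.node 1 (.leaf 62179200) (.leaf 112510080))))) (.node 8 (.node 4 (.node 2 (.node 1 (.leaf 96305696) (.leaf 112534560)) (.node 1 (.leaf 112559040) (.leaf 112583520))) (.node 2 (.node 1 (.leaf 62228160) (.leaf 112608000)) (.node 1 (.leaf 103450364) (.leaf 112632480)))) (.node 4 (.node 2 (.node 1 (.leaf 112656960) (.leaf 80437791)) (.node 1 (.leaf 112681440) (.leaf 68400738))) (.node 2 (.node 1 (.leaf 112705920) (.leaf 105692005)) (.node 1 (.leaf 62326080) (.leaf 112730400))))))) (.node 32 (.node 16 (.node 8 (.node 4 (.node 2 (.node 1 (.leaf 67367346) (.leaf 111282564)) (.node 1 (.leaf 112754880) (.leaf 112779360))) (.node 2 (.node 1 (.leaf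 62399520) (.leaf 112803840)) (.node 1 (.leaf 62424000) (.leaf 102583023)))) (.node 4 (.node 2 (.node 1 (.leaf 99851403) (.leaf 112828320)) (.node 1 (.leaf 112852800) (.leaf 17949467))) (.node 2 (.node 1 (.leaf 112810385) (.leaf 92070955)) (.node 1 (.leaf 112877280) (.leaf 112901760))))) (.node 8 (.node 4 (.node 2 (.node 1 (.leaf 112926240) (.leaf 112950720)) (.node 1 (.leaf 62546400) (.leaf 99237970))) (.node 2 (.node 1 (.leaf 112975200) (.leaf 112999680)) (.node 1 (.leaf 62570880) (.leaf 113024160)))) (.node 4 (.node 2 (.node 1 (.leaf 104355789) (.leaf 68954188)) (.node 1 (.leaf 62619840) (.leaf 113048640))) (.node 2 (.node 1 (.leaf 113073120) (.leaf 113097600)) (.node 1 (.leaf 62644320) (.leaf 4724640)))))) (.node 16 (.node 8 (.node 4 (.node 2 (.node 1 (.leaf 113122080) (.leaf 106497743)) (.node 1 (.leaf 62668800) (.leaf 113146560))) (.node 2 (.node 1 (.leaf 71381796) (.leaf 97317508)) (.node 1 (.leaf 62717760) (.leaf 58493868)))) (.node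 4 (.node 2 (.node 1 (.leaf 113171040) (.leaf 26002745)) (.node 1 (.leaf 62742240) (.leaf 113195520))) (.node 2 (.node 1 (.leaf 108637413) (.leaf 101996663)) (.node 1 (.leaf 113220000) (.leaf 96178066))))) (.node 8 (.node 4 (.node 2 (.node 1 (.leaf 62791200) (.leaf 9442523)) (.node 1 (.leaf 113244480) (.leaf 88093732))) (.node 2 (.node 1 (.leaf 109912156) (.leaf 53109274)) (.node 1 (.leaf 62840160) (.leaf 97557458)))) (.node 4 (.node 2 (.node 1 (.leaf 113268960) (.leaf 113293440)) (.node 1 (.leaf 70695382) (.leaf 27919913))) (.node 2 (.node 1 (.leaf 101292355) (.leaf 113317920)) (.node 1 (.leaf 62913600) (.node 1 (.leaf 113342400) (.leaf 83327277))))))))))))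

/-- Part 7 of `e0Tab`. -/
def e0Tab_7 : BT ℕ :=
  (.node 513 (.node 256 (.node 128 (.node 64 (.node 32 (.node 16 (.node 8 (.node 4 (.node 2 (.node 1 (.leaf 113366880) (.leaf 62987040)) (.node 1 (.leaf 79810484) (.leaf 101266004))) (.node 2 (.node 1 (.leaf 113391360) (.leaf 63036000)) (.node 1 (.leaf 113415840) (.leaf 111103246)))) (.node 4 (.node 2 (.node 1 (.leaf 113440320) (.leaf 63060480)) (.node 1 (.leaf 113464800) (.leaf 83662774))) (.node 2 (.node 1 (.leaf 113489280) (.leaf 113513760)) (.node 1 (.leaf 113538240) (.leaf 63109440))))) (.node 8 (.node 4 (.node 2 (.node 1 (.leaf 77820582) (.leaf 71435854)) (.node 1 (.leaf 113562720) (.leaf 63133920))) (.node 2 (.node 1 (.leaf 83075572) (.leaf 113587200)) (.node 1 (.leaf 113611680) (.leaf 63182880)))) (.node 4 (.node 2 (.node 1 (.leaf 113636160) (.leaf 113660640)) (.node 1 (.leaf 73090066) (.leaf 63256320))) (.node 2 (.node 1 (.leaf 113685120) (.leaf 113709600)) (.node 1 (.leaf 113734080)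 (.leaf 63305280)))))) (.node 16 (.node 8 (.node 4 (.node 2 (.node 1 (.leaf 14251483) (.leaf 99962518)) (.node 1 (.leaf 85508347) (.leaf 113758560))) (.node 2 (.node 1 (.leaf 113783040) (.leaf 63354240)) (.node 1 (.leaf 113807520) (.leaf 102083502)))) (.node 4 (.node 2 (.node 1 (.leaf 113832000) (.leaf 63378720)) (.node 1 (.leaf 4798080) (.leaf 82840691))) (.node 2 (.node 1 (.leaf 71632544) (.leaf 63476640)) (.node 1 (.leaf 113856480) (.leaf 72273823))))) (.node 8 (.node 4 (.node 2 (.node 1 (.leaf 113880960) (.leaf 63501120)) (.node 1 (.leaf 113905440) (.leaf 113929920))) (.node 2 (.node 1 (.leaf 113954400) (.leaf 103316787)) (.node 1 (.leaf 5646151) (.leaf 63550080)))) (.node 4 (.node 2 (.node 1 (.leaf 37633561) (.leaf 100114207)) (.node 1 (.leaf 113978880) (.leaf 109537355))) (.node 2 (.node 1 (.leaf 114003360) (.leaf 63599040)) (.node 1 (.leaf 114027840) (.leaf 114052320))))))) (.node 32 (.node 16 (.node 8 (.node 4 (.node 2 (.node 1 (.leaf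 114076800) (.leaf 63623520)) (.node 1 (.leaf 114101280) (.leaf 114125760))) (.node 2 (.node 1 (.leaf 114150240) (.leaf 113063093)) (.node 1 (.leaf 114174720) (.leaf 63672480)))) (.node 4 (.node 2 (.node 1 (.leaf 114199200) (.leaf 73467430)) (.node 1 (.leaf 114223680) (.leaf 63696960))) (.node 2 (.node 1 (.leaf 114248160) (.leaf 114272640)) (.node 1 (.leaf 114297120) (.leaf 63745920))))) (.node 8 (.node 4 (.node 2 (.node 1 (.leaf 29062529) (.leaf 100061642)) (.node 1 (.leaf 29743353) (.leaf 63770400))) (.node 2 (.node 1 (.leaf 114321600) (.leaf 107994725)) (.node 1 (.leaf 114346080) (.leaf 103667831)))) (.node 4 (.node 2 (.node 1 (.leaf 114370560) (.leaf 63819360)) (.node 1 (.leaf 89789657) (.leaf 114395040))) (.node 2 (.node 1 (.leaf 82281477) (.leaf 63868320)) (.node 1 (.leaf 105059961) (.leaf 114419520)))))) (.node 16 (.node 8 (.node 4 (.node 2 (.node 1 (.leaf 114444000) (.leaf 114468480)) (.node 1 (.leaf 114492960) (.leaf 63917280))) (.node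 2 (.node 1 (.leaf 96869599) (.leaf 114517440)) (.node 1 (.leaf 48682505) (.leaf 63966240)))) (.node 4 (.node 2 (.node 1 (.leaf 5981651) (.leaf 114541920)) (.node 1 (.leaf 34913093) (.leaf 114566400))) (.node 2 (.node 1 (.leaf 114590880) (.leaf 64015200)) (.node 1 (.leaf 114615360) (.leaf 114639840))))) (.node 8 (.node 4 (.node 2 (.node 1 (.leaf 68308226) (.leaf 64039680)) (.node 1 (.leaf 10357083) (.leaf 114664320))) (.node 2 (.node 1 (.leaf 114688800) (.leaf 114713280)) (.node 1 (.leaf 114737760) (.leaf 69291878)))) (.node 4 (.node 2 (.node 1 (.leaf 26231150) (.leaf 89385369)) (.node 1 (.leaf 114762240) (.leaf 73634199))) (.node 2 (.node 1 (.leaf 114786720) (.leaf 64211040)) (.node 1 (.leaf 114811200) (.leaf 114835680)))))))) (.node 64 (.node 32 (.node 16 (.node 8 (.node 4 (.node 2 (.node 1 (.leaf 114860160) (.leaf 114884640)) (.node 1 (.leaf 98279522) (.leaf 114909120))) (.node 2 (.node 1 (.leaf 114840898) (.leaf 114933600)) (.node 1 (.leaf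 114958080) (.leaf 64308960)))) (.node 4 (.node 2 (.node 1 (.leaf 109708971) (.leaf 114982560)) (.node 1 (.leaf 115007040) (.leaf 64333440))) (.node 2 (.node 1 (.leaf 65355775) (.leaf 98579203)) (.node 1 (.leaf 63580109) (.leaf 64382400))))) (.node 8 (.node 4 (.node 2 (.node 1 (.leaf 28670121) (.leaf 115031520)) (.node 1 (.leaf 67036573) (.leaf 64431360))) (.node 2 (.node 1 (.leaf 115056000) (.leaf 115080480)) (.node 1 (.leaf 115104960) (.leaf 108805102)))) (.node 4 (.node 2 (.node 1 (.leaf 115129440) (.leaf 64480320)) (.node 1 (.leaf 115153920) (.leaf 108697566))) (.node 2 (.node 1 (.leaf 104709375) (.leaf 66120414)) (.node 1 (.leaf 20206340) (.leaf 115178400)))))) (.node 16 (.node 8 (.node 4 (.node 2 (.node 1 (.leaf 115202880) (.leaf 102640397)) (.node 1 (.leaf 115227360) (.leaf 64627200))) (.node 2 (.node 1 (.leaf 115251840) (.leaf 115276320)) (.node 1 (.leaf 82683562) (.leaf 115300800)))) (.node 4 (.node 2 (.node 1 (.leaf 115325280) (.leaf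 64676160)) (.node 1 (.leaf 115349760) (.leaf 83733933))) (.node 2 (.node 1 (.leaf 35162715) (.leaf 64700640)) (.node 1 (.leaf 106650248) (.leaf 66423550))))) (.node 8 (.node 4 (.node 2 (.node 1 (.leaf 115374240) (.leaf 64749600)) (.node 1 (.leaf 115398720) (.leaf 104803386))) (.node 2 (.node 1 (.leaf 29019362) (.leaf 115423200)) (.node 1 (.leaf 115447680) (.leaf 107718195)))) (.node 4 (.node 2 (.node 1 (.leaf 39143087) (.leaf 115472160)) (.node 1 (.leaf 115496640) (.leaf 79708051))) (.node 2 (.node 1 (.leaf 115521120) (.leaf 64872000)) (.node 1 (.leaf 115545600) (.leaf 64920960))))))) (.node 32 (.node 16 (.node 8 (.node 4 (.node 2 (.node 1 (.leaf 28186004) (.leaf 64945440)) (.node 1 (.leaf 73891472) (.leaf 111983678))) (.node 2 (.node 1 (.leaf 115570080) (.leaf 115594560)) (.node 1 (.leaf 115619040) (.leaf 64994400)))) (.node 4 (.node 2 (.node 1 (.leaf 115643520) (.leaf 115668000)) (.node 1 (.leaf 115692480) (.leaf 115716960))) (.node 2 (.node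 1 (.leaf 55952494) (.leaf 65067840)) (.node 1 (.leaf 115741440) (.leaf 115765920))))) (.node 8 (.node 4 (.node 2 (.node 1 (.leaf 115790400) (.leaf 65092320)) (.node 1 (.leaf 41968445) (.leaf 115814880))) (.node 2 (.node 1 (.leaf 115839360) (.leaf 65141280)) (.node 1 (.leaf 4993920) (.leaf 115863840)))) (.node 4 (.node 2 (.node 1 (.leaf 54410767) (.leaf 115888320)) (.node 1 (.leaf 115912800) (.leaf 65214720))) (.node 2 (.node 1 (.leaf 115937280) (.leaf 115961760)) (.node 1 (.leaf 115986240) (.leaf 116010720)))))) (.node 16 (.node 8 (.node 4 (.node 2 (.node 1 (.leaf 19491871) (.leaf 65263680)) (.node 1 (.leaf 116035200) (.leaf 65288160))) (.node 2 (.node 1 (.leaf 112994870) (.leaf 110013607)) (.node 1 (.leaf 116059680) (.leaf 116084160)))) (.node 4 (.node 2 (.node 1 (.leaf 116108640) (.leaf 82074291)) (.node 1 (.leaf 116133120) (.leaf 85012946))) (.node 2 (.node 1 (.leaf 116157600) (.leaf 65386080)) (.node 1 (.leaf 116182080) (.leaf 65484000)))))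 (.node 8 (.node 4 (.node 2 (.node 1 (.leaf 116206560) (.leaf 102844139)) (.node 1 (.leaf 116231040) (.leaf 116255520))) (.node 2 (.node 1 (.leaf 38023225) (.leaf 116280000)) (.node 1 (.leaf 116304480) (.leaf 111192278)))) (.node 4 (.node 2 (.node 1 (.leaf 18257497) (.leaf 65606400)) (.node 1 (.leaf 116328960) (.leaf 116353440))) (.node 2 (.node 1 (.leaf 116377920) (.leaf 78665347)) (.node 1 (.leaf 80155568) (.leaf 65655360))))))))) (.node 128 (.node 64 (.node 32 (.node 16 (.node 8 (.node 4 (.node 2 (.node 1 (.leaf 116402400) (.leaf 116426880)) (.node 1 (.leaf 104585374) (.leaf 65679840))) (.node 2 (.node 1 (.leaf 116451360) (.leaf 116475840)) (.node 1 (.leaf 48188373) (.leaf 116500320)))) (.node 4 (.node 2 (.node 1 (.leaf 116524800) (.leaf 65753280)) (.node 1 (.leaf 42752378) (.leaf 99321081))) (.node 2 (.node 1 (.leaf 116549280) (.leaf 113010133)) (.node 1 (.leaf 72918121) (.leaf 65802240))))) (.node 8 (.node 4 (.node 2 (.node 1 (.leaf 84994518)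 (.leaf 116573760)) (.node 1 (.leaf 34313408) (.leaf 65851200))) (.node 2 (.node 1 (.leaf 116598240) (.leaf 84347282)) (.node 1 (.leaf 17134290) (.leaf 65900160)))) (.node 4 (.node 2 (.node 1 (.leaf 116622720) (.leaf 116647200)) (.node 1 (.leaf 116671680) (.leaf 65973600))) (.node 2 (.node 1 (.leaf 74539705) (.leaf 116696160)) (.node 1 (.leaf 116720640) (.leaf 65998080)))))) (.node 16 (.node 8 (.node 4 (.node 2 (.node 1 (.leaf 116745120) (.leaf 68167613)) (.node 1 (.leaf 84706597) (.leaf 116673717))) (.node 2 (.node 1 (.leaf 116769600) (.leaf 66071520)) (.node 1 (.leaf 116794080) (.leaf 115126602)))) (.node 4 (.node 2 (.node 1 (.leaf 116818560) (.leaf 92100777)) (.node 1 (.leaf 116843040) (.leaf 103769056))) (.node 2 (.node 1 (.leaf 41367988) (.leaf 66169440)) (.node 1 (.leaf 116867520) (.leaf 116892000))))) (.node 8 (.node 4 (.node 2 (.node 1 (.leaf 116438912) (.leaf 79025672)) (.node 1 (.leaf 19171784) (.leaf 116916480))) (.node 2 (.node 1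 (.leaf 116940960) (.leaf 66242880)) (.node 1 (.leaf 109075892) (.leaf 115274739)))) (.node 4 (.node 2 (.node 1 (.leaf 116965440) (.leaf 66291840)) (.node 1 (.leaf 116989920) (.leaf 98626561))) (.node 2 (.node 1 (.leaf 113781193) (.leaf 66316320)) (.node 1 (.leaf 117014400) (.leaf 117038880))))))) (.node 32 (.node 16 (.node 8 (.node 4 (.node 2 (.node 1 (.leaf 24383871) (.leaf 74430115)) (.node 1 (.leaf 42363682) (.leaf 106733212))) (.node 2 (.node 1 (.leaf 117063360) (.leaf 117087840)) (.node 1 (.leaf 58098694) (.leaf 117112320)))) (.node 4 (.node 2 (.node 1 (.leaf 117136800) (.leaf 66463200)) (.node 1 (.leaf 117161280) (.leaf 68864674))) (.node 2 (.node 1 (.leaf 5121509) (.leaf 117185760)) (.node 1 (.leaf 117210240) (.leaf 67225109))))) (.node 8 (.node 4 (.node 2 (.node 1 (.leaf 117234720) (.leaf 66536640)) (.node 1 (.leaf 43509118) (.leaf 117259200))) (.node 2 (.node 1 (.leaf 7512264) (.leaf 66561120)) (.node 1 (.leaf 117283680) (.leaf 91546003))))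 (.node 4 (.node 2 (.node 1 (.leaf 117308160) (.leaf 117332640)) (.node 1 (.leaf 40808296) (.leaf 66659040))) (.node 2 (.node 1 (.leaf 117357120) (.leaf 117381600)) (.node 1 (.leaf 117406080) (.leaf 117430560)))))) (.node 16 (.node 8 (.node 4 (.node 2 (.node 1 (.leaf 117455040) (.leaf 66805920)) (.node 1 (.leaf 117479520) (.leaf 117504000))) (.node 2 (.node 1 (.leaf 102794905) (.leaf 66879360)) (.node 1 (.leaf 72534997) (.leaf 117528480)))) (.node 4 (.node 2 (.node 1 (.leaf 85381865) (.leaf 66903840)) (.node 1 (.leaf 117552960) (.leaf 117577440))) (.node 2 (.node 1 (.leaf 112467748) (.leaf 117601920)) (.node 1 (.leaf 117626400) (.leaf 66952800))))) (.node 8 (.node 4 (.node 2 (.node 1 (.leaf 37003807) (.leaf 66977280)) (.node 1 (.leaf 117650880) (.leaf 117675360))) (.node 2 (.node 1 (.leaf 105468444) (.leaf 67001760)) (.node 1 (.leaf 117699840) (.leaf 117724320)))) (.node 4 (.node 2 (.node 1 (.leaf 9632853) (.leaf 113158621)) (.node 1 (.leaf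 35069911) (.leaf 117748800))) (.node 2 (.node 1 (.leaf 117773280) (.leaf 67124160)) (.node 1 (.leaf 117797760) (.leaf 83766889)))))))) (.node 64 (.node 32 (.node 16 (.node 8 (.node 4 (.node 2 (.node 1 (.leaf 117822240) (.leaf 67148640)) (.node 1 (.leaf 117846720) (.leaf 117871200))) (.node 2 (.node 1 (.leaf 117895680) (.leaf 67173120)) (.node 1 (.leaf 117920160) (.leaf 117944640)))) (.node 4 (.node 2 (.node 1 (.leaf 115196918) (.leaf 67197600)) (.node 1 (.leaf 117969120) (.leaf 117993600))) (.node 2 (.node 1 (.leaf 5564790) (.leaf 110828001)) (.node 1 (.leaf 118018080) (.leaf 67246560))))) (.node 8 (.node 4 (.node 2 (.node 1 (.leaf 118042560) (.leaf 118067040)) (.node 1 (.leaf 118091520) (.leaf 118116000))) (.node 2 (.node 1 (.leaf 118140480) (.leaf 81169144)) (.node 1 (.leaf 92265796) (.leaf 112783090)))) (.node 4 (.node 2 (.node 1 (.leaf 118164960) (.leaf 67368960)) (.node 1 (.leaf 64240932) (.leaf 118189440))) (.node 2 (.node 1 (.leaf 60714298)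 (.leaf 85614761)) (.node 1 (.leaf 118213920) (.leaf 118238400)))))) (.node 16 (.node 8 (.node 4 (.node 2 (.node 1 (.leaf 79436673) (.leaf 118262880)) (.node 1 (.leaf 99814119) (.leaf 67466880))) (.node 2 (.node 1 (.leaf 17542140) (.leaf 67491360)) (.node 1 (.leaf 118287360) (.leaf 106034105)))) (.node 4 (.node 2 (.node 1 (.leaf 109846992) (.leaf 81788280)) (.node 1 (.leaf 7291549) (.leaf 118311840))) (.node 2 (.node 1 (.leaf 118336320) (.leaf 67564800)) (.node 1 (.leaf 118360800) (.leaf 118385280))))) (.node 8 (.node 4 (.node 2 (.node 1 (.leaf 33364865) (.leaf 67638240)) (.node 1 (.leaf 118409760) (.leaf 118434240))) (.node 2 (.node 1 (.leaf 118458720) (.leaf 109587933)) (.node 1 (.leaf 118483200) (.leaf 118507680)))) (.node 4 (.node 2 (.node 1 (.leaf 118532160) (.leaf 67711680)) (.node 1 (.leaf 113174322) (.leaf 118556640))) (.node 2 (.node 1 (.leaf 5238720) (.leaf 118581120)) (.node 1 (.leaf 14338031) (.leaf 67760640))))))) (.node 32 (.node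 16 (.node 8 (.node 4 (.node 2 (.node 1 (.leaf 28515318) (.leaf 118605600)) (.node 1 (.leaf 118630080) (.leaf 118654560))) (.node 2 (.node 1 (.leaf 118679040) (.leaf 67834080)) (.node 1 (.leaf 74742300) (.leaf 118703520)))) (.node 4 (.node 2 (.node 1 (.leaf 118728000) (.leaf 118752480)) (.node 1 (.leaf 118776960) (.leaf 67883040))) (.node 2 (.node 1 (.leaf 118801440) (.leaf 118825920)) (.node 1 (.leaf 118850400) (.leaf 67907520))))) (.node 8 (.node 4 (.node 2 (.node 1 (.leaf 99906202) (.leaf 67956480)) (.node 1 (.leaf 118874880) (.leaf 118899360))) (.node 2 (.node 1 (.leaf 118923840) (.leaf 97478778)) (.node 1 (.leaf 73606648) (.leaf 68005440)))) (.node 4 (.node 2 (.node 1 (.leaf 118948320) (.leaf 118972800)) (.node 1 (.leaf 118997280) (.leaf 94047742))) (.node 2 (.node 1 (.leaf 7461618) (.leaf 68054400)) (.node 1 (.leaf 119021760) (.leaf 119046240)))))) (.node 16 (.node 8 (.node 4 (.node 2 (.node 1 (.leaf 119070720) (.leaf 119095200)) (.node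 1 (.leaf 119119680) (.leaf 68103360))) (.node 2 (.node 1 (.leaf 119144160) (.leaf 108849291)) (.node 1 (.leaf 22442173) (.leaf 117013381)))) (.node 4 (.node 2 (.node 1 (.leaf 119168640) (.leaf 68176800)) (.node 1 (.leaf 119193120) (.leaf 119217600))) (.node 2 (.node 1 (.leaf 8701925) (.leaf 68225760)) (.node 1 (.leaf 119242080) (.leaf 119266560))))) (.node 8 (.node 4 (.node 2 (.node 1 (.leaf 116014834) (.leaf 68250240)) (.node 1 (.leaf 119291040) (.leaf 68323680))) (.node 2 (.node 1 (.leaf 119315520) (.leaf 93717832)) (.node 1 (.leaf 75341089) (.leaf 68348160)))) (.node 4 (.node 2 (.node 1 (.leaf 119340000) (.leaf 72522337)) (.node 1 (.leaf 93534656) (.leaf 68372640))) (.node 2 (.node 1 (.leaf 45445610) (.leaf 119364480)) (.node 1 (.leaf 119388960) (.node 1 (.leaf 68421600) (.leaf 65830076))))))))))) (.node 256 (.node 128 (.node 64 (.node 32 (.node 16 (.node 8 (.node 4 (.node 2 (.node 1 (.leaf 119413440) (.leaf 87705156)) (.node 1 (.leaf 68446080)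 (.leaf 119437920))) (.node 2 (.node 1 (.leaf 119462400) (.leaf 90032541)) (.node 1 (.leaf 119486880) (.leaf 95626429)))) (.node 4 (.node 2 (.node 1 (.leaf 68544000) (.leaf 71761879)) (.node 1 (.leaf 68592960) (.leaf 119511360))) (.node 2 (.node 1 (.leaf 114120592) (.leaf 38113350)) (.node 1 (.leaf 68617440) (.leaf 119535840))))) (.node 8 (.node 4 (.node 2 (.node 1 (.leaf 112338903) (.leaf 77294313)) (.node 1 (.leaf 119560320) (.leaf 16315100))) (.node 2 (.node 1 (.leaf 119584800) (.leaf 115481475)) (.node 1 (.leaf 119609280) (.leaf 119633760)))) (.node 4 (.node 2 (.node 1 (.leaf 68715360) (.leaf 5361120)) (.node 1 (.leaf 119658240) (.leaf 119682720))) (.node 2 (.node 1 (.leaf 68739840) (.leaf 119707200)) (.node 1 (.leaf 68788800) (.leaf 119731680)))))) (.node 16 (.node 8 (.node 4 (.node 2 (.node 1 (.leaf 119756160) (.leaf 110339851)) (.node 1 (.leaf 68813280) (.leaf 119780640))) (.node 2 (.node 1 (.leaf 119805120) (.leaf 119829600)) (.node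 1 (.leaf 68837760) (.leaf 119854080)))) (.node 4 (.node 2 (.node 1 (.leaf 119878560) (.leaf 119903040)) (.node 1 (.leaf 94700568) (.leaf 119927520))) (.node 2 (.node 1 (.leaf 68911200) (.leaf 119952000)) (.node 1 (.leaf 76992397) (.leaf 119976480))))) (.node 8 (.node 4 (.node 2 (.node 1 (.leaf 68960160) (.leaf 120000960)) (.node 1 (.leaf 120025440) (.leaf 120049920))) (.node 2 (.node 1 (.leaf 120074400) (.leaf 120098880)) (.node 1 (.leaf 69033600) (.leaf 120123360)))) (.node 4 (.node 2 (.node 1 (.leaf 120147840) (.leaf 120172320)) (.node 1 (.leaf 81051679) (.leaf 94469852))) (.node 2 (.node 1 (.leaf 69082560) (.leaf 82381235)) (.node 1 (.leaf 69107040) (.leaf 57240319))))))) (.node 32 (.node 16 (.node 8 (.node 4 (.node 2 (.node 1 (.leaf 75128071) (.leaf 54521161)) (.node 1 (.leaf 69156000) (.leaf 112718343))) (.node 2 (.node 1 (.leaf 120196800) (.leaf 120221280)) (.node 1 (.leaf 120245760) (.leaf 75644047)))) (.node 4 (.node 2 (.node 1 (.leaf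 69204960) (.leaf 120270240)) (.node 1 (.leaf 69229440) (.leaf 120294720))) (.node 2 (.node 1 (.leaf 120319200) (.leaf 116585375)) (.node 1 (.leaf 100270385) (.leaf 71272862))))) (.node 8 (.node 4 (.node 2 (.node 1 (.leaf 69327360) (.leaf 120343680)) (.node 1 (.leaf 120368160) (.leaf 91284261))) (.node 2 (.node 1 (.leaf 69376320) (.leaf 120392640)) (.node 1 (.leaf 120417120) (.leaf 28309699)))) (.node 4 (.node 2 (.node 1 (.leaf 81817481) (.leaf 62981099)) (.node 1 (.leaf 69425280) (.leaf 110244024))) (.node 2 (.node 1 (.leaf 120441600) (.leaf 120466080)) (.node 1 (.leaf 69449760) (.leaf 95217244)))))) (.node 16 (.node 8 (.node 4 (.node 2 (.node 1 (.leaf 120490560) (.leaf 72499700)) (.node 1 (.leaf 69474240) (.leaf 83959169))) (.node 2 (.node 1 (.leaf 120515040) (.leaf 99413834)) (.node 1 (.leaf 69523200) (.leaf 55292977)))) (.node 4 (.node 2 (.node 1 (.leaf 69572160) (.leaf 120539520)) (.node 1 (.leaf 120564000) (.leaf 90948609))) (.node 2 (.node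 1 (.leaf 69596640) (.leaf 69204467)) (.node 1 (.leaf 120588480) (.leaf 120612960))))) (.node 8 (.node 4 (.node 2 (.node 1 (.leaf 117464066) (.leaf 120637440)) (.node 1 (.leaf 69670080) (.leaf 120661920))) (.node 2 (.node 1 (.leaf 85121675) (.leaf 106918055)) (.node 1 (.leaf 69719040) (.leaf 25443398)))) (.node 4 (.node 2 (.node 1 (.leaf 69768000) (.leaf 107696615)) (.node 1 (.leaf 69841440) (.leaf 120686400))) (.node 2 (.node 1 (.leaf 110764825) (.leaf 76185690)) (.node 1 (.leaf 69865920) (.leaf 120710880)))))))) (.node 64 (.node 32 (.node 16 (.node 8 (.node 4 (.node 2 (.node 1 (.leaf 101813280) (.leaf 35452300)) (.node 1 (.leaf 113994559) (.leaf 32228882))) (.node 2 (.node 1 (.leaf 69914880) (.leaf 110056073)) (.node 1 (.leaf 120735360) (.leaf 98637386)))) (.node 4 (.node 2 (.node 1 (.leaf 120759840) (.leaf 120784320)) (.node 1 (.leaf 99559113) (.leaf 120808800))) (.node 2 (.node 1 (.leaf 70012800) (.leaf 120833280)) (.node 1 (.leaf 113480405)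 (.leaf 54203638))))) (.node 8 (.node 4 (.node 2 (.node 1 (.leaf 70037280) (.leaf 120857760)) (.node 1 (.leaf 120882240) (.leaf 120906720))) (.node 2 (.node 1 (.leaf 70086240) (.leaf 120931200)) (.node 1 (.leaf 107821643) (.leaf 120955680)))) (.node 4 (.node 2 (.node 1 (.leaf 120980160) (.leaf 121004640)) (.node 1 (.leaf 70135200) (.leaf 121029120))) (.node 2 (.node 1 (.leaf 98678227) (.leaf 121053600)) (.node 1 (.leaf 70184160) (.leaf 120736872)))))) (.node 16 (.node 8 (.node 4 (.node 2 (.node 1 (.leaf 70208640) (.leaf 121078080)) (.node 1 (.leaf 70257600) (.leaf 112112163))) (.node 2 (.node 1 (.leaf 121102560) (.leaf 121127040)) (.node 1 (.leaf 121151520) (.leaf 121176000)))) (.node 4 (.node 2 (.node 1 (.leaf 70355520) (.leaf 121200480)) (.node 1 (.leaf 85067939) (.leaf 121224960))) (.node 2 (.node 1 (.leaf 121249440) (.leaf 119810265)) (.node 1 (.leaf 86923695) (.leaf 121273920))))) (.node 8 (.node 4 (.node 2 (.node 1 (.leaf 107779861) (.leaf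 103047599)) (.node 1 (.leaf 97981572) (.leaf 121298400))) (.node 2 (.node 1 (.leaf 70551360) (.leaf 120075192)) (.node 1 (.leaf 76220154) (.leaf 121322880)))) (.node 4 (.node 2 (.node 1 (.leaf 121347360) (.leaf 121371840)) (.node 1 (.leaf 121396320) (.leaf 121420800))) (.node 2 (.node 1 (.leaf 121445280) (.leaf 57757940)) (.node 1 (.leaf 114786382) (.leaf 76678982))))))) (.node 32 (.node 16 (.node 8 (.node 4 (.node 2 (.node 1 (.leaf 121469760) (.leaf 121494240)) (.node 1 (.leaf 121518720) (.leaf 121543200))) (.node 2 (.node 1 (.leaf 70771680) (.leaf 121567680)) (.node 1 (.leaf 119962689) (.leaf 121592160)))) (.node 4 (.node 2 (.node 1 (.leaf 121616640) (.leaf 121641120)) (.node 1 (.leaf 70869600) (.leaf 121665600))) (.node 2 (.node 1 (.leaf 121690080) (.leaf 121714560)) (.node 1 (.leaf 121739040) (.leaf 121763520))))) (.node 8 (.node 4 (.node 2 (.node 1 (.leaf 70918560) (.leaf 121788000)) (.node 1 (.leaf 70943040) (.leaf 121812480))) (.node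 2 (.node 1 (.leaf 121836960) (.leaf 121861440)) (.node 1 (.leaf 121885920) (.leaf 60211557)))) (.node 4 (.node 2 (.node 1 (.leaf 71016480) (.leaf 49194782)) (.node 1 (.leaf 117867563) (.leaf 61964354))) (.node 2 (.node 1 (.leaf 71040960) (.leaf 52322016)) (.node 1 (.leaf 121910400) (.leaf 25604546)))))) (.node 16 (.node 8 (.node 4 (.node 2 (.node 1 (.leaf 71114400) (.leaf 121934880)) (.node 1 (.leaf 121959360) (.leaf 121983840))) (.node 2 (.node 1 (.leaf 71138880) (.leaf 122008320)) (.node 1 (.leaf 122032800) (.leaf 77222534)))) (.node 4 (.node 2 (.node 1 (.leaf 122057280) (.leaf 122081760)) (.node 1 (.leaf 71236800) (.leaf 52210943))) (.node 2 (.node 1 (.leaf 122106240) (.leaf 86722637)) (.node 1 (.leaf 119843394) (.leaf 122130720))))) (.node 8 (.node 4 (.node 2 (.node 1 (.leaf 71285760) (.leaf 78455372)) (.node 1 (.leaf 81100634) (.leaf 122155200))) (.node 2 (.node 1 (.leaf 73911823) (.leaf 96744916)) (.node 1 (.leaf 71334720) (.leaf 122179680))))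 (.node 4 (.node 2 (.node 1 (.leaf 79959384) (.leaf 122204160)) (.node 1 (.leaf 98065476) (.leaf 17296151))) (.node 2 (.node 1 (.leaf 71408160) (.leaf 56385082)) (.node 1 (.leaf 122228640) (.leaf 122253120))))))))) (.node 128 (.node 64 (.node 32 (.node 16 (.node 8 (.node 4 (.node 2 (.node 1 (.leaf 71457120) (.leaf 122277600)) (.node 1 (.leaf 116249059) (.leaf 122302080))) (.node 2 (.node 1 (.leaf 109259101) (.leaf 96116248)) (.node 1 (.leaf 122326560) (.leaf 122351040)))) (.node 4 (.node 2 (.node 1 (.leaf 71604000) (.leaf 37953846)) (.node 1 (.leaf 122375520) (.leaf 78497500))) (.node 2 (.node 1 (.leaf 93650417) (.leaf 122400000)) (.node 1 (.leaf 71677440) (.leaf 122424480))))) (.node 8 (.node 4 (.node 2 (.node 1 (.leaf 113917456) (.leaf 36545500)) (.node 1 (.leaf 71775360) (.leaf 18437649))) (.node 2 (.node 1 (.leaf 71799840) (.leaf 122448960)) (.node 1 (.leaf 122473440) (.leaf 60897872)))) (.node 4 (.node 2 (.node 1 (.leaf 122497920) (.leaf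 122522400)) (.node 1 (.leaf 122546880) (.leaf 122571360))) (.node 2 (.node 1 (.leaf 122595840) (.leaf 122620320)) (.node 1 (.leaf 75423148) (.leaf 42980772)))))) (.node 16 (.node 8 (.node 4 (.node 2 (.node 1 (.leaf 71922240) (.leaf 5752800)) (.node 1 (.leaf 116630399) (.leaf 58448840))) (.node 2 (.node 1 (.leaf 72044640) (.leaf 122644800)) (.node 1 (.leaf 122669280) (.leaf 122693760)))) (.node 4 (.node 2 (.node 1 (.leaf 72093600) (.leaf 121896972)) (.node 1 (.leaf 122718240) (.leaf 122742720))) (.node 2 (.node 1 (.leaf 122767200) (.leaf 122791680)) (.node 1 (.leaf 72191520) (.leaf 122816160))))) (.node 8 (.node 4 (.node 2 (.node 1 (.leaf 76154807) (.leaf 106210044)) (.node 1 (.leaf 72240480) (.leaf 104445568))) (.node 2 (.node 1 (.leaf 97967044) (.leaf 122840640)) (.node 1 (.leaf 96360140) (.leaf 63343989)))) (.node 4 (.node 2 (.node 1 (.leaf 122865120) (.leaf 26485720)) (.node 1 (.leaf 72313920) (.leaf 122889600))) (.node 2 (.node 1 (.leaf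 97237552) (.leaf 122914080)) (.node 1 (.leaf 118881746) (.leaf 118281389))))))) (.node 32 (.node 16 (.node 8 (.node 4 (.node 2 (.node 1 (.leaf 72387360) (.leaf 95450356)) (.node 1 (.leaf 117900533) (.leaf 115974024))) (.node 2 (.node 1 (.leaf 72411840) (.leaf 122938560)) (.node 1 (.leaf 80132634) (.leaf 122963040)))) (.node 4 (.node 2 (.node 1 (.leaf 72460800) (.leaf 74891815)) (.node 1 (.leaf 122987520) (.leaf 103303067))) (.node 2 (.node 1 (.leaf 118869931) (.leaf 9569826)) (.node 1 (.leaf 72558720) (.leaf 123012000))))) (.node 8 (.node 4 (.node 2 (.node 1 (.leaf 113807664) (.leaf 123036480)) (.node 1 (.leaf 104513055) (.leaf 116484291))) (.node 2 (.node 1 (.leaf 123060960) (.leaf 123085440)) (.node 1 (.leaf 123109920) (.leaf 123134400)))) (.node 4 (.node 2 (.node 1 (.leaf 72681120) (.leaf 123158880)) (.node 1 (.leaf 73435377) (.leaf 118442864))) (.node 2 (.node 1 (.leaf 72779040) (.leaf 123183360)) (.node 1 (.leaf 72828000) (.leaf 123207840))))))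 (.node 16 (.node 8 (.node 4 (.node 2 (.node 1 (.leaf 123232320) (.leaf 92021610)) (.node 1 (.leaf 72876960) (.leaf 123256800))) (.node 2 (.node 1 (.leaf 123281280) (.leaf 123305760)) (.node 1 (.leaf 89625944) (.leaf 123330240)))) (.node 4 (.node 2 (.node 1 (.leaf 109014681) (.leaf 123354720)) (.node 1 (.leaf 91752820) (.leaf 84145617))) (.node 2 (.node 1 (.leaf 72974880) (.leaf 107580083)) (.node 1 (.leaf 96099259) (.leaf 123379200))))) (.node 8 (.node 4 (.node 2 (.node 1 (.leaf 79870734) (.leaf 45865499)) (.node 1 (.leaf 73048320) (.leaf 123403680))) (.node 2 (.node 1 (.leaf 85849239) (.leaf 35745428)) (.node 1 (.leaf 115174206) (.leaf 95374995)))) (.node 4 (.node 2 (.node 1 (.leaf 73097280) (.leaf 84480456)) (.node 1 (.leaf 73121760) (.leaf 123428160))) (.node 2 (.node 1 (.leaf 104631392) (.leaf 112766880)) (.node 1 (.leaf 73195200) (.leaf 123452640)))))))) (.node 64 (.node 32 (.node 16 (.node 8 (.node 4 (.node 2 (.node 1 (.leaf 73244160)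 (.leaf 123477120)) (.node 1 (.leaf 85865931) (.leaf 48736077))) (.node 2 (.node 1 (.leaf 123501600) (.leaf 105517358)) (.node 1 (.leaf 73317600) (.leaf 123526080)))) (.node 4 (.node 2 (.node 1 (.leaf 73342080) (.leaf 123550560)) (.node 1 (.leaf 123575040) (.leaf 122724431))) (.node 2 (.node 1 (.leaf 73366560) (.leaf 17496216)) (.node 1 (.leaf 123599520) (.leaf 123624000))))) (.node 8 (.node 4 (.node 2 (.node 1 (.leaf 73440000) (.leaf 99303401)) (.node 1 (.leaf 106689268) (.leaf 123648480))) (.node 2 (.node 1 (.leaf 123672960) (.leaf 120205103)) (.node 1 (.leaf 73513440) (.leaf 123697440)))) (.node 4 (.node 2 (.node 1 (.leaf 80401055) (.leaf 123721920)) (.node 1 (.leaf 117834673) (.leaf 63160677))) (.node 2 (.node 1 (.leaf 73562400) (.leaf 85707898)) (.node 1 (.leaf 123746400) (.leaf 46692840)))))) (.node 16 (.node 8 (.node 4 (.node 2 (.node 1 (.leaf 81208191) (.leaf 123770880)) (.node 1 (.leaf 73635840) (.leaf 48876867))) (.node 2 (.node 1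 (.leaf 91172964) (.leaf 123795360)) (.node 1 (.leaf 73709280) (.leaf 116894905)))) (.node 4 (.node 2 (.node 1 (.leaf 123819840) (.leaf 123844320)) (.node 1 (.leaf 73758240) (.leaf 123868800))) (.node 2 (.node 1 (.leaf 73782720) (.leaf 123893280)) (.node 1 (.leaf 118968466) (.leaf 93039242))))) (.node 8 (.node 4 (.node 2 (.node 1 (.leaf 73831680) (.leaf 123917760)) (.node 1 (.leaf 73856160) (.leaf 112485736))) (.node 2 (.node 1 (.leaf 123942240) (.leaf 123966720)) (.node 1 (.leaf 95884956) (.leaf 123991200)))) (.node 4 (.node 2 (.node 1 (.leaf 108404772) (.leaf 58000677)) (.node 1 (.leaf 124015680) (.leaf 124040160))) (.node 2 (.node 1 (.leaf 73954080) (.leaf 100910534)) (.node 1 (.leaf 81587902) (.leaf 124064640))))))) (.node 32 (.node 16 (.node 8 (.node 4 (.node 2 (.node 1 (.leaf 124089120) (.leaf 124113600)) (.node 1 (.leaf 74003040) (.leaf 124138080))) (.node 2 (.node 1 (.leaf 74027520) (.leaf 124162560)) (.node 1 (.leaf 119404282) (.leaf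 124187040)))) (.node 4 (.node 2 (.node 1 (.leaf 74052000) (.leaf 102879873)) (.node 1 (.leaf 124211520) (.leaf 124236000))) (.node 2 (.node 1 (.leaf 74100960) (.leaf 124260480)) (.node 1 (.leaf 87221892) (.leaf 124284960))))) (.node 8 (.node 4 (.node 2 (.node 1 (.leaf 74125440) (.leaf 109565344)) (.node 1 (.leaf 84693152) (.leaf 84795585))) (.node 2 (.node 1 (.leaf 74174400) (.leaf 124309440)) (.node 1 (.leaf 79649514) (.leaf 119770825)))) (.node 4 (.node 2 (.node 1 (.leaf 88312564) (.leaf 124333920)) (.node 1 (.leaf 74223360) (.leaf 123952966))) (.node 2 (.node 1 (.leaf 124358400) (.leaf 87075581)) (.node 1 (.leaf 74247840) (.leaf 124382880)))))) (.node 16 (.node 8 (.node 4 (.node 2 (.node 1 (.leaf 88909345) (.leaf 124407360)) (.node 1 (.leaf 74296800) (.leaf 124431840))) (.node 2 (.node 1 (.leaf 88598320) (.leaf 112293295)) (.node 1 (.leaf 74345760) (.leaf 93212000)))) (.node 4 (.node 2 (.node 1 (.leaf 120878217) (.leaf 97888875)) (.node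 1 (.leaf 118736766) (.leaf 124456320))) (.node 2 (.node 1 (.leaf 74468160) (.leaf 25913222)) (.node 1 (.leaf 124480800) (.leaf 38617503))))) (.node 8 (.node 4 (.node 2 (.node 1 (.leaf 74492640) (.leaf 124505280)) (.node 1 (.leaf 95150703) (.leaf 115309830))) (.node 2 (.node 1 (.leaf 74541600) (.leaf 124529760)) (.node 1 (.leaf 124554240) (.leaf 124578720)))) (.node 4 (.node 2 (.node 1 (.leaf 74590560) (.leaf 14854009)) (.node 1 (.leaf 74615040) (.leaf 124603200))) (.node 2 (.node 1 (.leaf 74639520) (.leaf 124627680)) (.node 1 (.leaf 124652160) (.node 1 (.leaf 124676640) (.leaf 74712960))))))))))))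

/-- Part 8 of `e0Tab`. -/
def e0Tab_8 : BT ℕ :=
  (.node 513 (.node 256 (.node 128 (.node 64 (.node 32 (.node 16 (.node 8 (.node 4 (.node 2 (.node 1 (.leaf 105888964) (.leaf 124701120)) (.node 1 (.leaf 82411951) (.leaf 121585302))) (.node 2 (.node 1 (.leaf 109890174) (.leaf 74761920)) (.node 1 (.leaf 91223422) (.leaf 74786400)))) (.node 4 (.node 2 (.node 1 (.leaf 124725600) (.leaf 124750080)) (.node 1 (.leaf 121466651) (.leaf 74835360))) (.node 2 (.node 1 (.leaf 101785209) (.leaf 74859840)) (.node 1 (.leaf 70065002) (.leaf 115449400))))) (.node 8 (.node 4 (.node 2 (.node 1 (.leaf 124774560) (.leaf 74908800)) (.node 1 (.leaf 120251066) (.leaf 74957760))) (.node 2 (.node 1 (.leaf 46750600) (.leaf 124799040)) (.node 1 (.leaf 124823520) (.leaf 75031200)))) (.node 4 (.node 2 (.node 1 (.leaf 124848000) (.leaf 101157250)) (.node 1 (.leaf 99862742) (.leaf 75080160))) (.node 2 (.node 1 (.leaf 124872480) (.leaf 124896960)) (.node 1 (.leaf 101361270)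 (.leaf 124921440)))))) (.node 16 (.node 8 (.node 4 (.node 2 (.node 1 (.leaf 124945920) (.leaf 75153600)) (.node 1 (.leaf 101421914) (.leaf 124970400))) (.node 2 (.node 1 (.leaf 124994880) (.leaf 75178080)) (.node 1 (.leaf 117389619) (.leaf 105985018)))) (.node 4 (.node 2 (.node 1 (.leaf 83014493) (.leaf 125019360)) (.node 1 (.leaf 100124865) (.leaf 75276000))) (.node 2 (.node 1 (.leaf 99470635) (.leaf 125043840)) (.node 1 (.leaf 79977859) (.leaf 125068320))))) (.node 8 (.node 4 (.node 2 (.node 1 (.leaf 125092800) (.leaf 105134828)) (.node 1 (.leaf 120996980) (.leaf 75349440))) (.node 2 (.node 1 (.leaf 125117280) (.leaf 125141760)) (.node 1 (.leaf 125166240) (.leaf 125190720)))) (.node 4 (.node 2 (.node 1 (.leaf 125215200) (.leaf 100765652)) (.node 1 (.leaf 125239680) (.leaf 125264160))) (.node 2 (.node 1 (.leaf 125288640) (.leaf 75471840)) (.node 1 (.leaf 99709521) (.leaf 76036485))))))) (.node 32 (.node 16 (.node 8 (.node 4 (.node 2 (.node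 1 (.leaf 98876662) (.leaf 87953040)) (.node 1 (.leaf 125313120) (.leaf 87845460))) (.node 2 (.node 1 (.leaf 103622274) (.leaf 75594240)) (.node 1 (.leaf 105199924) (.leaf 84622915)))) (.node 4 (.node 2 (.node 1 (.leaf 52446312) (.leaf 75618720)) (.node 1 (.leaf 125337600) (.leaf 76179342))) (.node 2 (.node 1 (.leaf 37118995) (.leaf 75667680)) (.node 1 (.leaf 125362080) (.leaf 75692160))))) (.node 8 (.node 4 (.node 2 (.node 1 (.leaf 125386560) (.leaf 121145700)) (.node 1 (.leaf 120333413) (.leaf 75741120))) (.node 2 (.node 1 (.leaf 84562657) (.leaf 75839040)) (.node 1 (.leaf 123761144) (.leaf 125411040)))) (.node 4 (.node 2 (.node 1 (.leaf 36421872) (.leaf 125435520)) (.node 1 (.leaf 125460000) (.leaf 120271806))) (.node 2 (.node 1 (.leaf 125484480) (.leaf 75912480)) (.node 1 (.leaf 125508960) (.leaf 125533440)))))) (.node 16 (.node 8 (.node 4 (.node 2 (.node 1 (.leaf 125557920) (.leaf 75936960)) (.node 1 (.leaf 11176938) (.leaf 125582400)))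 (.node 2 (.node 1 (.leaf 125606880) (.leaf 125631360)) (.node 1 (.leaf 125655840) (.leaf 109761369)))) (.node 4 (.node 2 (.node 1 (.leaf 125680320) (.leaf 125704800)) (.node 1 (.leaf 125729280) (.leaf 76083840))) (.node 2 (.node 1 (.leaf 116501536) (.leaf 125753760)) (.node 1 (.leaf 125778240) (.leaf 95741949))))) (.node 8 (.node 4 (.node 2 (.node 1 (.leaf 125802720) (.leaf 109672086)) (.node 1 (.leaf 125827200) (.leaf 116118031))) (.node 2 (.node 1 (.leaf 125851680) (.leaf 125876160)) (.node 1 (.leaf 83231648) (.leaf 76255200)))) (.node 4 (.node 2 (.node 1 (.leaf 6168960) (.leaf 84549443)) (.node 1 (.leaf 125900640) (.leaf 125925120))) (.node 2 (.node 1 (.leaf 125949600) (.leaf 76328640)) (.node 1 (.leaf 89652266) (.leaf 76663066)))))))) (.node 64 (.node 32 (.node 16 (.node 8 (.node 4 (.node 2 (.node 1 (.leaf 125974080) (.leaf 125998560)) (.node 1 (.leaf 126023040) (.leaf 121947264))) (.node 2 (.node 1 (.leaf 83091621) (.leaf 88394486)) (.node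 1 (.leaf 16804498) (.leaf 76475520)))) (.node 4 (.node 2 (.node 1 (.leaf 126047520) (.leaf 126072000)) (.node 1 (.leaf 63668186) (.leaf 114808849))) (.node 2 (.node 1 (.leaf 14128911) (.leaf 76548960)) (.node 1 (.leaf 126096480) (.leaf 126120960))))) (.node 8 (.node 4 (.node 2 (.node 1 (.leaf 126145440) (.leaf 111867709)) (.node 1 (.leaf 112882242) (.leaf 112638524))) (.node 2 (.node 1 (.leaf 59875810) (.leaf 126169920)) (.node 1 (.leaf 126194400) (.leaf 104385536)))) (.node 4 (.node 2 (.node 1 (.leaf 126218880) (.leaf 76695840)) (.node 1 (.leaf 126243360) (.leaf 126267840))) (.node 2 (.node 1 (.leaf 126292320) (.leaf 76744800)) (.node 1 (.leaf 126316800) (.leaf 76793760)))))) (.node 16 (.node 8 (.node 4 (.node 2 (.node 1 (.leaf 115600052) (.leaf 80068772)) (.node 1 (.leaf 126341280) (.leaf 76842720))) (.node 2 (.node 1 (.leaf 51040765) (.leaf 103378933)) (.node 1 (.leaf 126365760) (.leaf 102504054)))) (.node 4 (.node 2 (.node 1 (.leaf 126390240)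 (.leaf 76891680)) (.node 1 (.leaf 60663632) (.leaf 126414720))) (.node 2 (.node 1 (.leaf 90075351) (.leaf 76940640)) (.node 1 (.leaf 103780994) (.leaf 126439200))))) (.node 8 (.node 4 (.node 2 (.node 1 (.leaf 113662334) (.leaf 89883472)) (.node 1 (.leaf 21459200) (.leaf 77063040))) (.node 2 (.node 1 (.leaf 126463680) (.leaf 126488160)) (.node 1 (.leaf 126512640) (.leaf 126537120)))) (.node 4 (.node 2 (.node 1 (.leaf 15233140) (.leaf 126561600)) (.node 1 (.leaf 126586080) (.leaf 77160960))) (.node 2 (.node 1 (.leaf 104837758) (.leaf 126610560)) (.node 1 (.leaf 126635040) (.leaf 77185440))))))) (.node 32 (.node 16 (.node 8 (.node 4 (.node 2 (.node 1 (.leaf 126659520) (.leaf 109941784)) (.node 1 (.leaf 78881530) (.leaf 90854273))) (.node 2 (.node 1 (.leaf 126684000) (.leaf 77234400)) (.node 1 (.leaf 91373544) (.leaf 126708480)))) (.node 4 (.node 2 (.node 1 (.leaf 64522255) (.leaf 77307840)) (.node 1 (.leaf 6291360) (.leaf 110223907))) (.node 2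 (.node 1 (.leaf 50289997) (.leaf 126732960)) (.node 1 (.leaf 81917259) (.leaf 126757440))))) (.node 8 (.node 4 (.node 2 (.node 1 (.leaf 96252008) (.leaf 77405760)) (.node 1 (.leaf 124370485) (.leaf 77430240))) (.node 2 (.node 1 (.leaf 56223837) (.leaf 77479200)) (.node 1 (.leaf 81844980) (.leaf 103089988)))) (.node 4 (.node 2 (.node 1 (.leaf 53719382) (.leaf 126781920)) (.node 1 (.leaf 75906884) (.leaf 123713767))) (.node 2 (.node 1 (.leaf 94725163) (.leaf 77577120)) (.node 1 (.leaf 126806400) (.leaf 126830880)))))) (.node 16 (.node 8 (.node 4 (.node 2 (.node 1 (.leaf 65050128) (.leaf 83195215)) (.node 1 (.leaf 126855360) (.leaf 77626080))) (.node 2 (.node 1 (.leaf 126879840) (.leaf 126904320)) (.node 1 (.leaf 126928800) (.leaf 77675040)))) (.node 4 (.node 2 (.node 1 (.leaf 126953280) (.leaf 88546714)) (.node 1 (.leaf 126977760) (.leaf 77724000))) (.node 2 (.node 1 (.leaf 93053298) (.leaf 102490391)) (.node 1 (.leaf 67706563) (.leaf 127002240)))))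 (.node 8 (.node 4 (.node 2 (.node 1 (.leaf 93304402) (.leaf 77846400)) (.node 1 (.leaf 46074133) (.leaf 86988033))) (.node 2 (.node 1 (.leaf 127026720) (.leaf 77919840)) (.node 1 (.leaf 127051200) (.leaf 123472355)))) (.node 4 (.node 2 (.node 1 (.leaf 73493231) (.leaf 127075680)) (.node 1 (.leaf 103063615) (.leaf 127100160))) (.node 2 (.node 1 (.leaf 127124640) (.leaf 77993280)) (.node 1 (.leaf 124557647) (.leaf 112025243))))))))) (.node 128 (.node 64 (.node 32 (.node 16 (.node 8 (.node 4 (.node 2 (.node 1 (.leaf 120901360) (.leaf 78042240)) (.node 1 (.leaf 8472649) (.leaf 78962351))) (.node 2 (.node 1 (.leaf 127149120) (.leaf 88979270)) (.node 1 (.leaf 84409039) (.leaf 123411699)))) (.node 4 (.node 2 (.node 1 (.leaf 55702644) (.leaf 78115680)) (.node 1 (.leaf 13539693) (.leaf 127173600))) (.node 2 (.node 1 (.leaf 127198080) (.leaf 91555795)) (.node 1 (.leaf 127222560) (.leaf 78164640))))) (.node 8 (.node 4 (.node 2 (.node 1 (.leaf 127247040)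 (.leaf 114321769)) (.node 1 (.leaf 127271520) (.leaf 78238080))) (.node 2 (.node 1 (.leaf 20382525) (.leaf 127296000)) (.node 1 (.leaf 127320480) (.leaf 78262560)))) (.node 4 (.node 2 (.node 1 (.leaf 127344960) (.leaf 82172696)) (.node 1 (.leaf 127369440) (.leaf 78311520))) (.node 2 (.node 1 (.leaf 64730270) (.leaf 127393920)) (.node 1 (.leaf 127418400) (.leaf 115800422)))))) (.node 16 (.node 8 (.node 4 (.node 2 (.node 1 (.leaf 127442880) (.leaf 127467360)) (.node 1 (.leaf 127491840) (.leaf 78384960))) (.node 2 (.node 1 (.leaf 45380900) (.leaf 114866760)) (.node 1 (.leaf 127516320) (.leaf 78409440)))) (.node 4 (.node 2 (.node 1 (.leaf 77022203) (.leaf 127540800)) (.node 1 (.leaf 62611897) (.leaf 78458400))) (.node 2 (.node 1 (.leaf 115876237) (.leaf 127565280)) (.node 1 (.leaf 6413760) (.leaf 111373242))))) (.node 8 (.node 4 (.node 2 (.node 1 (.leaf 127589760) (.leaf 127614240)) (.node 1 (.leaf 127638720) (.leaf 127663200))) (.node 2 (.node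 1 (.leaf 127687680) (.leaf 127712160)) (.node 1 (.leaf 50443423) (.leaf 78580800)))) (.node 4 (.node 2 (.node 1 (.leaf 7942493) (.leaf 127736640)) (.node 1 (.leaf 24511391) (.leaf 127761120))) (.node 2 (.node 1 (.leaf 115728970) (.leaf 87403068)) (.node 1 (.leaf 44181843) (.leaf 78678720))))))) (.node 32 (.node 16 (.node 8 (.node 4 (.node 2 (.node 1 (.leaf 127785600) (.leaf 102313413)) (.node 1 (.leaf 58269653) (.leaf 78727680))) (.node 2 (.node 1 (.leaf 127810080) (.leaf 78752160)) (.node 1 (.leaf 117551848) (.leaf 127834560)))) (.node 4 (.node 2 (.node 1 (.leaf 105292202) (.leaf 78776640)) (.node 1 (.leaf 127859040) (.leaf 98324702))) (.node 2 (.node 1 (.leaf 127883520) (.leaf 78801120)) (.node 1 (.leaf 127908000) (.leaf 127932480))))) (.node 8 (.node 4 (.node 2 (.node 1 (.leaf 11296944) (.leaf 78825600)) (.node 1 (.leaf 127956960) (.leaf 109972163))) (.node 2 (.node 1 (.leaf 12553292) (.leaf 98834163)) (.node 1 (.leaf 127981440) (.leaf 78923520))))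 (.node 4 (.node 2 (.node 1 (.leaf 78972766) (.leaf 128005920)) (.node 1 (.leaf 128030400) (.leaf 78996960))) (.node 2 (.node 1 (.leaf 128054880) (.leaf 116420771)) (.node 1 (.leaf 26414237) (.leaf 79070400)))))) (.node 16 (.node 8 (.node 4 (.node 2 (.node 1 (.leaf 128079360) (.leaf 128103840)) (.node 1 (.leaf 120447339) (.leaf 90106399))) (.node 2 (.node 1 (.leaf 128128320) (.leaf 79119360)) (.node 1 (.leaf 128152800) (.leaf 79143840)))) (.node 4 (.node 2 (.node 1 (.leaf 53804014) (.leaf 128177280)) (.node 1 (.leaf 6487200) (.leaf 128201760))) (.node 2 (.node 1 (.leaf 128226240) (.leaf 128250720)) (.node 1 (.leaf 128275200) (.leaf 79217280))))) (.node 8 (.node 4 (.node 2 (.node 1 (.leaf 128299680) (.leaf 128324160)) (.node 1 (.leaf 128266559) (.leaf 79241760))) (.node 2 (.node 1 (.leaf 128348640) (.leaf 128373120)) (.node 1 (.leaf 128397600) (.leaf 79290720)))) (.node 4 (.node 2 (.node 1 (.leaf 102191596) (.leaf 128422080)) (.node 1 (.leaf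 128446560) (.leaf 128471040))) (.node 2 (.node 1 (.leaf 108605735) (.leaf 101068429)) (.node 1 (.leaf 70300152) (.leaf 79388640)))))))) (.node 64 (.node 32 (.node 16 (.node 8 (.node 4 (.node 2 (.node 1 (.leaf 128495520) (.leaf 128520000)) (.node 1 (.leaf 128544480) (.leaf 79437600))) (.node 2 (.node 1 (.leaf 128568960) (.leaf 79462080)) (.node 1 (.leaf 128593440) (.leaf 128617920)))) (.node 4 (.node 2 (.node 1 (.leaf 128642400) (.leaf 117815699)) (.node 1 (.leaf 128666880) (.leaf 79511040))) (.node 2 (.node 1 (.leaf 121749735) (.leaf 128691360)) (.node 1 (.leaf 128715840) (.leaf 128740320))))) (.node 8 (.node 4 (.node 2 (.node 1 (.leaf 93665054) (.leaf 128764800)) (.node 1 (.leaf 128789280) (.leaf 84205756))) (.node 2 (.node 1 (.leaf 9116924) (.leaf 128813760)) (.node 1 (.leaf 11764528) (.leaf 128838240)))) (.node 4 (.node 2 (.node 1 (.leaf 127852841) (.leaf 79682400)) (.node 1 (.leaf 72305622) (.leaf 127785690))) (.node 2 (.node 1 (.leaf 42206354)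 (.leaf 79780320)) (.node 1 (.leaf 100198095) (.leaf 128862720)))))) (.node 16 (.node 8 (.node 4 (.node 2 (.node 1 (.leaf 128887200) (.leaf 105559121)) (.node 1 (.leaf 68491568) (.leaf 86035696))) (.node 2 (.node 1 (.leaf 128911680) (.leaf 128936160)) (.node 1 (.leaf 94939508) (.leaf 79878240)))) (.node 4 (.node 2 (.node 1 (.leaf 100389873) (.leaf 110323168)) (.node 1 (.leaf 128960640) (.leaf 79927200))) (.node 2 (.node 1 (.leaf 18820051) (.leaf 117502437)) (.node 1 (.leaf 13920732) (.leaf 108949950))))) (.node 8 (.node 4 (.node 2 (.node 1 (.leaf 58961036) (.leaf 80000640)) (.node 1 (.leaf 111916791) (.leaf 120358093))) (.node 2 (.node 1 (.leaf 128985120) (.leaf 80074080)) (.node 1 (.leaf 114149070) (.leaf 129009600)))) (.node 4 (.node 2 (.node 1 (.leaf 115103304) (.leaf 129034080)) (.node 1 (.leaf 101924070) (.leaf 80196480))) (.node 2 (.node 1 (.leaf 115290576) (.leaf 105916524)) (.node 1 (.leaf 129058560) (.leaf 80220960))))))) (.node 32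 (.node 16 (.node 8 (.node 4 (.node 2 (.node 1 (.leaf 89436201) (.leaf 112239355)) (.node 1 (.leaf 44631826) (.leaf 100931770))) (.node 2 (.node 1 (.leaf 129083040) (.leaf 129107520)) (.node 1 (.leaf 85691164) (.leaf 93089729)))) (.node 4 (.node 2 (.node 1 (.leaf 117527048) (.leaf 80318880)) (.node 1 (.leaf 104862525) (.leaf 129132000))) (.node 2 (.node 1 (.leaf 40341635) (.leaf 80343360)) (.node 1 (.leaf 129156480) (.leaf 129180960))))) (.node 8 (.node 4 (.node 2 (.node 1 (.leaf 129205440) (.leaf 129229920)) (.node 1 (.leaf 129254400) (.leaf 80441280))) (.node 2 (.node 1 (.leaf 129278880) (.leaf 80490240)) (.node 1 (.leaf 118990213) (.leaf 128416692)))) (.node 4 (.node 2 (.node 1 (.leaf 68701455) (.leaf 83606416)) (.node 1 (.leaf 129303360) (.leaf 80539200))) (.node 2 (.node 1 (.leaf 129327840) (.leaf 127146491)) (.node 1 (.leaf 124927879) (.leaf 118140709)))))) (.node 16 (.node 8 (.node 4 (.node 2 (.node 1 (.leaf 129352320) (.leaf 125168156))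 (.node 1 (.leaf 113291895) (.leaf 80612640))) (.node 2 (.node 1 (.leaf 113230931) (.leaf 129376800)) (.node 1 (.leaf 129401280) (.leaf 80661600)))) (.node 4 (.node 2 (.node 1 (.leaf 68100764) (.leaf 129425760)) (.node 1 (.leaf 129450240) (.leaf 129474720))) (.node 2 (.node 1 (.leaf 26312647) (.leaf 80735040)) (.node 1 (.leaf 129499200) (.leaf 129523680))))) (.node 8 (.node 4 (.node 2 (.node 1 (.leaf 129548160) (.leaf 80784000)) (.node 1 (.leaf 12805140) (.leaf 129572640))) (.node 2 (.node 1 (.leaf 129597120) (.leaf 129621600)) (.node 1 (.leaf 33554894) (.leaf 84391100)))) (.node 4 (.node 2 (.node 1 (.leaf 7897777) (.leaf 80881920)) (.node 1 (.leaf 129646080) (.leaf 129670560))) (.node 2 (.node 1 (.leaf 27041824) (.leaf 99102778)) (.node 1 (.leaf 116932695) (.node 1 (.leaf 80930880) (.leaf 129695040))))))))))) (.node 256 (.node 128 (.node 64 (.node 32 (.node 16 (.node 8 (.node 4 (.node 2 (.node 1 (.leaf 91853848) (.leaf 129719520)) (.node 1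 (.leaf 129744000) (.leaf 53242719))) (.node 2 (.node 1 (.leaf 81004320) (.leaf 6732000)) (.node 1 (.leaf 129768480) (.leaf 129792960)))) (.node 4 (.node 2 (.node 1 (.leaf 129817440) (.leaf 108550022)) (.node 1 (.leaf 129841920) (.leaf 59644276))) (.node 2 (.node 1 (.leaf 129866400) (.leaf 57887622)) (.node 1 (.leaf 81126720) (.leaf 66940120))))) (.node 8 (.node 4 (.node 2 (.node 1 (.leaf 124955278) (.leaf 129890880)) (.node 1 (.leaf 129915360) (.leaf 27304789))) (.node 2 (.node 1 (.leaf 81175680) (.leaf 129939840)) (.node 1 (.leaf 129964320) (.leaf 129988800)))) (.node 4 (.node 2 (.node 1 (.leaf 81224640) (.leaf 86393909)) (.node 1 (.leaf 130013280) (.leaf 118396502))) (.node 2 (.node 1 (.leaf 130037760) (.leaf 130062240)) (.node 1 (.leaf 81273600) (.leaf 101216077)))))) (.node 16 (.node 8 (.node 4 (.node 2 (.node 1 (.leaf 129610791) (.leaf 130086720)) (.node 1 (.leaf 81298080) (.leaf 125631563))) (.node 2 (.node 1 (.leaf 127380382) (.leaf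 130111200)) (.node 1 (.leaf 130135680) (.leaf 89045903)))) (.node 4 (.node 2 (.node 1 (.leaf 81347040) (.leaf 130160160)) (.node 1 (.leaf 126410813) (.leaf 130184640))) (.node 2 (.node 1 (.leaf 81371520) (.leaf 129848252)) (.node 1 (.leaf 81396000) (.leaf 130209120))))) (.node 8 (.node 4 (.node 2 (.node 1 (.leaf 130233600) (.leaf 88280489)) (.node 1 (.leaf 130258080) (.leaf 130282560))) (.node 2 (.node 1 (.leaf 130307040) (.leaf 130331520)) (.node 1 (.leaf 81469440) (.leaf 79062675)))) (.node 4 (.node 2 (.node 1 (.leaf 130356000) (.leaf 130380480)) (.node 1 (.leaf 130404960) (.leaf 34183053))) (.node 2 (.node 1 (.leaf 130429440) (.leaf 130453920)) (.node 1 (.leaf 130478400) (.leaf 6805440))))))) (.node 32 (.node 16 (.node 8 (.node 4 (.node 2 (.node 1 (.leaf 128164693) (.leaf 130502880)) (.node 1 (.leaf 130527360) (.leaf 130551840))) (.node 2 (.node 1 (.leaf 81689760) (.leaf 58316886)) (.node 1 (.leaf 81738720) (.leaf 130576320)))) (.node 4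 (.node 2 (.node 1 (.leaf 115205812) (.leaf 128186637)) (.node 1 (.leaf 113427048) (.leaf 130600800))) (.node 2 (.node 1 (.leaf 130625280) (.leaf 130649760)) (.node 1 (.leaf 81861120) (.leaf 88772689))))) (.node 8 (.node 4 (.node 2 (.node 1 (.leaf 90136034) (.leaf 130674240)) (.node 1 (.leaf 81885600) (.leaf 111747341))) (.node 2 (.node 1 (.leaf 96341130) (.leaf 60577246)) (.node 1 (.leaf 81934560) (.leaf 114488961)))) (.node 4 (.node 2 (.node 1 (.leaf 96016367) (.leaf 130698720)) (.node 1 (.leaf 81983520) (.leaf 130723200))) (.node 2 (.node 1 (.leaf 115716906) (.leaf 63025988)) (.node 1 (.leaf 82008000) (.leaf 130747680)))))) (.node 16 (.node 8 (.node 4 (.node 2 (.node 1 (.leaf 130772160) (.leaf 23125956)) (.node 1 (.leaf 130796640) (.leaf 104378481))) (.node 2 (.node 1 (.leaf 82081440) (.leaf 84305387)) (.node 1 (.leaf 88954545) (.leaf 130821120)))) (.node 4 (.node 2 (.node 1 (.leaf 82105920) (.leaf 56471975)) (.node 1 (.leaf 84656386) (.leaf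 130845600))) (.node 2 (.node 1 (.leaf 82203840) (.leaf 29872658)) (.node 1 (.leaf 130870080) (.leaf 94311066))))) (.node 8 (.node 4 (.node 2 (.node 1 (.leaf 82252800) (.leaf 130894560)) (.node 1 (.leaf 130919040) (.leaf 107310145))) (.node 2 (.node 1 (.leaf 82301760) (.leaf 130943520)) (.node 1 (.leaf 82350720) (.leaf 130968000)))) (.node 4 (.node 2 (.node 1 (.leaf 82424160) (.leaf 97278526)) (.node 1 (.leaf 82448640) (.leaf 130992480))) (.node 2 (.node 1 (.leaf 121045718) (.leaf 6878880)) (.node 1 (.leaf 131016960) (.leaf 131041440)))))))) (.node 64 (.node 32 (.node 16 (.node 8 (.node 4 (.node 2 (.node 1 (.leaf 82497600) (.leaf 52972985)) (.node 1 (.leaf 131065920) (.leaf 129475970))) (.node 2 (.node 1 (.leaf 131090400) (.leaf 105940328)) (.node 1 (.leaf 82571040) (.leaf 131114880)))) (.node 4 (.node 2 (.node 1 (.leaf 99560608) (.leaf 87440108)) (.node 1 (.leaf 118023909) (.leaf 95168282))) (.node 2 (.node 1 (.leaf 82620000) (.leaf 131139360))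 (.node 1 (.leaf 131163840) (.leaf 90277943))))) (.node 8 (.node 4 (.node 2 (.node 1 (.leaf 131188320) (.leaf 54945345)) (.node 1 (.leaf 82693440) (.leaf 119049948))) (.node 2 (.node 1 (.leaf 82717920) (.leaf 131212800)) (.node 1 (.leaf 131237280) (.leaf 131261760)))) (.node 4 (.node 2 (.node 1 (.leaf 82791360) (.leaf 77342010)) (.node 1 (.leaf 87658021) (.leaf 131286240))) (.node 2 (.node 1 (.leaf 126367131) (.leaf 131310720)) (.node 1 (.leaf 131335200) (.leaf 65212973)))))) (.node 16 (.node 8 (.node 4 (.node 2 (.node 1 (.leaf 89808134) (.leaf 28602617)) (.node 1 (.leaf 121880951) (.leaf 122111250))) (.node 2 (.node 1 (.leaf 111599965) (.leaf 18875636)) (.node 1 (.leaf 83036160) (.leaf 131359680)))) (.node 4 (.node 2 (.node 1 (.leaf 89754736) (.leaf 131384160)) (.node 1 (.leaf 83109600) (.leaf 89116720))) (.node 2 (.node 1 (.leaf 93845184) (.leaf 38701357)) (.node 1 (.leaf 83134080) (.leaf 131408640))))) (.node 8 (.node 4 (.node 2 (.node 1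 (.leaf 131433120) (.leaf 66358933)) (.node 1 (.leaf 83232000) (.leaf 120591016))) (.node 2 (.node 1 (.leaf 105753110) (.leaf 131457600)) (.node 1 (.leaf 83256480) (.leaf 104269225)))) (.node 4 (.node 2 (.node 1 (.leaf 131482080) (.leaf 131506560)) (.node 1 (.leaf 98585567) (.leaf 64906044))) (.node 2 (.node 1 (.leaf 131531040) (.leaf 131555520)) (.node 1 (.leaf 83354400) (.leaf 131580000))))))) (.node 32 (.node 16 (.node 8 (.node 4 (.node 2 (.node 1 (.leaf 83378880) (.leaf 108964676)) (.node 1 (.leaf 131604480) (.leaf 100710154))) (.node 2 (.node 1 (.leaf 110615465) (.leaf 128020126)) (.node 1 (.leaf 83427840) (.leaf 131628960)))) (.node 4 (.node 2 (.node 1 (.leaf 123970824) (.leaf 131653440)) (.node 1 (.leaf 131677920) (.leaf 131702400))) (.node 2 (.node 1 (.leaf 110525673) (.leaf 122483929)) (.node 1 (.leaf 97375819) (.leaf 131726880))))) (.node 8 (.node 4 (.node 2 (.node 1 (.leaf 83525760) (.leaf 124109951)) (.node 1 (.leaf 118056482) (.leaf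 131751360))) (.node 2 (.node 1 (.leaf 83550240) (.leaf 85201030)) (.node 1 (.leaf 131775840) (.leaf 131800320)))) (.node 4 (.node 2 (.node 1 (.leaf 110493104) (.leaf 66282977)) (.node 1 (.leaf 122206676) (.leaf 112159932))) (.node 2 (.node 1 (.leaf 124198682) (.leaf 98824758)) (.node 1 (.leaf 117426095) (.leaf 131824800)))))) (.node 16 (.node 8 (.node 4 (.node 2 (.node 1 (.leaf 131849280) (.leaf 131873760)) (.node 1 (.leaf 83795040) (.leaf 131898240))) (.node 2 (.node 1 (.leaf 88634193) (.leaf 131922720)) (.node 1 (.leaf 83819520) (.leaf 131947200)))) (.node 4 (.node 2 (.node 1 (.leaf 93248159) (.leaf 131971680)) (.node 1 (.leaf 131996160) (.leaf 96582930))) (.node 2 (.node 1 (.leaf 83892960) (.leaf 84510282)) (.node 1 (.leaf 83917440) (.leaf 28250140))))) (.node 8 (.node 4 (.node 2 (.node 1 (.leaf 101856291) (.leaf 68657773)) (.node 1 (.leaf 83966400) (.leaf 132020640))) (.node 2 (.node 1 (.leaf 132045120) (.leaf 132069600)) (.node 1 (.leaf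 101715005) (.leaf 111186856)))) (.node 4 (.node 2 (.node 1 (.leaf 84015360) (.leaf 124978113)) (.node 1 (.leaf 84039840) (.leaf 132094080))) (.node 2 (.node 1 (.leaf 132118560) (.leaf 46305007)) (.node 1 (.leaf 84064320) (.leaf 117771912))))))))) (.node 128 (.node 64 (.node 32 (.node 16 (.node 8 (.node 4 (.node 2 (.node 1 (.leaf 84088800) (.leaf 108238791)) (.node 1 (.leaf 87747159) (.leaf 17610687))) (.node 2 (.node 1 (.leaf 84113280) (.leaf 132143040)) (.node 1 (.leaf 102821369) (.leaf 110819968)))) (.node 4 (.node 2 (.node 1 (.leaf 104603432) (.leaf 33604482)) (.node 1 (.leaf 84162240) (.leaf 85407153))) (.node 2 (.node 1 (.leaf 90711519) (.leaf 132167520)) (.node 1 (.leaf 84260160) (.leaf 132192000))))) (.node 8 (.node 4 (.node 2 (.node 1 (.leaf 132216480) (.leaf 132240960)) (.node 1 (.leaf 132265440) (.leaf 85878605))) (.node 2 (.node 1 (.leaf 110118869) (.leaf 132289920)) (.node 1 (.leaf 130116588) (.leaf 132314400)))) (.node 4 (.node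 2 (.node 1 (.leaf 84431520) (.leaf 132338880)) (.node 1 (.leaf 122177319) (.leaf 132363360))) (.node 2 (.node 1 (.leaf 102960003) (.leaf 132387840)) (.node 1 (.leaf 84480480) (.leaf 131100811)))))) (.node 16 (.node 8 (.node 4 (.node 2 (.node 1 (.leaf 130339678) (.leaf 132412320)) (.node 1 (.leaf 132436800) (.leaf 132461280))) (.node 2 (.node 1 (.leaf 105680069) (.leaf 94611274)) (.node 1 (.leaf 84578400) (.leaf 9514128)))) (.node 4 (.node 2 (.node 1 (.leaf 132485760) (.leaf 129745164)) (.node 1 (.leaf 132510240) (.leaf 132534720))) (.node 2 (.node 1 (.leaf 118187263) (.leaf 132559200)) (.node 1 (.leaf 132583680) (.leaf 121698088))))) (.node 8 (.node 4 (.node 2 (.node 1 (.leaf 84749760) (.leaf 129117942)) (.node 1 (.leaf 109397114) (.leaf 111714549))) (.node 2 (.node 1 (.leaf 109240763) (.leaf 132521836)) (.node 1 (.leaf 84798720) (.leaf 132608160)))) (.node 4 (.node 2 (.node 1 (.leaf 132632640) (.leaf 132657120)) (.node 1 (.leaf 84847680) (.leaf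 132681600))) (.node 2 (.node 1 (.leaf 109140820) (.leaf 72361442)) (.node 1 (.leaf 132706080) (.leaf 103567900))))))) (.node 32 (.node 16 (.node 8 (.node 4 (.node 2 (.node 1 (.leaf 84921120) (.leaf 132730560)) (.node 1 (.leaf 84945600) (.leaf 31458962))) (.node 2 (.node 1 (.leaf 131987154) (.leaf 132755040)) (.node 1 (.leaf 132779520) (.leaf 132804000)))) (.node 4 (.node 2 (.node 1 (.leaf 95705220) (.leaf 132828480)) (.node 1 (.leaf 119302491) (.leaf 132852960))) (.node 2 (.node 1 (.leaf 85165920) (.leaf 132877440)) (.node 1 (.leaf 92759048) (.leaf 132901920))))) (.node 8 (.node 4 (.node 2 (.node 1 (.leaf 85214880) (.leaf 7197120)) (.node 1 (.leaf 132926400) (.leaf 132950880))) (.node 2 (.node 1 (.leaf 85239360) (.leaf 132975360)) (.node 1 (.leaf 132999840) (.leaf 40063130)))) (.node 4 (.node 2 (.node 1 (.leaf 133024320) (.leaf 133048800)) (.node 1 (.leaf 85410720) (.leaf 133073280))) (.node 2 (.node 1 (.leaf 111455126) (.leaf 133097760)) (.node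 1 (.leaf 133122240) (.leaf 98965134)))))) (.node 16 (.node 8 (.node 4 (.node 2 (.node 1 (.leaf 85508640) (.leaf 131075313)) (.node 1 (.leaf 123276411) (.leaf 7694371))) (.node 2 (.node 1 (.leaf 88003776) (.leaf 49112711)) (.node 1 (.leaf 116188427) (.leaf 133146720)))) (.node 4 (.node 2 (.node 1 (.leaf 130559154) (.leaf 82042583)) (.node 1 (.leaf 85655520) (.leaf 120765699))) (.node 2 (.node 1 (.leaf 90934905) (.leaf 111966381)) (.node 1 (.leaf 85728960) (.leaf 68298031))))) (.node 8 (.node 4 (.node 2 (.node 1 (.leaf 133171200) (.leaf 127076883)) (.node 1 (.leaf 85777920) (.leaf 105649398))) (.node 2 (.node 1 (.leaf 133195680) (.leaf 117198555)) (.node 1 (.leaf 133220160) (.leaf 111818974)))) (.node 4 (.node 2 (.node 1 (.leaf 85900320) (.leaf 64362387)) (.node 1 (.leaf 104172119) (.leaf 133244640))) (.node 2 (.node 1 (.leaf 85949280) (.leaf 133269120)) (.node 1 (.leaf 133293600) (.leaf 133318080)))))))) (.node 64 (.node 32 (.node 16 (.node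 8 (.node 4 (.node 2 (.node 1 (.leaf 110996151) (.leaf 60963468)) (.node 1 (.leaf 133342560) (.leaf 20521000))) (.node 2 (.node 1 (.leaf 86071680) (.leaf 62516501)) (.node 1 (.leaf 86534746) (.leaf 75784547)))) (.node 4 (.node 2 (.node 1 (.leaf 86096160) (.leaf 133367040)) (.node 1 (.leaf 86145120) (.leaf 133391520))) (.node 2 (.node 1 (.leaf 108751865) (.leaf 69913947)) (.node 1 (.leaf 133416000) (.leaf 133440480))))) (.node 8 (.node 4 (.node 2 (.node 1 (.leaf 86218560) (.leaf 118199749)) (.node 1 (.leaf 117325588) (.leaf 125777712))) (.node 2 (.node 1 (.leaf 133464960) (.leaf 11244369)) (.node 1 (.leaf 86267520) (.leaf 133425966)))) (.node 4 (.node 2 (.node 1 (.leaf 86292000) (.leaf 72641874)) (.node 1 (.leaf 117036960) (.leaf 114952770))) (.node 2 (.node 1 (.leaf 124173497) (.leaf 133489440)) (.node 1 (.leaf 86340960) (.leaf 133513920)))))) (.node 16 (.node 8 (.node 4 (.node 2 (.node 1 (.leaf 133538400) (.leaf 82490973)) (.node 1 (.leaf 102231292)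 (.leaf 62383148))) (.node 2 (.node 1 (.leaf 133562880) (.leaf 53406948)) (.node 1 (.leaf 86414400) (.leaf 133587360)))) (.node 4 (.node 2 (.node 1 (.leaf 133611840) (.leaf 70863413)) (.node 1 (.leaf 86438880) (.leaf 133636320))) (.node 2 (.node 1 (.leaf 90283749) (.leaf 133660800)) (.node 1 (.leaf 133685280) (.leaf 74957516))))) (.node 8 (.node 4 (.node 2 (.node 1 (.leaf 103583643) (.leaf 133709760)) (.node 1 (.leaf 133734240) (.leaf 16597565))) (.node 2 (.node 1 (.leaf 86536800) (.leaf 22498067)) (.node 1 (.leaf 86561280) (.leaf 120049611)))) (.node 4 (.node 2 (.node 1 (.leaf 133758720) (.leaf 70642803)) (.node 1 (.leaf 86585760) (.leaf 40966005))) (.node 2 (.node 1 (.leaf 128229385) (.leaf 133783200)) (.node 1 (.leaf 86610240) (.leaf 28953858))))))) (.node 32 (.node 16 (.node 8 (.node 4 (.node 2 (.node 1 (.leaf 105972475) (.leaf 38138037)) (.node 1 (.leaf 86659200) (.leaf 133807680))) (.node 2 (.node 1 (.leaf 133832160) (.leaf 132505997))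 (.node 1 (.leaf 86683680) (.leaf 133856640)))) (.node 4 (.node 2 (.node 1 (.leaf 130841687) (.leaf 24897112)) (.node 1 (.leaf 94370457) (.leaf 118073751))) (.node 2 (.node 1 (.leaf 86732640) (.leaf 133881120)) (.node 1 (.leaf 133905600) (.leaf 31411852))))) (.node 8 (.node 4 (.node 2 (.node 1 (.leaf 86781600) (.leaf 130146450)) (.node 1 (.leaf 132548494) (.leaf 133930080))) (.node 2 (.node 1 (.leaf 86830560) (.leaf 104533245)) (.node 1 (.leaf 86855040) (.leaf 133954560)))) (.node 4 (.node 2 (.node 1 (.leaf 133979040) (.leaf 134003520)) (.node 1 (.leaf 134028000) (.leaf 74169339))) (.node 2 (.node 1 (.leaf 86928480) (.leaf 38451743)) (.node 1 (.leaf 134052480) (.leaf 134076960)))))) (.node 16 (.node 8 (.node 4 (.node 2 (.node 1 (.leaf 134101440) (.leaf 88447562)) (.node 1 (.leaf 102270221) (.leaf 134125920))) (.node 2 (.node 1 (.leaf 87001920) (.leaf 100295806)) (.node 1 (.leaf 87026400) (.leaf 119886248)))) (.node 4 (.node 2 (.node 1 (.leaf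 87050880) (.leaf 95498228)) (.node 1 (.leaf 128969985) (.leaf 134150400))) (.node 2 (.node 1 (.leaf 87124320) (.leaf 111357643)) (.node 1 (.leaf 92893828) (.leaf 24208738))))) (.node 8 (.node 4 (.node 2 (.node 1 (.leaf 87250756) (.leaf 134174880)) (.node 1 (.leaf 134199360) (.leaf 134223840))) (.node 2 (.node 1 (.leaf 87222240) (.leaf 134248320)) (.node 1 (.leaf 87271200) (.leaf 134272800)))) (.node 4 (.node 2 (.node 1 (.leaf 133871695) (.leaf 115893918)) (.node 1 (.leaf 87295680) (.leaf 134297280))) (.node 2 (.node 1 (.leaf 134321760) (.leaf 63417575)) (.node 1 (.leaf 87344640) (.node 1 (.leaf 72385031) (.leaf 91208369))))))))))))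

/-- Part 9 of `e0Tab`. -/
def e0Tab_9 : BT ℕ :=
  (.node 513 (.node 256 (.node 128 (.node 64 (.node 32 (.node 16 (.node 8 (.node 4 (.node 2 (.node 1 (.leaf 131613988) (.leaf 116548973)) (.node 1 (.leaf 134346240) (.leaf 88744486))) (.node 2 (.node 1 (.leaf 134370720) (.leaf 87442560)) (.node 1 (.leaf 117605064) (.leaf 134395200)))) (.node 4 (.node 2 (.node 1 (.leaf 128439439) (.leaf 87491520)) (.node 1 (.leaf 134419680) (.leaf 92522189))) (.node 2 (.node 1 (.leaf 99039986) (.leaf 87589440)) (.node 1 (.leaf 122518814) (.leaf 125499533))))) (.node 8 (.node 4 (.node 2 (.node 1 (.leaf 116274794) (.leaf 87662880)) (.node 1 (.leaf 127563799) (.leaf 87711840))) (.node 2 (.node 1 (.leaf 126018486) (.leaf 87785280)) (.node 1 (.leaf 134444160) (.leaf 134468640)))) (.node 4 (.node 2 (.node 1 (.leaf 129880357) (.leaf 133287520)) (.node 1 (.leaf 93574585) (.leaf 134493120))) (.node 2 (.node 1 (.leaf 134517600) (.leaf 134542080)) (.node 1 (.leaf 67755879)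 (.leaf 122934873)))))) (.node 16 (.node 8 (.node 4 (.node 2 (.node 1 (.leaf 47914727) (.leaf 107641433)) (.node 1 (.leaf 127935996) (.leaf 134566560))) (.node 2 (.node 1 (.leaf 55010418) (.leaf 95932860)) (.node 1 (.leaf 95340475) (.leaf 134591040)))) (.node 4 (.node 2 (.node 1 (.leaf 73812034) (.leaf 88054560)) (.node 1 (.leaf 134615520) (.leaf 131386569))) (.node 2 (.node 1 (.leaf 67665123) (.leaf 113576465)) (.node 1 (.leaf 134552721) (.leaf 88152480))))) (.node 8 (.node 4 (.node 2 (.node 1 (.leaf 130046405) (.leaf 134640000)) (.node 1 (.leaf 134664480) (.leaf 129653396))) (.node 2 (.node 1 (.leaf 134688960) (.leaf 88201440)) (.node 1 (.leaf 74694390) (.leaf 134713440)))) (.node 4 (.node 2 (.node 1 (.leaf 103344384) (.leaf 88250400)) (.node 1 (.leaf 134737920) (.leaf 134762400))) (.node 2 (.node 1 (.leaf 134786880) (.leaf 88323840)) (.node 1 (.leaf 134811360) (.leaf 134835840))))))) (.node 32 (.node 16 (.node 8 (.node 4 (.node 2 (.node 1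 (.leaf 134860320) (.leaf 98287324)) (.node 1 (.leaf 88399808) (.leaf 134884800))) (.node 2 (.node 1 (.leaf 134909280) (.leaf 121786651)) (.node 1 (.leaf 134933760) (.leaf 134958240)))) (.node 4 (.node 2 (.node 1 (.leaf 134982720) (.leaf 97515683)) (.node 1 (.leaf 107854074) (.leaf 88519680))) (.node 2 (.node 1 (.leaf 135007200) (.leaf 135031680)) (.node 1 (.leaf 132272405) (.leaf 95788759))))) (.node 8 (.node 4 (.node 2 (.node 1 (.leaf 117946365) (.leaf 135056160)) (.node 1 (.leaf 51301345) (.leaf 129351763))) (.node 2 (.node 1 (.leaf 135080640) (.leaf 88666560)) (.node 1 (.leaf 135105120) (.leaf 130609844)))) (.node 4 (.node 2 (.node 1 (.leaf 126495126) (.leaf 94322925)) (.node 1 (.leaf 22337990) (.leaf 88715520))) (.node 2 (.node 1 (.leaf 46009356) (.leaf 120561155)) (.node 1 (.leaf 133754315) (.leaf 114175228)))))) (.node 16 (.node 8 (.node 4 (.node 2 (.node 1 (.leaf 77154510) (.leaf 135129600)) (.node 1 (.leaf 70343554) (.leaf 114247932)))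 (.node 2 (.node 1 (.leaf 135154080) (.leaf 117577112)) (.node 1 (.leaf 135178560) (.leaf 88837920)))) (.node 4 (.node 2 (.node 1 (.leaf 135203040) (.leaf 131476488)) (.node 1 (.leaf 51140994) (.leaf 103795320))) (.node 2 (.node 1 (.leaf 30288674) (.leaf 135227520)) (.node 1 (.leaf 75451751) (.leaf 115758205))))) (.node 8 (.node 4 (.node 2 (.node 1 (.leaf 90694047) (.leaf 89009280)) (.node 1 (.leaf 47583683) (.leaf 89058240))) (.node 2 (.node 1 (.leaf 135252000) (.leaf 135276480)) (.node 1 (.leaf 117097398) (.leaf 89082720)))) (.node 4 (.node 2 (.node 1 (.leaf 121156448) (.leaf 135300960)) (.node 1 (.leaf 135325440) (.leaf 89131680))) (.node 2 (.node 1 (.leaf 131871022) (.leaf 89180640)) (.node 1 (.leaf 33857142) (.leaf 89205120)))))))) (.node 64 (.node 32 (.node 16 (.node 8 (.node 4 (.node 2 (.node 1 (.leaf 52394439) (.leaf 135349920)) (.node 1 (.leaf 44248753) (.leaf 131833958))) (.node 2 (.node 1 (.leaf 122062570) (.leaf 89254080)) (.node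 1 (.leaf 135374400) (.leaf 89303040)))) (.node 4 (.node 2 (.node 1 (.leaf 60250962) (.leaf 115558342)) (.node 1 (.leaf 135398880) (.leaf 89327520))) (.node 2 (.node 1 (.leaf 135423360) (.leaf 131816372)) (.node 1 (.leaf 110012496) (.leaf 96505422))))) (.node 8 (.node 4 (.node 2 (.node 1 (.leaf 77706132) (.leaf 102178750)) (.node 1 (.leaf 20092781) (.leaf 135447840))) (.node 2 (.node 1 (.leaf 19546114) (.leaf 89449920)) (.node 1 (.leaf 7809120) (.leaf 104048406)))) (.node 4 (.node 2 (.node 1 (.leaf 135472320) (.leaf 89474400)) (.node 1 (.leaf 135496800) (.leaf 89498880))) (.node 2 (.node 1 (.leaf 135521280) (.leaf 89523360)) (.node 1 (.leaf 46527262) (.leaf 135545760)))))) (.node 16 (.node 8 (.node 4 (.node 2 (.node 1 (.leaf 127005524) (.leaf 89572320)) (.node 1 (.leaf 27345955) (.leaf 135570240))) (.node 2 (.node 1 (.leaf 116706855) (.leaf 89670240)) (.node 1 (.leaf 130937043) (.leaf 135594720)))) (.node 4 (.node 2 (.node 1 (.leaf 50103148)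 (.leaf 89719200)) (.node 1 (.leaf 135619200) (.leaf 91529714))) (.node 2 (.node 1 (.leaf 135643680) (.leaf 117628151)) (.node 1 (.leaf 111637425) (.leaf 98763550))))) (.node 8 (.node 4 (.node 2 (.node 1 (.leaf 135668160) (.leaf 89841600)) (.node 1 (.leaf 18062230) (.leaf 107637821))) (.node 2 (.node 1 (.leaf 15712896) (.leaf 123899736)) (.node 1 (.leaf 135692640) (.leaf 91704798)))) (.node 4 (.node 2 (.node 1 (.leaf 44865838) (.leaf 89915040)) (.node 1 (.leaf 135717120) (.leaf 89939520))) (.node 2 (.node 1 (.leaf 133621867) (.leaf 135741600)) (.node 1 (.leaf 115670458) (.leaf 135766080))))))) (.node 32 (.node 16 (.node 8 (.node 4 (.node 2 (.node 1 (.leaf 44556291) (.leaf 117159940)) (.node 1 (.leaf 135790560) (.leaf 130965180))) (.node 2 (.node 1 (.leaf 132633318) (.leaf 90110880)) (.node 1 (.leaf 135815040) (.leaf 100641994)))) (.node 4 (.node 2 (.node 1 (.leaf 25868921) (.leaf 90159840)) (.node 1 (.leaf 45291872) (.leaf 119983891))) (.node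 2 (.node 1 (.leaf 118599459) (.leaf 132969552)) (.node 1 (.leaf 135839520) (.leaf 114695079))))) (.node 8 (.node 4 (.node 2 (.node 1 (.leaf 128958325) (.leaf 135864000)) (.node 1 (.leaf 94770305) (.leaf 90306720))) (.node 2 (.node 1 (.leaf 67982414) (.leaf 135888480)) (.node 1 (.leaf 24080632) (.leaf 131922331)))) (.node 4 (.node 2 (.node 1 (.leaf 135912960) (.leaf 90355680)) (.node 1 (.leaf 67445784) (.leaf 107872805))) (.node 2 (.node 1 (.leaf 135937440) (.leaf 90380160)) (.node 1 (.leaf 125713292) (.leaf 114390723)))))) (.node 16 (.node 8 (.node 4 (.node 2 (.node 1 (.leaf 135961920) (.leaf 90429120)) (.node 1 (.leaf 135986400) (.leaf 103984768))) (.node 2 (.node 1 (.leaf 136010880) (.leaf 90478080)) (.node 1 (.leaf 94166894) (.leaf 136035360)))) (.node 4 (.node 2 (.node 1 (.leaf 40142433) (.leaf 90527040)) (.node 1 (.leaf 82764383) (.leaf 90551520))) (.node 2 (.node 1 (.leaf 133183722) (.leaf 136059840)) (.node 1 (.leaf 136084320) (.leaf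 136108800))))) (.node 8 (.node 4 (.node 2 (.node 1 (.leaf 136133280) (.leaf 90600480)) (.node 1 (.leaf 136157760) (.leaf 136182240))) (.node 2 (.node 1 (.leaf 136206720) (.leaf 90624960)) (.node 1 (.leaf 136231200) (.leaf 136255680)))) (.node 4 (.node 2 (.node 1 (.leaf 61321873) (.leaf 117674823)) (.node 1 (.leaf 127638365) (.leaf 90722880))) (.node 2 (.node 1 (.leaf 117743234) (.leaf 101875214)) (.node 1 (.leaf 38814816) (.leaf 136280160))))))))) (.node 128 (.node 64 (.node 32 (.node 16 (.node 8 (.node 4 (.node 2 (.node 1 (.leaf 136304640) (.leaf 136329120)) (.node 1 (.leaf 136353600) (.leaf 111138909))) (.node 2 (.node 1 (.leaf 136378080) (.leaf 136402560)) (.node 1 (.leaf 136427040) (.leaf 97335464)))) (.node 4 (.node 2 (.node 1 (.leaf 136451520) (.leaf 90869760)) (.node 1 (.leaf 90814541) (.leaf 90894240))) (.node 2 (.node 1 (.leaf 136476000) (.leaf 124297024)) (.node 1 (.leaf 125935485) (.leaf 124329326))))) (.node 8 (.node 4 (.node 2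 (.node 1 (.leaf 129396338) (.leaf 90967680)) (.node 1 (.leaf 8004960) (.leaf 136500480))) (.node 2 (.node 1 (.leaf 44942228) (.leaf 104737945)) (.node 1 (.leaf 136524960) (.leaf 91041120)))) (.node 4 (.node 2 (.node 1 (.leaf 136549440) (.leaf 136573920)) (.node 1 (.leaf 135456698) (.leaf 91090080))) (.node 2 (.node 1 (.leaf 9689269) (.leaf 91114560)) (.node 1 (.leaf 73934441) (.leaf 113038533)))))) (.node 16 (.node 8 (.node 4 (.node 2 (.node 1 (.leaf 83702080) (.leaf 116786104)) (.node 1 (.leaf 128541007) (.leaf 91236960))) (.node 2 (.node 1 (.leaf 120383761) (.leaf 124578906)) (.node 1 (.leaf 136598400) (.leaf 97738177)))) (.node 4 (.node 2 (.node 1 (.leaf 136622880) (.leaf 91334880)) (.node 1 (.leaf 126188632) (.leaf 91462761))) (.node 2 (.node 1 (.leaf 79780047) (.leaf 91383840)) (.node 1 (.leaf 136647360) (.leaf 136671840))))) (.node 8 (.node 4 (.node 2 (.node 1 (.leaf 129024855) (.leaf 136696320)) (.node 1 (.leaf 104121966) (.leaf 116554799)))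 (.node 2 (.node 1 (.leaf 122682956) (.leaf 136720800)) (.node 1 (.leaf 51471155) (.leaf 136745280)))) (.node 4 (.node 2 (.node 1 (.leaf 62273997) (.leaf 124470872)) (.node 1 (.leaf 136769760) (.leaf 121293447))) (.node 2 (.node 1 (.leaf 136794240) (.leaf 91604160)) (.node 1 (.leaf 37797083) (.leaf 91653120))))))) (.node 32 (.node 16 (.node 8 (.node 4 (.node 2 (.node 1 (.leaf 46256716) (.leaf 134739919)) (.node 1 (.leaf 101416817) (.leaf 136468234))) (.node 2 (.node 1 (.leaf 133470891) (.leaf 93876727)) (.node 1 (.leaf 136818720) (.leaf 111759959)))) (.node 4 (.node 2 (.node 1 (.leaf 129430044) (.leaf 91800000)) (.node 1 (.leaf 136843200) (.leaf 136867680))) (.node 2 (.node 1 (.leaf 94285365) (.leaf 91873440)) (.node 1 (.leaf 136892160) (.leaf 91897920))))) (.node 8 (.node 4 (.node 2 (.node 1 (.leaf 136916640) (.leaf 115385797)) (.node 1 (.leaf 100636868) (.leaf 136941120))) (.node 2 (.node 1 (.leaf 118847114) (.leaf 91971360)) (.node 1 (.leaf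 136965600) (.leaf 133522368)))) (.node 4 (.node 2 (.node 1 (.leaf 136990080) (.leaf 132998821)) (.node 1 (.leaf 34682421) (.leaf 92044800))) (.node 2 (.node 1 (.leaf 137014560) (.leaf 137039040)) (.node 1 (.leaf 133692314) (.leaf 111673773)))))) (.node 16 (.node 8 (.node 4 (.node 2 (.node 1 (.leaf 58587000) (.leaf 92118240)) (.node 1 (.leaf 137063520) (.leaf 137088000))) (.node 2 (.node 1 (.leaf 128768017) (.leaf 92167200)) (.node 1 (.leaf 84919929) (.leaf 109455430)))) (.node 4 (.node 2 (.node 1 (.leaf 132236681) (.leaf 92191680)) (.node 1 (.leaf 137112480) (.leaf 95557836))) (.node 2 (.node 1 (.leaf 100865807) (.leaf 105722203)) (.node 1 (.leaf 121842751) (.leaf 92240640))))) (.node 8 (.node 4 (.node 2 (.node 1 (.leaf 80927802) (.leaf 92289600)) (.node 1 (.leaf 137136960) (.leaf 114255675))) (.node 2 (.node 1 (.leaf 91497674) (.leaf 92338560)) (.node 1 (.leaf 137161440) (.leaf 92363040)))) (.node 4 (.node 2 (.node 1 (.leaf 137185920) (.leaf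 115132039)) (.node 1 (.leaf 118324527) (.leaf 116074008))) (.node 2 (.node 1 (.leaf 100538475) (.leaf 92436480)) (.node 1 (.leaf 137210400) (.leaf 125994892)))))))) (.node 64 (.node 32 (.node 16 (.node 8 (.node 4 (.node 2 (.node 1 (.leaf 20769627) (.leaf 92485440)) (.node 1 (.leaf 137234880) (.leaf 92534400))) (.node 2 (.node 1 (.leaf 137259360) (.leaf 137283840)) (.node 1 (.leaf 92319579) (.leaf 105281598)))) (.node 4 (.node 2 (.node 1 (.leaf 92903140) (.leaf 99214218)) (.node 1 (.leaf 43365345) (.leaf 96853361))) (.node 2 (.node 1 (.leaf 135295607) (.leaf 92632320)) (.node 1 (.leaf 118709255) (.leaf 98126643))))) (.node 8 (.node 4 (.node 2 (.node 1 (.leaf 84001533) (.leaf 137135699)) (.node 1 (.leaf 128832456) (.leaf 92681280))) (.node 2 (.node 1 (.leaf 36742437) (.leaf 117984160)) (.node 1 (.leaf 137308320) (.leaf 92730240)))) (.node 4 (.node 2 (.node 1 (.leaf 95439256) (.leaf 108426494)) (.node 1 (.leaf 133317336) (.leaf 109311614))) (.node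 2 (.node 1 (.leaf 137332800) (.leaf 92803680)) (.node 1 (.leaf 8249760) (.leaf 137357280)))))) (.node 16 (.node 8 (.node 4 (.node 2 (.node 1 (.leaf 137381760) (.leaf 92828160)) (.node 1 (.leaf 137406240) (.leaf 106316793))) (.node 2 (.node 1 (.leaf 137430720) (.leaf 110423357)) (.node 1 (.leaf 14095424) (.leaf 92926080)))) (.node 4 (.node 2 (.node 1 (.leaf 29547920) (.leaf 137455200)) (.node 1 (.leaf 137479680) (.leaf 92975040))) (.node 2 (.node 1 (.leaf 137504160) (.leaf 92999520)) (.node 1 (.leaf 48272504) (.leaf 137037280))))) (.node 8 (.node 4 (.node 2 (.node 1 (.leaf 60628779) (.leaf 93121920)) (.node 1 (.leaf 109621562) (.leaf 137528640))) (.node 2 (.node 1 (.leaf 115004062) (.leaf 135709350)) (.node 1 (.leaf 137553120) (.leaf 93170880)))) (.node 4 (.node 2 (.node 1 (.leaf 137577600) (.leaf 137602080)) (.node 1 (.leaf 137626560) (.leaf 93219840))) (.node 2 (.node 1 (.leaf 24131545) (.leaf 119085779)) (.node 1 (.leaf 64620007) (.leaf 118486446)))))))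 (.node 32 (.node 16 (.node 8 (.node 4 (.node 2 (.node 1 (.leaf 134340456) (.leaf 93268800)) (.node 1 (.leaf 130643262) (.leaf 128732888))) (.node 2 (.node 1 (.leaf 137651040) (.leaf 93317760)) (.node 1 (.leaf 137675520) (.leaf 93342240)))) (.node 4 (.node 2 (.node 1 (.leaf 64465959) (.leaf 93391200)) (.node 1 (.leaf 124676273) (.leaf 137700000))) (.node 2 (.node 1 (.leaf 101492690) (.leaf 93415680)) (.node 1 (.leaf 51888675) (.leaf 137724480))))) (.node 8 (.node 4 (.node 2 (.node 1 (.leaf 137748960) (.leaf 93464640)) (.node 1 (.leaf 137773440) (.leaf 100177287))) (.node 2 (.node 1 (.leaf 48465304) (.leaf 93489120)) (.node 1 (.leaf 137797920) (.leaf 137822400)))) (.node 4 (.node 2 (.node 1 (.leaf 137846880) (.leaf 137871360)) (.node 1 (.leaf 40598521) (.leaf 93538080))) (.node 2 (.node 1 (.leaf 112578368) (.leaf 98260884)) (.node 1 (.leaf 137895840) (.leaf 98088128)))))) (.node 16 (.node 8 (.node 4 (.node 2 (.node 1 (.leaf 137920320) (.leaf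 93611520)) (.node 1 (.leaf 34349499) (.leaf 134226709))) (.node 2 (.node 1 (.leaf 108225728) (.leaf 99461753)) (.node 1 (.leaf 137944800) (.leaf 93684960)))) (.node 4 (.node 2 (.node 1 (.leaf 133560245) (.leaf 128651306)) (.node 1 (.leaf 97055969) (.leaf 137969280))) (.node 2 (.node 1 (.leaf 76921609) (.leaf 93758400)) (.node 1 (.leaf 128859018) (.leaf 118472732))))) (.node 8 (.node 4 (.node 2 (.node 1 (.leaf 137993760) (.leaf 93782880)) (.node 1 (.leaf 138018240) (.leaf 129285259))) (.node 2 (.node 1 (.leaf 138042720) (.leaf 119782723)) (.node 1 (.leaf 138067200) (.leaf 125110638)))) (.node 4 (.node 2 (.node 1 (.leaf 33950263) (.leaf 134883849)) (.node 1 (.leaf 138091680) (.leaf 93905280))) (.node 2 (.node 1 (.leaf 35816061) (.leaf 123015929)) (.node 1 (.leaf 108058749) (.node 1 (.leaf 93954240) (.leaf 126421651))))))))))) (.node 256 (.node 128 (.node 64 (.node 32 (.node 16 (.node 8 (.node 4 (.node 2 (.node 1 (.leaf 110772703) (.leaf 138116160))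 (.node 1 (.leaf 138140640) (.leaf 138165120))) (.node 2 (.node 1 (.leaf 138189600) (.leaf 129544833)) (.node 1 (.leaf 94125600) (.leaf 25969009)))) (.node 4 (.node 2 (.node 1 (.leaf 99737307) (.leaf 131186026)) (.node 1 (.leaf 94174560) (.leaf 52031819))) (.node 2 (.node 1 (.leaf 138214080) (.leaf 138238560)) (.node 1 (.leaf 94223520) (.leaf 125543313))))) (.node 8 (.node 4 (.node 2 (.node 1 (.leaf 94248000) (.leaf 138263040)) (.node 1 (.leaf 127989580) (.leaf 29173711))) (.node 2 (.node 1 (.leaf 138287520) (.leaf 91929639)) (.node 1 (.leaf 94394880) (.leaf 138312000)))) (.node 4 (.node 2 (.node 1 (.leaf 94419360) (.leaf 52848489)) (.node 1 (.leaf 94443840) (.leaf 106180511))) (.node 2 (.node 1 (.leaf 128910476) (.leaf 138336480)) (.node 1 (.leaf 94492800) (.leaf 131358676)))))) (.node 16 (.node 8 (.node 4 (.node 2 (.node 1 (.leaf 138360960) (.leaf 72027739)) (.node 1 (.leaf 138385440) (.leaf 137299472))) (.node 2 (.node 1 (.leaf 138409920)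 (.leaf 21211925)) (.node 1 (.leaf 94566240) (.leaf 60450669)))) (.node 4 (.node 2 (.node 1 (.leaf 119163277) (.leaf 15986004)) (.node 1 (.leaf 94615200) (.leaf 70913013))) (.node 2 (.node 1 (.leaf 97101358) (.leaf 43121858)) (.node 1 (.leaf 138434400) (.leaf 110459281))))) (.node 8 (.node 4 (.node 2 (.node 1 (.leaf 94664160) (.leaf 85814848)) (.node 1 (.leaf 124073928) (.leaf 138458880))) (.node 2 (.node 1 (.leaf 138483360) (.leaf 138507840)) (.node 1 (.leaf 96617576) (.leaf 106420225)))) (.node 4 (.node 2 (.node 1 (.leaf 115508601) (.leaf 138532320)) (.node 1 (.leaf 126641097) (.leaf 11620666))) (.node 2 (.node 1 (.leaf 94786560) (.leaf 138556800)) (.node 1 (.leaf 136965629) (.leaf 112087350))))))) (.node 32 (.node 16 (.node 8 (.node 4 (.node 2 (.node 1 (.leaf 94811040) (.leaf 115817122)) (.node 1 (.leaf 123992960) (.leaf 138581280))) (.node 2 (.node 1 (.leaf 138605760) (.leaf 138630240)) (.node 1 (.leaf 94860000) (.leaf 138654720)))) (.node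 4 (.node 2 (.node 1 (.leaf 138679200) (.leaf 138703680)) (.node 1 (.leaf 95006880) (.leaf 8568000))) (.node 2 (.node 1 (.leaf 138728160) (.leaf 138507108)) (.node 1 (.leaf 95031360) (.leaf 97409975))))) (.node 8 (.node 4 (.node 2 (.node 1 (.leaf 101580765) (.leaf 138752640)) (.node 1 (.leaf 138777120) (.leaf 138801600))) (.node 2 (.node 1 (.leaf 95104800) (.leaf 99703459)) (.node 1 (.leaf 105789717) (.leaf 138826080)))) (.node 4 (.node 2 (.node 1 (.leaf 95178240) (.leaf 124723561)) (.node 1 (.leaf 138850560) (.leaf 138875040))) (.node 2 (.node 1 (.leaf 95227200) (.leaf 104481909)) (.node 1 (.leaf 95300640) (.leaf 138899520)))))) (.node 16 (.node 8 (.node 4 (.node 2 (.node 1 (.leaf 138924000) (.leaf 138948480)) (.node 1 (.leaf 95349600) (.leaf 137467789))) (.node 2 (.node 1 (.leaf 95398560) (.leaf 20016852)) (.node 1 (.leaf 114163697) (.leaf 138972960)))) (.node 4 (.node 2 (.node 1 (.leaf 95472000) (.leaf 133783129)) (.node 1 (.leaf 95520960)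 (.leaf 87863960))) (.node 2 (.node 1 (.leaf 138997440) (.leaf 139021920)) (.node 1 (.leaf 122151942) (.leaf 100667014))))) (.node 8 (.node 4 (.node 2 (.node 1 (.leaf 139046400) (.leaf 77950355)) (.node 1 (.leaf 139070880) (.leaf 47793412))) (.node 2 (.node 1 (.leaf 134293422) (.leaf 139095360)) (.node 1 (.leaf 95814720) (.leaf 127741847)))) (.node 4 (.node 2 (.node 1 (.leaf 95839200) (.leaf 120169727)) (.node 1 (.leaf 134993313) (.leaf 52164033))) (.node 2 (.node 1 (.leaf 139119840) (.leaf 139144320)) (.node 1 (.leaf 139168800) (.leaf 30872663)))))))) (.node 64 (.node 32 (.node 16 (.node 8 (.node 4 (.node 2 (.node 1 (.leaf 100150326) (.leaf 103717493)) (.node 1 (.leaf 95961600) (.leaf 68216903))) (.node 2 (.node 1 (.leaf 136562362) (.leaf 36478092)) (.node 1 (.leaf 139193280) (.leaf 8739360)))) (.node 4 (.node 2 (.node 1 (.leaf 136643106) (.leaf 139217760)) (.node 1 (.leaf 96035040) (.leaf 136402706))) (.node 2 (.node 1 (.leaf 139242240) (.leaf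 83782041)) (.node 1 (.leaf 108273768) (.leaf 139065024))))) (.node 8 (.node 4 (.node 2 (.node 1 (.leaf 125297039) (.leaf 79617839)) (.node 1 (.leaf 139266720) (.leaf 139291200))) (.node 2 (.node 1 (.leaf 96181920) (.leaf 130791735)) (.node 1 (.leaf 101463593) (.leaf 75814740)))) (.node 4 (.node 2 (.node 1 (.leaf 96206400) (.leaf 139315680)) (.node 1 (.leaf 139340160) (.leaf 139364640))) (.node 2 (.node 1 (.leaf 122470785) (.leaf 139389120)) (.node 1 (.leaf 136326278) (.leaf 15917678)))))) (.node 16 (.node 8 (.node 4 (.node 2 (.node 1 (.leaf 96279840) (.leaf 139413600)) (.node 1 (.leaf 116870717) (.leaf 93461193))) (.node 2 (.node 1 (.leaf 125250594) (.leaf 139438080)) (.node 1 (.leaf 139462560) (.leaf 139487040)))) (.node 4 (.node 2 (.node 1 (.leaf 96426720) (.leaf 109294111)) (.node 1 (.leaf 127871236) (.leaf 139511520))) (.node 2 (.node 1 (.leaf 96451200) (.leaf 75568716)) (.node 1 (.leaf 133411017) (.leaf 139536000))))) (.node 8 (.node 4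 (.node 2 (.node 1 (.leaf 96475680) (.leaf 139560480)) (.node 1 (.leaf 96524640) (.leaf 8861760))) (.node 2 (.node 1 (.leaf 139584960) (.leaf 139609440)) (.node 1 (.leaf 96549120) (.leaf 113088940)))) (.node 4 (.node 2 (.node 1 (.leaf 139633920) (.leaf 138221308)) (.node 1 (.leaf 100505690) (.leaf 128391965))) (.node 2 (.node 1 (.leaf 126817331) (.leaf 72806234)) (.node 1 (.leaf 96622560) (.leaf 121114821))))))) (.node 32 (.node 16 (.node 8 (.node 4 (.node 2 (.node 1 (.leaf 139658400) (.leaf 113727921)) (.node 1 (.leaf 132320302) (.leaf 69642193))) (.node 2 (.node 1 (.leaf 96671520) (.leaf 8957375)) (.node 1 (.leaf 139682880) (.leaf 131691078)))) (.node 4 (.node 2 (.node 1 (.leaf 96696000) (.leaf 139707360)) (.node 1 (.leaf 113879786) (.leaf 110985018))) (.node 2 (.node 1 (.leaf 134361346) (.leaf 139731840)) (.node 1 (.leaf 139756320) (.leaf 139780800))))) (.node 8 (.node 4 (.node 2 (.node 1 (.leaf 96769440) (.leaf 32900676)) (.node 1 (.leaf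 108734630) (.leaf 139805280))) (.node 2 (.node 1 (.leaf 96793920) (.leaf 31566478)) (.node 1 (.leaf 96891840) (.leaf 110544398)))) (.node 4 (.node 2 (.node 1 (.leaf 102068637) (.leaf 81468745)) (.node 1 (.leaf 96940800) (.leaf 139829760))) (.node 2 (.node 1 (.leaf 139854240) (.leaf 139878720)) (.node 1 (.leaf 138664357) (.leaf 139903200)))))) (.node 16 (.node 8 (.node 4 (.node 2 (.node 1 (.leaf 96989760) (.leaf 67292503)) (.node 1 (.leaf 97014240) (.leaf 139927680))) (.node 2 (.node 1 (.leaf 139952160) (.leaf 139976640)) (.node 1 (.leaf 97063200) (.leaf 117279709)))) (.node 4 (.node 2 (.node 1 (.leaf 120650837) (.leaf 140001120)) (.node 1 (.leaf 110196019) (.leaf 140025600))) (.node 2 (.node 1 (.leaf 140050080) (.leaf 135243774)) (.node 1 (.leaf 109411408) (.leaf 38199795))))) (.node 8 (.node 4 (.node 2 (.node 1 (.leaf 97283520) (.leaf 108777386)) (.node 1 (.leaf 130753538) (.leaf 11489064))) (.node 2 (.node 1 (.leaf 140074560) (.leaf 138400251))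 (.node 1 (.leaf 135932041) (.leaf 87771291)))) (.node 4 (.node 2 (.node 1 (.leaf 97381440) (.leaf 140099040)) (.node 1 (.leaf 140123520) (.leaf 86319520))) (.node 2 (.node 1 (.leaf 97430400) (.leaf 140148000)) (.node 1 (.leaf 124749014) (.leaf 76869422))))))))) (.node 128 (.node 64 (.node 32 (.node 16 (.node 8 (.node 4 (.node 2 (.node 1 (.leaf 122527773) (.leaf 140172480)) (.node 1 (.leaf 121211467) (.leaf 140196960))) (.node 2 (.node 1 (.leaf 97577280) (.leaf 97763114)) (.node 1 (.leaf 97601760) (.leaf 9033120)))) (.node 4 (.node 2 (.node 1 (.leaf 122438773) (.leaf 140221440)) (.node 1 (.leaf 97626240) (.leaf 121484677))) (.node 2 (.node 1 (.leaf 140245920) (.leaf 33682868)) (.node 1 (.leaf 97650720) (.leaf 140270400))))) (.node 8 (.node 4 (.node 2 (.node 1 (.leaf 129180363) (.leaf 103875163)) (.node 1 (.leaf 140294880) (.leaf 140319360))) (.node 2 (.node 1 (.leaf 97773120) (.leaf 128115151)) (.node 1 (.leaf 140343840) (.leaf 133354068))))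 (.node 4 (.node 2 (.node 1 (.leaf 97822080) (.leaf 80028093)) (.node 1 (.leaf 140368320) (.leaf 133242375))) (.node 2 (.node 1 (.leaf 97846560) (.leaf 55379966)) (.node 1 (.leaf 138553281) (.leaf 140392800)))))) (.node 16 (.node 8 (.node 4 (.node 2 (.node 1 (.leaf 140417280) (.leaf 42090293)) (.node 1 (.leaf 140441760) (.leaf 107118797))) (.node 2 (.node 1 (.leaf 97993440) (.leaf 140466240)) (.node 1 (.leaf 140490720) (.leaf 31893124)))) (.node 4 (.node 2 (.node 1 (.leaf 113407223) (.leaf 16923645)) (.node 1 (.leaf 140515200) (.leaf 64824059))) (.node 2 (.node 1 (.leaf 135484586) (.leaf 81261761)) (.node 1 (.leaf 98213760) (.leaf 137100038))))) (.node 8 (.node 4 (.node 2 (.node 1 (.leaf 119265928) (.leaf 9155520)) (.node 1 (.leaf 123921084) (.leaf 140539680))) (.node 2 (.node 1 (.leaf 98336160) (.leaf 140564160)) (.node 1 (.leaf 139390898) (.leaf 140588640)))) (.node 4 (.node 2 (.node 1 (.leaf 98360640) (.leaf 140613120)) (.node 1 (.leaf 133647476)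 (.leaf 29209158))) (.node 2 (.node 1 (.leaf 140637600) (.leaf 99407647)) (.node 1 (.leaf 140662080) (.leaf 128874149))))))) (.node 32 (.node 16 (.node 8 (.node 4 (.node 2 (.node 1 (.leaf 140686560) (.leaf 140711040)) (.node 1 (.leaf 98483040) (.leaf 140735520))) (.node 2 (.node 1 (.leaf 111067063) (.leaf 129183734)) (.node 1 (.leaf 98532000) (.leaf 9204480)))) (.node 4 (.node 2 (.node 1 (.leaf 140760000) (.leaf 140784480)) (.node 1 (.leaf 133811054) (.leaf 53042046))) (.node 2 (.node 1 (.leaf 140808960) (.leaf 140833440)) (.node 1 (.leaf 140857920) (.leaf 140882400))))) (.node 8 (.node 4 (.node 2 (.node 1 (.leaf 103691544) (.leaf 140906880)) (.node 1 (.leaf 140931360) (.leaf 74817756))) (.node 2 (.node 1 (.leaf 103496595) (.leaf 140955840)) (.node 1 (.leaf 140980320) (.leaf 41246106)))) (.node 4 (.node 2 (.node 1 (.leaf 98923680) (.leaf 141004800)) (.node 1 (.leaf 141029280) (.leaf 131440841))) (.node 2 (.node 1 (.leaf 141053760) (.leaf 134064652))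 (.node 1 (.leaf 98997120) (.leaf 125034230)))))) (.node 16 (.node 8 (.node 4 (.node 2 (.node 1 (.leaf 99046080) (.leaf 70134521)) (.node 1 (.leaf 141078240) (.leaf 49940300))) (.node 2 (.node 1 (.leaf 128594027) (.leaf 139201144)) (.node 1 (.leaf 99119520) (.leaf 63234791)))) (.node 4 (.node 2 (.node 1 (.leaf 103138085) (.leaf 9302400)) (.node 1 (.leaf 140854501) (.leaf 72459211))) (.node 2 (.node 1 (.leaf 99241920) (.leaf 14574797)) (.node 1 (.leaf 141102720) (.leaf 141127200))))) (.node 8 (.node 4 (.node 2 (.node 1 (.leaf 139112464) (.leaf 141151680)) (.node 1 (.leaf 99364320) (.leaf 137741066))) (.node 2 (.node 1 (.leaf 129725542) (.leaf 120525574)) (.node 1 (.leaf 141176160) (.leaf 70601708)))) (.node 4 (.node 2 (.node 1 (.leaf 115242522) (.leaf 134419571)) (.node 1 (.leaf 123041371) (.leaf 141200640))) (.node 2 (.node 1 (.leaf 99511200) (.leaf 39559493)) (.node 1 (.leaf 109184784) (.leaf 129594147)))))))) (.node 64 (.node 32 (.node 16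 (.node 8 (.node 4 (.node 2 (.node 1 (.leaf 120117575) (.leaf 56815196)) (.node 1 (.leaf 99584640) (.leaf 141225120))) (.node 2 (.node 1 (.leaf 141249600) (.leaf 76461190)) (.node 1 (.leaf 119907356) (.leaf 141274080)))) (.node 4 (.node 2 (.node 1 (.leaf 99658080) (.leaf 134507926)) (.node 1 (.leaf 125388403) (.leaf 83509509))) (.node 2 (.node 1 (.leaf 139908168) (.leaf 100743991)) (.node 1 (.leaf 111787699) (.leaf 56299271))))) (.node 8 (.node 4 (.node 2 (.node 1 (.leaf 109442668) (.leaf 94361471)) (.node 1 (.leaf 99780480) (.leaf 35285480))) (.node 2 (.node 1 (.leaf 141298560) (.leaf 58234530)) (.node 1 (.leaf 132675536) (.leaf 123826082)))) (.node 4 (.node 2 (.node 1 (.leaf 116327158) (.leaf 97119985)) (.node 1 (.leaf 116352923) (.leaf 139699882))) (.node 2 (.node 1 (.leaf 141323040) (.leaf 141347520)) (.node 1 (.leaf 100000800) (.leaf 141372000)))))) (.node 16 (.node 8 (.node 4 (.node 2 (.node 1 (.leaf 124646450) (.leaf 141396480)) (.node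 1 (.leaf 136858494) (.leaf 96377904))) (.node 2 (.node 1 (.leaf 127041676) (.leaf 141420960)) (.node 1 (.leaf 116848522) (.leaf 141445440)))) (.node 4 (.node 2 (.node 1 (.leaf 100221120) (.leaf 140462252)) (.node 1 (.leaf 141469920) (.leaf 141494400))) (.node 2 (.node 1 (.leaf 132394713) (.leaf 87196789)) (.node 1 (.leaf 100319040) (.leaf 107170050))))) (.node 8 (.node 4 (.node 2 (.node 1 (.leaf 116598248) (.leaf 86047413)) (.node 1 (.leaf 124619356) (.leaf 141518880))) (.node 2 (.node 1 (.leaf 124404414) (.leaf 141543360)) (.node 1 (.leaf 100416960) (.leaf 141567840)))) (.node 4 (.node 2 (.node 1 (.leaf 141592320) (.leaf 52608238)) (.node 1 (.leaf 100465920) (.leaf 108458109))) (.node 2 (.node 1 (.leaf 122417397) (.leaf 133025272)) (.node 1 (.leaf 100563840) (.leaf 134737253))))))) (.node 32 (.node 16 (.node 8 (.node 4 (.node 2 (.node 1 (.leaf 125469162) (.leaf 23310356)) (.node 1 (.leaf 100710720) (.leaf 22752648))) (.node 2 (.node 1 (.leaf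 138254301) (.leaf 141616800)) (.node 1 (.leaf 124860365) (.leaf 130814846)))) (.node 4 (.node 2 (.node 1 (.leaf 141641280) (.leaf 141665760)) (.node 1 (.leaf 100808640) (.leaf 122049114))) (.node 2 (.node 1 (.leaf 100833120) (.leaf 51354038)) (.node 1 (.leaf 106933070) (.leaf 141690240))))) (.node 8 (.node 4 (.node 2 (.node 1 (.leaf 100882080) (.leaf 141714720)) (.node 1 (.leaf 141739200) (.leaf 71229543))) (.node 2 (.node 1 (.leaf 100955520) (.leaf 135148107)) (.node 1 (.leaf 101004480) (.leaf 54810042)))) (.node 4 (.node 2 (.node 1 (.leaf 101028960) (.leaf 69411384)) (.node 1 (.leaf 119172887) (.leaf 62319480))) (.node 2 (.node 1 (.leaf 134430859) (.leaf 114404609)) (.node 1 (.leaf 101102400) (.leaf 141763680)))))) (.node 16 (.node 8 (.node 4 (.node 2 (.node 1 (.leaf 106364039) (.leaf 96826023)) (.node 1 (.leaf 101126880) (.leaf 141788160))) (.node 2 (.node 1 (.leaf 141812640) (.leaf 141837120)) (.node 1 (.leaf 121299923) (.leaf 141861600))))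 (.node 4 (.node 2 (.node 1 (.leaf 101175840) (.leaf 126925465)) (.node 1 (.leaf 121070732) (.leaf 41885889))) (.node 2 (.node 1 (.leaf 126983415) (.leaf 93884813)) (.node 1 (.leaf 141886080) (.leaf 14976871))))) (.node 8 (.node 4 (.node 2 (.node 1 (.leaf 141910560) (.leaf 82188593)) (.node 1 (.leaf 124130960) (.leaf 141935040))) (.node 2 (.node 1 (.leaf 101518560) (.leaf 141959520)) (.node 1 (.leaf 101543040) (.leaf 50747675)))) (.node 4 (.node 2 (.node 1 (.leaf 124787922) (.leaf 136514662)) (.node 1 (.leaf 113199335) (.leaf 12021504))) (.node 2 (.node 1 (.leaf 141984000) (.leaf 83331538)) (.node 1 (.leaf 101616480) (.node 1 (.leaf 142008480) (.leaf 135261561))))))))))))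

/-- Part 10 of `e0Tab`. -/
def e0Tab_10 : BT ℕ :=
  (.node 513 (.node 256 (.node 128 (.node 64 (.node 32 (.node 16 (.node 8 (.node 4 (.node 2 (.node 1 (.leaf 58848919) (.leaf 101665440)) (.node 1 (.leaf 142032960) (.leaf 141711417))) (.node 2 (.node 1 (.leaf 142057440) (.leaf 101689920)) (.node 1 (.leaf 106097982) (.leaf 140114221)))) (.node 4 (.node 2 (.node 1 (.leaf 98451113) (.leaf 125702826)) (.node 1 (.leaf 142081920) (.leaf 101738880))) (.node 2 (.node 1 (.leaf 138781465) (.leaf 134696822)) (.node 1 (.leaf 11577746) (.leaf 101787840))))) (.node 8 (.node 4 (.node 2 (.node 1 (.leaf 120578539) (.leaf 140243988)) (.node 1 (.leaf 142106400) (.leaf 142130880))) (.node 2 (.node 1 (.leaf 90222303) (.leaf 142155360)) (.node 1 (.leaf 78860016) (.leaf 142179840)))) (.node 4 (.node 2 (.node 1 (.leaf 142204320) (.leaf 101885760)) (.node 1 (.leaf 118611882) (.leaf 139789021))) (.node 2 (.node 1 (.leaf 59072371) (.leaf 101959200)) (.node 1 (.leaf 142228800)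 (.leaf 135021085)))))) (.node 16 (.node 8 (.node 4 (.node 2 (.node 1 (.leaf 142253280) (.leaf 117715709)) (.node 1 (.leaf 142277760) (.leaf 102032640))) (.node 2 (.node 1 (.leaf 142302240) (.leaf 142326720)) (.node 1 (.leaf 129036011) (.leaf 126056715)))) (.node 4 (.node 2 (.node 1 (.leaf 142351200) (.leaf 102130560)) (.node 1 (.leaf 142375680) (.leaf 142400160))) (.node 2 (.node 1 (.leaf 142424640) (.leaf 102204000)) (.node 1 (.leaf 135783510) (.leaf 142449120))))) (.node 8 (.node 4 (.node 2 (.node 1 (.leaf 142473600) (.leaf 102277440)) (.node 1 (.leaf 142498080) (.leaf 142522560))) (.node 2 (.node 1 (.leaf 106055299) (.leaf 132084224)) (.node 1 (.leaf 142547040) (.leaf 142571520)))) (.node 4 (.node 2 (.node 1 (.leaf 80568786) (.leaf 102350880)) (.node 1 (.leaf 142596000) (.leaf 140595395))) (.node 2 (.node 1 (.leaf 142620480) (.leaf 142644960)) (.node 1 (.leaf 142669440) (.leaf 127054020))))))) (.node 32 (.node 16 (.node 8 (.node 4 (.node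 2 (.node 1 (.leaf 41824062) (.leaf 108643473)) (.node 1 (.leaf 94910977) (.leaf 107257378))) (.node 2 (.node 1 (.leaf 127410630) (.leaf 102546720)) (.node 1 (.leaf 36827802) (.leaf 102595680)))) (.node 4 (.node 2 (.node 1 (.leaf 102398857) (.leaf 138031012)) (.node 1 (.leaf 142693920) (.leaf 102669120))) (.node 2 (.node 1 (.leaf 135579190) (.leaf 136919711)) (.node 1 (.leaf 109668429) (.leaf 102693600))))) (.node 8 (.node 4 (.node 2 (.node 1 (.leaf 142718400) (.leaf 102718080)) (.node 1 (.leaf 25801378) (.leaf 142742880))) (.node 2 (.node 1 (.leaf 60114790) (.leaf 102767040)) (.node 1 (.leaf 142767360) (.leaf 120017928)))) (.node 4 (.node 2 (.node 1 (.leaf 142791840) (.leaf 142816320)) (.node 1 (.leaf 120438761) (.leaf 142840800))) (.node 2 (.node 1 (.leaf 142865280) (.leaf 102889440)) (.node 1 (.leaf 114648379) (.leaf 102962880)))))) (.node 16 (.node 8 (.node 4 (.node 2 (.node 1 (.leaf 132938924) (.leaf 102987360)) (.node 1 (.leaf 142889760)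 (.leaf 103109760))) (.node 2 (.node 1 (.leaf 16361891) (.leaf 121600088)) (.node 1 (.leaf 54718824) (.leaf 103183200)))) (.node 4 (.node 2 (.node 1 (.leaf 128217775) (.leaf 130674812)) (.node 1 (.leaf 134654279) (.leaf 134160279))) (.node 2 (.node 1 (.leaf 67937484) (.leaf 103256640)) (.node 1 (.leaf 83303853) (.leaf 142914240))))) (.node 8 (.node 4 (.node 2 (.node 1 (.leaf 142938720) (.leaf 139632331)) (.node 1 (.leaf 94647692) (.leaf 125337167))) (.node 2 (.node 1 (.leaf 43421387) (.leaf 103379040)) (.node 1 (.leaf 142963200) (.leaf 124441686)))) (.node 4 (.node 2 (.node 1 (.leaf 32288524) (.leaf 126356900)) (.node 1 (.leaf 56083839) (.leaf 103501440))) (.node 2 (.node 1 (.leaf 142987680) (.leaf 103525920)) (.node 1 (.leaf 137877621) (.leaf 106315720)))))))) (.node 64 (.node 32 (.node 16 (.node 8 (.node 4 (.node 2 (.node 1 (.leaf 127178033) (.leaf 127430574)) (.node 1 (.leaf 143012160) (.leaf 103721760))) (.node 2 (.node 1 (.leaf 53681000)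 (.leaf 128321973)) (.node 1 (.leaf 125891278) (.leaf 131675449)))) (.node 4 (.node 2 (.node 1 (.leaf 19414133) (.leaf 143036640)) (.node 1 (.leaf 72727113) (.leaf 143061120))) (.node 2 (.node 1 (.leaf 63462828) (.leaf 103844160)) (.node 1 (.leaf 141760294) (.leaf 138884975))))) (.node 8 (.node 4 (.node 2 (.node 1 (.leaf 93811330) (.leaf 143085600)) (.node 1 (.leaf 11381921) (.leaf 107192797))) (.node 2 (.node 1 (.leaf 71079564) (.leaf 103942080)) (.node 1 (.leaf 79844601) (.leaf 127157782)))) (.node 4 (.node 2 (.node 1 (.leaf 46974830) (.leaf 143110080)) (.node 1 (.leaf 143134560) (.leaf 103991040))) (.node 2 (.node 1 (.leaf 111227711) (.leaf 143159040)) (.node 1 (.leaf 143183520) (.leaf 143208000)))))) (.node 16 (.node 8 (.node 4 (.node 2 (.node 1 (.leaf 143232480) (.leaf 104088960)) (.node 1 (.leaf 140940839) (.leaf 104137920))) (.node 2 (.node 1 (.leaf 143061406) (.leaf 143256960)) (.node 1 (.leaf 126566454) (.leaf 104186880)))) (.node 4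 (.node 2 (.node 1 (.leaf 91729596) (.leaf 143281440)) (.node 1 (.leaf 143305920) (.leaf 104211360))) (.node 2 (.node 1 (.leaf 55158215) (.leaf 140892348)) (.node 1 (.leaf 141819089) (.leaf 104235840))))) (.node 8 (.node 4 (.node 2 (.node 1 (.leaf 74414794) (.leaf 104284800)) (.node 1 (.leaf 98032727) (.leaf 104309280))) (.node 2 (.node 1 (.leaf 33018151) (.leaf 105484359)) (.node 1 (.leaf 143330400) (.leaf 143354880)))) (.node 4 (.node 2 (.node 1 (.leaf 143379360) (.leaf 104456160)) (.node 1 (.leaf 119508336) (.leaf 121384832))) (.node 2 (.node 1 (.leaf 143403840) (.leaf 143428320)) (.node 1 (.leaf 10134720) (.leaf 137177741))))))) (.node 32 (.node 16 (.node 8 (.node 4 (.node 2 (.node 1 (.leaf 143452800) (.leaf 104554080)) (.node 1 (.leaf 143477280) (.leaf 135431432))) (.node 2 (.node 1 (.leaf 114559254) (.leaf 119519760)) (.node 1 (.leaf 46157787) (.leaf 104676480)))) (.node 4 (.node 2 (.node 1 (.leaf 99489861) (.leaf 143501760)) (.node 1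 (.leaf 121253543) (.leaf 133118759))) (.node 2 (.node 1 (.leaf 38301671) (.leaf 143526240)) (.node 1 (.leaf 143550720) (.leaf 104774400))))) (.node 8 (.node 4 (.node 2 (.node 1 (.leaf 15466962) (.leaf 133606132)) (.node 1 (.leaf 124217983) (.leaf 107528350))) (.node 2 (.node 1 (.leaf 143575200) (.leaf 104872320)) (.node 1 (.leaf 143599680) (.leaf 104896800)))) (.node 4 (.node 2 (.node 1 (.leaf 101320263) (.leaf 112183650)) (.node 1 (.leaf 24746096) (.leaf 104921280))) (.node 2 (.node 1 (.leaf 48414117) (.leaf 136355800)) (.node 1 (.leaf 27804909) (.leaf 127218546)))))) (.node 16 (.node 8 (.node 4 (.node 2 (.node 1 (.leaf 143624160) (.leaf 104970240)) (.node 1 (.leaf 105001844) (.leaf 136386780))) (.node 2 (.node 1 (.leaf 143648640) (.leaf 105019200)) (.node 1 (.leaf 143673120) (.leaf 106233703)))) (.node 4 (.node 2 (.node 1 (.leaf 115435138) (.leaf 105068160)) (.node 1 (.leaf 104430005) (.leaf 143697600))) (.node 2 (.node 1 (.leaf 62901071)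 (.leaf 105092640)) (.node 1 (.leaf 91682623) (.leaf 143722080))))) (.node 8 (.node 4 (.node 2 (.node 1 (.leaf 73693733) (.leaf 105166080)) (.node 1 (.leaf 124817605) (.leaf 143746560))) (.node 2 (.node 1 (.leaf 125438570) (.leaf 139986171)) (.node 1 (.leaf 103028775) (.leaf 123669586)))) (.node 4 (.node 2 (.node 1 (.leaf 143771040) (.leaf 105239520)) (.node 1 (.leaf 143795520) (.leaf 119006011))) (.node 2 (.node 1 (.leaf 131552977) (.leaf 143820000)) (.node 1 (.leaf 76540654) (.leaf 105312960))))))))) (.node 128 (.node 64 (.node 32 (.node 16 (.node 8 (.node 4 (.node 2 (.node 1 (.leaf 143844480) (.leaf 118546612)) (.node 1 (.leaf 40930101) (.leaf 105337440))) (.node 2 (.node 1 (.leaf 21101403) (.leaf 105361920)) (.node 1 (.leaf 10257120) (.leaf 137264629)))) (.node 4 (.node 2 (.node 1 (.leaf 112373245) (.leaf 105410880)) (.node 1 (.leaf 13161433) (.leaf 105435360))) (.node 2 (.node 1 (.leaf 143868960) (.leaf 105533280)) (.node 1 (.leaf 143893440)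 (.leaf 119647709))))) (.node 8 (.node 4 (.node 2 (.node 1 (.leaf 133011299) (.leaf 143917920)) (.node 1 (.leaf 35344758) (.leaf 105606720))) (.node 2 (.node 1 (.leaf 143942400) (.leaf 112745822)) (.node 1 (.leaf 143966880) (.leaf 139165817)))) (.node 4 (.node 2 (.node 1 (.leaf 143525375) (.leaf 105827040)) (.node 1 (.leaf 143991360) (.leaf 105851520))) (.node 2 (.node 1 (.leaf 144015840) (.leaf 143853043)) (.node 1 (.leaf 144040320) (.leaf 134131512)))))) (.node 16 (.node 8 (.node 4 (.node 2 (.node 1 (.leaf 144064800) (.leaf 105998400)) (.node 1 (.leaf 87930262) (.leaf 106071840))) (.node 2 (.node 1 (.leaf 144089280) (.leaf 122643509)) (.node 1 (.leaf 29638899) (.leaf 106120800)))) (.node 4 (.node 2 (.node 1 (.leaf 75400365) (.leaf 143194094)) (.node 1 (.leaf 144113760) (.leaf 106145280))) (.node 2 (.node 1 (.leaf 144138240) (.leaf 144162720)) (.node 1 (.leaf 138147926) (.leaf 119124886))))) (.node 8 (.node 4 (.node 2 (.node 1 (.leaf 144187200)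 (.leaf 130906630)) (.node 1 (.leaf 144211680) (.leaf 114035338))) (.node 2 (.node 1 (.leaf 34001934) (.leaf 144236160)) (.node 1 (.leaf 97815841) (.leaf 106390080)))) (.node 4 (.node 2 (.node 1 (.leaf 80773845) (.leaf 134321603)) (.node 1 (.leaf 144260640) (.leaf 106439040))) (.node 2 (.node 1 (.leaf 77574237) (.leaf 140723657)) (.node 1 (.leaf 82602509) (.leaf 106463520))))))) (.node 32 (.node 16 (.node 8 (.node 4 (.node 2 (.node 1 (.leaf 78203903) (.leaf 144285120)) (.node 1 (.leaf 90833151) (.leaf 106512480))) (.node 2 (.node 1 (.leaf 144309600) (.leaf 129553778)) (.node 1 (.leaf 125411070) (.leaf 106561440)))) (.node 4 (.node 2 (.node 1 (.leaf 144334080) (.leaf 107138031)) (.node 1 (.leaf 112875623) (.leaf 106585920))) (.node 2 (.node 1 (.leaf 37244474) (.leaf 113639377)) (.node 1 (.leaf 99352589) (.leaf 106659360))))) (.node 8 (.node 4 (.node 2 (.node 1 (.leaf 106729016) (.leaf 144358560)) (.node 1 (.leaf 144383040) (.leaf 123859410)))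 (.node 2 (.node 1 (.leaf 144407520) (.leaf 106757280)) (.node 1 (.leaf 144432000) (.leaf 106806240)))) (.node 4 (.node 2 (.node 1 (.leaf 144456480) (.leaf 144480960)) (.node 1 (.leaf 144505440) (.leaf 106830720))) (.node 2 (.node 1 (.leaf 123687990) (.leaf 106855200)) (.node 1 (.leaf 94986316) (.leaf 106879680)))))) (.node 16 (.node 8 (.node 4 (.node 2 (.node 1 (.leaf 61198461) (.leaf 144529920)) (.node 1 (.leaf 143724809) (.leaf 106953120))) (.node 2 (.node 1 (.leaf 142649486) (.leaf 135684644)) (.node 1 (.leaf 144554400) (.leaf 107002080)))) (.node 4 (.node 2 (.node 1 (.leaf 90408881) (.leaf 137508783)) (.node 1 (.leaf 126289090) (.leaf 107051040))) (.node 2 (.node 1 (.leaf 119113715) (.leaf 107075520)) (.node 1 (.leaf 141100173) (.leaf 144578880))))) (.node 8 (.node 4 (.node 2 (.node 1 (.leaf 72597592) (.leaf 130111014)) (.node 1 (.leaf 28804947) (.leaf 110150736))) (.node 2 (.node 1 (.leaf 144603360) (.leaf 107197920)) (.node 1 (.leaf 104772555)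 (.leaf 136171359)))) (.node 4 (.node 2 (.node 1 (.leaf 127115156) (.leaf 144627840)) (.node 1 (.leaf 127317222) (.leaf 140278321))) (.node 2 (.node 1 (.leaf 86823817) (.leaf 107320320)) (.node 1 (.leaf 127727872) (.leaf 107344800)))))))) (.node 64 (.node 32 (.node 16 (.node 8 (.node 4 (.node 2 (.node 1 (.leaf 133216819) (.leaf 138053605)) (.node 1 (.leaf 107793033) (.leaf 107369280))) (.node 2 (.node 1 (.leaf 98152889) (.leaf 110264834)) (.node 1 (.leaf 144652320) (.leaf 107418240)))) (.node 4 (.node 2 (.node 1 (.leaf 10648800) (.leaf 141432309)) (.node 1 (.leaf 140881674) (.leaf 107442720))) (.node 2 (.node 1 (.leaf 144676800) (.leaf 107467200)) (.node 1 (.leaf 60339791) (.leaf 144701280))))) (.node 8 (.node 4 (.node 2 (.node 1 (.leaf 144725760) (.leaf 107491680)) (.node 1 (.leaf 94009765) (.leaf 144750240))) (.node 2 (.node 1 (.leaf 144774720) (.leaf 107540640)) (.node 1 (.leaf 144799200) (.leaf 111144126)))) (.node 4 (.node 2 (.node 1 (.leaf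 144823680) (.leaf 144848160)) (.node 1 (.leaf 97530527) (.leaf 114079179))) (.node 2 (.node 1 (.leaf 144872640) (.leaf 107663040)) (.node 1 (.leaf 74567750) (.leaf 144897120)))))) (.node 16 (.node 8 (.node 4 (.node 2 (.node 1 (.leaf 144921600) (.leaf 126860404)) (.node 1 (.leaf 74284599) (.leaf 142060088))) (.node 2 (.node 1 (.leaf 144595164) (.leaf 144946080)) (.node 1 (.leaf 102746845) (.leaf 122271165)))) (.node 4 (.node 2 (.node 1 (.leaf 46562503) (.leaf 107907840)) (.node 1 (.leaf 44286360) (.leaf 107932320))) (.node 2 (.node 1 (.leaf 140090447) (.leaf 112316171)) (.node 1 (.leaf 141614853) (.leaf 144970560))))) (.node 8 (.node 4 (.node 2 (.node 1 (.leaf 92146871) (.leaf 108079200)) (.node 1 (.leaf 109803055) (.leaf 129307970))) (.node 2 (.node 1 (.leaf 76327880) (.leaf 108128160)) (.node 1 (.leaf 121978889) (.leaf 115402388)))) (.node 4 (.node 2 (.node 1 (.leaf 74998742) (.leaf 144995040)) (.node 1 (.leaf 123010877) (.leaf 141502246)))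 (.node 2 (.node 1 (.leaf 110897096) (.leaf 108275040)) (.node 1 (.leaf 145019520) (.leaf 144402992))))))) (.node 32 (.node 16 (.node 8 (.node 4 (.node 2 (.node 1 (.leaf 117448089) (.leaf 108324000)) (.node 1 (.leaf 145044000) (.leaf 108348480))) (.node 2 (.node 1 (.leaf 145068480) (.leaf 145092960)) (.node 1 (.leaf 107961430) (.leaf 134810403)))) (.node 4 (.node 2 (.node 1 (.leaf 97495569) (.leaf 108470880)) (.node 1 (.leaf 145117440) (.leaf 108495360))) (.node 2 (.node 1 (.leaf 132594450) (.leaf 145141920)) (.node 1 (.leaf 73030284) (.leaf 108568800))))) (.node 8 (.node 4 (.node 2 (.node 1 (.leaf 145166400) (.leaf 145190880)) (.node 1 (.leaf 124500879) (.leaf 145215360))) (.node 2 (.node 1 (.leaf 81510481) (.leaf 143245586)) (.node 1 (.leaf 96663886) (.leaf 108666720)))) (.node 4 (.node 2 (.node 1 (.leaf 145239840) (.leaf 145264320)) (.node 1 (.leaf 56593891) (.leaf 113556647))) (.node 2 (.node 1 (.leaf 136595282) (.leaf 144153596)) (.node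 1 (.leaf 35239860) (.leaf 108887040)))))) (.node 16 (.node 8 (.node 4 (.node 2 (.node 1 (.leaf 143937126) (.leaf 114310330)) (.node 1 (.leaf 78544499) (.leaf 108984960))) (.node 2 (.node 1 (.leaf 129628221) (.leaf 137765395)) (.node 1 (.leaf 55614432) (.leaf 109033920)))) (.node 4 (.node 2 (.node 1 (.leaf 140441690) (.leaf 145288800)) (.node 1 (.leaf 107884312) (.leaf 131704864))) (.node 2 (.node 1 (.leaf 117600114) (.leaf 109107360)) (.node 1 (.leaf 145313280) (.leaf 134016119))))) (.node 8 (.node 4 (.node 2 (.node 1 (.leaf 91321448) (.leaf 127228030)) (.node 1 (.leaf 107034566) (.leaf 109205280))) (.node 2 (.node 1 (.leaf 144484812) (.leaf 131600535)) (.node 1 (.leaf 73675346) (.leaf 142248185)))) (.node 4 (.node 2 (.node 1 (.leaf 97722386) (.leaf 142057044)) (.node 1 (.leaf 145337760) (.leaf 109352160))) (.node 2 (.node 1 (.leaf 60803099) (.leaf 114746873)) (.node 1 (.leaf 145362240) (.node 1 (.leaf 114632736) (.leaf 85276278)))))))))))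 (.node 256 (.node 128 (.node 64 (.node 32 (.node 16 (.node 8 (.node 4 (.node 2 (.node 1 (.leaf 109474560) (.leaf 139867055)) (.node 1 (.leaf 145386720) (.leaf 127774791))) (.node 2 (.node 1 (.leaf 115658725) (.leaf 114275670)) (.node 1 (.leaf 145411200) (.leaf 15541796)))) (.node 4 (.node 2 (.node 1 (.leaf 131958780) (.leaf 133998855)) (.node 1 (.leaf 110715724) (.leaf 114589669))) (.node 2 (.node 1 (.leaf 109596960) (.leaf 30634620)) (.node 1 (.leaf 137492266) (.leaf 54264821))))) (.node 8 (.node 4 (.node 2 (.node 1 (.leaf 109719360) (.leaf 145435680)) (.node 1 (.leaf 126225356) (.leaf 140053879))) (.node 2 (.node 1 (.leaf 144228459) (.leaf 145460160)) (.node 1 (.leaf 109817280) (.leaf 145484640)))) (.node 4 (.node 2 (.node 1 (.leaf 141686774) (.leaf 41644792)) (.node 1 (.leaf 145509120) (.leaf 35108233))) (.node 2 (.node 1 (.leaf 145533600) (.leaf 123522112)) (.node 1 (.leaf 110062080) (.leaf 22696119)))))) (.node 16 (.node 8 (.node 4 (.node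 2 (.node 1 (.leaf 144424219) (.leaf 145558080)) (.node 1 (.leaf 110086560) (.leaf 126458080))) (.node 2 (.node 1 (.leaf 145582560) (.leaf 139172838)) (.node 1 (.leaf 121673737) (.leaf 136754882)))) (.node 4 (.node 2 (.node 1 (.leaf 145607040) (.leaf 30574430)) (.node 1 (.leaf 145631520) (.leaf 145656000))) (.node 2 (.node 1 (.leaf 124550561) (.leaf 26774456)) (.node 1 (.leaf 143630530) (.leaf 145680480))))) (.node 8 (.node 4 (.node 2 (.node 1 (.leaf 110282400) (.leaf 143545262)) (.node 1 (.leaf 142385565) (.leaf 68131029))) (.node 2 (.node 1 (.leaf 110355840) (.leaf 145652940)) (.node 1 (.leaf 110380320) (.leaf 145704960)))) (.node 4 (.node 2 (.node 1 (.leaf 112450320) (.leaf 145729440)) (.node 1 (.leaf 145753920) (.leaf 126804360))) (.node 2 (.node 1 (.leaf 110429280) (.leaf 96142833)) (.node 1 (.leaf 145778400) (.leaf 145802880))))))) (.node 32 (.node 16 (.node 8 (.node 4 (.node 2 (.node 1 (.leaf 110551680) (.leaf 145827360)) (.node 1 (.leaf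 124269555) (.leaf 122775895))) (.node 2 (.node 1 (.leaf 137687524) (.leaf 145851840)) (.node 1 (.leaf 110625120) (.leaf 145876320)))) (.node 4 (.node 2 (.node 1 (.leaf 137653684) (.leaf 109929020)) (.node 1 (.leaf 145900800) (.leaf 145925280))) (.node 2 (.node 1 (.leaf 110723040) (.leaf 20328438)) (.node 1 (.leaf 140021175) (.leaf 145949760))))) (.node 8 (.node 4 (.node 2 (.node 1 (.leaf 144881570) (.leaf 145974240)) (.node 1 (.leaf 132866701) (.leaf 145753941))) (.node 2 (.node 1 (.leaf 137816930) (.leaf 80100183)) (.node 1 (.leaf 145998720) (.leaf 132728793)))) (.node 4 (.node 2 (.node 1 (.leaf 110869920) (.leaf 108158668)) (.node 1 (.leaf 115537894) (.leaf 146023200))) (.node 2 (.node 1 (.leaf 117255127) (.leaf 16123701)) (.node 1 (.leaf 110918880) (.leaf 137973369)))))) (.node 16 (.node 8 (.node 4 (.node 2 (.node 1 (.leaf 110943360) (.leaf 127481430)) (.node 1 (.leaf 143029795) (.leaf 146047680))) (.node 2 (.node 1 (.leaf 146072160) (.leaf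 143712714)) (.node 1 (.leaf 128061023) (.leaf 146096640)))) (.node 4 (.node 2 (.node 1 (.leaf 111016800) (.leaf 146121120)) (.node 1 (.leaf 146145600) (.leaf 72861106))) (.node 2 (.node 1 (.leaf 111237120) (.leaf 96931395)) (.node 1 (.leaf 111286080) (.leaf 26978697))))) (.node 8 (.node 4 (.node 2 (.node 1 (.leaf 111310560) (.leaf 102349971)) (.node 1 (.leaf 146170080) (.leaf 62205472))) (.node 2 (.node 1 (.leaf 113319040) (.leaf 146194560)) (.node 1 (.leaf 111408480) (.leaf 146219040)))) (.node 4 (.node 2 (.node 1 (.leaf 135859063) (.leaf 87966726)) (.node 1 (.leaf 111457440) (.leaf 146243520))) (.node 2 (.node 1 (.leaf 146268000) (.leaf 121630642)) (.node 1 (.leaf 121432627) (.leaf 132053426)))))))) (.node 64 (.node 32 (.node 16 (.node 8 (.node 4 (.node 2 (.node 1 (.leaf 111604320) (.leaf 146292480)) (.node 1 (.leaf 144012581) (.leaf 34103896))) (.node 2 (.node 1 (.leaf 111677760) (.leaf 115040878)) (.node 1 (.leaf 136913821) (.leaf 133854616))))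 (.node 4 (.node 2 (.node 1 (.leaf 117214788) (.leaf 111540747)) (.node 1 (.leaf 111824640) (.leaf 108881279))) (.node 2 (.node 1 (.leaf 111873600) (.leaf 75588221)) (.node 1 (.leaf 128147272) (.leaf 14762236))))) (.node 8 (.node 4 (.node 2 (.node 1 (.leaf 111922560) (.leaf 47152369)) (.node 1 (.leaf 123155359) (.leaf 146316960))) (.node 2 (.node 1 (.leaf 137566818) (.leaf 28355979)) (.node 1 (.leaf 111996000) (.leaf 109083674)))) (.node 4 (.node 2 (.node 1 (.leaf 146341440) (.leaf 146365920)) (.node 1 (.leaf 112044960) (.leaf 136284981))) (.node 2 (.node 1 (.leaf 112118400) (.leaf 124899057)) (.node 1 (.leaf 146390400) (.leaf 146414880)))))) (.node 16 (.node 8 (.node 4 (.node 2 (.node 1 (.leaf 123330722) (.leaf 146439360)) (.node 1 (.leaf 112265280) (.leaf 146162001))) (.node 2 (.node 1 (.leaf 112911199) (.leaf 111048612)) (.node 1 (.leaf 143887036) (.leaf 51729731)))) (.node 4 (.node 2 (.node 1 (.leaf 112387680) (.leaf 12830249)) (.node 1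 (.leaf 144070153) (.leaf 136871294))) (.node 2 (.node 1 (.leaf 146463840) (.leaf 135365229)) (.node 1 (.leaf 112510080) (.leaf 108819085))))) (.node 8 (.node 4 (.node 2 (.node 1 (.leaf 131632604) (.leaf 114926849)) (.node 1 (.leaf 112534560) (.leaf 136704132))) (.node 2 (.node 1 (.leaf 112583520) (.leaf 146488320)) (.node 1 (.leaf 134087554) (.leaf 146003505)))) (.node 4 (.node 2 (.node 1 (.leaf 112608000) (.leaf 114421063)) (.node 1 (.leaf 129100049) (.leaf 125150085))) (.node 2 (.node 1 (.leaf 126885968) (.leaf 146512800)) (.node 1 (.leaf 146132281) (.leaf 146537280))))))) (.node 32 (.node 16 (.node 8 (.node 4 (.node 2 (.node 1 (.leaf 112828320) (.leaf 56981804)) (.node 1 (.leaf 118934787) (.leaf 131202743))) (.node 2 (.node 1 (.leaf 146561760) (.leaf 146586240)) (.node 1 (.leaf 120726487) (.leaf 146610720)))) (.node 4 (.node 2 (.node 1 (.leaf 129421233) (.leaf 145510399)) (.node 1 (.leaf 112950720) (.leaf 146635200))) (.node 2 (.node 1 (.leaf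 121796376) (.leaf 143754042)) (.node 1 (.leaf 146659680) (.leaf 44021176))))) (.node 8 (.node 4 (.node 2 (.node 1 (.leaf 113097600) (.leaf 103828936)) (.node 1 (.leaf 125139114) (.leaf 138624193))) (.node 2 (.node 1 (.leaf 146684160) (.leaf 146708640)) (.node 1 (.leaf 113293440) (.leaf 31964556)))) (.node 4 (.node 2 (.node 1 (.leaf 113342400) (.leaf 146733120)) (.node 1 (.leaf 136137251) (.leaf 80372583))) (.node 2 (.node 1 (.leaf 113366880) (.leaf 146757600)) (.node 1 (.leaf 113440320) (.leaf 146782080)))))) (.node 16 (.node 8 (.node 4 (.node 2 (.node 1 (.leaf 113489280) (.leaf 140360516)) (.node 1 (.leaf 146806560) (.leaf 95808091))) (.node 2 (.node 1 (.leaf 113611680) (.leaf 109345697)) (.node 1 (.leaf 145656985) (.leaf 146831040)))) (.node 4 (.node 2 (.node 1 (.leaf 125750680) (.leaf 139090382)) (.node 1 (.leaf 113685120) (.leaf 108182300))) (.node 2 (.node 1 (.leaf 116941657) (.leaf 102918891)) (.node 1 (.leaf 113734080) (.leaf 116302746)))))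 (.node 8 (.node 4 (.node 2 (.node 1 (.leaf 131142189) (.leaf 144965560)) (.node 1 (.leaf 140045700) (.leaf 134046358))) (.node 2 (.node 1 (.leaf 113783040) (.leaf 146855520)) (.node 1 (.leaf 119195626) (.leaf 146880000)))) (.node 4 (.node 2 (.node 1 (.leaf 113832000) (.leaf 57688739)) (.node 1 (.leaf 135385360) (.leaf 98512170))) (.node 2 (.node 1 (.leaf 146904480) (.leaf 138195470)) (.node 1 (.leaf 113880960) (.leaf 146928960))))))))) (.node 128 (.node 64 (.node 32 (.node 16 (.node 8 (.node 4 (.node 2 (.node 1 (.leaf 120806684) (.leaf 64427021)) (.node 1 (.leaf 125955369) (.leaf 106277044))) (.node 2 (.node 1 (.leaf 113954400) (.leaf 146953440)) (.node 1 (.leaf 114003360) (.leaf 146977920)))) (.node 4 (.node 2 (.node 1 (.leaf 145885248) (.leaf 147002400)) (.node 1 (.leaf 137441378) (.leaf 137618026))) (.node 2 (.node 1 (.leaf 114199200) (.leaf 128331111)) (.node 1 (.leaf 146606563) (.leaf 133913677))))) (.node 8 (.node 4 (.node 2 (.node 1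 (.leaf 145476752) (.leaf 71577271)) (.node 1 (.leaf 136498116) (.leaf 147026880))) (.node 2 (.node 1 (.leaf 114346080) (.leaf 147051360)) (.node 1 (.leaf 125567500) (.leaf 145194524)))) (.node 4 (.node 2 (.node 1 (.leaf 114444000) (.leaf 147075840)) (.node 1 (.leaf 114492960) (.leaf 136726220))) (.node 2 (.node 1 (.leaf 147100320) (.leaf 142171560)) (.node 1 (.leaf 114590880) (.leaf 80600572)))))) (.node 16 (.node 8 (.node 4 (.node 2 (.node 1 (.leaf 134932789) (.leaf 145423314)) (.node 1 (.leaf 147124800) (.leaf 147149280))) (.node 2 (.node 1 (.leaf 127971229) (.leaf 132009106)) (.node 1 (.leaf 114811200) (.leaf 129245382)))) (.node 4 (.node 2 (.node 1 (.leaf 122967771) (.leaf 139776784)) (.node 1 (.leaf 141361146) (.leaf 64554929))) (.node 2 (.node 1 (.leaf 141129451) (.leaf 37738105)) (.node 1 (.leaf 114958080) (.leaf 139607881))))) (.node 8 (.node 4 (.node 2 (.node 1 (.leaf 115007040) (.leaf 147173760)) (.node 1 (.leaf 115056000) (.leaf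 79279875))) (.node 2 (.node 1 (.leaf 147198240) (.leaf 95583915)) (.node 1 (.leaf 137244768) (.leaf 56846438)))) (.node 4 (.node 2 (.node 1 (.leaf 129951637) (.leaf 108011821)) (.node 1 (.leaf 118383681) (.leaf 146181542))) (.node 2 (.node 1 (.leaf 144433620) (.leaf 116373009)) (.node 1 (.leaf 115325280) (.leaf 142820865))))))) (.node 32 (.node 16 (.node 8 (.node 4 (.node 2 (.node 1 (.leaf 115349760) (.leaf 81734609)) (.node 1 (.leaf 135793819) (.leaf 51416601))) (.node 2 (.node 1 (.leaf 146033080) (.leaf 147222720)) (.node 1 (.leaf 133318645) (.leaf 134596921)))) (.node 4 (.node 2 (.node 1 (.leaf 115570080) (.leaf 71396742)) (.node 1 (.leaf 115619040) (.leaf 147134569))) (.node 2 (.node 1 (.leaf 122319303) (.leaf 129787979)) (.node 1 (.leaf 135956232) (.leaf 147247200))))) (.node 8 (.node 4 (.node 2 (.node 1 (.leaf 146985022) (.leaf 147271680)) (.node 1 (.leaf 146248400) (.leaf 138443364))) (.node 2 (.node 1 (.leaf 147296160) (.leaf 110585556))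 (.node 1 (.leaf 115839360) (.leaf 114678251)))) (.node 4 (.node 2 (.node 1 (.leaf 115912800) (.leaf 123289143)) (.node 1 (.leaf 147320640) (.leaf 147345120))) (.node 2 (.node 1 (.leaf 115937280) (.leaf 119588882)) (.node 1 (.leaf 134523579) (.leaf 146914335)))))) (.node 16 (.node 8 (.node 4 (.node 2 (.node 1 (.leaf 130169724) (.leaf 147369600)) (.node 1 (.leaf 115986240) (.leaf 66219905))) (.node 2 (.node 1 (.leaf 137855983) (.leaf 98865512)) (.node 1 (.leaf 138842453) (.leaf 147394080)))) (.node 4 (.node 2 (.node 1 (.leaf 116035200) (.leaf 84218208)) (.node 1 (.leaf 116133120) (.leaf 147418560))) (.node 2 (.node 1 (.leaf 121247309) (.leaf 118012147)) (.node 1 (.leaf 116157600) (.leaf 135067634))))) (.node 8 (.node 4 (.node 2 (.node 1 (.leaf 128291492) (.leaf 147443040)) (.node 1 (.leaf 128367645) (.leaf 139016098))) (.node 2 (.node 1 (.leaf 116206560) (.leaf 147467520)) (.node 1 (.leaf 146334316) (.leaf 145910224)))) (.node 4 (.node 2 (.node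 1 (.leaf 116982876) (.leaf 121396760)) (.node 1 (.leaf 135208890) (.leaf 142587954))) (.node 2 (.node 1 (.leaf 116377920) (.leaf 145270230)) (.node 1 (.leaf 147492000) (.leaf 49578890)))))))) (.node 64 (.node 32 (.node 16 (.node 8 (.node 4 (.node 2 (.node 1 (.leaf 120909027) (.leaf 109787550)) (.node 1 (.leaf 116451360) (.leaf 138373941))) (.node 2 (.node 1 (.leaf 147516480) (.leaf 66049280)) (.node 1 (.leaf 120964843) (.leaf 147540960)))) (.node 4 (.node 2 (.node 1 (.leaf 143667905) (.leaf 122554702)) (.node 1 (.leaf 116720640) (.leaf 145008209))) (.node 2 (.node 1 (.leaf 116745120) (.leaf 136057907)) (.node 1 (.leaf 116794080) (.leaf 59356407))))) (.node 8 (.node 4 (.node 2 (.node 1 (.leaf 116818560) (.leaf 147565440)) (.node 1 (.leaf 144748022) (.leaf 61063505))) (.node 2 (.node 1 (.leaf 136810446) (.leaf 129985859)) (.node 1 (.leaf 147589920) (.leaf 145782072)))) (.node 4 (.node 2 (.node 1 (.leaf 124427275) (.leaf 85987623)) (.node 1 (.leaf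 117063360) (.leaf 117688050))) (.node 2 (.node 1 (.leaf 133509863) (.leaf 126768901)) (.node 1 (.leaf 126532525) (.leaf 142842858)))))) (.node 16 (.node 8 (.node 4 (.node 2 (.node 1 (.leaf 117161280) (.leaf 130497098)) (.node 1 (.leaf 120050023) (.leaf 66693096))) (.node 2 (.node 1 (.leaf 147577316) (.leaf 57635980)) (.node 1 (.leaf 118299489) (.leaf 83694368)))) (.node 4 (.node 2 (.node 1 (.leaf 117283680) (.leaf 147614400)) (.node 1 (.leaf 147638880) (.leaf 100345703))) (.node 2 (.node 1 (.leaf 117357120) (.leaf 86170162)) (.node 1 (.leaf 117939442) (.leaf 144913338))))) (.node 8 (.node 4 (.node 2 (.node 1 (.leaf 147663360) (.leaf 18659385)) (.node 1 (.leaf 127927258) (.leaf 141181675))) (.node 2 (.node 1 (.leaf 147687840) (.leaf 141069502)) (.node 1 (.leaf 138724014) (.leaf 140781185)))) (.node 4 (.node 2 (.node 1 (.leaf 135663841) (.leaf 147712320)) (.node 1 (.leaf 128805975) (.leaf 16883838))) (.node 2 (.node 1 (.leaf 117773280) (.leaf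 60852911)) (.node 1 (.leaf 138587014) (.leaf 147736800))))))) (.node 32 (.node 16 (.node 8 (.node 4 (.node 2 (.node 1 (.leaf 137335615) (.leaf 65571942)) (.node 1 (.leaf 118091520) (.leaf 70757131))) (.node 2 (.node 1 (.leaf 147761280) (.leaf 147785760)) (.node 1 (.leaf 147810240) (.leaf 147834720)))) (.node 4 (.node 2 (.node 1 (.leaf 135112458) (.leaf 147529331)) (.node 1 (.leaf 118213920) (.leaf 127571642))) (.node 2 (.node 1 (.leaf 132041530) (.leaf 144289083)) (.node 1 (.leaf 130000702) (.leaf 110666820))))) (.node 8 (.node 4 (.node 2 (.node 1 (.leaf 118336320) (.leaf 137836602)) (.node 1 (.leaf 133674455) (.leaf 147859200))) (.node 2 (.node 1 (.leaf 141617183) (.leaf 128638765)) (.node 1 (.leaf 118409760) (.leaf 35707128)))) (.node 4 (.node 2 (.node 1 (.leaf 147883680) (.leaf 130529980)) (.node 1 (.leaf 132745254) (.leaf 144237010))) (.node 2 (.node 1 (.leaf 132693966) (.leaf 88145350)) (.node 1 (.leaf 118630080) (.leaf 147908160))))))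 (.node 16 (.node 8 (.node 4 (.node 2 (.node 1 (.leaf 118679040) (.leaf 147932640)) (.node 1 (.leaf 131521023) (.leaf 147957120))) (.node 2 (.node 1 (.leaf 138181670) (.leaf 55503876)) (.node 1 (.leaf 132882722) (.leaf 58720411)))) (.node 4 (.node 2 (.node 1 (.leaf 118776960) (.leaf 141267352)) (.node 1 (.leaf 136225147) (.leaf 147981600))) (.node 2 (.node 1 (.leaf 118801440) (.leaf 144163494)) (.node 1 (.leaf 148006080) (.leaf 109520936))))) (.node 8 (.node 4 (.node 2 (.node 1 (.leaf 144815910) (.leaf 136344122)) (.node 1 (.leaf 148030560) (.leaf 66451144))) (.node 2 (.node 1 (.leaf 119021760) (.leaf 143092411)) (.node 1 (.leaf 146615650) (.leaf 108535657)))) (.node 4 (.node 2 (.node 1 (.leaf 126478376) (.leaf 100995378)) (.node 1 (.leaf 130287327) (.leaf 119618157))) (.node 2 (.node 1 (.leaf 138990266) (.leaf 137373256)) (.node 1 (.leaf 138654530) (.node 1 (.leaf 148055040) (.leaf 141005194))))))))))))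

/-- Part 11 of `e0Tab`. -/
def e0Tab_11 : BT ℕ :=
  (.node 513 (.node 256 (.node 128 (.node 64 (.node 32 (.node 16 (.node 8 (.node 4 (.node 2 (.node 1 (.leaf 118509721) (.leaf 119315520)) (.node 1 (.leaf 111483784) (.leaf 137782054))) (.node 2 (.node 1 (.leaf 134215872) (.leaf 119340000)) (.node 1 (.leaf 19700993) (.leaf 119437920)))) (.node 4 (.node 2 (.node 1 (.leaf 93609625) (.leaf 124834936)) (.node 1 (.leaf 144989731) (.leaf 143501036))) (.node 2 (.node 1 (.leaf 92483277) (.leaf 119535840)) (.node 1 (.leaf 148079520) (.leaf 148104000))))) (.node 8 (.node 4 (.node 2 (.node 1 (.leaf 85933273) (.leaf 145315237)) (.node 1 (.leaf 58646808) (.leaf 119682720))) (.node 2 (.node 1 (.leaf 148128480) (.leaf 119707200)) (.node 1 (.leaf 43258476) (.leaf 119731680)))) (.node 4 (.node 2 (.node 1 (.leaf 110864165) (.leaf 119854080)) (.node 1 (.leaf 100410913) (.leaf 141880836))) (.node 2 (.node 1 (.leaf 26363232) (.leaf 119927520)) (.node 1 (.leaf 27112050)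 (.leaf 145950102)))))) (.node 16 (.node 8 (.node 4 (.node 2 (.node 1 (.leaf 116095142) (.leaf 122812784)) (.node 1 (.leaf 112659779) (.leaf 143982735))) (.node 2 (.node 1 (.leaf 96064041) (.leaf 137313880)) (.node 1 (.leaf 148152960) (.leaf 120123360)))) (.node 4 (.node 2 (.node 1 (.leaf 104962660) (.leaf 138106900)) (.node 1 (.leaf 145142323) (.leaf 122018066))) (.node 2 (.node 1 (.leaf 59146465) (.leaf 120172320)) (.node 1 (.leaf 148177440) (.leaf 137221020))))) (.node 8 (.node 4 (.node 2 (.node 1 (.leaf 133132918) (.leaf 120221280)) (.node 1 (.leaf 141475162) (.leaf 139551153))) (.node 2 (.node 1 (.leaf 145294062) (.leaf 120294720)) (.node 1 (.leaf 148201920) (.leaf 148226400)))) (.node 4 (.node 2 (.node 1 (.leaf 142522720) (.leaf 136242771)) (.node 1 (.leaf 92427392) (.leaf 120392640))) (.node 2 (.node 1 (.leaf 143284195) (.leaf 127322404)) (.node 1 (.leaf 148250880) (.leaf 141782184))))))) (.node 32 (.node 16 (.node 8 (.node 4 (.node 2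 (.node 1 (.leaf 74096051) (.leaf 120466080)) (.node 1 (.leaf 121534592) (.leaf 140577424))) (.node 2 (.node 1 (.leaf 145547026) (.leaf 138090167)) (.node 1 (.leaf 69077872) (.leaf 120612960)))) (.node 4 (.node 2 (.node 1 (.leaf 63853395) (.leaf 148275360)) (.node 1 (.leaf 88866130) (.leaf 120661920))) (.node 2 (.node 1 (.leaf 148299840) (.leaf 120686400)) (.node 1 (.leaf 148324320) (.leaf 123802341))))) (.node 8 (.node 4 (.node 2 (.node 1 (.leaf 135879928) (.leaf 120808800)) (.node 1 (.leaf 13684320) (.leaf 129004032))) (.node 2 (.node 1 (.leaf 135612980) (.leaf 120833280)) (.node 1 (.leaf 131028632) (.leaf 120931200)))) (.node 4 (.node 2 (.node 1 (.leaf 138853234) (.leaf 148348800)) (.node 1 (.leaf 125082536) (.leaf 121004640))) (.node 2 (.node 1 (.leaf 148373280) (.leaf 121078080)) (.node 1 (.leaf 142461275) (.leaf 144608063)))))) (.node 16 (.node 8 (.node 4 (.node 2 (.node 1 (.leaf 146577639) (.leaf 148397760)) (.node 1 (.leaf 148422240)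 (.leaf 121176000))) (.node 2 (.node 1 (.leaf 148446720) (.leaf 141946910)) (.node 1 (.leaf 48799883) (.leaf 123096831)))) (.node 4 (.node 2 (.node 1 (.leaf 59973496) (.leaf 148471200)) (.node 1 (.leaf 113520492) (.leaf 145029679))) (.node 2 (.node 1 (.leaf 114526522) (.leaf 121322880)) (.node 1 (.leaf 121370937) (.leaf 148495680))))) (.node 8 (.node 4 (.node 2 (.node 1 (.leaf 29821492) (.leaf 148520160)) (.node 1 (.leaf 147113634) (.leaf 138776293))) (.node 2 (.node 1 (.leaf 77877994) (.leaf 147490012)) (.node 1 (.leaf 23885270) (.leaf 121494240)))) (.node 4 (.node 2 (.node 1 (.leaf 148544640) (.leaf 126962290)) (.node 1 (.leaf 139278335) (.leaf 121543200))) (.node 2 (.node 1 (.leaf 43754754) (.leaf 121641120)) (.node 1 (.leaf 15628226) (.leaf 121714560)))))))) (.node 64 (.node 32 (.node 16 (.node 8 (.node 4 (.node 2 (.node 1 (.leaf 98391012) (.leaf 148569120)) (.node 1 (.leaf 80866078) (.leaf 147943047))) (.node 2 (.node 1 (.leaf 148593600)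 (.leaf 121812480)) (.node 1 (.leaf 111391973) (.leaf 125917227)))) (.node 4 (.node 2 (.node 1 (.leaf 22161275) (.leaf 139805363)) (.node 1 (.leaf 148618080) (.leaf 144569498))) (.node 2 (.node 1 (.leaf 148642560) (.leaf 121983840)) (.node 1 (.leaf 71169654) (.leaf 143692058))))) (.node 8 (.node 4 (.node 2 (.node 1 (.leaf 136079140) (.leaf 124142955)) (.node 1 (.leaf 80705062) (.leaf 148667040))) (.node 2 (.node 1 (.leaf 148691520) (.leaf 122081760)) (.node 1 (.leaf 69373349) (.leaf 128582622)))) (.node 4 (.node 2 (.node 1 (.leaf 148669519) (.leaf 132823167)) (.node 1 (.leaf 148716000) (.leaf 134817267))) (.node 2 (.node 1 (.leaf 148740480) (.leaf 122179680)) (.node 1 (.leaf 148764960) (.leaf 122277600)))))) (.node 16 (.node 8 (.node 4 (.node 2 (.node 1 (.leaf 88815402) (.leaf 125679163)) (.node 1 (.leaf 146816271) (.leaf 122351040))) (.node 2 (.node 1 (.leaf 144649626) (.leaf 146110553)) (.node 1 (.leaf 88714496) (.leaf 145436182)))) (.node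 4 (.node 2 (.node 1 (.leaf 148789440) (.leaf 141859704)) (.node 1 (.leaf 140494328) (.leaf 125790074))) (.node 2 (.node 1 (.leaf 148813920) (.leaf 122571360)) (.node 1 (.leaf 105754978) (.leaf 130209682))))) (.node 8 (.node 4 (.node 2 (.node 1 (.leaf 148543063) (.leaf 122644800)) (.node 1 (.leaf 140522953) (.leaf 140400092))) (.node 2 (.node 1 (.leaf 148838400) (.leaf 122693760)) (.node 1 (.leaf 22906746) (.leaf 122742720)))) (.node 4 (.node 2 (.node 1 (.leaf 95056194) (.leaf 140338678)) (.node 1 (.leaf 137058436) (.leaf 122816160))) (.node 2 (.node 1 (.leaf 140377045) (.leaf 122840640)) (.node 1 (.leaf 46797570) (.leaf 148862880))))))) (.node 32 (.node 16 (.node 8 (.node 4 (.node 2 (.node 1 (.leaf 118252129) (.leaf 122889600)) (.node 1 (.leaf 30082290) (.leaf 122938560))) (.node 2 (.node 1 (.leaf 59397760) (.leaf 147914153)) (.node 1 (.leaf 39202217) (.leaf 138958936)))) (.node 4 (.node 2 (.node 1 (.leaf 148410399) (.leaf 126305034)) (.node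 1 (.leaf 148887360) (.leaf 145570135))) (.node 2 (.node 1 (.leaf 148911840) (.leaf 123158880)) (.node 1 (.leaf 148936320) (.leaf 123183360))))) (.node 8 (.node 4 (.node 2 (.node 1 (.leaf 138309070) (.leaf 123207840)) (.node 1 (.leaf 92630220) (.leaf 129472568))) (.node 2 (.node 1 (.leaf 148960800) (.leaf 148985280)) (.node 1 (.leaf 117124591) (.leaf 123305760)))) (.node 4 (.node 2 (.node 1 (.leaf 41720964) (.leaf 149009760)) (.node 1 (.leaf 149034240) (.leaf 123354720))) (.node 2 (.node 1 (.leaf 14467680) (.leaf 123743806)) (.node 1 (.leaf 149058720) (.leaf 123379200)))))) (.node 16 (.node 8 (.node 4 (.node 2 (.node 1 (.leaf 117060891) (.leaf 127700307)) (.node 1 (.leaf 149083200) (.leaf 147991749))) (.node 2 (.node 1 (.leaf 136691402) (.leaf 123428160)) (.node 1 (.leaf 81565219) (.leaf 144031476)))) (.node 4 (.node 2 (.node 1 (.leaf 118560010) (.leaf 123477120)) (.node 1 (.leaf 49289646) (.leaf 138116492))) (.node 2 (.node 1 (.leaf 30399149)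 (.leaf 123526080)) (.node 1 (.leaf 146394590) (.leaf 123550560))))) (.node 8 (.node 4 (.node 2 (.node 1 (.leaf 113245154) (.leaf 123624000)) (.node 1 (.leaf 89701243) (.leaf 123770880))) (.node 2 (.node 1 (.leaf 146277212) (.leaf 135530662)) (.node 1 (.leaf 41128973) (.leaf 145826680)))) (.node 4 (.node 2 (.node 1 (.leaf 149107680) (.leaf 123868800)) (.node 1 (.leaf 79545365) (.leaf 142694601))) (.node 2 (.node 1 (.leaf 117341830) (.leaf 148163040)) (.node 1 (.leaf 149132160) (.leaf 124040160))))))))) (.node 128 (.node 64 (.node 32 (.node 16 (.node 8 (.node 4 (.node 2 (.node 1 (.leaf 147688351) (.leaf 142087876)) (.node 1 (.leaf 149156640) (.leaf 124236000))) (.node 2 (.node 1 (.leaf 49421403) (.leaf 124333920)) (.node 1 (.leaf 149181120) (.leaf 135506575)))) (.node 4 (.node 2 (.node 1 (.leaf 149205600) (.leaf 148771878)) (.node 1 (.leaf 149033055) (.leaf 149230080))) (.node 2 (.node 1 (.leaf 42833710) (.leaf 130401161)) (.node 1 (.leaf 147811040)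 (.leaf 146858285))))) (.node 8 (.node 4 (.node 2 (.node 1 (.leaf 149254560) (.leaf 124505280)) (.node 1 (.leaf 148495744) (.leaf 130994077))) (.node 2 (.node 1 (.leaf 66747268) (.leaf 143561619)) (.node 1 (.leaf 149279040) (.leaf 147231788)))) (.node 4 (.node 2 (.node 1 (.leaf 143111594) (.leaf 149303520)) (.node 1 (.leaf 114728763) (.leaf 124676640))) (.node 2 (.node 1 (.leaf 145619193) (.leaf 137596500)) (.node 1 (.leaf 136259080) (.leaf 124872480)))))) (.node 16 (.node 8 (.node 4 (.node 2 (.node 1 (.leaf 82665718) (.leaf 132154083)) (.node 1 (.leaf 107222678) (.leaf 125629828))) (.node 2 (.node 1 (.leaf 149328000) (.leaf 142276238)) (.node 1 (.leaf 57413702) (.leaf 124994880)))) (.node 4 (.node 2 (.node 1 (.leaf 148125212) (.leaf 138903086)) (.node 1 (.leaf 135322260) (.leaf 144943855))) (.node 2 (.node 1 (.leaf 140994621) (.leaf 125215200)) (.node 1 (.leaf 125193443) (.leaf 140205693))))) (.node 8 (.node 4 (.node 2 (.node 1 (.leaf 98478424)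 (.leaf 138463226)) (.node 1 (.leaf 68776647) (.leaf 125337600))) (.node 2 (.node 1 (.leaf 136204269) (.leaf 125362080)) (.node 1 (.leaf 91150619) (.leaf 139373410)))) (.node 4 (.node 2 (.node 1 (.leaf 91411192) (.leaf 147634242)) (.node 1 (.leaf 149352480) (.leaf 125508960))) (.node 2 (.node 1 (.leaf 15829265) (.leaf 149376960)) (.node 1 (.leaf 149401440) (.leaf 131757713))))))) (.node 32 (.node 16 (.node 8 (.node 4 (.node 2 (.node 1 (.leaf 18515791) (.leaf 130716077)) (.node 1 (.leaf 19314562) (.leaf 141288250))) (.node 2 (.node 1 (.leaf 23812657) (.leaf 149083319)) (.node 1 (.leaf 108921397) (.leaf 125802720)))) (.node 4 (.node 2 (.node 1 (.leaf 149425920) (.leaf 125827200)) (.node 1 (.leaf 149450400) (.leaf 125851680))) (.node 2 (.node 1 (.leaf 134902170) (.leaf 148942458)) (.node 1 (.leaf 18360496) (.leaf 131737547))))) (.node 8 (.node 4 (.node 2 (.node 1 (.leaf 149474880) (.leaf 141737117)) (.node 1 (.leaf 98103008) (.leaf 142293207)))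 (.node 2 (.node 1 (.leaf 51531383) (.leaf 149171575)) (.node 1 (.leaf 101594524) (.leaf 126023040)))) (.node 4 (.node 2 (.node 1 (.leaf 137536054) (.leaf 142721046)) (.node 1 (.leaf 15275520) (.leaf 132472498))) (.node 2 (.node 1 (.leaf 86492286) (.leaf 126096480)) (.node 1 (.leaf 55880455) (.leaf 144269384)))))) (.node 16 (.node 8 (.node 4 (.node 2 (.node 1 (.leaf 94535736) (.leaf 126145440)) (.node 1 (.leaf 36388441) (.leaf 149499360))) (.node 2 (.node 1 (.leaf 118129903) (.leaf 144479224)) (.node 1 (.leaf 130364911) (.leaf 126194400)))) (.node 4 (.node 2 (.node 1 (.leaf 61451184) (.leaf 142941979)) (.node 1 (.leaf 149523840) (.leaf 126243360))) (.node 2 (.node 1 (.leaf 54484764) (.leaf 148302745)) (.node 1 (.leaf 112696953) (.leaf 149548320))))) (.node 8 (.node 4 (.node 2 (.node 1 (.leaf 133576278) (.leaf 126316800)) (.node 1 (.leaf 125058913) (.leaf 149572800))) (.node 2 (.node 1 (.leaf 53538885) (.leaf 141224084)) (.node 1 (.leaf 69012531)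 (.leaf 142371657)))) (.node 4 (.node 2 (.node 1 (.leaf 129921753) (.leaf 126586080)) (.node 1 (.leaf 30743063) (.leaf 149416261))) (.node 2 (.node 1 (.leaf 123601145) (.leaf 147873694)) (.node 1 (.leaf 142183975) (.leaf 126659520)))))))) (.node 64 (.node 32 (.node 16 (.node 8 (.node 4 (.node 2 (.node 1 (.leaf 123585499) (.leaf 126684000)) (.node 1 (.leaf 134837872) (.leaf 146886711))) (.node 2 (.node 1 (.leaf 112938382) (.leaf 142905761)) (.node 1 (.leaf 108386478) (.leaf 126928800)))) (.node 4 (.node 2 (.node 1 (.leaf 80256848) (.leaf 142550299)) (.node 1 (.leaf 83421316) (.leaf 149532633))) (.node 2 (.node 1 (.leaf 100446531) (.leaf 143396774)) (.node 1 (.leaf 139246297) (.leaf 133057064))))) (.node 8 (.node 4 (.node 2 (.node 1 (.leaf 149597280) (.leaf 127247040)) (.node 1 (.leaf 142752749) (.leaf 127271520))) (.node 2 (.node 1 (.leaf 132794794) (.leaf 127344960)) (.node 1 (.leaf 107285484) (.leaf 127442880)))) (.node 4 (.node 2 (.node 1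 (.leaf 149621760) (.leaf 147554851)) (.node 1 (.leaf 140675258) (.leaf 127491840))) (.node 2 (.node 1 (.leaf 108109732) (.leaf 129228206)) (.node 1 (.leaf 149646240) (.leaf 127516320)))))) (.node 16 (.node 8 (.node 4 (.node 2 (.node 1 (.leaf 149670720) (.leaf 131329665)) (.node 1 (.leaf 147319603) (.leaf 127589760))) (.node 2 (.node 1 (.leaf 138948359) (.leaf 127638720)) (.node 1 (.leaf 135893888) (.leaf 144335129)))) (.node 4 (.node 2 (.node 1 (.leaf 22036577) (.leaf 149601857)) (.node 1 (.leaf 119378340) (.leaf 127810080))) (.node 2 (.node 1 (.leaf 147768855) (.leaf 143008442)) (.node 1 (.leaf 64971176) (.leaf 143416164))))) (.node 8 (.node 4 (.node 2 (.node 1 (.leaf 148015330) (.leaf 127883520)) (.node 1 (.leaf 75886277) (.leaf 149113364))) (.node 2 (.node 1 (.leaf 53309048) (.leaf 138286719)) (.node 1 (.leaf 149695200) (.leaf 128030400)))) (.node 4 (.node 2 (.node 1 (.leaf 141660696) (.leaf 128079360)) (.node 1 (.leaf 144546644) (.leaf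 141522242))) (.node 2 (.node 1 (.leaf 16695010) (.leaf 146292705)) (.node 1 (.leaf 140317499) (.leaf 146456703))))))) (.node 32 (.node 16 (.node 8 (.node 4 (.node 2 (.node 1 (.leaf 142007539) (.leaf 132419367)) (.node 1 (.leaf 21514957) (.leaf 136651756))) (.node 2 (.node 1 (.leaf 149719680) (.leaf 139886198)) (.node 1 (.leaf 49821863) (.leaf 128446560)))) (.node 4 (.node 2 (.node 1 (.leaf 131498398) (.leaf 128495520)) (.node 1 (.leaf 93152688) (.leaf 128544480))) (.node 2 (.node 1 (.leaf 102460421) (.leaf 144116133)) (.node 1 (.leaf 16034400) (.leaf 146242853))))) (.node 8 (.node 4 (.node 2 (.node 1 (.leaf 148050545) (.leaf 128666880)) (.node 1 (.leaf 149744160) (.leaf 129063165))) (.node 2 (.node 1 (.leaf 122247829) (.leaf 133897461)) (.node 1 (.leaf 149324079) (.leaf 145729849)))) (.node 4 (.node 2 (.node 1 (.leaf 103457236) (.leaf 128911680)) (.node 1 (.leaf 126614120) (.leaf 145078806))) (.node 2 (.node 1 (.leaf 144848602) (.leaf 138558745))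 (.node 1 (.leaf 145102300) (.leaf 133449579)))))) (.node 16 (.node 8 (.node 4 (.node 2 (.node 1 (.leaf 148360572) (.leaf 140958158)) (.node 1 (.leaf 16181280) (.leaf 149768640))) (.node 2 (.node 1 (.leaf 119467324) (.leaf 133936651)) (.node 1 (.leaf 140268219) (.leaf 147256533)))) (.node 4 (.node 2 (.node 1 (.leaf 114892748) (.leaf 143787140)) (.node 1 (.leaf 102538008) (.leaf 131427857))) (.node 2 (.node 1 (.leaf 148233669) (.leaf 129254400)) (.node 1 (.leaf 135038875) (.leaf 145696957))))) (.node 8 (.node 4 (.node 2 (.node 1 (.leaf 149793120) (.leaf 132094721)) (.node 1 (.leaf 76245497) (.leaf 129352320))) (.node 2 (.node 1 (.leaf 88239254) (.leaf 142446027)) (.node 1 (.leaf 106371272) (.leaf 129499200)))) (.node 4 (.node 2 (.node 1 (.leaf 68993743) (.leaf 144527705)) (.node 1 (.leaf 16401600) (.leaf 143322040))) (.node 2 (.node 1 (.leaf 149775007) (.leaf 129695040)) (.node 1 (.leaf 110696053) (.node 1 (.leaf 131050791) (.leaf 116648460)))))))))))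 (.node 256 (.node 128 (.node 64 (.node 32 (.node 16 (.node 8 (.node 4 (.node 2 (.node 1 (.leaf 132257093) (.leaf 37206554)) (.node 1 (.leaf 135727928) (.leaf 149817600))) (.node 2 (.node 1 (.leaf 142505387) (.leaf 75497183)) (.node 1 (.leaf 129792960) (.leaf 142327705)))) (.node 4 (.node 2 (.node 1 (.leaf 144322477) (.leaf 135746180)) (.node 1 (.leaf 129890880) (.leaf 142133733))) (.node 2 (.node 1 (.leaf 139837340) (.leaf 64854935)) (.node 1 (.leaf 130062240) (.leaf 147662939))))) (.node 8 (.node 4 (.node 2 (.node 1 (.leaf 139312582) (.leaf 143055717)) (.node 1 (.leaf 130184640) (.leaf 65882950))) (.node 2 (.node 1 (.leaf 148328267) (.leaf 125598439)) (.node 1 (.leaf 149842080) (.leaf 128482729)))) (.node 4 (.node 2 (.node 1 (.leaf 130453920) (.leaf 70718006)) (.node 1 (.leaf 136773364) (.leaf 28063286))) (.node 2 (.node 1 (.leaf 130502880) (.leaf 130268612)) (.node 1 (.leaf 147286913) (.leaf 139362048)))))) (.node 16 (.node 8 (.node 4 (.node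 2 (.node 1 (.leaf 137943201) (.leaf 81764778)) (.node 1 (.leaf 144834143) (.leaf 128750104))) (.node 2 (.node 1 (.leaf 130576320) (.leaf 117872444)) (.node 1 (.leaf 132830443) (.leaf 57189531)))) (.node 4 (.node 2 (.node 1 (.leaf 130649760) (.leaf 112196744)) (.node 1 (.leaf 141794460) (.leaf 21684293))) (.node 2 (.node 1 (.leaf 130723200) (.leaf 121927897)) (.node 1 (.leaf 130845600) (.leaf 149866560))))) (.node 8 (.node 4 (.node 2 (.node 1 (.leaf 130968000) (.leaf 148471288)) (.node 1 (.leaf 139459224) (.leaf 149891040))) (.node 2 (.node 1 (.leaf 145057148) (.leaf 58384493)) (.node 1 (.leaf 143943013) (.leaf 149915520)))) (.node 4 (.node 2 (.node 1 (.leaf 131114880) (.leaf 149940000)) (.node 1 (.leaf 147075369) (.leaf 52879139))) (.node 2 (.node 1 (.leaf 131212800) (.leaf 112259984)) (.node 1 (.leaf 146523951) (.leaf 103425345))))))) (.node 32 (.node 16 (.node 8 (.node 4 (.node 2 (.node 1 (.leaf 131261760) (.leaf 134966308)) (.node 1 (.leaf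 131286240) (.leaf 130435498))) (.node 2 (.node 1 (.leaf 149275550) (.leaf 94001363)) (.node 1 (.leaf 131359680) (.leaf 66487864)))) (.node 4 (.node 2 (.node 1 (.leaf 131555520) (.leaf 134582046)) (.node 1 (.leaf 138357497) (.leaf 130257388))) (.node 2 (.node 1 (.leaf 145350835) (.leaf 146472685)) (.node 1 (.leaf 149964480) (.leaf 100547023))))) (.node 8 (.node 4 (.node 2 (.node 1 (.leaf 131873760) (.leaf 149988960)) (.node 1 (.leaf 131922720) (.leaf 122620298))) (.node 2 (.node 1 (.leaf 140179718) (.leaf 141912503)) (.node 1 (.leaf 135202440) (.leaf 48361223)))) (.node 4 (.node 2 (.node 1 (.leaf 149706734) (.leaf 148572051)) (.node 1 (.leaf 132167520) (.leaf 106788117))) (.node 2 (.node 1 (.leaf 132192000) (.leaf 141910241)) (.node 1 (.leaf 140621859) (.leaf 132128606)))))) (.node 16 (.node 8 (.node 4 (.node 2 (.node 1 (.leaf 132289920) (.leaf 89253569)) (.node 1 (.leaf 132338880) (.leaf 32971872))) (.node 2 (.node 1 (.leaf 132363360) (.leaf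 150013440)) (.node 1 (.leaf 134670626) (.leaf 148293238)))) (.node 4 (.node 2 (.node 1 (.leaf 144211543) (.leaf 64116043)) (.node 1 (.leaf 149072532) (.leaf 130878583))) (.node 2 (.node 1 (.leaf 143905388) (.leaf 150037920)) (.node 1 (.leaf 132559200) (.leaf 124761630))))) (.node 8 (.node 4 (.node 2 (.node 1 (.leaf 132608160) (.leaf 150062400)) (.node 1 (.leaf 141154773) (.leaf 139475529))) (.node 2 (.node 1 (.leaf 148861316) (.leaf 119562843)) (.node 1 (.leaf 147748201) (.leaf 57068821)))) (.node 4 (.node 2 (.node 1 (.leaf 135093906) (.leaf 124024693)) (.node 1 (.leaf 132755040) (.leaf 88182435))) (.node 2 (.node 1 (.leaf 148666006) (.leaf 31365708)) (.node 1 (.leaf 138527162) (.leaf 143262363)))))))) (.node 64 (.node 32 (.node 16 (.node 8 (.node 4 (.node 2 (.node 1 (.leaf 148751171) (.leaf 49464909)) (.node 1 (.leaf 132901920) (.leaf 104658219))) (.node 2 (.node 1 (.leaf 135815938) (.leaf 58753163)) (.node 1 (.leaf 149883764) (.leaf 130029207))))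 (.node 4 (.node 2 (.node 1 (.leaf 133073280) (.leaf 139136569)) (.node 1 (.leaf 140163393) (.leaf 106991410))) (.node 2 (.node 1 (.leaf 134191632) (.leaf 141336228)) (.node 1 (.leaf 133146720) (.leaf 102409145))))) (.node 8 (.node 4 (.node 2 (.node 1 (.leaf 133244640) (.leaf 126739806)) (.node 1 (.leaf 150086880) (.leaf 150111360))) (.node 2 (.node 1 (.leaf 143807137) (.leaf 65119990)) (.node 1 (.leaf 135995126) (.leaf 123112969)))) (.node 4 (.node 2 (.node 1 (.leaf 133367040) (.leaf 134763514)) (.node 1 (.leaf 143575280) (.leaf 114066792))) (.node 2 (.node 1 (.leaf 136438102) (.leaf 130415957)) (.node 1 (.leaf 133709760) (.leaf 39077696)))))) (.node 16 (.node 8 (.node 4 (.node 2 (.node 1 (.leaf 150077173) (.leaf 141114022)) (.node 1 (.leaf 133783200) (.leaf 150135840))) (.node 2 (.node 1 (.leaf 147367459) (.leaf 115774409)) (.node 1 (.leaf 143620989) (.leaf 123071217)))) (.node 4 (.node 2 (.node 1 (.leaf 133954560) (.leaf 66157173)) (.node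 1 (.leaf 150160320) (.leaf 144753076))) (.node 2 (.node 1 (.leaf 145169128) (.leaf 134480512)) (.node 1 (.leaf 146552525) (.leaf 79505871))))) (.node 8 (.node 4 (.node 2 (.node 1 (.leaf 134248320) (.leaf 83641956)) (.node 1 (.leaf 135156775) (.leaf 150184800))) (.node 2 (.node 1 (.leaf 137995201) (.leaf 59457221)) (.node 1 (.leaf 149229086) (.leaf 83465420)))) (.node 4 (.node 2 (.node 1 (.leaf 134370720) (.leaf 145228949)) (.node 1 (.leaf 134444160) (.leaf 146694230))) (.node 2 (.node 1 (.leaf 148102237) (.leaf 143171814)) (.node 1 (.leaf 150202259) (.leaf 150209280))))))) (.node 32 (.node 16 (.node 8 (.node 4 (.node 2 (.node 1 (.leaf 150040531) (.leaf 147344062)) (.node 1 (.leaf 149137631) (.leaf 74000437))) (.node 2 (.node 1 (.leaf 134615520) (.leaf 126136333)) (.node 1 (.leaf 148714247) (.leaf 49735229)))) (.node 4 (.node 2 (.node 1 (.leaf 141463902) (.leaf 76966764)) (.node 1 (.leaf 142887712) (.leaf 19350406))) (.node 2 (.node 1 (.leaf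 134933760) (.leaf 147501187)) (.node 1 (.leaf 146930073) (.leaf 143368647))))) (.node 8 (.node 4 (.node 2 (.node 1 (.leaf 150233760) (.leaf 142407518)) (.node 1 (.leaf 135967793) (.leaf 71834849))) (.node 2 (.node 1 (.leaf 149625247) (.leaf 21725309)) (.node 1 (.leaf 150258240) (.leaf 30990207)))) (.node 4 (.node 2 (.node 1 (.leaf 145119607) (.leaf 88990071)) (.node 1 (.leaf 150282720) (.leaf 148994666))) (.node 2 (.node 1 (.leaf 135325440) (.leaf 29374722)) (.node 1 (.leaf 135398880) (.leaf 150093106)))))) (.node 16 (.node 8 (.node 4 (.node 2 (.node 1 (.leaf 147157846) (.leaf 132449097)) (.node 1 (.leaf 149058488) (.leaf 136945866))) (.node 2 (.node 1 (.leaf 135619200) (.leaf 122383691)) (.node 1 (.leaf 141564157) (.leaf 86372157)))) (.node 4 (.node 2 (.node 1 (.leaf 144103947) (.leaf 147605000)) (.node 1 (.leaf 144786242) (.leaf 59713017))) (.node 2 (.node 1 (.leaf 136010880) (.leaf 138729629)) (.node 1 (.leaf 136084320) (.leaf 150307200)))))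 (.node 8 (.node 4 (.node 2 (.node 1 (.leaf 146423853) (.leaf 150331680)) (.node 1 (.leaf 148387725) (.leaf 101512570))) (.node 2 (.node 1 (.leaf 149759436) (.leaf 91778374)) (.node 1 (.leaf 147964801) (.leaf 150288640)))) (.node 4 (.node 2 (.node 1 (.leaf 150113041) (.leaf 119222080)) (.node 1 (.leaf 139573595) (.leaf 138424857))) (.node 2 (.node 1 (.leaf 136524960) (.leaf 92803462)) (.node 1 (.leaf 136598400) (.leaf 105232018))))))))) (.node 128 (.node 64 (.node 32 (.node 16 (.node 8 (.node 4 (.node 2 (.node 1 (.leaf 143152642) (.leaf 149864862)) (.node 1 (.leaf 136991582) (.leaf 118773199))) (.node 2 (.node 1 (.leaf 136818720) (.leaf 141029618)) (.node 1 (.leaf 141979196) (.leaf 131797092)))) (.node 4 (.node 2 (.node 1 (.leaf 137063520) (.leaf 142915625)) (.node 1 (.leaf 137136960) (.leaf 150356160))) (.node 2 (.node 1 (.leaf 137185920) (.leaf 77540323)) (.node 1 (.leaf 150380640) (.leaf 88650740))))) (.node 8 (.node 4 (.node 2 (.node 1 (.leaf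 145864357) (.leaf 149377305)) (.node 1 (.leaf 137381760) (.leaf 109162308))) (.node 2 (.node 1 (.leaf 150405120) (.leaf 150429600)) (.node 1 (.leaf 137406240) (.leaf 123249513)))) (.node 4 (.node 2 (.node 1 (.leaf 149354169) (.leaf 137704150)) (.node 1 (.leaf 142797291) (.leaf 76603470))) (.node 2 (.node 1 (.leaf 137626560) (.leaf 125281290)) (.node 1 (.leaf 140543880) (.leaf 41461061)))))) (.node 16 (.node 8 (.node 4 (.node 2 (.node 1 (.leaf 139738666) (.leaf 52087971)) (.node 1 (.leaf 147434066) (.leaf 126093873))) (.node 2 (.node 1 (.leaf 140907827) (.leaf 150454080)) (.node 1 (.leaf 137895840) (.leaf 100604514)))) (.node 4 (.node 2 (.node 1 (.leaf 137944800) (.leaf 112423756)) (.node 1 (.leaf 150478560) (.leaf 107412453))) (.node 2 (.node 1 (.leaf 146731171) (.leaf 23253935)) (.node 1 (.leaf 138312000) (.leaf 150484741))))) (.node 8 (.node 4 (.node 2 (.node 1 (.leaf 149476372) (.leaf 144712791)) (.node 1 (.leaf 141245784) (.leaf 22627164)))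 (.node 2 (.node 1 (.leaf 150503040) (.leaf 139649958)) (.node 1 (.leaf 150527520) (.leaf 90342324)))) (.node 4 (.node 2 (.node 1 (.leaf 138801600) (.leaf 42878437)) (.node 1 (.leaf 150552000) (.leaf 110172485))) (.node 2 (.node 1 (.leaf 139021920) (.leaf 69708440)) (.node 1 (.leaf 142601351) (.leaf 69563863))))))) (.node 32 (.node 16 (.node 8 (.node 4 (.node 2 (.node 1 (.leaf 144672372) (.leaf 150418886)) (.node 1 (.leaf 139217760) (.leaf 118669800))) (.node 2 (.node 1 (.leaf 147386260) (.leaf 129678928)) (.node 1 (.leaf 139315680) (.leaf 131252337)))) (.node 4 (.node 2 (.node 1 (.leaf 150576480) (.leaf 91585351)) (.node 1 (.leaf 150432359) (.leaf 150535324))) (.node 2 (.node 1 (.leaf 139413600) (.leaf 95689554)) (.node 1 (.leaf 139487040) (.leaf 61564509))))) (.node 8 (.node 4 (.node 2 (.node 1 (.leaf 139511520) (.leaf 149513428)) (.node 1 (.leaf 149834024) (.leaf 97933089))) (.node 2 (.node 1 (.leaf 139707360) (.leaf 126716726)) (.node 1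 (.leaf 149431229) (.leaf 34092918)))) (.node 4 (.node 2 (.node 1 (.leaf 149922060) (.leaf 150575897)) (.node 1 (.leaf 145934267) (.leaf 134119954))) (.node 2 (.node 1 (.leaf 139927680) (.leaf 150392256)) (.node 1 (.leaf 146842892) (.leaf 127680153)))))) (.node 16 (.node 8 (.node 4 (.node 2 (.node 1 (.leaf 149294252) (.leaf 81116262)) (.node 1 (.leaf 145983068) (.leaf 64665436))) (.node 2 (.node 1 (.leaf 141387455) (.leaf 141319374)) (.node 1 (.leaf 150600960) (.leaf 113600710)))) (.node 4 (.node 2 (.node 1 (.leaf 149806888) (.leaf 42712773)) (.node 1 (.leaf 145845880) (.leaf 44814575))) (.node 2 (.node 1 (.leaf 140466240) (.leaf 97187138)) (.node 1 (.leaf 150146924) (.leaf 87324662))))) (.node 8 (.node 4 (.node 2 (.node 1 (.leaf 150474432) (.leaf 129146901)) (.node 1 (.leaf 142225306) (.leaf 145389491))) (.node 2 (.node 1 (.leaf 149453720) (.leaf 149590995)) (.node 1 (.leaf 140735520) (.leaf 82532813)))) (.node 4 (.node 2 (.node 1 (.leaf 140784480)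 (.leaf 149243054)) (.node 1 (.leaf 147181873) (.leaf 150625440))) (.node 2 (.node 1 (.leaf 145718601) (.leaf 33085173)) (.node 1 (.leaf 142106574) (.leaf 119667443)))))))) (.node 64 (.node 32 (.node 16 (.node 8 (.node 4 (.node 2 (.node 1 (.leaf 143459746) (.leaf 31096158)) (.node 1 (.leaf 146789828) (.leaf 59205505))) (.node 2 (.node 1 (.leaf 142325211) (.leaf 32569042)) (.node 1 (.leaf 149191118) (.leaf 113943411)))) (.node 4 (.node 2 (.node 1 (.leaf 146645307) (.leaf 149981574)) (.node 1 (.leaf 141396480) (.leaf 33713046))) (.node 2 (.node 1 (.leaf 145242640) (.leaf 31047599)) (.node 1 (.leaf 148735115) (.leaf 78368372))))) (.node 8 (.node 4 (.node 2 (.node 1 (.leaf 141567840) (.leaf 140144198)) (.node 1 (.leaf 150321998) (.leaf 63733323))) (.node 2 (.node 1 (.leaf 147839739) (.leaf 140701090)) (.node 1 (.leaf 142008480) (.leaf 122343216)))) (.node 4 (.node 2 (.node 1 (.leaf 142778663) (.leaf 59486950)) (.node 1 (.leaf 148617967) (.leaf 147899749)))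 (.node 2 (.node 1 (.leaf 148962306) (.leaf 83865025)) (.node 1 (.leaf 148136432) (.leaf 143231965)))))) (.node 16 (.node 8 (.node 4 (.node 2 (.node 1 (.leaf 142473600) (.leaf 129838677)) (.node 1 (.leaf 142963522) (.leaf 82868205))) (.node 2 (.node 1 (.leaf 142620480) (.leaf 143820939)) (.node 1 (.leaf 142669440) (.leaf 119430650)))) (.node 4 (.node 2 (.node 1 (.leaf 143344288) (.leaf 150174604)) (.node 1 (.leaf 147025194) (.leaf 120505310))) (.node 2 (.node 1 (.leaf 150000975) (.leaf 122869677)) (.node 1 (.leaf 149942679) (.leaf 39333481))))) (.node 8 (.node 4 (.node 2 (.node 1 (.leaf 145494071) (.leaf 150649920)) (.node 1 (.leaf 150659684) (.leaf 135551397))) (.node 2 (.node 1 (.leaf 147403428) (.leaf 113144574)) (.node 1 (.leaf 144040320) (.leaf 146095118)))) (.node 4 (.node 2 (.node 1 (.leaf 148823573) (.leaf 138681121)) (.node 1 (.leaf 148563878) (.leaf 30120317))) (.node 2 (.node 1 (.leaf 144676800) (.leaf 147214619)) (.node 1 (.leaf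 146057094) (.leaf 150279268))))))) (.node 32 (.node 16 (.node 8 (.node 4 (.node 2 (.node 1 (.leaf 150228795) (.leaf 128712546)) (.node 1 (.leaf 148632570) (.leaf 53598806))) (.node 2 (.node 1 (.leaf 149685550) (.leaf 136110736)) (.node 1 (.leaf 145362240) (.leaf 119279520)))) (.node 4 (.node 2 (.node 1 (.leaf 149654937) (.leaf 83182138)) (.node 1 (.leaf 150021081) (.leaf 130313863))) (.node 2 (.node 1 (.leaf 146778488) (.leaf 144366470)) (.node 1 (.leaf 146382825) (.leaf 139680780))))) (.node 8 (.node 4 (.node 2 (.node 1 (.leaf 146194560) (.leaf 126838142)) (.node 1 (.leaf 147454926) (.leaf 27833760))) (.node 2 (.node 1 (.leaf 148905645) (.leaf 96765372)) (.node 1 (.leaf 146488320) (.leaf 150237123)))) (.node 4 (.node 2 (.node 1 (.leaf 146755911) (.leaf 146683242)) (.node 1 (.leaf 149913790) (.leaf 140657780))) (.node 2 (.node 1 (.leaf 146953440) (.leaf 126547555)) (.node 1 (.leaf 147026880) (.leaf 148871707)))))) (.node 16 (.node 8 (.node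 4 (.node 2 (.node 1 (.leaf 147075840) (.leaf 150583982)) (.node 1 (.leaf 149349719) (.leaf 150605440))) (.node 2 (.node 1 (.leaf 150342871) (.leaf 40011302)) (.node 1 (.leaf 150360083) (.leaf 146362454)))) (.node 4 (.node 2 (.node 1 (.leaf 147712320) (.leaf 147687437)) (.node 1 (.leaf 147785760) (.leaf 149558595))) (.node 2 (.node 1 (.leaf 148460067) (.leaf 108313743)) (.node 1 (.leaf 148913814) (.leaf 33166273))))) (.node 8 (.node 4 (.node 2 (.node 1 (.leaf 148055040) (.leaf 118917802)) (.node 1 (.leaf 148177440) (.leaf 143443065))) (.node 2 (.node 1 (.leaf 148201920) (.leaf 150507253)) (.node 1 (.leaf 148250880) (.leaf 140830422)))) (.node 4 (.node 2 (.node 1 (.leaf 148422240) (.leaf 145589668)) (.node 1 (.leaf 148789440) (.leaf 139961699))) (.node 2 (.node 1 (.leaf 150674400) (.leaf 150682940)) (.node 1 (.leaf 149733318) (.node 1 (.leaf 63904701) (.leaf 150625440))))))))))))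

/-- `e0Tab`. -/
def e0Tab : BT ℕ :=
  (.node 6156 (.node 3078 (.node 1026 e0Tab_0 (.node 1026 e0Tab_1 e0Tab_2)) (.node 1026 e0Tab_3 (.node 1026 e0Tab_4 e0Tab_5))) (.node 3078 (.node 1026 e0Tab_6 (.node 1026 e0Tab_7 e0Tab_8)) (.node 1026 e0Tab_9 (.node 1026 e0Tab_10 e0Tab_11))))

/-- Part 0 of `par0Tab`. -/
def par0Tab_0 : BT ℕ :=
  (.node 256 (.node 128 (.node 64 (.node 32 (.node 16 (.node 8 (.node 4 (.node 2 (.node 1 (.leaf 0) (.leaf 0)) (.node 1 (.leaf 1) (.leaf 2))) (.node 2 (.node 1 (.leaf 3) (.leaf 4)) (.node 1 (.leaf 6) (.leaf 8)))) (.node 4 (.node 2 (.node 1 (.leaf 10) (.leaf 11)) (.node 1 (.leaf 12) (.leaf 13))) (.node 2 (.node 1 (.leaf 14) (.leaf 15)) (.node 1 (.leaf 16) (.leaf 17))))) (.node 8 (.node 4 (.node 2 (.node 1 (.leaf 18) (.leaf 20)) (.node 1 (.leaf 21) (.leaf 22))) (.node 2 (.node 1 (.leaf 24) (.leaf 25)) (.node 1 (.leaf 26) (.leaf 28)))) (.node 4 (.node 2 (.node 1 (.leaf 29) (.leaf 30)) (.node 1 (.leaf 32) (.leaf 33)))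 (.node 2 (.node 1 (.leaf 34) (.leaf 35)) (.node 1 (.leaf 36) (.leaf 38)))))) (.node 16 (.node 8 (.node 4 (.node 2 (.node 1 (.leaf 39) (.leaf 40)) (.node 1 (.leaf 41) (.leaf 42))) (.node 2 (.node 1 (.leaf 44) (.leaf 45)) (.node 1 (.leaf 46) (.leaf 47)))) (.node 4 (.node 2 (.node 1 (.leaf 48) (.leaf 50)) (.node 1 (.leaf 51) (.leaf 52))) (.node 2 (.node 1 (.leaf 53) (.leaf 54)) (.node 1 (.leaf 56) (.leaf 57))))) (.node 8 (.node 4 (.node 2 (.node 1 (.leaf 58) (.leaf 60)) (.node 1 (.leaf 61) (.leaf 62))) (.node 2 (.node 1 (.leaf 63) (.leaf 64)) (.node 1 (.leaf 66) (.leaf 67)))) (.node 4 (.node 2 (.node 1 (.leaf 68) (.leaf 70)) (.node 1 (.leaf 71) (.leaf 72))) (.node 2 (.node 1 (.leaf 73) (.leaf 74)) (.node 1 (.leaf 76) (.leaf 77))))))) (.node 32 (.node 16 (.node 8 (.node 4 (.node 2 (.node 1 (.leaf 78) (.leaf 81)) (.node 1 (.leaf 82) (.leaf 83))) (.node 2 (.node 1 (.leaf 84) (.leaf 86)) (.node 1 (.leaf 87) (.leaf 88)))) (.node 4 (.node 2 (.node 1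 (.leaf 90) (.leaf 91)) (.node 1 (.leaf 93) (.leaf 94))) (.node 2 (.node 1 (.leaf 96) (.leaf 97)) (.node 1 (.leaf 98) (.leaf 99))))) (.node 8 (.node 4 (.node 2 (.node 1 (.leaf 100) (.leaf 102)) (.node 1 (.leaf 103) (.leaf 104))) (.node 2 (.node 1 (.leaf 106) (.leaf 107)) (.node 1 (.leaf 109) (.leaf 110)))) (.node 4 (.node 2 (.node 1 (.leaf 112) (.leaf 113)) (.node 1 (.leaf 114) (.leaf 116))) (.node 2 (.node 1 (.leaf 118) (.leaf 119)) (.node 1 (.leaf 120) (.leaf 122)))))) (.node 16 (.node 8 (.node 4 (.node 2 (.node 1 (.leaf 123) (.leaf 124)) (.node 1 (.leaf 125) (.leaf 126))) (.node 2 (.node 1 (.leaf 128) (.leaf 129)) (.node 1 (.leaf 130) (.leaf 132)))) (.node 4 (.node 2 (.node 1 (.leaf 133) (.leaf 134)) (.node 1 (.leaf 136) (.leaf 137))) (.node 2 (.node 1 (.leaf 138) (.leaf 139)) (.node 1 (.leaf 140) (.leaf 142))))) (.node 8 (.node 4 (.node 2 (.node 1 (.leaf 143) (.leaf 144)) (.node 1 (.leaf 145) (.leaf 146))) (.node 2 (.node 1 (.leaf 148) (.leaf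 150)) (.node 1 (.leaf 151) (.leaf 152)))) (.node 4 (.node 2 (.node 1 (.leaf 153) (.leaf 154)) (.node 1 (.leaf 156) (.leaf 157))) (.node 2 (.node 1 (.leaf 158) (.leaf 160)) (.node 1 (.leaf 161) (.leaf 162)))))))) (.node 64 (.node 32 (.node 16 (.node 8 (.node 4 (.node 2 (.node 1 (.leaf 163) (.leaf 164)) (.node 1 (.leaf 166) (.leaf 167))) (.node 2 (.node 1 (.leaf 168) (.leaf 169)) (.node 1 (.leaf 170) (.leaf 172)))) (.node 4 (.node 2 (.node 1 (.leaf 174) (.leaf 175)) (.node 1 (.leaf 176) (.leaf 177))) (.node 2 (.node 1 (.leaf 178) (.leaf 180)) (.node 1 (.leaf 181) (.leaf 182))))) (.node 8 (.node 4 (.node 2 (.node 1 (.leaf 183) (.leaf 184)) (.node 1 (.leaf 185) (.leaf 186))) (.node 2 (.node 1 (.leaf 188) (.leaf 189)) (.node 1 (.leaf 190) (.leaf 191)))) (.node 4 (.node 2 (.node 1 (.leaf 192) (.leaf 195)) (.node 1 (.leaf 196) (.leaf 198))) (.node 2 (.node 1 (.leaf 199) (.leaf 200)) (.node 1 (.leaf 201) (.leaf 202)))))) (.node 16 (.node 8 (.node 4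 (.node 2 (.node 1 (.leaf 204) (.leaf 205)) (.node 1 (.leaf 206) (.leaf 207))) (.node 2 (.node 1 (.leaf 208) (.leaf 210)) (.node 1 (.leaf 211) (.leaf 212)))) (.node 4 (.node 2 (.node 1 (.leaf 213) (.leaf 214)) (.node 1 (.leaf 216) (.leaf 217))) (.node 2 (.node 1 (.leaf 218) (.leaf 220)) (.node 1 (.leaf 221) (.leaf 222))))) (.node 8 (.node 4 (.node 2 (.node 1 (.leaf 223) (.leaf 224)) (.node 1 (.leaf 226) (.leaf 227))) (.node 2 (.node 1 (.leaf 228) (.leaf 230)) (.node 1 (.leaf 231) (.leaf 232)))) (.node 4 (.node 2 (.node 1 (.leaf 233) (.leaf 234)) (.node 1 (.leaf 235) (.leaf 236))) (.node 2 (.node 1 (.leaf 238) (.leaf 239)) (.node 1 (.leaf 240) (.leaf 242))))))) (.node 32 (.node 16 (.node 8 (.node 4 (.node 2 (.node 1 (.leaf 244) (.leaf 245)) (.node 1 (.leaf 246) (.leaf 248))) (.node 2 (.node 1 (.leaf 249) (.leaf 250)) (.node 1 (.leaf 251) (.leaf 252)))) (.node 4 (.node 2 (.node 1 (.leaf 254) (.leaf 255)) (.node 1 (.leaf 256) (.leaf 258))) (.node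 2 (.node 1 (.leaf 259) (.leaf 260)) (.node 1 (.leaf 261) (.leaf 262))))) (.node 8 (.node 4 (.node 2 (.node 1 (.leaf 264) (.leaf 265)) (.node 1 (.leaf 266) (.leaf 268))) (.node 2 (.node 1 (.leaf 269) (.leaf 270)) (.node 1 (.leaf 271) (.leaf 272)))) (.node 4 (.node 2 (.node 1 (.leaf 273) (.leaf 274)) (.node 1 (.leaf 276) (.leaf 277))) (.node 2 (.node 1 (.leaf 278) (.leaf 280)) (.node 1 (.leaf 281) (.leaf 282)))))) (.node 16 (.node 8 (.node 4 (.node 2 (.node 1 (.leaf 283) (.leaf 284)) (.node 1 (.leaf 286) (.leaf 287))) (.node 2 (.node 1 (.leaf 288) (.leaf 290)) (.node 1 (.leaf 291) (.leaf 292)))) (.node 4 (.node 2 (.node 1 (.leaf 294) (.leaf 295)) (.node 1 (.leaf 296) (.leaf 297))) (.node 2 (.node 1 (.leaf 298) (.leaf 300)) (.node 1 (.leaf 301) (.leaf 302))))) (.node 8 (.node 4 (.node 2 (.node 1 (.leaf 304) (.leaf 305)) (.node 1 (.leaf 306) (.leaf 308))) (.node 2 (.node 1 (.leaf 309) (.leaf 310)) (.node 1 (.leaf 311) (.leaf 312)))) (.node 4 (.node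 2 (.node 1 (.leaf 314) (.leaf 315)) (.node 1 (.leaf 316) (.leaf 318))) (.node 2 (.node 1 (.leaf 319) (.leaf 320)) (.node 1 (.leaf 321) (.leaf 322))))))))) (.node 128 (.node 64 (.node 32 (.node 16 (.node 8 (.node 4 (.node 2 (.node 1 (.leaf 324) (.leaf 325)) (.node 1 (.leaf 326) (.leaf 328))) (.node 2 (.node 1 (.leaf 329) (.leaf 330)) (.node 1 (.leaf 331) (.leaf 332)))) (.node 4 (.node 2 (.node 1 (.leaf 334) (.leaf 335)) (.node 1 (.leaf 336) (.leaf 338))) (.node 2 (.node 1 (.leaf 339) (.leaf 340)) (.node 1 (.leaf 341) (.leaf 342))))) (.node 8 (.node 4 (.node 2 (.node 1 (.leaf 344) (.leaf 345)) (.node 1 (.leaf 346) (.leaf 347))) (.node 2 (.node 1 (.leaf 348) (.leaf 350)) (.node 1 (.leaf 351) (.leaf 352)))) (.node 4 (.node 2 (.node 1 (.leaf 354) (.leaf 355)) (.node 1 (.leaf 356) (.leaf 357))) (.node 2 (.node 1 (.leaf 358) (.leaf 360)) (.node 1 (.leaf 361) (.leaf 362)))))) (.node 16 (.node 8 (.node 4 (.node 2 (.node 1 (.leaf 363) (.leaf 364)) (.node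 1 (.leaf 366) (.leaf 367))) (.node 2 (.node 1 (.leaf 368) (.leaf 370)) (.node 1 (.leaf 371) (.leaf 372)))) (.node 4 (.node 2 (.node 1 (.leaf 374) (.leaf 375)) (.node 1 (.leaf 376) (.leaf 377))) (.node 2 (.node 1 (.leaf 378) (.leaf 380)) (.node 1 (.leaf 381) (.leaf 382))))) (.node 8 (.node 4 (.node 2 (.node 1 (.leaf 383) (.leaf 384)) (.node 1 (.leaf 385) (.leaf 386))) (.node 2 (.node 1 (.leaf 388) (.leaf 389)) (.node 1 (.leaf 390) (.leaf 391)))) (.node 4 (.node 2 (.node 1 (.leaf 392) (.leaf 394)) (.node 1 (.leaf 395) (.leaf 396))) (.node 2 (.node 1 (.leaf 398) (.leaf 399)) (.node 1 (.leaf 400) (.leaf 401))))))) (.node 32 (.node 16 (.node 8 (.node 4 (.node 2 (.node 1 (.leaf 402) (.leaf 404)) (.node 1 (.leaf 405) (.leaf 406))) (.node 2 (.node 1 (.leaf 407) (.leaf 408)) (.node 1 (.leaf 410) (.leaf 411)))) (.node 4 (.node 2 (.node 1 (.leaf 412) (.leaf 414)) (.node 1 (.leaf 415) (.leaf 416))) (.node 2 (.node 1 (.leaf 417) (.leaf 418)) (.node 1 (.leaf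 420) (.leaf 421))))) (.node 8 (.node 4 (.node 2 (.node 1 (.leaf 422) (.leaf 423)) (.node 1 (.leaf 426) (.leaf 427))) (.node 2 (.node 1 (.leaf 428) (.leaf 430)) (.node 1 (.leaf 432) (.leaf 434)))) (.node 4 (.node 2 (.node 1 (.leaf 435) (.leaf 436)) (.node 1 (.leaf 437) (.leaf 438))) (.node 2 (.node 1 (.leaf 441) (.leaf 442)) (.node 1 (.leaf 443) (.leaf 444)))))) (.node 16 (.node 8 (.node 4 (.node 2 (.node 1 (.leaf 446) (.leaf 448)) (.node 1 (.leaf 450) (.leaf 451))) (.node 2 (.node 1 (.leaf 452) (.leaf 453)) (.node 1 (.leaf 454) (.leaf 456)))) (.node 4 (.node 2 (.node 1 (.leaf 457) (.leaf 458)) (.node 1 (.leaf 459) (.leaf 460))) (.node 2 (.node 1 (.leaf 462) (.leaf 463)) (.node 1 (.leaf 464) (.leaf 466))))) (.node 8 (.node 4 (.node 2 (.node 1 (.leaf 468) (.leaf 469)) (.node 1 (.leaf 470) (.leaf 472))) (.node 2 (.node 1 (.leaf 473) (.leaf 474)) (.node 1 (.leaf 475) (.leaf 476)))) (.node 4 (.node 2 (.node 1 (.leaf 479) (.leaf 480)) (.node 1 (.leaf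 482) (.leaf 484))) (.node 2 (.node 1 (.leaf 485) (.leaf 486)) (.node 1 (.leaf 487) (.leaf 488)))))))) (.node 64 (.node 32 (.node 16 (.node 8 (.node 4 (.node 2 (.node 1 (.leaf 490) (.leaf 491)) (.node 1 (.leaf 492) (.leaf 494))) (.node 2 (.node 1 (.leaf 495) (.leaf 496)) (.node 1 (.leaf 497) (.leaf 498)))) (.node 4 (.node 2 (.node 1 (.leaf 500) (.leaf 501)) (.node 1 (.leaf 502) (.leaf 503))) (.node 2 (.node 1 (.leaf 504) (.leaf 506)) (.node 1 (.leaf 507) (.leaf 508))))) (.node 8 (.node 4 (.node 2 (.node 1 (.leaf 510) (.leaf 511)) (.node 1 (.leaf 512) (.leaf 513))) (.node 2 (.node 1 (.leaf 514) (.leaf 516)) (.node 1 (.leaf 517) (.leaf 518)))) (.node 4 (.node 2 (.node 1 (.leaf 519) (.leaf 520)) (.node 1 (.leaf 522) (.leaf 523))) (.node 2 (.node 1 (.leaf 524) (.leaf 526)) (.node 1 (.leaf 527) (.leaf 528)))))) (.node 16 (.node 8 (.node 4 (.node 2 (.node 1 (.leaf 529) (.leaf 530)) (.node 1 (.leaf 532) (.leaf 533))) (.node 2 (.node 1 (.leaf 534) (.leaf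 535)) (.node 1 (.leaf 536) (.leaf 539)))) (.node 4 (.node 2 (.node 1 (.leaf 540) (.leaf 542)) (.node 1 (.leaf 544) (.leaf 545))) (.node 2 (.node 1 (.leaf 546) (.leaf 548)) (.node 1 (.leaf 549) (.leaf 550))))) (.node 8 (.node 4 (.node 2 (.node 1 (.leaf 552) (.leaf 553)) (.node 1 (.leaf 554) (.leaf 555))) (.node 2 (.node 1 (.leaf 556) (.leaf 558)) (.node 1 (.leaf 559) (.leaf 560)))) (.node 4 (.node 2 (.node 1 (.leaf 561) (.leaf 562)) (.node 1 (.leaf 564) (.leaf 565))) (.node 2 (.node 1 (.leaf 566) (.leaf 568)) (.node 1 (.leaf 569) (.leaf 570))))))) (.node 32 (.node 16 (.node 8 (.node 4 (.node 2 (.node 1 (.leaf 571) (.leaf 572)) (.node 1 (.leaf 574) (.leaf 575))) (.node 2 (.node 1 (.leaf 576) (.leaf 578)) (.node 1 (.leaf 579) (.leaf 580)))) (.node 4 (.node 2 (.node 1 (.leaf 581) (.leaf 582)) (.node 1 (.leaf 584) (.leaf 585))) (.node 2 (.node 1 (.leaf 586) (.leaf 587)) (.node 1 (.leaf 588) (.leaf 590))))) (.node 8 (.node 4 (.node 2 (.node 1 (.leaf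 591) (.leaf 592)) (.node 1 (.leaf 593) (.leaf 594))) (.node 2 (.node 1 (.leaf 596) (.leaf 597)) (.node 1 (.leaf 598) (.leaf 600)))) (.node 4 (.node 2 (.node 1 (.leaf 601) (.leaf 602)) (.node 1 (.leaf 603) (.leaf 604))) (.node 2 (.node 1 (.leaf 606) (.leaf 607)) (.node 1 (.leaf 608) (.leaf 610)))))) (.node 16 (.node 8 (.node 4 (.node 2 (.node 1 (.leaf 611) (.leaf 612)) (.node 1 (.leaf 614) (.leaf 615))) (.node 2 (.node 1 (.leaf 616) (.leaf 617)) (.node 1 (.leaf 618) (.leaf 620)))) (.node 4 (.node 2 (.node 1 (.leaf 621) (.leaf 622)) (.node 1 (.leaf 624) (.leaf 625))) (.node 2 (.node 1 (.leaf 626) (.leaf 627)) (.node 1 (.leaf 628) (.leaf 630))))) (.node 8 (.node 4 (.node 2 (.node 1 (.leaf 632) (.leaf 633)) (.node 1 (.leaf 634) (.leaf 637))) (.node 2 (.node 1 (.leaf 638) (.leaf 640)) (.node 1 (.leaf 641) (.leaf 642)))) (.node 4 (.node 2 (.node 1 (.leaf 643) (.leaf 644)) (.node 1 (.leaf 646) (.leaf 647))) (.node 2 (.node 1 (.leaf 648) (.leaf 650))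 (.node 1 (.leaf 651) (.node 1 (.leaf 652) (.leaf 653)))))))))))

/-- Part 1 of `par0Tab`. -/
def par0Tab_1 : BT ℕ :=
  (.node 256 (.node 128 (.node 64 (.node 32 (.node 16 (.node 8 (.node 4 (.node 2 (.node 1 (.leaf 654) (.leaf 656)) (.node 1 (.leaf 657) (.leaf 658))) (.node 2 (.node 1 (.leaf 659) (.leaf 660)) (.node 1 (.leaf 662) (.leaf 663)))) (.node 4 (.node 2 (.node 1 (.leaf 664) (.leaf 666)) (.node 1 (.leaf 667) (.leaf 669))) (.node 2 (.node 1 (.leaf 670) (.leaf 672)) (.node 1 (.leaf 673) (.leaf 674))))) (.node 8 (.node 4 (.node 2 (.node 1 (.leaf 676) (.leaf 677)) (.node 1 (.leaf 678) (.leaf 680))) (.node 2 (.node 1 (.leaf 681) (.leaf 682)) (.node 1 (.leaf 683) (.leaf 684)))) (.node 4 (.node 2 (.node 1 (.leaf 685) (.leaf 686)) (.node 1 (.leaf 687) (.leaf 688))) (.node 2 (.node 1 (.leaf 690) (.leaf 691)) (.node 1 (.leaf 692) (.leaf 694)))))) (.node 16 (.node 8 (.node 4 (.node 2 (.node 1 (.leaf 695) (.leaf 696)) (.node 1 (.leaf 698) (.leaf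 699))) (.node 2 (.node 1 (.leaf 700) (.leaf 702)) (.node 1 (.leaf 703) (.leaf 704)))) (.node 4 (.node 2 (.node 1 (.leaf 705) (.leaf 706)) (.node 1 (.leaf 708) (.leaf 709))) (.node 2 (.node 1 (.leaf 710) (.leaf 712)) (.node 1 (.leaf 713) (.leaf 714))))) (.node 8 (.node 4 (.node 2 (.node 1 (.leaf 716) (.leaf 717)) (.node 1 (.leaf 718) (.leaf 719))) (.node 2 (.node 1 (.leaf 720) (.leaf 724)) (.node 1 (.leaf 726) (.leaf 727)))) (.node 4 (.node 2 (.node 1 (.leaf 728) (.leaf 729)) (.node 1 (.leaf 730) (.leaf 732))) (.node 2 (.node 1 (.leaf 733) (.leaf 734)) (.node 1 (.leaf 735) (.leaf 736))))))) (.node 32 (.node 16 (.node 8 (.node 4 (.node 2 (.node 1 (.leaf 737) (.leaf 738)) (.node 1 (.leaf 740) (.leaf 741))) (.node 2 (.node 1 (.leaf 742) (.leaf 743)) (.node 1 (.leaf 744) (.leaf 746)))) (.node 4 (.node 2 (.node 1 (.leaf 747) (.leaf 748)) (.node 1 (.leaf 750) (.leaf 751))) (.node 2 (.node 1 (.leaf 752) (.leaf 754)) (.node 1 (.leaf 755) (.leaf 756)))))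 (.node 8 (.node 4 (.node 2 (.node 1 (.leaf 757) (.leaf 758)) (.node 1 (.leaf 759) (.leaf 760))) (.node 2 (.node 1 (.leaf 762) (.leaf 763)) (.node 1 (.leaf 764) (.leaf 766)))) (.node 4 (.node 2 (.node 1 (.leaf 767) (.leaf 768)) (.node 1 (.leaf 769) (.leaf 770))) (.node 2 (.node 1 (.leaf 772) (.leaf 773)) (.node 1 (.leaf 774) (.leaf 775)))))) (.node 16 (.node 8 (.node 4 (.node 2 (.node 1 (.leaf 776) (.leaf 778)) (.node 1 (.leaf 779) (.leaf 780))) (.node 2 (.node 1 (.leaf 782) (.leaf 783)) (.node 1 (.leaf 784) (.leaf 785)))) (.node 4 (.node 2 (.node 1 (.leaf 786) (.leaf 788)) (.node 1 (.leaf 789) (.leaf 790))) (.node 2 (.node 1 (.leaf 792) (.leaf 793)) (.node 1 (.leaf 794) (.leaf 795))))) (.node 8 (.node 4 (.node 2 (.node 1 (.leaf 796) (.leaf 798)) (.node 1 (.leaf 799) (.leaf 800))) (.node 2 (.node 1 (.leaf 801) (.leaf 802)) (.node 1 (.leaf 805) (.leaf 806)))) (.node 4 (.node 2 (.node 1 (.leaf 808) (.leaf 809)) (.node 1 (.leaf 811) (.leaf 812)))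 (.node 2 (.node 1 (.leaf 814) (.leaf 815)) (.node 1 (.leaf 816) (.leaf 818)))))))) (.node 64 (.node 32 (.node 16 (.node 8 (.node 4 (.node 2 (.node 1 (.leaf 819) (.leaf 820)) (.node 1 (.leaf 821) (.leaf 822))) (.node 2 (.node 1 (.leaf 824) (.leaf 825)) (.node 1 (.leaf 826) (.leaf 828)))) (.node 4 (.node 2 (.node 1 (.leaf 830) (.leaf 831)) (.node 1 (.leaf 832) (.leaf 834))) (.node 2 (.node 1 (.leaf 835) (.leaf 836)) (.node 1 (.leaf 837) (.leaf 838))))) (.node 8 (.node 4 (.node 2 (.node 1 (.leaf 840) (.leaf 841)) (.node 1 (.leaf 842) (.leaf 844))) (.node 2 (.node 1 (.leaf 845) (.leaf 848)) (.node 1 (.leaf 849) (.leaf 850)))) (.node 4 (.node 2 (.node 1 (.leaf 852) (.leaf 853)) (.node 1 (.leaf 854) (.leaf 857))) (.node 2 (.node 1 (.leaf 858) (.leaf 859)) (.node 1 (.leaf 860) (.leaf 862)))))) (.node 16 (.node 8 (.node 4 (.node 2 (.node 1 (.leaf 863) (.leaf 864)) (.node 1 (.leaf 865) (.leaf 866))) (.node 2 (.node 1 (.leaf 868) (.leaf 869)) (.node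 1 (.leaf 870) (.leaf 872)))) (.node 4 (.node 2 (.node 1 (.leaf 873) (.leaf 874)) (.node 1 (.leaf 875) (.leaf 876))) (.node 2 (.node 1 (.leaf 878) (.leaf 879)) (.node 1 (.leaf 880) (.leaf 882))))) (.node 8 (.node 4 (.node 2 (.node 1 (.leaf 883) (.leaf 884)) (.node 1 (.leaf 885) (.leaf 886))) (.node 2 (.node 1 (.leaf 888) (.leaf 889)) (.node 1 (.leaf 890) (.leaf 891)))) (.node 4 (.node 2 (.node 1 (.leaf 892) (.leaf 894)) (.node 1 (.leaf 895) (.leaf 896))) (.node 2 (.node 1 (.leaf 898) (.leaf 899)) (.node 1 (.leaf 900) (.leaf 901))))))) (.node 32 (.node 16 (.node 8 (.node 4 (.node 2 (.node 1 (.leaf 904) (.leaf 905)) (.node 1 (.leaf 906) (.leaf 907))) (.node 2 (.node 1 (.leaf 908) (.leaf 910)) (.node 1 (.leaf 911) (.leaf 912)))) (.node 4 (.node 2 (.node 1 (.leaf 914) (.leaf 915)) (.node 1 (.leaf 916) (.leaf 917))) (.node 2 (.node 1 (.leaf 918) (.leaf 920)) (.node 1 (.leaf 921) (.leaf 922))))) (.node 8 (.node 4 (.node 2 (.node 1 (.leaf 924) (.leaf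 925)) (.node 1 (.leaf 926) (.leaf 927))) (.node 2 (.node 1 (.leaf 928) (.leaf 930)) (.node 1 (.leaf 931) (.leaf 932)))) (.node 4 (.node 2 (.node 1 (.leaf 935) (.leaf 936)) (.node 1 (.leaf 937) (.leaf 938))) (.node 2 (.node 1 (.leaf 941) (.leaf 942)) (.node 1 (.leaf 944) (.leaf 946)))))) (.node 16 (.node 8 (.node 4 (.node 2 (.node 1 (.leaf 947) (.leaf 948)) (.node 1 (.leaf 950) (.leaf 952))) (.node 2 (.node 1 (.leaf 953) (.leaf 954)) (.node 1 (.leaf 956) (.leaf 957)))) (.node 4 (.node 2 (.node 1 (.leaf 959) (.leaf 960)) (.node 1 (.leaf 962) (.leaf 963))) (.node 2 (.node 1 (.leaf 964) (.leaf 965)) (.node 1 (.leaf 966) (.leaf 968))))) (.node 8 (.node 4 (.node 2 (.node 1 (.leaf 969) (.leaf 970)) (.node 1 (.leaf 972) (.leaf 973))) (.node 2 (.node 1 (.leaf 974) (.leaf 975)) (.node 1 (.leaf 976) (.leaf 978)))) (.node 4 (.node 2 (.node 1 (.leaf 980) (.leaf 981)) (.node 1 (.leaf 982) (.leaf 984))) (.node 2 (.node 1 (.leaf 985) (.leaf 986)) (.node 1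 (.leaf 988) (.leaf 989))))))))) (.node 128 (.node 64 (.node 32 (.node 16 (.node 8 (.node 4 (.node 2 (.node 1 (.leaf 990) (.leaf 992)) (.node 1 (.leaf 993) (.leaf 994))) (.node 2 (.node 1 (.leaf 996) (.leaf 997)) (.node 1 (.leaf 998) (.leaf 1000)))) (.node 4 (.node 2 (.node 1 (.leaf 1002) (.leaf 1003)) (.node 1 (.leaf 1004) (.leaf 1006))) (.node 2 (.node 1 (.leaf 1008) (.leaf 1010)) (.node 1 (.leaf 1011) (.leaf 1012))))) (.node 8 (.node 4 (.node 2 (.node 1 (.leaf 1013) (.leaf 1014)) (.node 1 (.leaf 1016) (.leaf 1017))) (.node 2 (.node 1 (.leaf 1018) (.leaf 1019)) (.node 1 (.leaf 1020) (.leaf 1022)))) (.node 4 (.node 2 (.node 1 (.leaf 1023) (.leaf 1024)) (.node 1 (.leaf 1026) (.leaf 1027))) (.node 2 (.node 1 (.leaf 1028) (.leaf 1029)) (.node 1 (.leaf 1030) (.leaf 1032)))))) (.node 16 (.node 8 (.node 4 (.node 2 (.node 1 (.leaf 1033) (.leaf 1034)) (.node 1 (.leaf 1036) (.leaf 1037))) (.node 2 (.node 1 (.leaf 1038) (.leaf 1039)) (.node 1 (.leaf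 1040) (.leaf 1042)))) (.node 4 (.node 2 (.node 1 (.leaf 1043) (.leaf 1044)) (.node 1 (.leaf 1045) (.leaf 1046))) (.node 2 (.node 1 (.leaf 1048) (.leaf 1050)) (.node 1 (.leaf 1051) (.leaf 1052))))) (.node 8 (.node 4 (.node 2 (.node 1 (.leaf 1053) (.leaf 1054)) (.node 1 (.leaf 1056) (.leaf 1057))) (.node 2 (.node 1 (.leaf 1058) (.leaf 1059)) (.node 1 (.leaf 1060) (.leaf 1062)))) (.node 4 (.node 2 (.node 1 (.leaf 1063) (.leaf 1064)) (.node 1 (.leaf 1065) (.leaf 1066))) (.node 2 (.node 1 (.leaf 1068) (.leaf 1069)) (.node 1 (.leaf 1070) (.leaf 1073))))))) (.node 32 (.node 16 (.node 8 (.node 4 (.node 2 (.node 1 (.leaf 1074) (.leaf 1076)) (.node 1 (.leaf 1077) (.leaf 1078))) (.node 2 (.node 1 (.leaf 1080) (.leaf 1081)) (.node 1 (.leaf 1082) (.leaf 1083)))) (.node 4 (.node 2 (.node 1 (.leaf 1084) (.leaf 1086)) (.node 1 (.leaf 1087) (.leaf 1088))) (.node 2 (.node 1 (.leaf 1089) (.leaf 1090)) (.node 1 (.leaf 1092) (.leaf 1093))))) (.node 8 (.node 4 (.node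 2 (.node 1 (.leaf 1094) (.leaf 1095)) (.node 1 (.leaf 1096) (.leaf 1098))) (.node 2 (.node 1 (.leaf 1099) (.leaf 1100)) (.node 1 (.leaf 1101) (.leaf 1102)))) (.node 4 (.node 2 (.node 1 (.leaf 1105) (.leaf 1106)) (.node 1 (.leaf 1108) (.leaf 1110))) (.node 2 (.node 1 (.leaf 1111) (.leaf 1112)) (.node 1 (.leaf 1114) (.leaf 1115)))))) (.node 16 (.node 8 (.node 4 (.node 2 (.node 1 (.leaf 1116) (.leaf 1117)) (.node 1 (.leaf 1118) (.leaf 1120))) (.node 2 (.node 1 (.leaf 1121) (.leaf 1122)) (.node 1 (.leaf 1123) (.leaf 1124)))) (.node 4 (.node 2 (.node 1 (.leaf 1126) (.leaf 1127)) (.node 1 (.leaf 1128) (.leaf 1131))) (.node 2 (.node 1 (.leaf 1132) (.leaf 1133)) (.node 1 (.leaf 1134) (.leaf 1135))))) (.node 8 (.node 4 (.node 2 (.node 1 (.leaf 1138) (.leaf 1139)) (.node 1 (.leaf 1140) (.leaf 1142))) (.node 2 (.node 1 (.leaf 1143) (.leaf 1144)) (.node 1 (.leaf 1145) (.leaf 1146)))) (.node 4 (.node 2 (.node 1 (.leaf 1149) (.leaf 1150)) (.node 1 (.leaf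 1152) (.leaf 1153))) (.node 2 (.node 1 (.leaf 1154) (.leaf 1156)) (.node 1 (.leaf 1157) (.leaf 1158)))))))) (.node 64 (.node 32 (.node 16 (.node 8 (.node 4 (.node 2 (.node 1 (.leaf 1159) (.leaf 1160)) (.node 1 (.leaf 1162) (.leaf 1163))) (.node 2 (.node 1 (.leaf 1164) (.leaf 1166)) (.node 1 (.leaf 1167) (.leaf 1168)))) (.node 4 (.node 2 (.node 1 (.leaf 1169) (.leaf 1170)) (.node 1 (.leaf 1172) (.leaf 1173))) (.node 2 (.node 1 (.leaf 1174) (.leaf 1176)) (.node 1 (.leaf 1178) (.leaf 1179))))) (.node 8 (.node 4 (.node 2 (.node 1 (.leaf 1180) (.leaf 1182)) (.node 1 (.leaf 1184) (.leaf 1185))) (.node 2 (.node 1 (.leaf 1186) (.leaf 1188)) (.node 1 (.leaf 1189) (.leaf 1190)))) (.node 4 (.node 2 (.node 1 (.leaf 1192) (.leaf 1193)) (.node 1 (.leaf 1194) (.leaf 1195))) (.node 2 (.node 1 (.leaf 1196) (.leaf 1198)) (.node 1 (.leaf 1199) (.leaf 1200)))))) (.node 16 (.node 8 (.node 4 (.node 2 (.node 1 (.leaf 1201) (.leaf 1202)) (.node 1 (.leaf 1204) (.leaf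 1205))) (.node 2 (.node 1 (.leaf 1206) (.leaf 1208)) (.node 1 (.leaf 1209) (.leaf 1210)))) (.node 4 (.node 2 (.node 1 (.leaf 1211) (.leaf 1212)) (.node 1 (.leaf 1214) (.leaf 1216))) (.node 2 (.node 1 (.leaf 1218) (.leaf 1219)) (.node 1 (.leaf 1220) (.leaf 1221))))) (.node 8 (.node 4 (.node 2 (.node 1 (.leaf 1222) (.leaf 1224)) (.node 1 (.leaf 1225) (.leaf 1226))) (.node 2 (.node 1 (.leaf 1227) (.leaf 1228)) (.node 1 (.leaf 1230) (.leaf 1231)))) (.node 4 (.node 2 (.node 1 (.leaf 1232) (.leaf 1234)) (.node 1 (.leaf 1236) (.leaf 1237))) (.node 2 (.node 1 (.leaf 1238) (.leaf 1240)) (.node 1 (.leaf 1241) (.leaf 1242))))))) (.node 32 (.node 16 (.node 8 (.node 4 (.node 2 (.node 1 (.leaf 1243) (.leaf 1244)) (.node 1 (.leaf 1246) (.leaf 1247))) (.node 2 (.node 1 (.leaf 1248) (.leaf 1250)) (.node 1 (.leaf 1251) (.leaf 1252)))) (.node 4 (.node 2 (.node 1 (.leaf 1253) (.leaf 1254)) (.node 1 (.leaf 1256) (.leaf 1257))) (.node 2 (.node 1 (.leaf 1258) (.leaf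 1260)) (.node 1 (.leaf 1261) (.leaf 1262))))) (.node 8 (.node 4 (.node 2 (.node 1 (.leaf 1264) (.leaf 1265)) (.node 1 (.leaf 1266) (.leaf 1267))) (.node 2 (.node 1 (.leaf 1268) (.leaf 1272)) (.node 1 (.leaf 1273) (.leaf 1274)))) (.node 4 (.node 2 (.node 1 (.leaf 1275) (.leaf 1276)) (.node 1 (.leaf 1278) (.leaf 1279))) (.node 2 (.node 1 (.leaf 1280) (.leaf 1281)) (.node 1 (.leaf 1282) (.leaf 1284)))))) (.node 16 (.node 8 (.node 4 (.node 2 (.node 1 (.leaf 1285) (.leaf 1286)) (.node 1 (.leaf 1288) (.leaf 1289))) (.node 2 (.node 1 (.leaf 1290) (.leaf 1291)) (.node 1 (.leaf 1292) (.leaf 1294)))) (.node 4 (.node 2 (.node 1 (.leaf 1295) (.leaf 1296)) (.node 1 (.leaf 1297) (.leaf 1298))) (.node 2 (.node 1 (.leaf 1299) (.leaf 1300)) (.node 1 (.leaf 1302) (.leaf 1303))))) (.node 8 (.node 4 (.node 2 (.node 1 (.leaf 1304) (.leaf 1305)) (.node 1 (.leaf 1306) (.leaf 1308))) (.node 2 (.node 1 (.leaf 1310) (.leaf 1312)) (.node 1 (.leaf 1313) (.leaf 1314))))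 (.node 4 (.node 2 (.node 1 (.leaf 1315) (.leaf 1316)) (.node 1 (.leaf 1318) (.leaf 1319))) (.node 2 (.node 1 (.leaf 1320) (.leaf 1321)) (.node 1 (.leaf 1322) (.node 1 (.leaf 1324) (.leaf 1325)))))))))))

/-- Part 2 of `par0Tab`. -/
def par0Tab_2 : BT ℕ :=
  (.node 256 (.node 128 (.node 64 (.node 32 (.node 16 (.node 8 (.node 4 (.node 2 (.node 1 (.leaf 1326) (.leaf 1328)) (.node 1 (.leaf 1329) (.leaf 1330))) (.node 2 (.node 1 (.leaf 1332) (.leaf 1334)) (.node 1 (.leaf 1335) (.leaf 1336)))) (.node 4 (.node 2 (.node 1 (.leaf 1338) (.leaf 1340)) (.node 1 (.leaf 1342) (.leaf 1343))) (.node 2 (.node 1 (.leaf 1344) (.leaf 1345)) (.node 1 (.leaf 1346) (.leaf 1348))))) (.node 8 (.node 4 (.node 2 (.node 1 (.leaf 1349) (.leaf 1350)) (.node 1 (.leaf 1352) (.leaf 1353))) (.node 2 (.node 1 (.leaf 1356) (.leaf 1358)) (.node 1 (.leaf 1359) (.leaf 1360)))) (.node 4 (.node 2 (.node 1 (.leaf 1361) (.leaf 1362)) (.node 1 (.leaf 1364) (.leaf 1365))) (.node 2 (.node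 1 (.leaf 1366) (.leaf 1368)) (.node 1 (.leaf 1369) (.leaf 1370)))))) (.node 16 (.node 8 (.node 4 (.node 2 (.node 1 (.leaf 1371) (.leaf 1372)) (.node 1 (.leaf 1375) (.leaf 1376))) (.node 2 (.node 1 (.leaf 1377) (.leaf 1381)) (.node 1 (.leaf 1382) (.leaf 1384)))) (.node 4 (.node 2 (.node 1 (.leaf 1385) (.leaf 1386)) (.node 1 (.leaf 1387) (.leaf 1388))) (.node 2 (.node 1 (.leaf 1390) (.leaf 1391)) (.node 1 (.leaf 1392) (.leaf 1394))))) (.node 8 (.node 4 (.node 2 (.node 1 (.leaf 1395) (.leaf 1396)) (.node 1 (.leaf 1397) (.leaf 1398))) (.node 2 (.node 1 (.leaf 1400) (.leaf 1401)) (.node 1 (.leaf 1402) (.leaf 1403)))) (.node 4 (.node 2 (.node 1 (.leaf 1404) (.leaf 1406)) (.node 1 (.leaf 1407) (.leaf 1408))) (.node 2 (.node 1 (.leaf 1410) (.leaf 1412)) (.node 1 (.leaf 1414) (.leaf 1415))))))) (.node 32 (.node 16 (.node 8 (.node 4 (.node 2 (.node 1 (.leaf 1418) (.leaf 1419)) (.node 1 (.leaf 1420) (.leaf 1421))) (.node 2 (.node 1 (.leaf 1422) (.leaf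 1424)) (.node 1 (.leaf 1426) (.leaf 1428)))) (.node 4 (.node 2 (.node 1 (.leaf 1430) (.leaf 1431)) (.node 1 (.leaf 1432) (.leaf 1434))) (.node 2 (.node 1 (.leaf 1435) (.leaf 1436)) (.node 1 (.leaf 1437) (.leaf 1438))))) (.node 8 (.node 4 (.node 2 (.node 1 (.leaf 1440) (.leaf 1441)) (.node 1 (.leaf 1442) (.leaf 1443))) (.node 2 (.node 1 (.leaf 1444) (.leaf 1446)) (.node 1 (.leaf 1447) (.leaf 1448)))) (.node 4 (.node 2 (.node 1 (.leaf 1450) (.leaf 1451)) (.node 1 (.leaf 1452) (.leaf 1453))) (.node 2 (.node 1 (.leaf 1454) (.leaf 1456)) (.node 1 (.leaf 1457) (.leaf 1458)))))) (.node 16 (.node 8 (.node 4 (.node 2 (.node 1 (.leaf 1461) (.leaf 1462)) (.node 1 (.leaf 1464) (.leaf 1465))) (.node 2 (.node 1 (.leaf 1466) (.leaf 1468)) (.node 1 (.leaf 1470) (.leaf 1471)))) (.node 4 (.node 2 (.node 1 (.leaf 1472) (.leaf 1473)) (.node 1 (.leaf 1474) (.leaf 1476))) (.node 2 (.node 1 (.leaf 1477) (.leaf 1479)) (.node 1 (.leaf 1480) (.leaf 1481))))) (.node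 8 (.node 4 (.node 2 (.node 1 (.leaf 1482) (.leaf 1484)) (.node 1 (.leaf 1485) (.leaf 1486))) (.node 2 (.node 1 (.leaf 1487) (.leaf 1488)) (.node 1 (.leaf 1490) (.leaf 1492)))) (.node 4 (.node 2 (.node 1 (.leaf 1493) (.leaf 1494)) (.node 1 (.leaf 1495) (.leaf 1496))) (.node 2 (.node 1 (.leaf 1498) (.leaf 1499)) (.node 1 (.leaf 1500) (.leaf 1502)))))))) (.node 64 (.node 32 (.node 16 (.node 8 (.node 4 (.node 2 (.node 1 (.leaf 1503) (.leaf 1504)) (.node 1 (.leaf 1505) (.leaf 1508))) (.node 2 (.node 1 (.leaf 1509) (.leaf 1510)) (.node 1 (.leaf 1511) (.leaf 1512)))) (.node 4 (.node 2 (.node 1 (.leaf 1516) (.leaf 1518)) (.node 1 (.leaf 1519) (.leaf 1520))) (.node 2 (.node 1 (.leaf 1521) (.leaf 1522)) (.node 1 (.leaf 1523) (.leaf 1524))))) (.node 8 (.node 4 (.node 2 (.node 1 (.leaf 1526) (.leaf 1527)) (.node 1 (.leaf 1528) (.leaf 1529))) (.node 2 (.node 1 (.leaf 1530) (.leaf 1532)) (.node 1 (.leaf 1533) (.leaf 1534)))) (.node 4 (.node 2 (.node 1 (.leaf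 1536) (.leaf 1538)) (.node 1 (.leaf 1539) (.leaf 1540))) (.node 2 (.node 1 (.leaf 1541) (.leaf 1542)) (.node 1 (.leaf 1544) (.leaf 1545)))))) (.node 16 (.node 8 (.node 4 (.node 2 (.node 1 (.leaf 1546) (.leaf 1547)) (.node 1 (.leaf 1548) (.leaf 1550))) (.node 2 (.node 1 (.leaf 1552) (.leaf 1553)) (.node 1 (.leaf 1554) (.leaf 1555)))) (.node 4 (.node 2 (.node 1 (.leaf 1556) (.leaf 1559)) (.node 1 (.leaf 1560) (.leaf 1561))) (.node 2 (.node 1 (.leaf 1562) (.leaf 1563)) (.node 1 (.leaf 1564) (.leaf 1565))))) (.node 8 (.node 4 (.node 2 (.node 1 (.leaf 1568) (.leaf 1569)) (.node 1 (.leaf 1570) (.leaf 1572))) (.node 2 (.node 1 (.leaf 1574) (.leaf 1575)) (.node 1 (.leaf 1576) (.leaf 1578)))) (.node 4 (.node 2 (.node 1 (.leaf 1579) (.leaf 1580)) (.node 1 (.leaf 1582) (.leaf 1583))) (.node 2 (.node 1 (.leaf 1584) (.leaf 1585)) (.node 1 (.leaf 1586) (.leaf 1588))))))) (.node 32 (.node 16 (.node 8 (.node 4 (.node 2 (.node 1 (.leaf 1589) (.leaf 1590)) (.node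 1 (.leaf 1591) (.leaf 1592))) (.node 2 (.node 1 (.leaf 1594) (.leaf 1595)) (.node 1 (.leaf 1596) (.leaf 1598)))) (.node 4 (.node 2 (.node 1 (.leaf 1599) (.leaf 1600)) (.node 1 (.leaf 1601) (.leaf 1604))) (.node 2 (.node 1 (.leaf 1605) (.leaf 1606)) (.node 1 (.leaf 1607) (.leaf 1608))))) (.node 8 (.node 4 (.node 2 (.node 1 (.leaf 1611) (.leaf 1612)) (.node 1 (.leaf 1614) (.leaf 1615))) (.node 2 (.node 1 (.leaf 1616) (.leaf 1618)) (.node 1 (.leaf 1620) (.leaf 1621)))) (.node 4 (.node 2 (.node 1 (.leaf 1622) (.leaf 1624)) (.node 1 (.leaf 1625) (.leaf 1626))) (.node 2 (.node 1 (.leaf 1627) (.leaf 1628)) (.node 1 (.leaf 1629) (.leaf 1630)))))) (.node 16 (.node 8 (.node 4 (.node 2 (.node 1 (.leaf 1632) (.leaf 1633)) (.node 1 (.leaf 1634) (.leaf 1637))) (.node 2 (.node 1 (.leaf 1638) (.leaf 1639)) (.node 1 (.leaf 1640) (.leaf 1642)))) (.node 4 (.node 2 (.node 1 (.leaf 1643) (.leaf 1644)) (.node 1 (.leaf 1646) (.leaf 1647))) (.node 2 (.node 1 (.leaf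 1648) (.leaf 1650)) (.node 1 (.leaf 1652) (.leaf 1653))))) (.node 8 (.node 4 (.node 2 (.node 1 (.leaf 1654) (.leaf 1656)) (.node 1 (.leaf 1657) (.leaf 1658))) (.node 2 (.node 1 (.leaf 1659) (.leaf 1660)) (.node 1 (.leaf 1662) (.leaf 1663)))) (.node 4 (.node 2 (.node 1 (.leaf 1664) (.leaf 1666)) (.node 1 (.leaf 1667) (.leaf 1668))) (.node 2 (.node 1 (.leaf 1669) (.leaf 1670)) (.node 1 (.leaf 1672) (.leaf 1673))))))))) (.node 128 (.node 64 (.node 32 (.node 16 (.node 8 (.node 4 (.node 2 (.node 1 (.leaf 1674) (.leaf 1675)) (.node 1 (.leaf 1676) (.leaf 1679))) (.node 2 (.node 1 (.leaf 1680) (.leaf 1682)) (.node 1 (.leaf 1684) (.leaf 1685)))) (.node 4 (.node 2 (.node 1 (.leaf 1686) (.leaf 1688)) (.node 1 (.leaf 1690) (.leaf 1692))) (.node 2 (.node 1 (.leaf 1693) (.leaf 1694)) (.node 1 (.leaf 1695) (.leaf 1696))))) (.node 8 (.node 4 (.node 2 (.node 1 (.leaf 1698) (.leaf 1699)) (.node 1 (.leaf 1702) (.leaf 1704))) (.node 2 (.node 1 (.leaf 1705) (.leaf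 1706)) (.node 1 (.leaf 1708) (.leaf 1709)))) (.node 4 (.node 2 (.node 1 (.leaf 1710) (.leaf 1712)) (.node 1 (.leaf 1713) (.leaf 1714))) (.node 2 (.node 1 (.leaf 1716) (.leaf 1717)) (.node 1 (.leaf 1719) (.leaf 1721)))))) (.node 16 (.node 8 (.node 4 (.node 2 (.node 1 (.leaf 1722) (.leaf 1724)) (.node 1 (.leaf 1725) (.leaf 1726))) (.node 2 (.node 1 (.leaf 1727) (.leaf 1728)) (.node 1 (.leaf 1730) (.leaf 1732)))) (.node 4 (.node 2 (.node 1 (.leaf 1734) (.leaf 1735)) (.node 1 (.leaf 1736) (.leaf 1737))) (.node 2 (.node 1 (.leaf 1738) (.leaf 1741)) (.node 1 (.leaf 1742) (.leaf 1744))))) (.node 8 (.node 4 (.node 2 (.node 1 (.leaf 1745) (.leaf 1746)) (.node 1 (.leaf 1747) (.leaf 1748))) (.node 2 (.node 1 (.leaf 1750) (.leaf 1751)) (.node 1 (.leaf 1752) (.leaf 1754)))) (.node 4 (.node 2 (.node 1 (.leaf 1755) (.leaf 1756)) (.node 1 (.leaf 1758) (.leaf 1760))) (.node 2 (.node 1 (.leaf 1762) (.leaf 1763)) (.node 1 (.leaf 1764) (.leaf 1766))))))) (.node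 32 (.node 16 (.node 8 (.node 4 (.node 2 (.node 1 (.leaf 1767) (.leaf 1768)) (.node 1 (.leaf 1769) (.leaf 1770))) (.node 2 (.node 1 (.leaf 1772) (.leaf 1773)) (.node 1 (.leaf 1774) (.leaf 1776)))) (.node 4 (.node 2 (.node 1 (.leaf 1777) (.leaf 1778)) (.node 1 (.leaf 1780) (.leaf 1781))) (.node 2 (.node 1 (.leaf 1782) (.leaf 1783)) (.node 1 (.leaf 1784) (.leaf 1786))))) (.node 8 (.node 4 (.node 2 (.node 1 (.leaf 1787) (.leaf 1788)) (.node 1 (.leaf 1789) (.leaf 1790))) (.node 2 (.node 1 (.leaf 1792) (.leaf 1793)) (.node 1 (.leaf 1794) (.leaf 1796)))) (.node 4 (.node 2 (.node 1 (.leaf 1797) (.leaf 1798)) (.node 1 (.leaf 1799) (.leaf 1800))) (.node 2 (.node 1 (.leaf 1802) (.leaf 1803)) (.node 1 (.leaf 1804) (.leaf 1805)))))) (.node 16 (.node 8 (.node 4 (.node 2 (.node 1 (.leaf 1806) (.leaf 1809)) (.node 1 (.leaf 1812) (.leaf 1813))) (.node 2 (.node 1 (.leaf 1814) (.leaf 1815)) (.node 1 (.leaf 1816) (.leaf 1818)))) (.node 4 (.node 2 (.node 1 (.leaf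 1819) (.leaf 1820)) (.node 1 (.leaf 1821) (.leaf 1822))) (.node 2 (.node 1 (.leaf 1823) (.leaf 1828)) (.node 1 (.leaf 1829) (.leaf 1831))))) (.node 8 (.node 4 (.node 2 (.node 1 (.leaf 1832) (.leaf 1834)) (.node 1 (.leaf 1835) (.leaf 1836))) (.node 2 (.node 1 (.leaf 1837) (.leaf 1838)) (.node 1 (.leaf 1840) (.leaf 1841)))) (.node 4 (.node 2 (.node 1 (.leaf 1842) (.leaf 1843)) (.node 1 (.leaf 1844) (.leaf 1846))) (.node 2 (.node 1 (.leaf 1847) (.leaf 1848)) (.node 1 (.leaf 1850) (.leaf 1851)))))))) (.node 64 (.node 32 (.node 16 (.node 8 (.node 4 (.node 2 (.node 1 (.leaf 1852) (.leaf 1853)) (.node 1 (.leaf 1856) (.leaf 1857))) (.node 2 (.node 1 (.leaf 1858) (.leaf 1860)) (.node 1 (.leaf 1861) (.leaf 1862)))) (.node 4 (.node 2 (.node 1 (.leaf 1863) (.leaf 1864)) (.node 1 (.leaf 1866) (.leaf 1867))) (.node 2 (.node 1 (.leaf 1868) (.leaf 1869)) (.node 1 (.leaf 1870) (.leaf 1872))))) (.node 8 (.node 4 (.node 2 (.node 1 (.leaf 1873) (.leaf 1874)) (.node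 1 (.leaf 1876) (.leaf 1878))) (.node 2 (.node 1 (.leaf 1879) (.leaf 1880)) (.node 1 (.leaf 1881) (.leaf 1882)))) (.node 4 (.node 2 (.node 1 (.leaf 1883) (.leaf 1884)) (.node 1 (.leaf 1887) (.leaf 1888))) (.node 2 (.node 1 (.leaf 1890) (.leaf 1891)) (.node 1 (.leaf 1892) (.leaf 1893)))))) (.node 16 (.node 8 (.node 4 (.node 2 (.node 1 (.leaf 1894) (.leaf 1897)) (.node 1 (.leaf 1898) (.leaf 1900))) (.node 2 (.node 1 (.leaf 1901) (.leaf 1902)) (.node 1 (.leaf 1903) (.leaf 1904)))) (.node 4 (.node 2 (.node 1 (.leaf 1906) (.leaf 1907)) (.node 1 (.leaf 1908) (.leaf 1909))) (.node 2 (.node 1 (.leaf 1910) (.leaf 1911)) (.node 1 (.leaf 1912) (.leaf 1914))))) (.node 8 (.node 4 (.node 2 (.node 1 (.leaf 1915) (.leaf 1916)) (.node 1 (.leaf 1917) (.leaf 1918))) (.node 2 (.node 1 (.leaf 1920) (.leaf 1921)) (.node 1 (.leaf 1922) (.leaf 1924)))) (.node 4 (.node 2 (.node 1 (.leaf 1925) (.leaf 1926)) (.node 1 (.leaf 1927) (.leaf 1928))) (.node 2 (.node 1 (.leaf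 1930) (.leaf 1933)) (.node 1 (.leaf 1934) (.leaf 1936))))))) (.node 32 (.node 16 (.node 8 (.node 4 (.node 2 (.node 1 (.leaf 1937) (.leaf 1938)) (.node 1 (.leaf 1940) (.leaf 1941))) (.node 2 (.node 1 (.leaf 1942) (.leaf 1943)) (.node 1 (.leaf 1946) (.leaf 1947)))) (.node 4 (.node 2 (.node 1 (.leaf 1948) (.leaf 1949)) (.node 1 (.leaf 1950) (.leaf 1952))) (.node 2 (.node 1 (.leaf 1953) (.leaf 1955)) (.node 1 (.leaf 1956) (.leaf 1958))))) (.node 8 (.node 4 (.node 2 (.node 1 (.leaf 1959) (.leaf 1962)) (.node 1 (.leaf 1963) (.leaf 1964))) (.node 2 (.node 1 (.leaf 1965) (.leaf 1966)) (.node 1 (.leaf 1968) (.leaf 1969)))) (.node 4 (.node 2 (.node 1 (.leaf 1970) (.leaf 1972)) (.node 1 (.leaf 1973) (.leaf 1974))) (.node 2 (.node 1 (.leaf 1975) (.leaf 1976)) (.node 1 (.leaf 1979) (.leaf 1980)))))) (.node 16 (.node 8 (.node 4 (.node 2 (.node 1 (.leaf 1983) (.leaf 1984)) (.node 1 (.leaf 1985) (.leaf 1986))) (.node 2 (.node 1 (.leaf 1988) (.leaf 1989)) (.node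 1 (.leaf 1990) (.leaf 1991)))) (.node 4 (.node 2 (.node 1 (.leaf 1992) (.leaf 1994)) (.node 1 (.leaf 1995) (.leaf 1996))) (.node 2 (.node 1 (.leaf 1998) (.leaf 1999)) (.node 1 (.leaf 2000) (.leaf 2001))))) (.node 8 (.node 4 (.node 2 (.node 1 (.leaf 2002) (.leaf 2004)) (.node 1 (.leaf 2005) (.leaf 2006))) (.node 2 (.node 1 (.leaf 2009) (.leaf 2010)) (.node 1 (.leaf 2012) (.leaf 2013)))) (.node 4 (.node 2 (.node 1 (.leaf 2014) (.leaf 2015)) (.node 1 (.leaf 2016) (.leaf 2018))) (.node 2 (.node 1 (.leaf 2019) (.leaf 2020)) (.node 1 (.leaf 2022) (.node 1 (.leaf 2023) (.leaf 2024)))))))))))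

/-- Part 3 of `par0Tab`. -/
def par0Tab_3 : BT ℕ :=
  (.node 256 (.node 128 (.node 64 (.node 32 (.node 16 (.node 8 (.node 4 (.node 2 (.node 1 (.leaf 2025) (.leaf 2026)) (.node 1 (.leaf 2027) (.leaf 2028))) (.node 2 (.node 1 (.leaf 2029) (.leaf 2032)) (.node 1 (.leaf 2033) (.leaf 2034)))) (.node 4 (.node 2 (.node 1 (.leaf 2036) (.leaf 2037)) (.node 1 (.leaf 2038) (.leaf 2039))) (.node 2 (.node 1 (.leaf 2040) (.leaf 2042)) (.node 1 (.leaf 2043) (.leaf 2044))))) (.node 8 (.node 4 (.node 2 (.node 1 (.leaf 2046) (.leaf 2047)) (.node 1 (.leaf 2049) (.leaf 2050))) (.node 2 (.node 1 (.leaf 2052) (.leaf 2053)) (.node 1 (.leaf 2056) (.leaf 2059)))) (.node 4 (.node 2 (.node 1 (.leaf 2060) (.leaf 2061)) (.node 1 (.leaf 2062) (.leaf 2064))) (.node 2 (.node 1 (.leaf 2066) (.leaf 2067)) (.node 1 (.leaf 2068) (.leaf 2069)))))) (.node 16 (.node 8 (.node 4 (.node 2 (.node 1 (.leaf 2070) (.leaf 2071)) (.node 1 (.leaf 2072) (.leaf 2073))) (.node 2 (.node 1 (.leaf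 2074) (.leaf 2076)) (.node 1 (.leaf 2077) (.leaf 2078)))) (.node 4 (.node 2 (.node 1 (.leaf 2080) (.leaf 2081)) (.node 1 (.leaf 2082) (.leaf 2083))) (.node 2 (.node 1 (.leaf 2084) (.leaf 2086)) (.node 1 (.leaf 2087) (.leaf 2088))))) (.node 8 (.node 4 (.node 2 (.node 1 (.leaf 2089) (.leaf 2090)) (.node 1 (.leaf 2094) (.leaf 2095))) (.node 2 (.node 1 (.leaf 2096) (.leaf 2098)) (.node 1 (.leaf 2099) (.leaf 2100)))) (.node 4 (.node 2 (.node 1 (.leaf 2102) (.leaf 2103)) (.node 1 (.leaf 2104) (.leaf 2105))) (.node 2 (.node 1 (.leaf 2106) (.leaf 2108)) (.node 1 (.leaf 2109) (.leaf 2110))))))) (.node 32 (.node 16 (.node 8 (.node 4 (.node 2 (.node 1 (.leaf 2111) (.leaf 2112)) (.node 1 (.leaf 2114) (.leaf 2115))) (.node 2 (.node 1 (.leaf 2116) (.leaf 2118)) (.node 1 (.leaf 2119) (.leaf 2120)))) (.node 4 (.node 2 (.node 1 (.leaf 2122) (.leaf 2123)) (.node 1 (.leaf 2124) (.leaf 2126))) (.node 2 (.node 1 (.leaf 2129) (.leaf 2130)) (.node 1 (.leaf 2131)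 (.leaf 2132))))) (.node 8 (.node 4 (.node 2 (.node 1 (.leaf 2134) (.leaf 2135)) (.node 1 (.leaf 2136) (.leaf 2138))) (.node 2 (.node 1 (.leaf 2139) (.leaf 2140)) (.node 1 (.leaf 2141) (.leaf 2142)))) (.node 4 (.node 2 (.node 1 (.leaf 2146) (.leaf 2147)) (.node 1 (.leaf 2148) (.leaf 2150))) (.node 2 (.node 1 (.leaf 2151) (.leaf 2152)) (.node 1 (.leaf 2154) (.leaf 2155)))))) (.node 16 (.node 8 (.node 4 (.node 2 (.node 1 (.leaf 2156) (.leaf 2157)) (.node 1 (.leaf 2158) (.leaf 2160))) (.node 2 (.node 1 (.leaf 2161) (.leaf 2162)) (.node 1 (.leaf 2164) (.leaf 2165)))) (.node 4 (.node 2 (.node 1 (.leaf 2166) (.leaf 2168)) (.node 1 (.leaf 2170) (.leaf 2172))) (.node 2 (.node 1 (.leaf 2173) (.leaf 2174)) (.node 1 (.leaf 2175) (.leaf 2176))))) (.node 8 (.node 4 (.node 2 (.node 1 (.leaf 2177) (.leaf 2180)) (.node 1 (.leaf 2181) (.leaf 2182))) (.node 2 (.node 1 (.leaf 2184) (.leaf 2185)) (.node 1 (.leaf 2188) (.leaf 2189)))) (.node 4 (.node 2 (.node 1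 (.leaf 2190) (.leaf 2191)) (.node 1 (.leaf 2193) (.leaf 2194))) (.node 2 (.node 1 (.leaf 2195) (.leaf 2197)) (.node 1 (.leaf 2198) (.leaf 2200)))))))) (.node 64 (.node 32 (.node 16 (.node 8 (.node 4 (.node 2 (.node 1 (.leaf 2201) (.leaf 2202)) (.node 1 (.leaf 2203) (.leaf 2204))) (.node 2 (.node 1 (.leaf 2207) (.leaf 2210)) (.node 1 (.leaf 2211) (.leaf 2212)))) (.node 4 (.node 2 (.node 1 (.leaf 2213) (.leaf 2214)) (.node 1 (.leaf 2216) (.leaf 2218))) (.node 2 (.node 1 (.leaf 2220) (.leaf 2221)) (.node 1 (.leaf 2222) (.leaf 2224))))) (.node 8 (.node 4 (.node 2 (.node 1 (.leaf 2226) (.leaf 2227)) (.node 1 (.leaf 2228) (.leaf 2229))) (.node 2 (.node 1 (.leaf 2230) (.leaf 2232)) (.node 1 (.leaf 2233) (.leaf 2234)))) (.node 4 (.node 2 (.node 1 (.leaf 2237) (.leaf 2238)) (.node 1 (.leaf 2239) (.leaf 2240))) (.node 2 (.node 1 (.leaf 2242) (.leaf 2243)) (.node 1 (.leaf 2244) (.leaf 2246)))))) (.node 16 (.node 8 (.node 4 (.node 2 (.node 1 (.leaf 2247)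 (.leaf 2248)) (.node 1 (.leaf 2249) (.leaf 2250))) (.node 2 (.node 1 (.leaf 2252) (.leaf 2253)) (.node 1 (.leaf 2254) (.leaf 2255)))) (.node 4 (.node 2 (.node 1 (.leaf 2256) (.leaf 2257)) (.node 1 (.leaf 2258) (.leaf 2260))) (.node 2 (.node 1 (.leaf 2261) (.leaf 2262)) (.node 1 (.leaf 2264) (.leaf 2265))))) (.node 8 (.node 4 (.node 2 (.node 1 (.leaf 2266) (.leaf 2268)) (.node 1 (.leaf 2270) (.leaf 2272))) (.node 2 (.node 1 (.leaf 2273) (.leaf 2274)) (.node 1 (.leaf 2276) (.leaf 2277)))) (.node 4 (.node 2 (.node 1 (.leaf 2278) (.leaf 2279)) (.node 1 (.leaf 2280) (.leaf 2282))) (.node 2 (.node 1 (.leaf 2283) (.leaf 2284)) (.node 1 (.leaf 2286) (.leaf 2287))))))) (.node 32 (.node 16 (.node 8 (.node 4 (.node 2 (.node 1 (.leaf 2288) (.leaf 2289)) (.node 1 (.leaf 2290) (.leaf 2292))) (.node 2 (.node 1 (.leaf 2294) (.leaf 2295)) (.node 1 (.leaf 2296) (.leaf 2298)))) (.node 4 (.node 2 (.node 1 (.leaf 2299) (.leaf 2300)) (.node 1 (.leaf 2301) (.leaf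 2302))) (.node 2 (.node 1 (.leaf 2304) (.leaf 2305)) (.node 1 (.leaf 2306) (.leaf 2307))))) (.node 8 (.node 4 (.node 2 (.node 1 (.leaf 2308) (.leaf 2310)) (.node 1 (.leaf 2311) (.leaf 2312))) (.node 2 (.node 1 (.leaf 2315) (.leaf 2318)) (.node 1 (.leaf 2319) (.leaf 2322)))) (.node 4 (.node 2 (.node 1 (.leaf 2323) (.leaf 2324)) (.node 1 (.leaf 2326) (.leaf 2327))) (.node 2 (.node 1 (.leaf 2328) (.leaf 2330)) (.node 1 (.leaf 2331) (.leaf 2332)))))) (.node 16 (.node 8 (.node 4 (.node 2 (.node 1 (.leaf 2334) (.leaf 2336)) (.node 1 (.leaf 2338) (.leaf 2339))) (.node 2 (.node 1 (.leaf 2341) (.leaf 2342)) (.node 1 (.leaf 2345) (.leaf 2348)))) (.node 4 (.node 2 (.node 1 (.leaf 2349) (.leaf 2350)) (.node 1 (.leaf 2351) (.leaf 2352))) (.node 2 (.node 1 (.leaf 2355) (.leaf 2356)) (.node 1 (.leaf 2357) (.leaf 2358))))) (.node 8 (.node 4 (.node 2 (.node 1 (.leaf 2360) (.leaf 2363)) (.node 1 (.leaf 2364) (.leaf 2366))) (.node 2 (.node 1 (.leaf 2367) (.leaf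 2368)) (.node 1 (.leaf 2370) (.leaf 2372)))) (.node 4 (.node 2 (.node 1 (.leaf 2373) (.leaf 2374)) (.node 1 (.leaf 2376) (.leaf 2378))) (.node 2 (.node 1 (.leaf 2379) (.leaf 2380)) (.node 1 (.leaf 2381) (.leaf 2382))))))))) (.node 128 (.node 64 (.node 32 (.node 16 (.node 8 (.node 4 (.node 2 (.node 1 (.leaf 2384) (.leaf 2386)) (.node 1 (.leaf 2388) (.leaf 2389))) (.node 2 (.node 1 (.leaf 2390) (.leaf 2392)) (.node 1 (.leaf 2393) (.leaf 2394)))) (.node 4 (.node 2 (.node 1 (.leaf 2396) (.leaf 2397)) (.node 1 (.leaf 2398) (.leaf 2400))) (.node 2 (.node 1 (.leaf 2401) (.leaf 2404)) (.node 1 (.leaf 2405) (.leaf 2406))))) (.node 8 (.node 4 (.node 2 (.node 1 (.leaf 2408) (.leaf 2409)) (.node 1 (.leaf 2410) (.leaf 2411))) (.node 2 (.node 1 (.leaf 2412) (.leaf 2414)) (.node 1 (.leaf 2416) (.leaf 2417)))) (.node 4 (.node 2 (.node 1 (.leaf 2418) (.leaf 2419)) (.node 1 (.leaf 2420) (.leaf 2422))) (.node 2 (.node 1 (.leaf 2423) (.leaf 2424)) (.node 1 (.leaf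 2425) (.leaf 2426)))))) (.node 16 (.node 8 (.node 4 (.node 2 (.node 1 (.leaf 2429) (.leaf 2430)) (.node 1 (.leaf 2432) (.leaf 2433))) (.node 2 (.node 1 (.leaf 2434) (.leaf 2435)) (.node 1 (.leaf 2436) (.leaf 2438)))) (.node 4 (.node 2 (.node 1 (.leaf 2439) (.leaf 2440)) (.node 1 (.leaf 2442) (.leaf 2443))) (.node 2 (.node 1 (.leaf 2444) (.leaf 2445)) (.node 1 (.leaf 2446) (.leaf 2448))))) (.node 8 (.node 4 (.node 2 (.node 1 (.leaf 2449) (.leaf 2451)) (.node 1 (.leaf 2452) (.leaf 2454))) (.node 2 (.node 1 (.leaf 2455) (.leaf 2456)) (.node 1 (.leaf 2458) (.leaf 2459)))) (.node 4 (.node 2 (.node 1 (.leaf 2460) (.leaf 2462)) (.node 1 (.leaf 2463) (.leaf 2464))) (.node 2 (.node 1 (.leaf 2466) (.leaf 2467)) (.node 1 (.leaf 2468) (.leaf 2470))))))) (.node 32 (.node 16 (.node 8 (.node 4 (.node 2 (.node 1 (.leaf 2471) (.leaf 2473)) (.node 1 (.leaf 2474) (.leaf 2476))) (.node 2 (.node 1 (.leaf 2478) (.leaf 2479)) (.node 1 (.leaf 2481) (.leaf 2482))))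 (.node 4 (.node 2 (.node 1 (.leaf 2484) (.leaf 2485)) (.node 1 (.leaf 2486) (.leaf 2487))) (.node 2 (.node 1 (.leaf 2488) (.leaf 2490)) (.node 1 (.leaf 2491) (.leaf 2492))))) (.node 8 (.node 4 (.node 2 (.node 1 (.leaf 2494) (.leaf 2495)) (.node 1 (.leaf 2496) (.leaf 2498))) (.node 2 (.node 1 (.leaf 2499) (.leaf 2502)) (.node 1 (.leaf 2504) (.leaf 2505)))) (.node 4 (.node 2 (.node 1 (.leaf 2506) (.leaf 2508)) (.node 1 (.leaf 2509) (.leaf 2510))) (.node 2 (.node 1 (.leaf 2512) (.leaf 2514)) (.node 1 (.leaf 2515) (.leaf 2518)))))) (.node 16 (.node 8 (.node 4 (.node 2 (.node 1 (.leaf 2519) (.leaf 2520)) (.node 1 (.leaf 2521) (.leaf 2522))) (.node 2 (.node 1 (.leaf 2524) (.leaf 2526)) (.node 1 (.leaf 2528) (.leaf 2530)))) (.node 4 (.node 2 (.node 1 (.leaf 2532) (.leaf 2533)) (.node 1 (.leaf 2534) (.leaf 2535))) (.node 2 (.node 1 (.leaf 2536) (.leaf 2539)) (.node 1 (.leaf 2540) (.leaf 2542))))) (.node 8 (.node 4 (.node 2 (.node 1 (.leaf 2543) (.leaf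 2544)) (.node 1 (.leaf 2545) (.leaf 2546))) (.node 2 (.node 1 (.leaf 2549) (.leaf 2550)) (.node 1 (.leaf 2552) (.leaf 2554)))) (.node 4 (.node 2 (.node 1 (.leaf 2556) (.leaf 2559)) (.node 1 (.leaf 2560) (.leaf 2561))) (.node 2 (.node 1 (.leaf 2562) (.leaf 2565)) (.node 1 (.leaf 2566) (.leaf 2568)))))))) (.node 64 (.node 32 (.node 16 (.node 8 (.node 4 (.node 2 (.node 1 (.leaf 2569) (.leaf 2570)) (.node 1 (.leaf 2574) (.leaf 2575))) (.node 2 (.node 1 (.leaf 2576) (.leaf 2577)) (.node 1 (.leaf 2578) (.leaf 2580)))) (.node 4 (.node 2 (.node 1 (.leaf 2581) (.leaf 2582)) (.node 1 (.leaf 2583) (.leaf 2584))) (.node 2 (.node 1 (.leaf 2585) (.leaf 2586)) (.node 1 (.leaf 2587) (.leaf 2588))))) (.node 8 (.node 4 (.node 2 (.node 1 (.leaf 2590) (.leaf 2591)) (.node 1 (.leaf 2592) (.leaf 2594))) (.node 2 (.node 1 (.leaf 2595) (.leaf 2596)) (.node 1 (.leaf 2597) (.leaf 2598)))) (.node 4 (.node 2 (.node 1 (.leaf 2600) (.leaf 2602)) (.node 1 (.leaf 2603) (.leaf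 2604))) (.node 2 (.node 1 (.leaf 2606) (.leaf 2607)) (.node 1 (.leaf 2608) (.leaf 2609)))))) (.node 16 (.node 8 (.node 4 (.node 2 (.node 1 (.leaf 2610) (.leaf 2612)) (.node 1 (.leaf 2613) (.leaf 2614))) (.node 2 (.node 1 (.leaf 2615) (.leaf 2616)) (.node 1 (.leaf 2619) (.leaf 2620)))) (.node 4 (.node 2 (.node 1 (.leaf 2621) (.leaf 2622)) (.node 1 (.leaf 2624) (.leaf 2626))) (.node 2 (.node 1 (.leaf 2628) (.leaf 2629)) (.node 1 (.leaf 2631) (.leaf 2632))))) (.node 8 (.node 4 (.node 2 (.node 1 (.leaf 2635) (.leaf 2636)) (.node 1 (.leaf 2638) (.leaf 2639))) (.node 2 (.node 1 (.leaf 2641) (.leaf 2642)) (.node 1 (.leaf 2643) (.leaf 2644)))) (.node 4 (.node 2 (.node 1 (.leaf 2645) (.leaf 2646)) (.node 1 (.leaf 2648) (.leaf 2649))) (.node 2 (.node 1 (.leaf 2650) (.leaf 2652)) (.node 1 (.leaf 2653) (.leaf 2654))))))) (.node 32 (.node 16 (.node 8 (.node 4 (.node 2 (.node 1 (.leaf 2656) (.leaf 2657)) (.node 1 (.leaf 2658) (.leaf 2659))) (.node 2 (.node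 1 (.leaf 2660) (.leaf 2662)) (.node 1 (.leaf 2663) (.leaf 2664)))) (.node 4 (.node 2 (.node 1 (.leaf 2666) (.leaf 2667)) (.node 1 (.leaf 2668) (.leaf 2672))) (.node 2 (.node 1 (.leaf 2673) (.leaf 2674)) (.node 1 (.leaf 2675) (.leaf 2676))))) (.node 8 (.node 4 (.node 2 (.node 1 (.leaf 2678) (.leaf 2679)) (.node 1 (.leaf 2680) (.leaf 2681))) (.node 2 (.node 1 (.leaf 2682) (.leaf 2683)) (.node 1 (.leaf 2685) (.leaf 2686)))) (.node 4 (.node 2 (.node 1 (.leaf 2688) (.leaf 2690)) (.node 1 (.leaf 2691) (.leaf 2692))) (.node 2 (.node 1 (.leaf 2695) (.leaf 2696)) (.node 1 (.leaf 2698) (.leaf 2699)))))) (.node 16 (.node 8 (.node 4 (.node 2 (.node 1 (.leaf 2700) (.leaf 2701)) (.node 1 (.leaf 2702) (.leaf 2704))) (.node 2 (.node 1 (.leaf 2705) (.leaf 2706)) (.node 1 (.leaf 2707) (.leaf 2708)))) (.node 4 (.node 2 (.node 1 (.leaf 2710) (.leaf 2712)) (.node 1 (.leaf 2713) (.leaf 2714))) (.node 2 (.node 1 (.leaf 2717) (.leaf 2720)) (.node 1 (.leaf 2721) (.leaf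 2722))))) (.node 8 (.node 4 (.node 2 (.node 1 (.leaf 2723) (.leaf 2726)) (.node 1 (.leaf 2727) (.leaf 2728))) (.node 2 (.node 1 (.leaf 2730) (.leaf 2731)) (.node 1 (.leaf 2732) (.leaf 2733)))) (.node 4 (.node 2 (.node 1 (.leaf 2734) (.leaf 2736)) (.node 1 (.leaf 2737) (.leaf 2739))) (.node 2 (.node 1 (.leaf 2740) (.leaf 2742)) (.node 1 (.leaf 2743) (.node 1 (.leaf 2746) (.leaf 2748)))))))))))

/-- Part 4 of `par0Tab`. -/
def par0Tab_4 : BT ℕ :=
  (.node 256 (.node 128 (.node 64 (.node 32 (.node 16 (.node 8 (.node 4 (.node 2 (.node 1 (.leaf 2750) (.leaf 2752)) (.node 1 (.leaf 2753) (.leaf 2754))) (.node 2 (.node 1 (.leaf 2756) (.leaf 2757)) (.node 1 (.leaf 2758) (.leaf 2760)))) (.node 4 (.node 2 (.node 1 (.leaf 2761) (.leaf 2762)) (.node 1 (.leaf 2764) (.leaf 2765))) (.node 2 (.node 1 (.leaf 2766) (.leaf 2768)) (.node 1 (.leaf 2770) (.leaf 2771))))) (.node 8 (.node 4 (.node 2 (.node 1 (.leaf 2772) (.leaf 2774)) (.node 1 (.leaf 2775) (.leaf 2776)))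 (.node 2 (.node 1 (.leaf 2778) (.leaf 2779)) (.node 1 (.leaf 2780) (.leaf 2782)))) (.node 4 (.node 2 (.node 1 (.leaf 2783) (.leaf 2784)) (.node 1 (.leaf 2786) (.leaf 2788))) (.node 2 (.node 1 (.leaf 2789) (.leaf 2791)) (.node 1 (.leaf 2792) (.leaf 2794)))))) (.node 16 (.node 8 (.node 4 (.node 2 (.node 1 (.leaf 2795) (.leaf 2796)) (.node 1 (.leaf 2798) (.leaf 2799))) (.node 2 (.node 1 (.leaf 2800) (.leaf 2801)) (.node 1 (.leaf 2802) (.leaf 2804)))) (.node 4 (.node 2 (.node 1 (.leaf 2805) (.leaf 2806)) (.node 1 (.leaf 2808) (.leaf 2809))) (.node 2 (.node 1 (.leaf 2810) (.leaf 2811)) (.node 1 (.leaf 2812) (.leaf 2814))))) (.node 8 (.node 4 (.node 2 (.node 1 (.leaf 2815) (.leaf 2816)) (.node 1 (.leaf 2817) (.leaf 2818))) (.node 2 (.node 1 (.leaf 2820) (.leaf 2821)) (.node 1 (.leaf 2822) (.leaf 2824)))) (.node 4 (.node 2 (.node 1 (.leaf 2825) (.leaf 2826)) (.node 1 (.leaf 2828) (.leaf 2829))) (.node 2 (.node 1 (.leaf 2830) (.leaf 2831)) (.node 1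 (.leaf 2832) (.leaf 2836))))))) (.node 32 (.node 16 (.node 8 (.node 4 (.node 2 (.node 1 (.leaf 2838) (.leaf 2839)) (.node 1 (.leaf 2840) (.leaf 2841))) (.node 2 (.node 1 (.leaf 2842) (.leaf 2844)) (.node 1 (.leaf 2845) (.leaf 2846)))) (.node 4 (.node 2 (.node 1 (.leaf 2848) (.leaf 2849)) (.node 1 (.leaf 2850) (.leaf 2851))) (.node 2 (.node 1 (.leaf 2852) (.leaf 2854)) (.node 1 (.leaf 2855) (.leaf 2856))))) (.node 8 (.node 4 (.node 2 (.node 1 (.leaf 2857) (.leaf 2858)) (.node 1 (.leaf 2859) (.leaf 2860))) (.node 2 (.node 1 (.leaf 2862) (.leaf 2863)) (.node 1 (.leaf 2867) (.leaf 2868)))) (.node 4 (.node 2 (.node 1 (.leaf 2871) (.leaf 2874)) (.node 1 (.leaf 2875) (.leaf 2876))) (.node 2 (.node 1 (.leaf 2877) (.leaf 2878)) (.node 1 (.leaf 2880) (.leaf 2881)))))) (.node 16 (.node 8 (.node 4 (.node 2 (.node 1 (.leaf 2882) (.leaf 2885)) (.node 1 (.leaf 2886) (.leaf 2888))) (.node 2 (.node 1 (.leaf 2889) (.leaf 2890)) (.node 1 (.leaf 2892) (.leaf 2894))))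 (.node 4 (.node 2 (.node 1 (.leaf 2895) (.leaf 2898)) (.node 1 (.leaf 2899) (.leaf 2900))) (.node 2 (.node 1 (.leaf 2901) (.leaf 2902)) (.node 1 (.leaf 2904) (.leaf 2905))))) (.node 8 (.node 4 (.node 2 (.node 1 (.leaf 2906) (.leaf 2908)) (.node 1 (.leaf 2909) (.leaf 2910))) (.node 2 (.node 1 (.leaf 2912) (.leaf 2913)) (.node 1 (.leaf 2914) (.leaf 2915)))) (.node 4 (.node 2 (.node 1 (.leaf 2916) (.leaf 2918)) (.node 1 (.leaf 2919) (.leaf 2920))) (.node 2 (.node 1 (.leaf 2922) (.leaf 2923)) (.node 1 (.leaf 2924) (.leaf 2925)))))))) (.node 64 (.node 32 (.node 16 (.node 8 (.node 4 (.node 2 (.node 1 (.leaf 2928) (.leaf 2929)) (.node 1 (.leaf 2931) (.leaf 2932))) (.node 2 (.node 1 (.leaf 2935) (.leaf 2936)) (.node 1 (.leaf 2938) (.leaf 2939)))) (.node 4 (.node 2 (.node 1 (.leaf 2940) (.leaf 2941)) (.node 1 (.leaf 2942) (.leaf 2944))) (.node 2 (.node 1 (.leaf 2945) (.leaf 2946)) (.node 1 (.leaf 2947) (.leaf 2948))))) (.node 8 (.node 4 (.node 2 (.node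 1 (.leaf 2950) (.leaf 2951)) (.node 1 (.leaf 2952) (.leaf 2953))) (.node 2 (.node 1 (.leaf 2954) (.leaf 2956)) (.node 1 (.leaf 2958) (.leaf 2962)))) (.node 4 (.node 2 (.node 1 (.leaf 2964) (.leaf 2965)) (.node 1 (.leaf 2966) (.leaf 2968))) (.node 2 (.node 1 (.leaf 2969) (.leaf 2970)) (.node 1 (.leaf 2971) (.leaf 2972)))))) (.node 16 (.node 8 (.node 4 (.node 2 (.node 1 (.leaf 2974) (.leaf 2976)) (.node 1 (.leaf 2977) (.leaf 2978))) (.node 2 (.node 1 (.leaf 2979) (.leaf 2980)) (.node 1 (.leaf 2982) (.leaf 2983)))) (.node 4 (.node 2 (.node 1 (.leaf 2984) (.leaf 2986)) (.node 1 (.leaf 2987) (.leaf 2988))) (.node 2 (.node 1 (.leaf 2990) (.leaf 2991)) (.node 1 (.leaf 2992) (.leaf 2993))))) (.node 8 (.node 4 (.node 2 (.node 1 (.leaf 2994) (.leaf 2996)) (.node 1 (.leaf 2997) (.leaf 2998))) (.node 2 (.node 1 (.leaf 2999) (.leaf 3000)) (.node 1 (.leaf 3002) (.leaf 3003)))) (.node 4 (.node 2 (.node 1 (.leaf 3004) (.leaf 3006)) (.node 1 (.leaf 3007) (.leaf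 3008))) (.node 2 (.node 1 (.leaf 3010) (.leaf 3011)) (.node 1 (.leaf 3015) (.leaf 3020))))))) (.node 32 (.node 16 (.node 8 (.node 4 (.node 2 (.node 1 (.leaf 3021) (.leaf 3022)) (.node 1 (.leaf 3024) (.leaf 3025))) (.node 2 (.node 1 (.leaf 3026) (.leaf 3028)) (.node 1 (.leaf 3030) (.leaf 3031)))) (.node 4 (.node 2 (.node 1 (.leaf 3032) (.leaf 3035)) (.node 1 (.leaf 3036) (.leaf 3037))) (.node 2 (.node 1 (.leaf 3038) (.leaf 3040)) (.node 1 (.leaf 3041) (.leaf 3042))))) (.node 8 (.node 4 (.node 2 (.node 1 (.leaf 3045) (.leaf 3046)) (.node 1 (.leaf 3047) (.leaf 3048))) (.node 2 (.node 1 (.leaf 3051) (.leaf 3052)) (.node 1 (.leaf 3054) (.leaf 3055)))) (.node 4 (.node 2 (.node 1 (.leaf 3056) (.leaf 3058)) (.node 1 (.leaf 3060) (.leaf 3061))) (.node 2 (.node 1 (.leaf 3064) (.leaf 3065)) (.node 1 (.leaf 3066) (.leaf 3067)))))) (.node 16 (.node 8 (.node 4 (.node 2 (.node 1 (.leaf 3068) (.leaf 3070)) (.node 1 (.leaf 3072) (.leaf 3073))) (.node 2 (.node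 1 (.leaf 3074) (.leaf 3076)) (.node 1 (.leaf 3077) (.leaf 3078)))) (.node 4 (.node 2 (.node 1 (.leaf 3080) (.leaf 3081)) (.node 1 (.leaf 3082) (.leaf 3084))) (.node 2 (.node 1 (.leaf 3085) (.leaf 3086)) (.node 1 (.leaf 3088) (.leaf 3089))))) (.node 8 (.node 4 (.node 2 (.node 1 (.leaf 3090) (.leaf 3092)) (.node 1 (.leaf 3093) (.leaf 3094))) (.node 2 (.node 1 (.leaf 3095) (.leaf 3096)) (.node 1 (.leaf 3098) (.leaf 3099)))) (.node 4 (.node 2 (.node 1 (.leaf 3100) (.leaf 3102)) (.node 1 (.leaf 3104) (.leaf 3105))) (.node 2 (.node 1 (.leaf 3106) (.leaf 3108)) (.node 1 (.leaf 3109) (.leaf 3110))))))))) (.node 128 (.node 64 (.node 32 (.node 16 (.node 8 (.node 4 (.node 2 (.node 1 (.leaf 3111) (.leaf 3112)) (.node 1 (.leaf 3116) (.leaf 3117))) (.node 2 (.node 1 (.leaf 3119) (.leaf 3122)) (.node 1 (.leaf 3124) (.leaf 3126)))) (.node 4 (.node 2 (.node 1 (.leaf 3127) (.leaf 3128)) (.node 1 (.leaf 3131) (.leaf 3132))) (.node 2 (.node 1 (.leaf 3133) (.leaf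 3134)) (.node 1 (.leaf 3135) (.leaf 3136))))) (.node 8 (.node 4 (.node 2 (.node 1 (.leaf 3139) (.leaf 3140)) (.node 1 (.leaf 3142) (.leaf 3143))) (.node 2 (.node 1 (.leaf 3144) (.leaf 3146)) (.node 1 (.leaf 3148) (.leaf 3151)))) (.node 4 (.node 2 (.node 1 (.leaf 3152) (.leaf 3153)) (.node 1 (.leaf 3154) (.leaf 3156))) (.node 2 (.node 1 (.leaf 3157) (.leaf 3158)) (.node 1 (.leaf 3159) (.leaf 3160)))))) (.node 16 (.node 8 (.node 4 (.node 2 (.node 1 (.leaf 3162) (.leaf 3163)) (.node 1 (.leaf 3164) (.leaf 3166))) (.node 2 (.node 1 (.leaf 3167) (.leaf 3169)) (.node 1 (.leaf 3170) (.leaf 3172)))) (.node 4 (.node 2 (.node 1 (.leaf 3173) (.leaf 3176)) (.node 1 (.leaf 3177) (.leaf 3178))) (.node 2 (.node 1 (.leaf 3179) (.leaf 3182)) (.node 1 (.leaf 3183) (.leaf 3184))))) (.node 8 (.node 4 (.node 2 (.node 1 (.leaf 3185) (.leaf 3186)) (.node 1 (.leaf 3188) (.leaf 3189))) (.node 2 (.node 1 (.leaf 3190) (.leaf 3191)) (.node 1 (.leaf 3192) (.leaf 3194))))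 (.node 4 (.node 2 (.node 1 (.leaf 3195) (.leaf 3196)) (.node 1 (.leaf 3198) (.leaf 3199))) (.node 2 (.node 1 (.leaf 3200) (.leaf 3201)) (.node 1 (.leaf 3204) (.leaf 3205))))))) (.node 32 (.node 16 (.node 8 (.node 4 (.node 2 (.node 1 (.leaf 3208) (.leaf 3209)) (.node 1 (.leaf 3210) (.leaf 3211))) (.node 2 (.node 1 (.leaf 3212) (.leaf 3214)) (.node 1 (.leaf 3215) (.leaf 3216)))) (.node 4 (.node 2 (.node 1 (.leaf 3217) (.leaf 3220)) (.node 1 (.leaf 3221) (.leaf 3222))) (.node 2 (.node 1 (.leaf 3223) (.leaf 3224)) (.node 1 (.leaf 3226) (.leaf 3227))))) (.node 8 (.node 4 (.node 2 (.node 1 (.leaf 3228) (.leaf 3229)) (.node 1 (.leaf 3232) (.leaf 3233))) (.node 2 (.node 1 (.leaf 3234) (.leaf 3237)) (.node 1 (.leaf 3238) (.leaf 3239)))) (.node 4 (.node 2 (.node 1 (.leaf 3240) (.leaf 3242)) (.node 1 (.leaf 3243) (.leaf 3244))) (.node 2 (.node 1 (.leaf 3245) (.leaf 3246)) (.node 1 (.leaf 3248) (.leaf 3249)))))) (.node 16 (.node 8 (.node 4 (.node 2 (.node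 1 (.leaf 3250) (.leaf 3252)) (.node 1 (.leaf 3253) (.leaf 3254))) (.node 2 (.node 1 (.leaf 3255) (.leaf 3256)) (.node 1 (.leaf 3258) (.leaf 3259)))) (.node 4 (.node 2 (.node 1 (.leaf 3260) (.leaf 3261)) (.node 1 (.leaf 3262) (.leaf 3264))) (.node 2 (.node 1 (.leaf 3265) (.leaf 3266)) (.node 1 (.leaf 3267) (.leaf 3268))))) (.node 8 (.node 4 (.node 2 (.node 1 (.leaf 3270) (.leaf 3271)) (.node 1 (.leaf 3272) (.leaf 3274))) (.node 2 (.node 1 (.leaf 3275) (.leaf 3276)) (.node 1 (.leaf 3277) (.leaf 3280)))) (.node 4 (.node 2 (.node 1 (.leaf 3281) (.leaf 3282)) (.node 1 (.leaf 3283) (.leaf 3284))) (.node 2 (.node 1 (.leaf 3288) (.leaf 3290)) (.node 1 (.leaf 3291) (.leaf 3292)))))))) (.node 64 (.node 32 (.node 16 (.node 8 (.node 4 (.node 2 (.node 1 (.leaf 3293) (.leaf 3294)) (.node 1 (.leaf 3296) (.leaf 3297))) (.node 2 (.node 1 (.leaf 3298) (.leaf 3300)) (.node 1 (.leaf 3301) (.leaf 3302)))) (.node 4 (.node 2 (.node 1 (.leaf 3304) (.leaf 3305)) (.node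 1 (.leaf 3306) (.leaf 3308))) (.node 2 (.node 1 (.leaf 3314) (.leaf 3315)) (.node 1 (.leaf 3316) (.leaf 3318))))) (.node 8 (.node 4 (.node 2 (.node 1 (.leaf 3320) (.leaf 3322)) (.node 1 (.leaf 3324) (.leaf 3325))) (.node 2 (.node 1 (.leaf 3326) (.leaf 3328)) (.node 1 (.leaf 3330) (.leaf 3331)))) (.node 4 (.node 2 (.node 1 (.leaf 3332) (.leaf 3333)) (.node 1 (.leaf 3334) (.leaf 3336))) (.node 2 (.node 1 (.leaf 3337) (.leaf 3340)) (.node 1 (.leaf 3341) (.leaf 3342)))))) (.node 16 (.node 8 (.node 4 (.node 2 (.node 1 (.leaf 3344) (.leaf 3345)) (.node 1 (.leaf 3346) (.leaf 3348))) (.node 2 (.node 1 (.leaf 3349) (.leaf 3350)) (.node 1 (.leaf 3353) (.leaf 3354)))) (.node 4 (.node 2 (.node 1 (.leaf 3355) (.leaf 3356)) (.node 1 (.leaf 3357) (.leaf 3358))) (.node 2 (.node 1 (.leaf 3359) (.leaf 3360)) (.node 1 (.leaf 3362) (.leaf 3363))))) (.node 8 (.node 4 (.node 2 (.node 1 (.leaf 3364) (.leaf 3365)) (.node 1 (.leaf 3366) (.leaf 3367))) (.node 2 (.node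 1 (.leaf 3368) (.leaf 3370)) (.node 1 (.leaf 3371) (.leaf 3372)))) (.node 4 (.node 2 (.node 1 (.leaf 3374) (.leaf 3376)) (.node 1 (.leaf 3377) (.leaf 3378))) (.node 2 (.node 1 (.leaf 3381) (.leaf 3382)) (.node 1 (.leaf 3384) (.leaf 3385))))))) (.node 32 (.node 16 (.node 8 (.node 4 (.node 2 (.node 1 (.leaf 3389) (.leaf 3390)) (.node 1 (.leaf 3392) (.leaf 3394))) (.node 2 (.node 1 (.leaf 3395) (.leaf 3396)) (.node 1 (.leaf 3397) (.leaf 3398)))) (.node 4 (.node 2 (.node 1 (.leaf 3400) (.leaf 3401)) (.node 1 (.leaf 3405) (.leaf 3406))) (.node 2 (.node 1 (.leaf 3408) (.leaf 3410)) (.node 1 (.leaf 3411) (.leaf 3412))))) (.node 8 (.node 4 (.node 2 (.node 1 (.leaf 3414) (.leaf 3415)) (.node 1 (.leaf 3416) (.leaf 3418))) (.node 2 (.node 1 (.leaf 3420) (.leaf 3421)) (.node 1 (.leaf 3422) (.leaf 3424)))) (.node 4 (.node 2 (.node 1 (.leaf 3425) (.leaf 3426)) (.node 1 (.leaf 3427) (.leaf 3428))) (.node 2 (.node 1 (.leaf 3430) (.leaf 3432)) (.node 1 (.leaf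 3434) (.leaf 3435)))))) (.node 16 (.node 8 (.node 4 (.node 2 (.node 1 (.leaf 3438) (.leaf 3440)) (.node 1 (.leaf 3441) (.leaf 3442))) (.node 2 (.node 1 (.leaf 3447) (.leaf 3448)) (.node 1 (.leaf 3450) (.leaf 3451)))) (.node 4 (.node 2 (.node 1 (.leaf 3452) (.leaf 3453)) (.node 1 (.leaf 3454) (.leaf 3457))) (.node 2 (.node 1 (.leaf 3458) (.leaf 3459)) (.node 1 (.leaf 3460) (.leaf 3462))))) (.node 8 (.node 4 (.node 2 (.node 1 (.leaf 3463) (.leaf 3464)) (.node 1 (.leaf 3466) (.leaf 3467))) (.node 2 (.node 1 (.leaf 3468) (.leaf 3469)) (.node 1 (.leaf 3470) (.leaf 3472)))) (.node 4 (.node 2 (.node 1 (.leaf 3474) (.leaf 3475)) (.node 1 (.leaf 3476) (.leaf 3478))) (.node 2 (.node 1 (.leaf 3480) (.leaf 3481)) (.node 1 (.leaf 3482) (.node 1 (.leaf 3484) (.leaf 3485)))))))))))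

/-- Part 5 of `par0Tab`. -/
def par0Tab_5 : BT ℕ :=
  (.node 256 (.node 128 (.node 64 (.node 32 (.node 16 (.node 8 (.node 4 (.node 2 (.node 1 (.leaf 3486) (.leaf 3487)) (.node 1 (.leaf 3488) (.leaf 3490))) (.node 2 (.node 1 (.leaf 3491) (.leaf 3492)) (.node 1 (.leaf 3494) (.leaf 3495)))) (.node 4 (.node 2 (.node 1 (.leaf 3496) (.leaf 3497)) (.node 1 (.leaf 3498) (.leaf 3500))) (.node 2 (.node 1 (.leaf 3501) (.leaf 3502)) (.node 1 (.leaf 3504) (.leaf 3505))))) (.node 8 (.node 4 (.node 2 (.node 1 (.leaf 3506) (.leaf 3508)) (.node 1 (.leaf 3509) (.leaf 3510))) (.node 2 (.node 1 (.leaf 3514) (.leaf 3518)) (.node 1 (.leaf 3519) (.leaf 3520)))) (.node 4 (.node 2 (.node 1 (.leaf 3524) (.leaf 3525)) (.node 1 (.leaf 3526) (.leaf 3529))) (.node 2 (.node 1 (.leaf 3530) (.leaf 3532)) (.node 1 (.leaf 3534) (.leaf 3536)))))) (.node 16 (.node 8 (.node 4 (.node 2 (.node 1 (.leaf 3537) (.leaf 3538)) (.node 1 (.leaf 3540) (.leaf 3541))) (.node 2 (.node 1 (.leaf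 3542) (.leaf 3544)) (.node 1 (.leaf 3545) (.leaf 3546)))) (.node 4 (.node 2 (.node 1 (.leaf 3550) (.leaf 3553)) (.node 1 (.leaf 3554) (.leaf 3557))) (.node 2 (.node 1 (.leaf 3558) (.leaf 3559)) (.node 1 (.leaf 3560) (.leaf 3562))))) (.node 8 (.node 4 (.node 2 (.node 1 (.leaf 3564) (.leaf 3565)) (.node 1 (.leaf 3566) (.leaf 3570))) (.node 2 (.node 1 (.leaf 3571) (.leaf 3572)) (.node 1 (.leaf 3573) (.leaf 3574)))) (.node 4 (.node 2 (.node 1 (.leaf 3578) (.leaf 3579)) (.node 1 (.leaf 3580) (.leaf 3581))) (.node 2 (.node 1 (.leaf 3584) (.leaf 3585)) (.node 1 (.leaf 3586) (.leaf 3588))))))) (.node 32 (.node 16 (.node 8 (.node 4 (.node 2 (.node 1 (.leaf 3589) (.leaf 3590)) (.node 1 (.leaf 3591) (.leaf 3592))) (.node 2 (.node 1 (.leaf 3593) (.leaf 3594)) (.node 1 (.leaf 3595) (.leaf 3596)))) (.node 4 (.node 2 (.node 1 (.leaf 3599) (.leaf 3600)) (.node 1 (.leaf 3601) (.leaf 3602))) (.node 2 (.node 1 (.leaf 3605) (.leaf 3608)) (.node 1 (.leaf 3610)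 (.leaf 3611))))) (.node 8 (.node 4 (.node 2 (.node 1 (.leaf 3612) (.leaf 3613)) (.node 1 (.leaf 3614) (.leaf 3617))) (.node 2 (.node 1 (.leaf 3621) (.leaf 3622)) (.node 1 (.leaf 3623) (.leaf 3624)))) (.node 4 (.node 2 (.node 1 (.leaf 3626) (.leaf 3627)) (.node 1 (.leaf 3628) (.leaf 3630))) (.node 2 (.node 1 (.leaf 3631) (.leaf 3632)) (.node 1 (.leaf 3634) (.leaf 3635)))))) (.node 16 (.node 8 (.node 4 (.node 2 (.node 1 (.leaf 3636) (.leaf 3638)) (.node 1 (.leaf 3639) (.leaf 3640))) (.node 2 (.node 1 (.leaf 3642) (.leaf 3644)) (.node 1 (.leaf 3646) (.leaf 3648)))) (.node 4 (.node 2 (.node 1 (.leaf 3649) (.leaf 3650)) (.node 1 (.leaf 3652) (.leaf 3653))) (.node 2 (.node 1 (.leaf 3654) (.leaf 3656)) (.node 1 (.leaf 3658) (.leaf 3660))))) (.node 8 (.node 4 (.node 2 (.node 1 (.leaf 3662) (.leaf 3663)) (.node 1 (.leaf 3664) (.leaf 3666))) (.node 2 (.node 1 (.leaf 3667) (.leaf 3668)) (.node 1 (.leaf 3670) (.leaf 3672)))) (.node 4 (.node 2 (.node 1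 (.leaf 3673) (.leaf 3674)) (.node 1 (.leaf 3675) (.leaf 3676))) (.node 2 (.node 1 (.leaf 3679) (.leaf 3680)) (.node 1 (.leaf 3683) (.leaf 3684)))))))) (.node 64 (.node 32 (.node 16 (.node 8 (.node 4 (.node 2 (.node 1 (.leaf 3685) (.leaf 3686)) (.node 1 (.leaf 3688) (.leaf 3690))) (.node 2 (.node 1 (.leaf 3691) (.leaf 3693)) (.node 1 (.leaf 3694) (.leaf 3696)))) (.node 4 (.node 2 (.node 1 (.leaf 3698) (.leaf 3699)) (.node 1 (.leaf 3700) (.leaf 3702))) (.node 2 (.node 1 (.leaf 3703) (.leaf 3704)) (.node 1 (.leaf 3705) (.leaf 3706))))) (.node 8 (.node 4 (.node 2 (.node 1 (.leaf 3708) (.leaf 3709)) (.node 1 (.leaf 3710) (.leaf 3711))) (.node 2 (.node 1 (.leaf 3712) (.leaf 3715)) (.node 1 (.leaf 3716) (.leaf 3717)))) (.node 4 (.node 2 (.node 1 (.leaf 3718) (.leaf 3720)) (.node 1 (.leaf 3722) (.leaf 3723))) (.node 2 (.node 1 (.leaf 3724) (.leaf 3725)) (.node 1 (.leaf 3726) (.leaf 3727)))))) (.node 16 (.node 8 (.node 4 (.node 2 (.node 1 (.leaf 3732)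 (.leaf 3733)) (.node 1 (.leaf 3734) (.leaf 3735))) (.node 2 (.node 1 (.leaf 3736) (.leaf 3738)) (.node 1 (.leaf 3739) (.leaf 3740)))) (.node 4 (.node 2 (.node 1 (.leaf 3742) (.leaf 3743)) (.node 1 (.leaf 3744) (.leaf 3746))) (.node 2 (.node 1 (.leaf 3748) (.leaf 3749)) (.node 1 (.leaf 3750) (.leaf 3751))))) (.node 8 (.node 4 (.node 2 (.node 1 (.leaf 3752) (.leaf 3754)) (.node 1 (.leaf 3756) (.leaf 3758))) (.node 2 (.node 1 (.leaf 3760) (.leaf 3764)) (.node 1 (.leaf 3766) (.leaf 3767)))) (.node 4 (.node 2 (.node 1 (.leaf 3768) (.leaf 3769)) (.node 1 (.leaf 3770) (.leaf 3772))) (.node 2 (.node 1 (.leaf 3774) (.leaf 3775)) (.node 1 (.leaf 3777) (.leaf 3778))))))) (.node 32 (.node 16 (.node 8 (.node 4 (.node 2 (.node 1 (.leaf 3780) (.leaf 3781)) (.node 1 (.leaf 3782) (.leaf 3784))) (.node 2 (.node 1 (.leaf 3785) (.leaf 3786)) (.node 1 (.leaf 3788) (.leaf 3789)))) (.node 4 (.node 2 (.node 1 (.leaf 3791) (.leaf 3792)) (.node 1 (.leaf 3793) (.leaf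 3794))) (.node 2 (.node 1 (.leaf 3797) (.leaf 3802)) (.node 1 (.leaf 3806) (.leaf 3807))))) (.node 8 (.node 4 (.node 2 (.node 1 (.leaf 3808) (.leaf 3810)) (.node 1 (.leaf 3811) (.leaf 3812))) (.node 2 (.node 1 (.leaf 3813) (.leaf 3814)) (.node 1 (.leaf 3818) (.leaf 3820)))) (.node 4 (.node 2 (.node 1 (.leaf 3821) (.leaf 3824)) (.node 1 (.leaf 3825) (.leaf 3826))) (.node 2 (.node 1 (.leaf 3828) (.leaf 3829)) (.node 1 (.leaf 3830) (.leaf 3834)))))) (.node 16 (.node 8 (.node 4 (.node 2 (.node 1 (.leaf 3835) (.leaf 3839)) (.node 1 (.leaf 3840) (.leaf 3842))) (.node 2 (.node 1 (.leaf 3844) (.leaf 3845)) (.node 1 (.leaf 3846) (.leaf 3848)))) (.node 4 (.node 2 (.node 1 (.leaf 3849) (.leaf 3850)) (.node 1 (.leaf 3851) (.leaf 3852))) (.node 2 (.node 1 (.leaf 3854) (.leaf 3856)) (.node 1 (.leaf 3858) (.leaf 3859))))) (.node 8 (.node 4 (.node 2 (.node 1 (.leaf 3860) (.leaf 3861)) (.node 1 (.leaf 3862) (.leaf 3864))) (.node 2 (.node 1 (.leaf 3865) (.leaf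 3866)) (.node 1 (.leaf 3868) (.leaf 3870)))) (.node 4 (.node 2 (.node 1 (.leaf 3872) (.leaf 3873)) (.node 1 (.leaf 3874) (.leaf 3877))) (.node 2 (.node 1 (.leaf 3882) (.leaf 3883)) (.node 1 (.leaf 3885) (.leaf 3886))))))))) (.node 128 (.node 64 (.node 32 (.node 16 (.node 8 (.node 4 (.node 2 (.node 1 (.leaf 3889) (.leaf 3890)) (.node 1 (.leaf 3892) (.leaf 3893))) (.node 2 (.node 1 (.leaf 3894) (.leaf 3895)) (.node 1 (.leaf 3896) (.leaf 3900)))) (.node 4 (.node 2 (.node 1 (.leaf 3901) (.leaf 3902)) (.node 1 (.leaf 3903) (.leaf 3906))) (.node 2 (.node 1 (.leaf 3907) (.leaf 3910)) (.node 1 (.leaf 3913) (.leaf 3914))))) (.node 8 (.node 4 (.node 2 (.node 1 (.leaf 3918) (.leaf 3920)) (.node 1 (.leaf 3922) (.leaf 3924))) (.node 2 (.node 1 (.leaf 3925) (.leaf 3926)) (.node 1 (.leaf 3928) (.leaf 3929)))) (.node 4 (.node 2 (.node 1 (.leaf 3931) (.leaf 3932)) (.node 1 (.leaf 3933) (.leaf 3934))) (.node 2 (.node 1 (.leaf 3936) (.leaf 3938)) (.node 1 (.leaf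 3940) (.leaf 3941)))))) (.node 16 (.node 8 (.node 4 (.node 2 (.node 1 (.leaf 3942) (.leaf 3944)) (.node 1 (.leaf 3945) (.leaf 3946))) (.node 2 (.node 1 (.leaf 3947) (.leaf 3948)) (.node 1 (.leaf 3950) (.leaf 3954)))) (.node 4 (.node 2 (.node 1 (.leaf 3956) (.leaf 3957)) (.node 1 (.leaf 3960) (.leaf 3961))) (.node 2 (.node 1 (.leaf 3962) (.leaf 3963)) (.node 1 (.leaf 3964) (.leaf 3966))))) (.node 8 (.node 4 (.node 2 (.node 1 (.leaf 3967) (.leaf 3968)) (.node 1 (.leaf 3969) (.leaf 3970))) (.node 2 (.node 1 (.leaf 3973) (.leaf 3974)) (.node 1 (.leaf 3975) (.leaf 3976)))) (.node 4 (.node 2 (.node 1 (.leaf 3979) (.leaf 3980)) (.node 1 (.leaf 3982) (.leaf 3984))) (.node 2 (.node 1 (.leaf 3985) (.leaf 3986)) (.node 1 (.leaf 3988) (.leaf 3989))))))) (.node 32 (.node 16 (.node 8 (.node 4 (.node 2 (.node 1 (.leaf 3991) (.leaf 3992)) (.node 1 (.leaf 3994) (.leaf 3995))) (.node 2 (.node 1 (.leaf 3996) (.leaf 3997)) (.node 1 (.leaf 4000) (.leaf 4001))))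 (.node 4 (.node 2 (.node 1 (.leaf 4004) (.leaf 4005)) (.node 1 (.leaf 4006) (.leaf 4007))) (.node 2 (.node 1 (.leaf 4008) (.leaf 4010)) (.node 1 (.leaf 4011) (.leaf 4015))))) (.node 8 (.node 4 (.node 2 (.node 1 (.leaf 4018) (.leaf 4020)) (.node 1 (.leaf 4023) (.leaf 4025))) (.node 2 (.node 1 (.leaf 4026) (.leaf 4028)) (.node 1 (.leaf 4029) (.leaf 4030)))) (.node 4 (.node 2 (.node 1 (.leaf 4033) (.leaf 4034)) (.node 1 (.leaf 4035) (.leaf 4036))) (.node 2 (.node 1 (.leaf 4039) (.leaf 4040)) (.node 1 (.leaf 4042) (.leaf 4043)))))) (.node 16 (.node 8 (.node 4 (.node 2 (.node 1 (.leaf 4044) (.leaf 4046)) (.node 1 (.leaf 4048) (.leaf 4049))) (.node 2 (.node 1 (.leaf 4050) (.leaf 4052)) (.node 1 (.leaf 4053) (.leaf 4055)))) (.node 4 (.node 2 (.node 1 (.leaf 4056) (.leaf 4057)) (.node 1 (.leaf 4058) (.leaf 4060))) (.node 2 (.node 1 (.leaf 4061) (.leaf 4064)) (.node 1 (.leaf 4065) (.leaf 4066))))) (.node 8 (.node 4 (.node 2 (.node 1 (.leaf 4068) (.leaf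 4069)) (.node 1 (.leaf 4070) (.leaf 4072))) (.node 2 (.node 1 (.leaf 4073) (.leaf 4074)) (.node 1 (.leaf 4076) (.leaf 4077)))) (.node 4 (.node 2 (.node 1 (.leaf 4078) (.leaf 4079)) (.node 1 (.leaf 4082) (.leaf 4083))) (.node 2 (.node 1 (.leaf 4084) (.leaf 4088)) (.node 1 (.leaf 4089) (.leaf 4090)))))))) (.node 64 (.node 32 (.node 16 (.node 8 (.node 4 (.node 2 (.node 1 (.leaf 4092) (.leaf 4097)) (.node 1 (.leaf 4098) (.leaf 4100))) (.node 2 (.node 1 (.leaf 4101) (.leaf 4102)) (.node 1 (.leaf 4103) (.leaf 4105)))) (.node 4 (.node 2 (.node 1 (.leaf 4106) (.leaf 4108)) (.node 1 (.leaf 4111) (.leaf 4112))) (.node 2 (.node 1 (.leaf 4117) (.leaf 4118)) (.node 1 (.leaf 4119) (.leaf 4120))))) (.node 8 (.node 4 (.node 2 (.node 1 (.leaf 4123) (.leaf 4124)) (.node 1 (.leaf 4125) (.leaf 4128))) (.node 2 (.node 1 (.leaf 4130) (.leaf 4131)) (.node 1 (.leaf 4133) (.leaf 4134)))) (.node 4 (.node 2 (.node 1 (.leaf 4136) (.leaf 4137)) (.node 1 (.leaf 4138) (.leaf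 4139))) (.node 2 (.node 1 (.leaf 4140) (.leaf 4143)) (.node 1 (.leaf 4144) (.leaf 4145)))))) (.node 16 (.node 8 (.node 4 (.node 2 (.node 1 (.leaf 4146) (.leaf 4148)) (.node 1 (.leaf 4149) (.leaf 4150))) (.node 2 (.node 1 (.leaf 4151) (.leaf 4152)) (.node 1 (.leaf 4154) (.leaf 4155)))) (.node 4 (.node 2 (.node 1 (.leaf 4157) (.leaf 4158)) (.node 1 (.leaf 4159) (.leaf 4160))) (.node 2 (.node 1 (.leaf 4164) (.leaf 4165)) (.node 1 (.leaf 4166) (.leaf 4168))))) (.node 8 (.node 4 (.node 2 (.node 1 (.leaf 4170) (.leaf 4171)) (.node 1 (.leaf 4172) (.leaf 4174))) (.node 2 (.node 1 (.leaf 4176) (.leaf 4177)) (.node 1 (.leaf 4178) (.leaf 4181)))) (.node 4 (.node 2 (.node 1 (.leaf 4182) (.leaf 4183)) (.node 1 (.leaf 4184) (.leaf 4186))) (.node 2 (.node 1 (.leaf 4187) (.leaf 4189)) (.node 1 (.leaf 4190) (.leaf 4193))))))) (.node 32 (.node 16 (.node 8 (.node 4 (.node 2 (.node 1 (.leaf 4194) (.leaf 4196)) (.node 1 (.leaf 4197) (.leaf 4198))) (.node 2 (.node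 1 (.leaf 4200) (.leaf 4203)) (.node 1 (.leaf 4206) (.leaf 4207)))) (.node 4 (.node 2 (.node 1 (.leaf 4208) (.leaf 4209)) (.node 1 (.leaf 4210) (.leaf 4212))) (.node 2 (.node 1 (.leaf 4220) (.leaf 4221)) (.node 1 (.leaf 4222) (.leaf 4224))))) (.node 8 (.node 4 (.node 2 (.node 1 (.leaf 4225) (.leaf 4226)) (.node 1 (.leaf 4228) (.leaf 4230))) (.node 2 (.node 1 (.leaf 4232) (.leaf 4233)) (.node 1 (.leaf 4236) (.leaf 4237)))) (.node 4 (.node 2 (.node 1 (.leaf 4238) (.leaf 4240)) (.node 1 (.leaf 4241) (.leaf 4242))) (.node 2 (.node 1 (.leaf 4243) (.leaf 4244)) (.node 1 (.leaf 4246) (.leaf 4247)))))) (.node 16 (.node 8 (.node 4 (.node 2 (.node 1 (.leaf 4248) (.leaf 4249)) (.node 1 (.leaf 4250) (.leaf 4252))) (.node 2 (.node 1 (.leaf 4254) (.leaf 4256)) (.node 1 (.leaf 4257) (.leaf 4258)))) (.node 4 (.node 2 (.node 1 (.leaf 4259) (.leaf 4260)) (.node 1 (.leaf 4262) (.leaf 4263))) (.node 2 (.node 1 (.leaf 4264) (.leaf 4266)) (.node 1 (.leaf 4267) (.leaf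 4268))))) (.node 8 (.node 4 (.node 2 (.node 1 (.leaf 4271) (.leaf 4272)) (.node 1 (.leaf 4273) (.leaf 4274))) (.node 2 (.node 1 (.leaf 4276) (.leaf 4279)) (.node 1 (.leaf 4280) (.leaf 4282)))) (.node 4 (.node 2 (.node 1 (.leaf 4283) (.leaf 4284)) (.node 1 (.leaf 4286) (.leaf 4287))) (.node 2 (.node 1 (.leaf 4288) (.leaf 4291)) (.node 1 (.leaf 4294) (.node 1 (.leaf 4296) (.leaf 4297)))))))))))

/-- Part 6 of `par0Tab`. -/
def par0Tab_6 : BT ℕ :=
  (.node 256 (.node 128 (.node 64 (.node 32 (.node 16 (.node 8 (.node 4 (.node 2 (.node 1 (.leaf 4298) (.leaf 4300)) (.node 1 (.leaf 4301) (.leaf 4302))) (.node 2 (.node 1 (.leaf 4303) (.leaf 4304)) (.node 1 (.leaf 4307) (.leaf 4308)))) (.node 4 (.node 2 (.node 1 (.leaf 4309) (.leaf 4311)) (.node 1 (.leaf 4312) (.leaf 4314))) (.node 2 (.node 1 (.leaf 4315) (.leaf 4316)) (.node 1 (.leaf 4318) (.leaf 4320))))) (.node 8 (.node 4 (.node 2 (.node 1 (.leaf 4322) (.leaf 4323)) (.node 1 (.leaf 4324) (.leaf 4325)))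 (.node 2 (.node 1 (.leaf 4326) (.leaf 4329)) (.node 1 (.leaf 4331) (.leaf 4332)))) (.node 4 (.node 2 (.node 1 (.leaf 4334) (.leaf 4335)) (.node 1 (.leaf 4337) (.leaf 4338))) (.node 2 (.node 1 (.leaf 4340) (.leaf 4342)) (.node 1 (.leaf 4344) (.leaf 4346)))))) (.node 16 (.node 8 (.node 4 (.node 2 (.node 1 (.leaf 4348) (.leaf 4350)) (.node 1 (.leaf 4351) (.leaf 4352))) (.node 2 (.node 1 (.leaf 4353) (.leaf 4354)) (.node 1 (.leaf 4356) (.leaf 4357)))) (.node 4 (.node 2 (.node 1 (.leaf 4360) (.leaf 4361)) (.node 1 (.leaf 4362) (.leaf 4364))) (.node 2 (.node 1 (.leaf 4366) (.leaf 4367)) (.node 1 (.leaf 4368) (.leaf 4370))))) (.node 8 (.node 4 (.node 2 (.node 1 (.leaf 4371) (.leaf 4374)) (.node 1 (.leaf 4376) (.leaf 4377))) (.node 2 (.node 1 (.leaf 4378) (.leaf 4382)) (.node 1 (.leaf 4383) (.leaf 4384)))) (.node 4 (.node 2 (.node 1 (.leaf 4387) (.leaf 4388)) (.node 1 (.leaf 4391) (.leaf 4392))) (.node 2 (.node 1 (.leaf 4393) (.leaf 4394)) (.node 1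 (.leaf 4397) (.leaf 4400))))))) (.node 32 (.node 16 (.node 8 (.node 4 (.node 2 (.node 1 (.leaf 4401) (.leaf 4404)) (.node 1 (.leaf 4405) (.leaf 4406))) (.node 2 (.node 1 (.leaf 4407) (.leaf 4409)) (.node 1 (.leaf 4410) (.leaf 4413)))) (.node 4 (.node 2 (.node 1 (.leaf 4414) (.leaf 4415)) (.node 1 (.leaf 4416) (.leaf 4418))) (.node 2 (.node 1 (.leaf 4419) (.leaf 4420)) (.node 1 (.leaf 4422) (.leaf 4423))))) (.node 8 (.node 4 (.node 2 (.node 1 (.leaf 4426) (.leaf 4427)) (.node 1 (.leaf 4430) (.leaf 4431))) (.node 2 (.node 1 (.leaf 4432) (.leaf 4434)) (.node 1 (.leaf 4436) (.leaf 4438)))) (.node 4 (.node 2 (.node 1 (.leaf 4440) (.leaf 4441)) (.node 1 (.leaf 4443) (.leaf 4446))) (.node 2 (.node 1 (.leaf 4447) (.leaf 4448)) (.node 1 (.leaf 4449) (.leaf 4450)))))) (.node 16 (.node 8 (.node 4 (.node 2 (.node 1 (.leaf 4453) (.leaf 4456)) (.node 1 (.leaf 4457) (.leaf 4458))) (.node 2 (.node 1 (.leaf 4459) (.leaf 4460)) (.node 1 (.leaf 4462) (.leaf 4463))))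 (.node 4 (.node 2 (.node 1 (.leaf 4464) (.leaf 4466)) (.node 1 (.leaf 4467) (.leaf 4468))) (.node 2 (.node 1 (.leaf 4472) (.leaf 4473)) (.node 1 (.leaf 4474) (.leaf 4475))))) (.node 8 (.node 4 (.node 2 (.node 1 (.leaf 4476) (.leaf 4478)) (.node 1 (.leaf 4479) (.leaf 4480))) (.node 2 (.node 1 (.leaf 4481) (.leaf 4482)) (.node 1 (.leaf 4484) (.leaf 4486)))) (.node 4 (.node 2 (.node 1 (.leaf 4488) (.leaf 4490)) (.node 1 (.leaf 4492) (.leaf 4493))) (.node 2 (.node 1 (.leaf 4494) (.leaf 4496)) (.node 1 (.leaf 4497) (.leaf 4498)))))))) (.node 64 (.node 32 (.node 16 (.node 8 (.node 4 (.node 2 (.node 1 (.leaf 4499) (.leaf 4500)) (.node 1 (.leaf 4501) (.leaf 4504))) (.node 2 (.node 1 (.leaf 4506) (.leaf 4508)) (.node 1 (.leaf 4509) (.leaf 4510)))) (.node 4 (.node 2 (.node 1 (.leaf 4512) (.leaf 4513)) (.node 1 (.leaf 4514) (.leaf 4516))) (.node 2 (.node 1 (.leaf 4518) (.leaf 4520)) (.node 1 (.leaf 4522) (.leaf 4523))))) (.node 8 (.node 4 (.node 2 (.node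 1 (.leaf 4527) (.leaf 4528)) (.node 1 (.leaf 4530) (.leaf 4532))) (.node 2 (.node 1 (.leaf 4533) (.leaf 4534)) (.node 1 (.leaf 4536) (.leaf 4537)))) (.node 4 (.node 2 (.node 1 (.leaf 4540) (.leaf 4541)) (.node 1 (.leaf 4542) (.leaf 4544))) (.node 2 (.node 1 (.leaf 4546) (.leaf 4548)) (.node 1 (.leaf 4550) (.leaf 4552)))))) (.node 16 (.node 8 (.node 4 (.node 2 (.node 1 (.leaf 4553) (.leaf 4554)) (.node 1 (.leaf 4555) (.leaf 4556))) (.node 2 (.node 1 (.leaf 4557) (.leaf 4558)) (.node 1 (.leaf 4561) (.leaf 4562)))) (.node 4 (.node 2 (.node 1 (.leaf 4566) (.leaf 4567)) (.node 1 (.leaf 4568) (.leaf 4569))) (.node 2 (.node 1 (.leaf 4570) (.leaf 4572)) (.node 1 (.leaf 4573) (.leaf 4574))))) (.node 8 (.node 4 (.node 2 (.node 1 (.leaf 4575) (.leaf 4576)) (.node 1 (.leaf 4578) (.leaf 4579))) (.node 2 (.node 1 (.leaf 4581) (.leaf 4584)) (.node 1 (.leaf 4585) (.leaf 4587)))) (.node 4 (.node 2 (.node 1 (.leaf 4588) (.leaf 4590)) (.node 1 (.leaf 4591) (.leaf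 4592))) (.node 2 (.node 1 (.leaf 4594) (.leaf 4595)) (.node 1 (.leaf 4596) (.leaf 4597))))))) (.node 32 (.node 16 (.node 8 (.node 4 (.node 2 (.node 1 (.leaf 4598) (.leaf 4600)) (.node 1 (.leaf 4601) (.leaf 4602))) (.node 2 (.node 1 (.leaf 4603) (.leaf 4605)) (.node 1 (.leaf 4606) (.leaf 4608)))) (.node 4 (.node 2 (.node 1 (.leaf 4609) (.leaf 4611)) (.node 1 (.leaf 4614) (.leaf 4616))) (.node 2 (.node 1 (.leaf 4618) (.leaf 4619)) (.node 1 (.leaf 4620) (.leaf 4621))))) (.node 8 (.node 4 (.node 2 (.node 1 (.leaf 4624) (.leaf 4626)) (.node 1 (.leaf 4628) (.leaf 4629))) (.node 2 (.node 1 (.leaf 4630) (.leaf 4631)) (.node 1 (.leaf 4635) (.leaf 4638)))) (.node 4 (.node 2 (.node 1 (.leaf 4640) (.leaf 4642)) (.node 1 (.leaf 4643) (.leaf 4644))) (.node 2 (.node 1 (.leaf 4646) (.leaf 4647)) (.node 1 (.leaf 4650) (.leaf 4651)))))) (.node 16 (.node 8 (.node 4 (.node 2 (.node 1 (.leaf 4652) (.leaf 4653)) (.node 1 (.leaf 4656) (.leaf 4657))) (.node 2 (.node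 1 (.leaf 4658) (.leaf 4659)) (.node 1 (.leaf 4660) (.leaf 4662)))) (.node 4 (.node 2 (.node 1 (.leaf 4664) (.leaf 4666)) (.node 1 (.leaf 4668) (.leaf 4669))) (.node 2 (.node 1 (.leaf 4670) (.leaf 4672)) (.node 1 (.leaf 4674) (.leaf 4676))))) (.node 8 (.node 4 (.node 2 (.node 1 (.leaf 4678) (.leaf 4681)) (.node 1 (.leaf 4682) (.leaf 4684))) (.node 2 (.node 1 (.leaf 4685) (.leaf 4686)) (.node 1 (.leaf 4688) (.leaf 4692)))) (.node 4 (.node 2 (.node 1 (.leaf 4693) (.leaf 4695)) (.node 1 (.leaf 4698) (.leaf 4699))) (.node 2 (.node 1 (.leaf 4702) (.leaf 4703)) (.node 1 (.leaf 4706) (.leaf 4707))))))))) (.node 128 (.node 64 (.node 32 (.node 16 (.node 8 (.node 4 (.node 2 (.node 1 (.leaf 4708) (.leaf 4710)) (.node 1 (.leaf 4711) (.leaf 4712))) (.node 2 (.node 1 (.leaf 4715) (.leaf 4716)) (.node 1 (.leaf 4717) (.leaf 4718)))) (.node 4 (.node 2 (.node 1 (.leaf 4720) (.leaf 4721)) (.node 1 (.leaf 4722) (.leaf 4724))) (.node 2 (.node 1 (.leaf 4725) (.leaf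 4726)) (.node 1 (.leaf 4727) (.leaf 4728))))) (.node 8 (.node 4 (.node 2 (.node 1 (.leaf 4730) (.leaf 4731)) (.node 1 (.leaf 4732) (.leaf 4734))) (.node 2 (.node 1 (.leaf 4736) (.leaf 4737)) (.node 1 (.leaf 4740) (.leaf 4741)))) (.node 4 (.node 2 (.node 1 (.leaf 4744) (.leaf 4745)) (.node 1 (.leaf 4746) (.leaf 4749))) (.node 2 (.node 1 (.leaf 4750) (.leaf 4753)) (.node 1 (.leaf 4754) (.leaf 4755)))))) (.node 16 (.node 8 (.node 4 (.node 2 (.node 1 (.leaf 4759) (.leaf 4760)) (.node 1 (.leaf 4762) (.leaf 4763))) (.node 2 (.node 1 (.leaf 4766) (.leaf 4767)) (.node 1 (.leaf 4768) (.leaf 4770)))) (.node 4 (.node 2 (.node 1 (.leaf 4771) (.leaf 4772)) (.node 1 (.leaf 4773) (.leaf 4777))) (.node 2 (.node 1 (.leaf 4778) (.leaf 4780)) (.node 1 (.leaf 4781) (.leaf 4782))))) (.node 8 (.node 4 (.node 2 (.node 1 (.leaf 4784) (.leaf 4785)) (.node 1 (.leaf 4786) (.leaf 4789))) (.node 2 (.node 1 (.leaf 4792) (.leaf 4793)) (.node 1 (.leaf 4795) (.leaf 4796))))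 (.node 4 (.node 2 (.node 1 (.leaf 4798) (.leaf 4799)) (.node 1 (.leaf 4802) (.leaf 4803))) (.node 2 (.node 1 (.leaf 4805) (.leaf 4806)) (.node 1 (.leaf 4808) (.leaf 4809))))))) (.node 32 (.node 16 (.node 8 (.node 4 (.node 2 (.node 1 (.leaf 4812) (.leaf 4815)) (.node 1 (.leaf 4816) (.leaf 4818))) (.node 2 (.node 1 (.leaf 4821) (.leaf 4822)) (.node 1 (.leaf 4825) (.leaf 4826)))) (.node 4 (.node 2 (.node 1 (.leaf 4828) (.leaf 4829)) (.node 1 (.leaf 4830) (.leaf 4831))) (.node 2 (.node 1 (.leaf 4834) (.leaf 4835)) (.node 1 (.leaf 4836) (.leaf 4838))))) (.node 8 (.node 4 (.node 2 (.node 1 (.leaf 4839) (.leaf 4840)) (.node 1 (.leaf 4841) (.leaf 4844))) (.node 2 (.node 1 (.leaf 4845) (.leaf 4847)) (.node 1 (.leaf 4848) (.leaf 4850)))) (.node 4 (.node 2 (.node 1 (.leaf 4851) (.leaf 4852)) (.node 1 (.leaf 4854) (.leaf 4855))) (.node 2 (.node 1 (.leaf 4859) (.leaf 4860)) (.node 1 (.leaf 4862) (.leaf 4863)))))) (.node 16 (.node 8 (.node 4 (.node 2 (.node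 1 (.leaf 4864) (.leaf 4865)) (.node 1 (.leaf 4868) (.leaf 4870))) (.node 2 (.node 1 (.leaf 4872) (.leaf 4874)) (.node 1 (.leaf 4876) (.leaf 4877)))) (.node 4 (.node 2 (.node 1 (.leaf 4878) (.leaf 4880)) (.node 1 (.leaf 4881) (.leaf 4882))) (.node 2 (.node 1 (.leaf 4888) (.leaf 4889)) (.node 1 (.leaf 4890) (.leaf 4894))))) (.node 8 (.node 4 (.node 2 (.node 1 (.leaf 4896) (.leaf 4900)) (.node 1 (.leaf 4901) (.leaf 4902))) (.node 2 (.node 1 (.leaf 4903) (.leaf 4904)) (.node 1 (.leaf 4905) (.leaf 4906)))) (.node 4 (.node 2 (.node 1 (.leaf 4907) (.leaf 4908)) (.node 1 (.leaf 4910) (.leaf 4912))) (.node 2 (.node 1 (.leaf 4914) (.leaf 4916)) (.node 1 (.leaf 4921) (.leaf 4922)))))))) (.node 64 (.node 32 (.node 16 (.node 8 (.node 4 (.node 2 (.node 1 (.leaf 4924) (.leaf 4925)) (.node 1 (.leaf 4926) (.leaf 4927))) (.node 2 (.node 1 (.leaf 4928) (.leaf 4930)) (.node 1 (.leaf 4931) (.leaf 4932)))) (.node 4 (.node 2 (.node 1 (.leaf 4934) (.leaf 4935)) (.node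 1 (.leaf 4936) (.leaf 4937))) (.node 2 (.node 1 (.leaf 4938) (.leaf 4940)) (.node 1 (.leaf 4941) (.leaf 4942))))) (.node 8 (.node 4 (.node 2 (.node 1 (.leaf 4944) (.leaf 4946)) (.node 1 (.leaf 4947) (.leaf 4948))) (.node 2 (.node 1 (.leaf 4950) (.leaf 4951)) (.node 1 (.leaf 4955) (.leaf 4959)))) (.node 4 (.node 2 (.node 1 (.leaf 4962) (.leaf 4963)) (.node 1 (.leaf 4965) (.leaf 4966))) (.node 2 (.node 1 (.leaf 4969) (.leaf 4972)) (.node 1 (.leaf 4973) (.leaf 4974)))))) (.node 16 (.node 8 (.node 4 (.node 2 (.node 1 (.leaf 4976) (.leaf 4978)) (.node 1 (.leaf 4979) (.leaf 4982))) (.node 2 (.node 1 (.leaf 4983) (.leaf 4984)) (.node 1 (.leaf 4985) (.leaf 4987)))) (.node 4 (.node 2 (.node 1 (.leaf 4988) (.leaf 4992)) (.node 1 (.leaf 4994) (.leaf 4997))) (.node 2 (.node 1 (.leaf 5000) (.leaf 5002)) (.node 1 (.leaf 5003) (.leaf 5004))))) (.node 8 (.node 4 (.node 2 (.node 1 (.leaf 5005) (.leaf 5008)) (.node 1 (.leaf 5011) (.leaf 5012))) (.node 2 (.node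 1 (.leaf 5014) (.leaf 5017)) (.node 1 (.leaf 5020) (.leaf 5022)))) (.node 4 (.node 2 (.node 1 (.leaf 5025) (.leaf 5026)) (.node 1 (.leaf 5027) (.leaf 5028))) (.node 2 (.node 1 (.leaf 5030) (.leaf 5031)) (.node 1 (.leaf 5032) (.leaf 5034))))))) (.node 32 (.node 16 (.node 8 (.node 4 (.node 2 (.node 1 (.leaf 5037) (.leaf 5038)) (.node 1 (.leaf 5039) (.leaf 5041))) (.node 2 (.node 1 (.leaf 5042) (.leaf 5044)) (.node 1 (.leaf 5046) (.leaf 5047)))) (.node 4 (.node 2 (.node 1 (.leaf 5048) (.leaf 5052)) (.node 1 (.leaf 5054) (.leaf 5056))) (.node 2 (.node 1 (.leaf 5058) (.leaf 5061)) (.node 1 (.leaf 5062) (.leaf 5066))))) (.node 8 (.node 4 (.node 2 (.node 1 (.leaf 5067) (.leaf 5068)) (.node 1 (.leaf 5072) (.leaf 5074))) (.node 2 (.node 1 (.leaf 5077) (.leaf 5078)) (.node 1 (.leaf 5080) (.leaf 5081)))) (.node 4 (.node 2 (.node 1 (.leaf 5082) (.leaf 5084)) (.node 1 (.leaf 5085) (.leaf 5086))) (.node 2 (.node 1 (.leaf 5088) (.leaf 5090)) (.node 1 (.leaf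 5092) (.leaf 5093)))))) (.node 16 (.node 8 (.node 4 (.node 2 (.node 1 (.leaf 5094) (.leaf 5096)) (.node 1 (.leaf 5099) (.leaf 5101))) (.node 2 (.node 1 (.leaf 5102) (.leaf 5104)) (.node 1 (.leaf 5106) (.leaf 5108)))) (.node 4 (.node 2 (.node 1 (.leaf 5110) (.leaf 5111)) (.node 1 (.leaf 5112) (.leaf 5113))) (.node 2 (.node 1 (.leaf 5114) (.leaf 5117)) (.node 1 (.leaf 5118) (.leaf 5119))))) (.node 8 (.node 4 (.node 2 (.node 1 (.leaf 5120) (.leaf 5121)) (.node 1 (.leaf 5124) (.leaf 5125))) (.node 2 (.node 1 (.leaf 5126) (.leaf 5127)) (.node 1 (.leaf 5128) (.leaf 5130)))) (.node 4 (.node 2 (.node 1 (.leaf 5131) (.leaf 5132)) (.node 1 (.leaf 5134) (.leaf 5135))) (.node 2 (.node 1 (.leaf 5136) (.leaf 5138)) (.node 1 (.leaf 5140) (.node 1 (.leaf 5141) (.leaf 5144)))))))))))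

/-- Part 7 of `par0Tab`. -/
def par0Tab_7 : BT ℕ :=
  (.node 256 (.node 128 (.node 64 (.node 32 (.node 16 (.node 8 (.node 4 (.node 2 (.node 1 (.leaf 5147) (.leaf 5150)) (.node 1 (.leaf 5151) (.leaf 5152))) (.node 2 (.node 1 (.leaf 5153) (.leaf 5154)) (.node 1 (.leaf 5156) (.leaf 5157)))) (.node 4 (.node 2 (.node 1 (.leaf 5158) (.leaf 5159)) (.node 1 (.leaf 5162) (.leaf 5163))) (.node 2 (.node 1 (.leaf 5168) (.leaf 5169)) (.node 1 (.leaf 5172) (.leaf 5173))))) (.node 8 (.node 4 (.node 2 (.node 1 (.leaf 5174) (.leaf 5176)) (.node 1 (.leaf 5177) (.leaf 5178))) (.node 2 (.node 1 (.leaf 5179) (.leaf 5182)) (.node 1 (.leaf 5187) (.leaf 5188)))) (.node 4 (.node 2 (.node 1 (.leaf 5189) (.leaf 5190)) (.node 1 (.leaf 5192) (.leaf 5193))) (.node 2 (.node 1 (.leaf 5194) (.leaf 5196)) (.node 1 (.leaf 5197) (.leaf 5198)))))) (.node 16 (.node 8 (.node 4 (.node 2 (.node 1 (.leaf 5199) (.leaf 5200)) (.node 1 (.leaf 5202) (.leaf 5203))) (.node 2 (.node 1 (.leaf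 5204) (.leaf 5205)) (.node 1 (.leaf 5206) (.leaf 5209)))) (.node 4 (.node 2 (.node 1 (.leaf 5210) (.leaf 5211)) (.node 1 (.leaf 5212) (.leaf 5214))) (.node 2 (.node 1 (.leaf 5215) (.leaf 5216)) (.node 1 (.leaf 5219) (.leaf 5220))))) (.node 8 (.node 4 (.node 2 (.node 1 (.leaf 5222) (.leaf 5223)) (.node 1 (.leaf 5224) (.leaf 5227))) (.node 2 (.node 1 (.leaf 5228) (.leaf 5230)) (.node 1 (.leaf 5231) (.leaf 5232)))) (.node 4 (.node 2 (.node 1 (.leaf 5233) (.leaf 5236)) (.node 1 (.leaf 5238) (.leaf 5240))) (.node 2 (.node 1 (.leaf 5242) (.leaf 5244)) (.node 1 (.leaf 5247) (.leaf 5248))))))) (.node 32 (.node 16 (.node 8 (.node 4 (.node 2 (.node 1 (.leaf 5250) (.leaf 5252)) (.node 1 (.leaf 5254) (.leaf 5255))) (.node 2 (.node 1 (.leaf 5256) (.leaf 5257)) (.node 1 (.leaf 5258) (.leaf 5261)))) (.node 4 (.node 2 (.node 1 (.leaf 5262) (.leaf 5265)) (.node 1 (.leaf 5266) (.leaf 5268))) (.node 2 (.node 1 (.leaf 5269) (.leaf 5270)) (.node 1 (.leaf 5272)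 (.leaf 5278))))) (.node 8 (.node 4 (.node 2 (.node 1 (.leaf 5280) (.leaf 5281)) (.node 1 (.leaf 5282) (.leaf 5284))) (.node 2 (.node 1 (.leaf 5285) (.leaf 5286)) (.node 1 (.leaf 5287) (.leaf 5290)))) (.node 4 (.node 2 (.node 1 (.leaf 5291) (.leaf 5292)) (.node 1 (.leaf 5294) (.leaf 5296))) (.node 2 (.node 1 (.leaf 5298) (.leaf 5300)) (.node 1 (.leaf 5301) (.leaf 5305)))))) (.node 16 (.node 8 (.node 4 (.node 2 (.node 1 (.leaf 5307) (.leaf 5308)) (.node 1 (.leaf 5310) (.leaf 5311))) (.node 2 (.node 1 (.leaf 5314) (.leaf 5316)) (.node 1 (.leaf 5317) (.leaf 5318)))) (.node 4 (.node 2 (.node 1 (.leaf 5319) (.leaf 5320)) (.node 1 (.leaf 5323) (.leaf 5324))) (.node 2 (.node 1 (.leaf 5326) (.leaf 5329)) (.node 1 (.leaf 5330) (.leaf 5332))))) (.node 8 (.node 4 (.node 2 (.node 1 (.leaf 5333) (.leaf 5335)) (.node 1 (.leaf 5336) (.leaf 5338))) (.node 2 (.node 1 (.leaf 5340) (.leaf 5342)) (.node 1 (.leaf 5343) (.leaf 5351)))) (.node 4 (.node 2 (.node 1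 (.leaf 5352) (.leaf 5356)) (.node 1 (.leaf 5358) (.leaf 5360))) (.node 2 (.node 1 (.leaf 5361) (.leaf 5362)) (.node 1 (.leaf 5364) (.leaf 5365)))))))) (.node 64 (.node 32 (.node 16 (.node 8 (.node 4 (.node 2 (.node 1 (.leaf 5366) (.leaf 5367)) (.node 1 (.leaf 5370) (.leaf 5372))) (.node 2 (.node 1 (.leaf 5373) (.leaf 5374)) (.node 1 (.leaf 5376) (.leaf 5377)))) (.node 4 (.node 2 (.node 1 (.leaf 5378) (.leaf 5381)) (.node 1 (.leaf 5382) (.leaf 5385))) (.node 2 (.node 1 (.leaf 5386) (.leaf 5391)) (.node 1 (.leaf 5392) (.leaf 5393))))) (.node 8 (.node 4 (.node 2 (.node 1 (.leaf 5394) (.leaf 5396)) (.node 1 (.leaf 5399) (.leaf 5400))) (.node 2 (.node 1 (.leaf 5402) (.leaf 5404)) (.node 1 (.leaf 5407) (.leaf 5408)))) (.node 4 (.node 2 (.node 1 (.leaf 5410) (.leaf 5412)) (.node 1 (.leaf 5413) (.leaf 5414))) (.node 2 (.node 1 (.leaf 5417) (.leaf 5418)) (.node 1 (.leaf 5419) (.leaf 5420)))))) (.node 16 (.node 8 (.node 4 (.node 2 (.node 1 (.leaf 5424)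 (.leaf 5426)) (.node 1 (.leaf 5428) (.leaf 5430))) (.node 2 (.node 1 (.leaf 5431) (.leaf 5432)) (.node 1 (.leaf 5434) (.leaf 5436)))) (.node 4 (.node 2 (.node 1 (.leaf 5437) (.leaf 5438)) (.node 1 (.leaf 5439) (.leaf 5440))) (.node 2 (.node 1 (.leaf 5446) (.leaf 5447)) (.node 1 (.leaf 5450) (.leaf 5458))))) (.node 8 (.node 4 (.node 2 (.node 1 (.leaf 5459) (.leaf 5464)) (.node 1 (.leaf 5465) (.leaf 5466))) (.node 2 (.node 1 (.leaf 5467) (.leaf 5468)) (.node 1 (.leaf 5470) (.leaf 5471)))) (.node 4 (.node 2 (.node 1 (.leaf 5473) (.leaf 5474)) (.node 1 (.leaf 5475) (.leaf 5476))) (.node 2 (.node 1 (.leaf 5480) (.leaf 5482)) (.node 1 (.leaf 5485) (.leaf 5486))))))) (.node 32 (.node 16 (.node 8 (.node 4 (.node 2 (.node 1 (.leaf 5487) (.leaf 5488)) (.node 1 (.leaf 5489) (.leaf 5490))) (.node 2 (.node 1 (.leaf 5491) (.leaf 5492)) (.node 1 (.leaf 5494) (.leaf 5495)))) (.node 4 (.node 2 (.node 1 (.leaf 5496) (.leaf 5498)) (.node 1 (.leaf 5502) (.leaf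 5504))) (.node 2 (.node 1 (.leaf 5505) (.leaf 5506)) (.node 1 (.leaf 5508) (.leaf 5510))))) (.node 8 (.node 4 (.node 2 (.node 1 (.leaf 5512) (.leaf 5513)) (.node 1 (.leaf 5515) (.leaf 5516))) (.node 2 (.node 1 (.leaf 5518) (.leaf 5520)) (.node 1 (.leaf 5521) (.leaf 5524)))) (.node 4 (.node 2 (.node 1 (.leaf 5527) (.leaf 5528)) (.node 1 (.leaf 5530) (.leaf 5532))) (.node 2 (.node 1 (.leaf 5533) (.leaf 5534)) (.node 1 (.leaf 5536) (.leaf 5537)))))) (.node 16 (.node 8 (.node 4 (.node 2 (.node 1 (.leaf 5538) (.leaf 5542)) (.node 1 (.leaf 5543) (.leaf 5544))) (.node 2 (.node 1 (.leaf 5546) (.leaf 5547)) (.node 1 (.leaf 5548) (.leaf 5549)))) (.node 4 (.node 2 (.node 1 (.leaf 5553) (.leaf 5554)) (.node 1 (.leaf 5556) (.leaf 5557))) (.node 2 (.node 1 (.leaf 5558) (.leaf 5560)) (.node 1 (.leaf 5561) (.leaf 5562))))) (.node 8 (.node 4 (.node 2 (.node 1 (.leaf 5564) (.leaf 5565)) (.node 1 (.leaf 5566) (.leaf 5568))) (.node 2 (.node 1 (.leaf 5571) (.leaf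 5572)) (.node 1 (.leaf 5575) (.leaf 5576)))) (.node 4 (.node 2 (.node 1 (.leaf 5577) (.leaf 5583)) (.node 1 (.leaf 5584) (.leaf 5585))) (.node 2 (.node 1 (.leaf 5586) (.leaf 5587)) (.node 1 (.leaf 5588) (.leaf 5591))))))))) (.node 128 (.node 64 (.node 32 (.node 16 (.node 8 (.node 4 (.node 2 (.node 1 (.leaf 5592) (.leaf 5593)) (.node 1 (.leaf 5594) (.leaf 5596))) (.node 2 (.node 1 (.leaf 5601) (.leaf 5605)) (.node 1 (.leaf 5606) (.leaf 5607)))) (.node 4 (.node 2 (.node 1 (.leaf 5608) (.leaf 5610)) (.node 1 (.leaf 5612) (.leaf 5614))) (.node 2 (.node 1 (.leaf 5615) (.leaf 5616)) (.node 1 (.leaf 5617) (.leaf 5621))))) (.node 8 (.node 4 (.node 2 (.node 1 (.leaf 5622) (.leaf 5623)) (.node 1 (.leaf 5624) (.leaf 5625))) (.node 2 (.node 1 (.leaf 5626) (.leaf 5628)) (.node 1 (.leaf 5631) (.leaf 5634)))) (.node 4 (.node 2 (.node 1 (.leaf 5635) (.leaf 5638)) (.node 1 (.leaf 5640) (.leaf 5641))) (.node 2 (.node 1 (.leaf 5642) (.leaf 5644)) (.node 1 (.leaf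 5645) (.leaf 5647)))))) (.node 16 (.node 8 (.node 4 (.node 2 (.node 1 (.leaf 5650) (.leaf 5651)) (.node 1 (.leaf 5652) (.leaf 5654))) (.node 2 (.node 1 (.leaf 5655) (.leaf 5657)) (.node 1 (.leaf 5658) (.leaf 5660)))) (.node 4 (.node 2 (.node 1 (.leaf 5665) (.leaf 5668)) (.node 1 (.leaf 5669) (.leaf 5670))) (.node 2 (.node 1 (.leaf 5672) (.leaf 5673)) (.node 1 (.leaf 5674) (.leaf 5675))))) (.node 8 (.node 4 (.node 2 (.node 1 (.leaf 5676) (.leaf 5677)) (.node 1 (.leaf 5678) (.leaf 5681))) (.node 2 (.node 1 (.leaf 5685) (.leaf 5686)) (.node 1 (.leaf 5687) (.leaf 5688)))) (.node 4 (.node 2 (.node 1 (.leaf 5690) (.leaf 5693)) (.node 1 (.leaf 5694) (.leaf 5697))) (.node 2 (.node 1 (.leaf 5701) (.leaf 5707)) (.node 1 (.leaf 5708) (.leaf 5709))))))) (.node 32 (.node 16 (.node 8 (.node 4 (.node 2 (.node 1 (.leaf 5710) (.leaf 5712)) (.node 1 (.leaf 5713) (.leaf 5714))) (.node 2 (.node 1 (.leaf 5718) (.leaf 5720)) (.node 1 (.leaf 5721) (.leaf 5722))))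 (.node 4 (.node 2 (.node 1 (.leaf 5723) (.leaf 5726)) (.node 1 (.leaf 5727) (.leaf 5728))) (.node 2 (.node 1 (.leaf 5730) (.leaf 5731)) (.node 1 (.leaf 5734) (.leaf 5735))))) (.node 8 (.node 4 (.node 2 (.node 1 (.leaf 5737) (.leaf 5741)) (.node 1 (.leaf 5744) (.leaf 5748))) (.node 2 (.node 1 (.leaf 5749) (.leaf 5750)) (.node 1 (.leaf 5752) (.leaf 5754)))) (.node 4 (.node 2 (.node 1 (.leaf 5756) (.leaf 5758)) (.node 1 (.leaf 5765) (.leaf 5766))) (.node 2 (.node 1 (.leaf 5768) (.leaf 5772)) (.node 1 (.leaf 5774) (.leaf 5778)))))) (.node 16 (.node 8 (.node 4 (.node 2 (.node 1 (.leaf 5780) (.leaf 5782)) (.node 1 (.leaf 5783) (.leaf 5784))) (.node 2 (.node 1 (.leaf 5790) (.leaf 5791)) (.node 1 (.leaf 5792) (.leaf 5794)))) (.node 4 (.node 2 (.node 1 (.leaf 5795) (.leaf 5797)) (.node 1 (.leaf 5798) (.leaf 5802))) (.node 2 (.node 1 (.leaf 5803) (.leaf 5804)) (.node 1 (.leaf 5805) (.leaf 5810))))) (.node 8 (.node 4 (.node 2 (.node 1 (.leaf 5811) (.leaf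 5812)) (.node 1 (.leaf 5813) (.leaf 5814))) (.node 2 (.node 1 (.leaf 5818) (.leaf 5821)) (.node 1 (.leaf 5822) (.leaf 5824)))) (.node 4 (.node 2 (.node 1 (.leaf 5825) (.leaf 5826)) (.node 1 (.leaf 5828) (.leaf 5829))) (.node 2 (.node 1 (.leaf 5832) (.leaf 5834)) (.node 1 (.leaf 5835) (.leaf 5838)))))))) (.node 64 (.node 32 (.node 16 (.node 8 (.node 4 (.node 2 (.node 1 (.leaf 5839) (.leaf 5840)) (.node 1 (.leaf 5844) (.leaf 5846))) (.node 2 (.node 1 (.leaf 5851) (.leaf 5854)) (.node 1 (.leaf 5856) (.leaf 5857)))) (.node 4 (.node 2 (.node 1 (.leaf 5864) (.leaf 5865)) (.node 1 (.leaf 5867) (.leaf 5868))) (.node 2 (.node 1 (.leaf 5870) (.leaf 5872)) (.node 1 (.leaf 5874) (.leaf 5876))))) (.node 8 (.node 4 (.node 2 (.node 1 (.leaf 5877) (.leaf 5886)) (.node 1 (.leaf 5887) (.leaf 5890))) (.node 2 (.node 1 (.leaf 5891) (.leaf 5892)) (.node 1 (.leaf 5894) (.leaf 5899)))) (.node 4 (.node 2 (.node 1 (.leaf 5902) (.leaf 5903)) (.node 1 (.leaf 5904) (.leaf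 5906))) (.node 2 (.node 1 (.leaf 5908) (.leaf 5909)) (.node 1 (.leaf 5910) (.leaf 5912)))))) (.node 16 (.node 8 (.node 4 (.node 2 (.node 1 (.leaf 5915) (.leaf 5916)) (.node 1 (.leaf 5917) (.leaf 5920))) (.node 2 (.node 1 (.leaf 5921) (.leaf 5924)) (.node 1 (.leaf 5928) (.leaf 5929)))) (.node 4 (.node 2 (.node 1 (.leaf 5930) (.leaf 5932)) (.node 1 (.leaf 5936) (.leaf 5938))) (.node 2 (.node 1 (.leaf 5939) (.leaf 5944)) (.node 1 (.leaf 5947) (.leaf 5951))))) (.node 8 (.node 4 (.node 2 (.node 1 (.leaf 5954) (.leaf 5955)) (.node 1 (.leaf 5956) (.leaf 5958))) (.node 2 (.node 1 (.leaf 5960) (.leaf 5962)) (.node 1 (.leaf 5963) (.leaf 5966)))) (.node 4 (.node 2 (.node 1 (.leaf 5968) (.leaf 5969)) (.node 1 (.leaf 5970) (.leaf 5972))) (.node 2 (.node 1 (.leaf 5973) (.leaf 5975)) (.node 1 (.leaf 5976) (.leaf 5981))))))) (.node 32 (.node 16 (.node 8 (.node 4 (.node 2 (.node 1 (.leaf 5985) (.leaf 5986)) (.node 1 (.leaf 5988) (.leaf 5991))) (.node 2 (.node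 1 (.leaf 5993) (.leaf 5994)) (.node 1 (.leaf 5995) (.leaf 6000)))) (.node 4 (.node 2 (.node 1 (.leaf 6001) (.leaf 6002)) (.node 1 (.leaf 6006) (.leaf 6007))) (.node 2 (.node 1 (.leaf 6008) (.leaf 6010)) (.node 1 (.leaf 6011) (.leaf 6014))))) (.node 8 (.node 4 (.node 2 (.node 1 (.leaf 6016) (.leaf 6017)) (.node 1 (.leaf 6018) (.leaf 6023))) (.node 2 (.node 1 (.leaf 6024) (.leaf 6027)) (.node 1 (.leaf 6029) (.leaf 6030)))) (.node 4 (.node 2 (.node 1 (.leaf 6033) (.leaf 6035)) (.node 1 (.leaf 6036) (.leaf 6038))) (.node 2 (.node 1 (.leaf 6040) (.leaf 6042)) (.node 1 (.leaf 6043) (.leaf 6044)))))) (.node 16 (.node 8 (.node 4 (.node 2 (.node 1 (.leaf 6046) (.leaf 6047)) (.node 1 (.leaf 6049) (.leaf 6050))) (.node 2 (.node 1 (.leaf 6051) (.leaf 6052)) (.node 1 (.leaf 6055) (.leaf 6056)))) (.node 4 (.node 2 (.node 1 (.leaf 6057) (.leaf 6060)) (.node 1 (.leaf 6061) (.leaf 6062))) (.node 2 (.node 1 (.leaf 6064) (.leaf 6065)) (.node 1 (.leaf 6066) (.leaf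 6067))))) (.node 8 (.node 4 (.node 2 (.node 1 (.leaf 6068) (.leaf 6071)) (.node 1 (.leaf 6074) (.leaf 6075))) (.node 2 (.node 1 (.leaf 6076) (.leaf 6084)) (.node 1 (.leaf 6085) (.leaf 6086)))) (.node 4 (.node 2 (.node 1 (.leaf 6087) (.leaf 6090)) (.node 1 (.leaf 6091) (.leaf 6092))) (.node 2 (.node 1 (.leaf 6095) (.leaf 6097)) (.node 1 (.leaf 6099) (.node 1 (.leaf 6104) (.leaf 6105)))))))))))

/-- Part 8 of `par0Tab`. -/
def par0Tab_8 : BT ℕ :=
  (.node 256 (.node 128 (.node 64 (.node 32 (.node 16 (.node 8 (.node 4 (.node 2 (.node 1 (.leaf 6106) (.leaf 6108)) (.node 1 (.leaf 6109) (.leaf 6111))) (.node 2 (.node 1 (.leaf 6114) (.leaf 6115)) (.node 1 (.leaf 6117) (.leaf 6120)))) (.node 4 (.node 2 (.node 1 (.leaf 6121) (.leaf 6125)) (.node 1 (.leaf 6126) (.leaf 6131))) (.node 2 (.node 1 (.leaf 6134) (.leaf 6135)) (.node 1 (.leaf 6138) (.leaf 6140))))) (.node 8 (.node 4 (.node 2 (.node 1 (.leaf 6141) (.leaf 6142)) (.node 1 (.leaf 6143) (.leaf 6148)))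 (.node 2 (.node 1 (.leaf 6150) (.leaf 6151)) (.node 1 (.leaf 6152) (.leaf 6154)))) (.node 4 (.node 2 (.node 1 (.leaf 6156) (.leaf 6157)) (.node 1 (.leaf 6160) (.leaf 6162))) (.node 2 (.node 1 (.leaf 6164) (.leaf 6166)) (.node 1 (.leaf 6167) (.leaf 6168)))))) (.node 16 (.node 8 (.node 4 (.node 2 (.node 1 (.leaf 6170) (.leaf 6174)) (.node 1 (.leaf 6177) (.leaf 6178))) (.node 2 (.node 1 (.leaf 6179) (.leaf 6182)) (.node 1 (.leaf 6183) (.leaf 6185)))) (.node 4 (.node 2 (.node 1 (.leaf 6188) (.leaf 6189)) (.node 1 (.leaf 6197) (.leaf 6198))) (.node 2 (.node 1 (.leaf 6200) (.leaf 6202)) (.node 1 (.leaf 6203) (.leaf 6204))))) (.node 8 (.node 4 (.node 2 (.node 1 (.leaf 6205) (.leaf 6208)) (.node 1 (.leaf 6210) (.leaf 6214))) (.node 2 (.node 1 (.leaf 6216) (.leaf 6217)) (.node 1 (.leaf 6218) (.leaf 6220)))) (.node 4 (.node 2 (.node 1 (.leaf 6226) (.leaf 6228)) (.node 1 (.leaf 6230) (.leaf 6231))) (.node 2 (.node 1 (.leaf 6232) (.leaf 6234)) (.node 1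 (.leaf 6237) (.leaf 6242))))))) (.node 32 (.node 16 (.node 8 (.node 4 (.node 2 (.node 1 (.leaf 6244) (.leaf 6246)) (.node 1 (.leaf 6248) (.leaf 6249))) (.node 2 (.node 1 (.leaf 6252) (.leaf 6254)) (.node 1 (.leaf 6255) (.leaf 6256)))) (.node 4 (.node 2 (.node 1 (.leaf 6258) (.leaf 6260)) (.node 1 (.leaf 6262) (.leaf 6264))) (.node 2 (.node 1 (.leaf 6267) (.leaf 6268)) (.node 1 (.leaf 6271) (.leaf 6275))))) (.node 8 (.node 4 (.node 2 (.node 1 (.leaf 6276) (.leaf 6279)) (.node 1 (.leaf 6280) (.leaf 6282))) (.node 2 (.node 1 (.leaf 6283) (.leaf 6286)) (.node 1 (.leaf 6287) (.leaf 6288)))) (.node 4 (.node 2 (.node 1 (.leaf 6294) (.leaf 6297)) (.node 1 (.leaf 6298) (.leaf 6300))) (.node 2 (.node 1 (.leaf 6304) (.leaf 6305)) (.node 1 (.leaf 6306) (.leaf 6307)))))) (.node 16 (.node 8 (.node 4 (.node 2 (.node 1 (.leaf 6308) (.leaf 6310)) (.node 1 (.leaf 6311) (.leaf 6312))) (.node 2 (.node 1 (.leaf 6317) (.leaf 6320)) (.node 1 (.leaf 6322) (.leaf 6324))))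 (.node 4 (.node 2 (.node 1 (.leaf 6325) (.leaf 6327)) (.node 1 (.leaf 6331) (.leaf 6332))) (.node 2 (.node 1 (.leaf 6334) (.leaf 6338)) (.node 1 (.leaf 6339) (.leaf 6340))))) (.node 8 (.node 4 (.node 2 (.node 1 (.leaf 6342) (.leaf 6343)) (.node 1 (.leaf 6344) (.leaf 6347))) (.node 2 (.node 1 (.leaf 6348) (.leaf 6351)) (.node 1 (.leaf 6352) (.leaf 6354)))) (.node 4 (.node 2 (.node 1 (.leaf 6361) (.leaf 6366)) (.node 1 (.leaf 6367) (.leaf 6368))) (.node 2 (.node 1 (.leaf 6370) (.leaf 6372)) (.node 1 (.leaf 6373) (.leaf 6376)))))))) (.node 64 (.node 32 (.node 16 (.node 8 (.node 4 (.node 2 (.node 1 (.leaf 6377) (.leaf 6378)) (.node 1 (.leaf 6380) (.leaf 6382))) (.node 2 (.node 1 (.leaf 6383) (.leaf 6384)) (.node 1 (.leaf 6386) (.leaf 6387)))) (.node 4 (.node 2 (.node 1 (.leaf 6390) (.leaf 6393)) (.node 1 (.leaf 6394) (.leaf 6395))) (.node 2 (.node 1 (.leaf 6396) (.leaf 6399)) (.node 1 (.leaf 6400) (.leaf 6402))))) (.node 8 (.node 4 (.node 2 (.node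 1 (.leaf 6404) (.leaf 6405)) (.node 1 (.leaf 6406) (.leaf 6407))) (.node 2 (.node 1 (.leaf 6408) (.leaf 6411)) (.node 1 (.leaf 6412) (.leaf 6414)))) (.node 4 (.node 2 (.node 1 (.leaf 6416) (.leaf 6418)) (.node 1 (.leaf 6420) (.leaf 6421))) (.node 2 (.node 1 (.leaf 6424) (.leaf 6426)) (.node 1 (.leaf 6428) (.leaf 6429)))))) (.node 16 (.node 8 (.node 4 (.node 2 (.node 1 (.leaf 6430) (.leaf 6433)) (.node 1 (.leaf 6435) (.leaf 6436))) (.node 2 (.node 1 (.leaf 6437) (.leaf 6438)) (.node 1 (.leaf 6439) (.leaf 6440)))) (.node 4 (.node 2 (.node 1 (.leaf 6441) (.leaf 6442)) (.node 1 (.leaf 6446) (.leaf 6449))) (.node 2 (.node 1 (.leaf 6454) (.leaf 6455)) (.node 1 (.leaf 6456) (.leaf 6461))))) (.node 8 (.node 4 (.node 2 (.node 1 (.leaf 6462) (.leaf 6464)) (.node 1 (.leaf 6465) (.leaf 6467))) (.node 2 (.node 1 (.leaf 6468) (.leaf 6470)) (.node 1 (.leaf 6472) (.leaf 6473)))) (.node 4 (.node 2 (.node 1 (.leaf 6474) (.leaf 6475)) (.node 1 (.leaf 6478) (.leaf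 6479))) (.node 2 (.node 1 (.leaf 6480) (.leaf 6484)) (.node 1 (.leaf 6486) (.leaf 6487))))))) (.node 32 (.node 16 (.node 8 (.node 4 (.node 2 (.node 1 (.leaf 6488) (.leaf 6491)) (.node 1 (.leaf 6493) (.leaf 6494))) (.node 2 (.node 1 (.leaf 6496) (.leaf 6497)) (.node 1 (.leaf 6500) (.leaf 6502)))) (.node 4 (.node 2 (.node 1 (.leaf 6504) (.leaf 6506)) (.node 1 (.leaf 6508) (.leaf 6510))) (.node 2 (.node 1 (.leaf 6511) (.leaf 6514)) (.node 1 (.leaf 6519) (.leaf 6520))))) (.node 8 (.node 4 (.node 2 (.node 1 (.leaf 6522) (.leaf 6524)) (.node 1 (.leaf 6526) (.leaf 6527))) (.node 2 (.node 1 (.leaf 6528) (.leaf 6531)) (.node 1 (.leaf 6532) (.leaf 6536)))) (.node 4 (.node 2 (.node 1 (.leaf 6537) (.leaf 6540)) (.node 1 (.leaf 6543) (.leaf 6546))) (.node 2 (.node 1 (.leaf 6550) (.leaf 6553)) (.node 1 (.leaf 6554) (.leaf 6555)))))) (.node 16 (.node 8 (.node 4 (.node 2 (.node 1 (.leaf 6556) (.leaf 6558)) (.node 1 (.leaf 6560) (.leaf 6562))) (.node 2 (.node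 1 (.leaf 6563) (.leaf 6564)) (.node 1 (.leaf 6565) (.leaf 6566)))) (.node 4 (.node 2 (.node 1 (.leaf 6570) (.leaf 6573)) (.node 1 (.leaf 6577) (.leaf 6578))) (.node 2 (.node 1 (.leaf 6580) (.leaf 6581)) (.node 1 (.leaf 6582) (.leaf 6584))))) (.node 8 (.node 4 (.node 2 (.node 1 (.leaf 6586) (.leaf 6587)) (.node 1 (.leaf 6588) (.leaf 6591))) (.node 2 (.node 1 (.leaf 6592) (.leaf 6594)) (.node 1 (.leaf 6597) (.leaf 6600)))) (.node 4 (.node 2 (.node 1 (.leaf 6601) (.leaf 6602)) (.node 1 (.leaf 6604) (.leaf 6606))) (.node 2 (.node 1 (.leaf 6609) (.leaf 6610)) (.node 1 (.leaf 6612) (.leaf 6613))))))))) (.node 128 (.node 64 (.node 32 (.node 16 (.node 8 (.node 4 (.node 2 (.node 1 (.leaf 6614) (.leaf 6618)) (.node 1 (.leaf 6619) (.leaf 6620))) (.node 2 (.node 1 (.leaf 6622) (.leaf 6624)) (.node 1 (.leaf 6626) (.leaf 6629)))) (.node 4 (.node 2 (.node 1 (.leaf 6630) (.leaf 6632)) (.node 1 (.leaf 6633) (.leaf 6636))) (.node 2 (.node 1 (.leaf 6637) (.leaf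 6638)) (.node 1 (.leaf 6640) (.leaf 6641))))) (.node 8 (.node 4 (.node 2 (.node 1 (.leaf 6642) (.leaf 6643)) (.node 1 (.leaf 6644) (.leaf 6646))) (.node 2 (.node 1 (.leaf 6647) (.leaf 6648)) (.node 1 (.leaf 6649) (.leaf 6651)))) (.node 4 (.node 2 (.node 1 (.leaf 6652) (.leaf 6654)) (.node 1 (.leaf 6656) (.leaf 6657))) (.node 2 (.node 1 (.leaf 6658) (.leaf 6660)) (.node 1 (.leaf 6662) (.leaf 6666)))))) (.node 16 (.node 8 (.node 4 (.node 2 (.node 1 (.leaf 6670) (.leaf 6672)) (.node 1 (.leaf 6675) (.leaf 6679))) (.node 2 (.node 1 (.leaf 6680) (.leaf 6684)) (.node 1 (.leaf 6686) (.leaf 6689)))) (.node 4 (.node 2 (.node 1 (.leaf 6690) (.leaf 6691)) (.node 1 (.leaf 6692) (.leaf 6695))) (.node 2 (.node 1 (.leaf 6698) (.leaf 6699)) (.node 1 (.leaf 6700) (.leaf 6701))))) (.node 8 (.node 4 (.node 2 (.node 1 (.leaf 6704) (.leaf 6706)) (.node 1 (.leaf 6707) (.leaf 6708))) (.node 2 (.node 1 (.leaf 6709) (.leaf 6714)) (.node 1 (.leaf 6717) (.leaf 6718))))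 (.node 4 (.node 2 (.node 1 (.leaf 6721) (.leaf 6722)) (.node 1 (.leaf 6725) (.leaf 6729))) (.node 2 (.node 1 (.leaf 6735) (.leaf 6737)) (.node 1 (.leaf 6738) (.leaf 6740))))))) (.node 32 (.node 16 (.node 8 (.node 4 (.node 2 (.node 1 (.leaf 6741) (.leaf 6742)) (.node 1 (.leaf 6744) (.leaf 6747))) (.node 2 (.node 1 (.leaf 6748) (.leaf 6750)) (.node 1 (.leaf 6751) (.leaf 6754)))) (.node 4 (.node 2 (.node 1 (.leaf 6756) (.leaf 6757)) (.node 1 (.leaf 6759) (.leaf 6760))) (.node 2 (.node 1 (.leaf 6765) (.leaf 6768)) (.node 1 (.leaf 6770) (.leaf 6772))))) (.node 8 (.node 4 (.node 2 (.node 1 (.leaf 6774) (.leaf 6780)) (.node 1 (.leaf 6784) (.leaf 6785))) (.node 2 (.node 1 (.leaf 6790) (.leaf 6791)) (.node 1 (.leaf 6792) (.leaf 6793)))) (.node 4 (.node 2 (.node 1 (.leaf 6796) (.leaf 6801)) (.node 1 (.leaf 6802) (.leaf 6803))) (.node 2 (.node 1 (.leaf 6804) (.leaf 6806)) (.node 1 (.leaf 6810) (.leaf 6811)))))) (.node 16 (.node 8 (.node 4 (.node 2 (.node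 1 (.leaf 6813) (.leaf 6814)) (.node 1 (.leaf 6816) (.leaf 6817))) (.node 2 (.node 1 (.leaf 6818) (.leaf 6820)) (.node 1 (.leaf 6822) (.leaf 6824)))) (.node 4 (.node 2 (.node 1 (.leaf 6825) (.leaf 6826)) (.node 1 (.leaf 6827) (.leaf 6830))) (.node 2 (.node 1 (.leaf 6834) (.leaf 6836)) (.node 1 (.leaf 6838) (.leaf 6840))))) (.node 8 (.node 4 (.node 2 (.node 1 (.leaf 6846) (.leaf 6847)) (.node 1 (.leaf 6848) (.leaf 6849))) (.node 2 (.node 1 (.leaf 6852) (.leaf 6854)) (.node 1 (.leaf 6855) (.leaf 6857)))) (.node 4 (.node 2 (.node 1 (.leaf 6858) (.leaf 6861)) (.node 1 (.leaf 6862) (.leaf 6864))) (.node 2 (.node 1 (.leaf 6865) (.leaf 6867)) (.node 1 (.leaf 6868) (.leaf 6869)))))))) (.node 64 (.node 32 (.node 16 (.node 8 (.node 4 (.node 2 (.node 1 (.leaf 6871) (.leaf 6872)) (.node 1 (.leaf 6873) (.leaf 6874))) (.node 2 (.node 1 (.leaf 6876) (.leaf 6877)) (.node 1 (.leaf 6884) (.leaf 6885)))) (.node 4 (.node 2 (.node 1 (.leaf 6890) (.leaf 6892)) (.node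 1 (.leaf 6894) (.leaf 6896))) (.node 2 (.node 1 (.leaf 6899) (.leaf 6900)) (.node 1 (.leaf 6902) (.leaf 6903))))) (.node 8 (.node 4 (.node 2 (.node 1 (.leaf 6904) (.leaf 6906)) (.node 1 (.leaf 6908) (.leaf 6911))) (.node 2 (.node 1 (.leaf 6914) (.leaf 6920)) (.node 1 (.leaf 6922) (.leaf 6924)))) (.node 4 (.node 2 (.node 1 (.leaf 6925) (.leaf 6926)) (.node 1 (.leaf 6928) (.leaf 6929))) (.node 2 (.node 1 (.leaf 6930) (.leaf 6933)) (.node 1 (.leaf 6934) (.leaf 6938)))))) (.node 16 (.node 8 (.node 4 (.node 2 (.node 1 (.leaf 6939) (.leaf 6941)) (.node 1 (.leaf 6942) (.leaf 6944))) (.node 2 (.node 1 (.leaf 6956) (.leaf 6958)) (.node 1 (.leaf 6959) (.leaf 6962)))) (.node 4 (.node 2 (.node 1 (.leaf 6963) (.leaf 6964)) (.node 1 (.leaf 6965) (.leaf 6966))) (.node 2 (.node 1 (.leaf 6978) (.leaf 6979)) (.node 1 (.leaf 6980) (.leaf 6986))))) (.node 8 (.node 4 (.node 2 (.node 1 (.leaf 6987) (.leaf 6988)) (.node 1 (.leaf 6994) (.leaf 6996))) (.node 2 (.node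 1 (.leaf 6998) (.leaf 6999)) (.node 1 (.leaf 7000) (.leaf 7005)))) (.node 4 (.node 2 (.node 1 (.leaf 7006) (.leaf 7009)) (.node 1 (.leaf 7010) (.leaf 7016))) (.node 2 (.node 1 (.leaf 7019) (.leaf 7022)) (.node 1 (.leaf 7023) (.leaf 7024))))))) (.node 32 (.node 16 (.node 8 (.node 4 (.node 2 (.node 1 (.leaf 7026) (.leaf 7032)) (.node 1 (.leaf 7033) (.leaf 7034))) (.node 2 (.node 1 (.leaf 7035) (.leaf 7039)) (.node 1 (.leaf 7040) (.leaf 7044)))) (.node 4 (.node 2 (.node 1 (.leaf 7045) (.leaf 7046)) (.node 1 (.leaf 7048) (.leaf 7049))) (.node 2 (.node 1 (.leaf 7051) (.leaf 7052)) (.node 1 (.leaf 7054) (.leaf 7055))))) (.node 8 (.node 4 (.node 2 (.node 1 (.leaf 7056) (.leaf 7058)) (.node 1 (.leaf 7060) (.leaf 7061))) (.node 2 (.node 1 (.leaf 7062) (.leaf 7063)) (.node 1 (.leaf 7064) (.leaf 7066)))) (.node 4 (.node 2 (.node 1 (.leaf 7068) (.leaf 7070)) (.node 1 (.leaf 7071) (.leaf 7073))) (.node 2 (.node 1 (.leaf 7074) (.leaf 7075)) (.node 1 (.leaf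 7076) (.leaf 7077)))))) (.node 16 (.node 8 (.node 4 (.node 2 (.node 1 (.leaf 7080) (.leaf 7081)) (.node 1 (.leaf 7082) (.leaf 7083))) (.node 2 (.node 1 (.leaf 7084) (.leaf 7086)) (.node 1 (.leaf 7087) (.leaf 7090)))) (.node 4 (.node 2 (.node 1 (.leaf 7091) (.leaf 7092)) (.node 1 (.leaf 7095) (.leaf 7097))) (.node 2 (.node 1 (.leaf 7100) (.leaf 7102)) (.node 1 (.leaf 7103) (.leaf 7104))))) (.node 8 (.node 4 (.node 2 (.node 1 (.leaf 7106) (.leaf 7108)) (.node 1 (.leaf 7109) (.leaf 7111))) (.node 2 (.node 1 (.leaf 7113) (.leaf 7116)) (.node 1 (.leaf 7119) (.leaf 7120)))) (.node 4 (.node 2 (.node 1 (.leaf 7122) (.leaf 7126)) (.node 1 (.leaf 7127) (.leaf 7131))) (.node 2 (.node 1 (.leaf 7132) (.leaf 7133)) (.node 1 (.leaf 7134) (.node 1 (.leaf 7137) (.leaf 7138)))))))))))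

/-- Part 9 of `par0Tab`. -/
def par0Tab_9 : BT ℕ :=
  (.node 256 (.node 128 (.node 64 (.node 32 (.node 16 (.node 8 (.node 4 (.node 2 (.node 1 (.leaf 7140) (.leaf 7144)) (.node 1 (.leaf 7145) (.leaf 7146))) (.node 2 (.node 1 (.leaf 7149) (.leaf 7152)) (.node 1 (.leaf 7157) (.leaf 7160)))) (.node 4 (.node 2 (.node 1 (.leaf 7163) (.leaf 7167)) (.node 1 (.leaf 7173) (.leaf 7174))) (.node 2 (.node 1 (.leaf 7178) (.leaf 7180)) (.node 1 (.leaf 7182) (.leaf 7186))))) (.node 8 (.node 4 (.node 2 (.node 1 (.leaf 7188) (.leaf 7190)) (.node 1 (.leaf 7192) (.leaf 7194))) (.node 2 (.node 1 (.leaf 7195) (.leaf 7196)) (.node 1 (.leaf 7200) (.leaf 7203)))) (.node 4 (.node 2 (.node 1 (.leaf 7204) (.leaf 7206)) (.node 1 (.leaf 7207) (.leaf 7210))) (.node 2 (.node 1 (.leaf 7211) (.leaf 7212)) (.node 1 (.leaf 7217) (.leaf 7218)))))) (.node 16 (.node 8 (.node 4 (.node 2 (.node 1 (.leaf 7220) (.leaf 7222)) (.node 1 (.leaf 7228) (.leaf 7230))) (.node 2 (.node 1 (.leaf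 7232) (.leaf 7233)) (.node 1 (.leaf 7234) (.leaf 7240)))) (.node 4 (.node 2 (.node 1 (.leaf 7242) (.leaf 7244)) (.node 1 (.leaf 7245) (.leaf 7246))) (.node 2 (.node 1 (.leaf 7248) (.leaf 7249)) (.node 1 (.leaf 7250) (.leaf 7252))))) (.node 8 (.node 4 (.node 2 (.node 1 (.leaf 7254) (.leaf 7256)) (.node 1 (.leaf 7258) (.leaf 7259))) (.node 2 (.node 1 (.leaf 7260) (.leaf 7266)) (.node 1 (.leaf 7268) (.leaf 7270)))) (.node 4 (.node 2 (.node 1 (.leaf 7273) (.leaf 7277)) (.node 1 (.leaf 7278) (.leaf 7279))) (.node 2 (.node 1 (.leaf 7280) (.leaf 7283)) (.node 1 (.leaf 7287) (.leaf 7289))))))) (.node 32 (.node 16 (.node 8 (.node 4 (.node 2 (.node 1 (.leaf 7290) (.leaf 7292)) (.node 1 (.leaf 7293) (.leaf 7297))) (.node 2 (.node 1 (.leaf 7298) (.leaf 7299)) (.node 1 (.leaf 7300) (.leaf 7304)))) (.node 4 (.node 2 (.node 1 (.leaf 7306) (.leaf 7308)) (.node 1 (.leaf 7309) (.leaf 7310))) (.node 2 (.node 1 (.leaf 7311) (.leaf 7313)) (.node 1 (.leaf 7315)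 (.leaf 7316))))) (.node 8 (.node 4 (.node 2 (.node 1 (.leaf 7319) (.leaf 7320)) (.node 1 (.leaf 7327) (.leaf 7330))) (.node 2 (.node 1 (.leaf 7331) (.leaf 7332)) (.node 1 (.leaf 7334) (.leaf 7336)))) (.node 4 (.node 2 (.node 1 (.leaf 7341) (.leaf 7342)) (.node 1 (.leaf 7344) (.leaf 7346))) (.node 2 (.node 1 (.leaf 7347) (.leaf 7349)) (.node 1 (.leaf 7350) (.leaf 7352)))))) (.node 16 (.node 8 (.node 4 (.node 2 (.node 1 (.leaf 7358) (.leaf 7360)) (.node 1 (.leaf 7363) (.leaf 7364))) (.node 2 (.node 1 (.leaf 7367) (.leaf 7368)) (.node 1 (.leaf 7370) (.leaf 7372)))) (.node 4 (.node 2 (.node 1 (.leaf 7378) (.leaf 7379)) (.node 1 (.leaf 7380) (.leaf 7382))) (.node 2 (.node 1 (.leaf 7383) (.leaf 7384)) (.node 1 (.leaf 7385) (.leaf 7388))))) (.node 8 (.node 4 (.node 2 (.node 1 (.leaf 7389) (.leaf 7390)) (.node 1 (.leaf 7393) (.leaf 7394))) (.node 2 (.node 1 (.leaf 7397) (.leaf 7399)) (.node 1 (.leaf 7400) (.leaf 7402)))) (.node 4 (.node 2 (.node 1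 (.leaf 7403) (.leaf 7404)) (.node 1 (.leaf 7405) (.leaf 7408))) (.node 2 (.node 1 (.leaf 7412) (.leaf 7413)) (.node 1 (.leaf 7414) (.leaf 7416)))))))) (.node 64 (.node 32 (.node 16 (.node 8 (.node 4 (.node 2 (.node 1 (.leaf 7418) (.leaf 7420)) (.node 1 (.leaf 7422) (.leaf 7424))) (.node 2 (.node 1 (.leaf 7425) (.leaf 7427)) (.node 1 (.leaf 7428) (.leaf 7432)))) (.node 4 (.node 2 (.node 1 (.leaf 7433) (.leaf 7434)) (.node 1 (.leaf 7438) (.leaf 7439))) (.node 2 (.node 1 (.leaf 7442) (.leaf 7443)) (.node 1 (.leaf 7445) (.leaf 7446))))) (.node 8 (.node 4 (.node 2 (.node 1 (.leaf 7450) (.leaf 7455)) (.node 1 (.leaf 7458) (.leaf 7462))) (.node 2 (.node 1 (.leaf 7463) (.leaf 7464)) (.node 1 (.leaf 7467) (.leaf 7468)))) (.node 4 (.node 2 (.node 1 (.leaf 7470) (.leaf 7474)) (.node 1 (.leaf 7476) (.leaf 7478))) (.node 2 (.node 1 (.leaf 7480) (.leaf 7484)) (.node 1 (.leaf 7485) (.leaf 7489)))))) (.node 16 (.node 8 (.node 4 (.node 2 (.node 1 (.leaf 7490)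 (.leaf 7494)) (.node 1 (.leaf 7496) (.leaf 7500))) (.node 2 (.node 1 (.leaf 7501) (.leaf 7506)) (.node 1 (.leaf 7507) (.leaf 7509)))) (.node 4 (.node 2 (.node 1 (.leaf 7510) (.leaf 7512)) (.node 1 (.leaf 7515) (.leaf 7516))) (.node 2 (.node 1 (.leaf 7518) (.leaf 7521)) (.node 1 (.leaf 7524) (.leaf 7526))))) (.node 8 (.node 4 (.node 2 (.node 1 (.leaf 7527) (.leaf 7530)) (.node 1 (.leaf 7531) (.leaf 7532))) (.node 2 (.node 1 (.leaf 7533) (.leaf 7534)) (.node 1 (.leaf 7536) (.leaf 7537)))) (.node 4 (.node 2 (.node 1 (.leaf 7541) (.leaf 7544)) (.node 1 (.leaf 7545) (.leaf 7547))) (.node 2 (.node 1 (.leaf 7548) (.leaf 7552)) (.node 1 (.leaf 7553) (.leaf 7556))))))) (.node 32 (.node 16 (.node 8 (.node 4 (.node 2 (.node 1 (.leaf 7557) (.leaf 7561)) (.node 1 (.leaf 7562) (.leaf 7564))) (.node 2 (.node 1 (.leaf 7566) (.leaf 7568)) (.node 1 (.leaf 7569) (.leaf 7570)))) (.node 4 (.node 2 (.node 1 (.leaf 7572) (.leaf 7573)) (.node 1 (.leaf 7576) (.leaf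 7577))) (.node 2 (.node 1 (.leaf 7580) (.leaf 7582)) (.node 1 (.leaf 7583) (.leaf 7584))))) (.node 8 (.node 4 (.node 2 (.node 1 (.leaf 7585) (.leaf 7586)) (.node 1 (.leaf 7590) (.leaf 7593))) (.node 2 (.node 1 (.leaf 7596) (.leaf 7597)) (.node 1 (.leaf 7599) (.leaf 7604)))) (.node 4 (.node 2 (.node 1 (.leaf 7609) (.leaf 7610)) (.node 1 (.leaf 7612) (.leaf 7613))) (.node 2 (.node 1 (.leaf 7616) (.leaf 7617)) (.node 1 (.leaf 7618) (.leaf 7620)))))) (.node 16 (.node 8 (.node 4 (.node 2 (.node 1 (.leaf 7621) (.leaf 7622)) (.node 1 (.leaf 7625) (.leaf 7627))) (.node 2 (.node 1 (.leaf 7631) (.leaf 7632)) (.node 1 (.leaf 7633) (.leaf 7634)))) (.node 4 (.node 2 (.node 1 (.leaf 7637) (.leaf 7638)) (.node 1 (.leaf 7639) (.leaf 7640))) (.node 2 (.node 1 (.leaf 7642) (.leaf 7643)) (.node 1 (.leaf 7644) (.leaf 7648))))) (.node 8 (.node 4 (.node 2 (.node 1 (.leaf 7649) (.leaf 7650)) (.node 1 (.leaf 7654) (.leaf 7655))) (.node 2 (.node 1 (.leaf 7656) (.leaf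 7660)) (.node 1 (.leaf 7661) (.leaf 7662)))) (.node 4 (.node 2 (.node 1 (.leaf 7663) (.leaf 7664)) (.node 1 (.leaf 7666) (.leaf 7670))) (.node 2 (.node 1 (.leaf 7672) (.leaf 7673)) (.node 1 (.leaf 7676) (.leaf 7677))))))))) (.node 128 (.node 64 (.node 32 (.node 16 (.node 8 (.node 4 (.node 2 (.node 1 (.leaf 7680) (.leaf 7682)) (.node 1 (.leaf 7686) (.leaf 7691))) (.node 2 (.node 1 (.leaf 7692) (.leaf 7695)) (.node 1 (.leaf 7698) (.leaf 7699)))) (.node 4 (.node 2 (.node 1 (.leaf 7701) (.leaf 7706)) (.node 1 (.leaf 7710) (.leaf 7713))) (.node 2 (.node 1 (.leaf 7715) (.leaf 7717)) (.node 1 (.leaf 7718) (.leaf 7721))))) (.node 8 (.node 4 (.node 2 (.node 1 (.leaf 7722) (.leaf 7724)) (.node 1 (.leaf 7726) (.leaf 7727))) (.node 2 (.node 1 (.leaf 7730) (.leaf 7731)) (.node 1 (.leaf 7732) (.leaf 7734)))) (.node 4 (.node 2 (.node 1 (.leaf 7735) (.leaf 7736)) (.node 1 (.leaf 7738) (.leaf 7740))) (.node 2 (.node 1 (.leaf 7742) (.leaf 7744)) (.node 1 (.leaf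 7745) (.leaf 7746)))))) (.node 16 (.node 8 (.node 4 (.node 2 (.node 1 (.leaf 7747) (.leaf 7748)) (.node 1 (.leaf 7750) (.leaf 7751))) (.node 2 (.node 1 (.leaf 7752) (.leaf 7763)) (.node 1 (.leaf 7764) (.leaf 7765)))) (.node 4 (.node 2 (.node 1 (.leaf 7768) (.leaf 7770)) (.node 1 (.leaf 7771) (.leaf 7776))) (.node 2 (.node 1 (.leaf 7777) (.leaf 7780)) (.node 1 (.leaf 7781) (.leaf 7787))))) (.node 8 (.node 4 (.node 2 (.node 1 (.leaf 7788) (.leaf 7791)) (.node 1 (.leaf 7795) (.leaf 7800))) (.node 2 (.node 1 (.leaf 7801) (.leaf 7805)) (.node 1 (.leaf 7806) (.leaf 7808)))) (.node 4 (.node 2 (.node 1 (.leaf 7810) (.leaf 7818)) (.node 1 (.leaf 7822) (.leaf 7829))) (.node 2 (.node 1 (.leaf 7831) (.leaf 7832)) (.node 1 (.leaf 7834) (.leaf 7836))))))) (.node 32 (.node 16 (.node 8 (.node 4 (.node 2 (.node 1 (.leaf 7840) (.leaf 7841)) (.node 1 (.leaf 7842) (.leaf 7844))) (.node 2 (.node 1 (.leaf 7846) (.leaf 7847)) (.node 1 (.leaf 7848) (.leaf 7850))))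 (.node 4 (.node 2 (.node 1 (.leaf 7852) (.leaf 7856)) (.node 1 (.leaf 7859) (.leaf 7860))) (.node 2 (.node 1 (.leaf 7861) (.leaf 7862)) (.node 1 (.leaf 7864) (.leaf 7866))))) (.node 8 (.node 4 (.node 2 (.node 1 (.leaf 7867) (.leaf 7870)) (.node 1 (.leaf 7874) (.leaf 7878))) (.node 2 (.node 1 (.leaf 7879) (.leaf 7880)) (.node 1 (.leaf 7881) (.leaf 7882)))) (.node 4 (.node 2 (.node 1 (.leaf 7883) (.leaf 7887)) (.node 1 (.leaf 7888) (.leaf 7889))) (.node 2 (.node 1 (.leaf 7890) (.leaf 7892)) (.node 1 (.leaf 7894) (.leaf 7895)))))) (.node 16 (.node 8 (.node 4 (.node 2 (.node 1 (.leaf 7896) (.leaf 7898)) (.node 1 (.leaf 7899) (.leaf 7900))) (.node 2 (.node 1 (.leaf 7901) (.leaf 7902)) (.node 1 (.leaf 7904) (.leaf 7906)))) (.node 4 (.node 2 (.node 1 (.leaf 7907) (.leaf 7908)) (.node 1 (.leaf 7909) (.leaf 7917))) (.node 2 (.node 1 (.leaf 7920) (.leaf 7921)) (.node 1 (.leaf 7922) (.leaf 7924))))) (.node 8 (.node 4 (.node 2 (.node 1 (.leaf 7925) (.leaf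 7927)) (.node 1 (.leaf 7928) (.leaf 7931))) (.node 2 (.node 1 (.leaf 7934) (.leaf 7938)) (.node 1 (.leaf 7942) (.leaf 7944)))) (.node 4 (.node 2 (.node 1 (.leaf 7949) (.leaf 7950)) (.node 1 (.leaf 7952) (.leaf 7954))) (.node 2 (.node 1 (.leaf 7957) (.leaf 7958)) (.node 1 (.leaf 7961) (.leaf 7964)))))))) (.node 64 (.node 32 (.node 16 (.node 8 (.node 4 (.node 2 (.node 1 (.leaf 7966) (.leaf 7972)) (.node 1 (.leaf 7973) (.leaf 7975))) (.node 2 (.node 1 (.leaf 7976) (.leaf 7977)) (.node 1 (.leaf 7978) (.leaf 7979)))) (.node 4 (.node 2 (.node 1 (.leaf 7980) (.leaf 7988)) (.node 1 (.leaf 7989) (.leaf 7990))) (.node 2 (.node 1 (.leaf 7993) (.leaf 7994)) (.node 1 (.leaf 7995) (.leaf 7996))))) (.node 8 (.node 4 (.node 2 (.node 1 (.leaf 7998) (.leaf 8004)) (.node 1 (.leaf 8007) (.leaf 8010))) (.node 2 (.node 1 (.leaf 8012) (.leaf 8020)) (.node 1 (.leaf 8022) (.leaf 8025)))) (.node 4 (.node 2 (.node 1 (.leaf 8030) (.leaf 8032)) (.node 1 (.leaf 8035) (.leaf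 8036))) (.node 2 (.node 1 (.leaf 8037) (.leaf 8038)) (.node 1 (.leaf 8040) (.leaf 8044)))))) (.node 16 (.node 8 (.node 4 (.node 2 (.node 1 (.leaf 8046) (.leaf 8047)) (.node 1 (.leaf 8050) (.leaf 8051))) (.node 2 (.node 1 (.leaf 8052) (.leaf 8054)) (.node 1 (.leaf 8056) (.leaf 8062)))) (.node 4 (.node 2 (.node 1 (.leaf 8066) (.leaf 8074)) (.node 1 (.leaf 8078) (.leaf 8080))) (.node 2 (.node 1 (.leaf 8083) (.leaf 8086)) (.node 1 (.leaf 8088) (.leaf 8089))))) (.node 8 (.node 4 (.node 2 (.node 1 (.leaf 8093) (.leaf 8094)) (.node 1 (.leaf 8098) (.leaf 8099))) (.node 2 (.node 1 (.leaf 8102) (.leaf 8104)) (.node 1 (.leaf 8109) (.leaf 8112)))) (.node 4 (.node 2 (.node 1 (.leaf 8116) (.leaf 8119)) (.node 1 (.leaf 8120) (.leaf 8122))) (.node 2 (.node 1 (.leaf 8124) (.leaf 8128)) (.node 1 (.leaf 8131) (.leaf 8132))))))) (.node 32 (.node 16 (.node 8 (.node 4 (.node 2 (.node 1 (.leaf 8134) (.leaf 8137)) (.node 1 (.leaf 8138) (.leaf 8142))) (.node 2 (.node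 1 (.leaf 8143) (.leaf 8144)) (.node 1 (.leaf 8146) (.leaf 8148)))) (.node 4 (.node 2 (.node 1 (.leaf 8150) (.leaf 8153)) (.node 1 (.leaf 8154) (.leaf 8156))) (.node 2 (.node 1 (.leaf 8158) (.leaf 8164)) (.node 1 (.leaf 8168) (.leaf 8171))))) (.node 8 (.node 4 (.node 2 (.node 1 (.leaf 8174) (.leaf 8176)) (.node 1 (.leaf 8178) (.leaf 8186))) (.node 2 (.node 1 (.leaf 8189) (.leaf 8192)) (.node 1 (.leaf 8196) (.leaf 8197)))) (.node 4 (.node 2 (.node 1 (.leaf 8198) (.leaf 8202)) (.node 1 (.leaf 8204) (.leaf 8205))) (.node 2 (.node 1 (.leaf 8206) (.leaf 8209)) (.node 1 (.leaf 8216) (.leaf 8217)))))) (.node 16 (.node 8 (.node 4 (.node 2 (.node 1 (.leaf 8224) (.leaf 8229)) (.node 1 (.leaf 8230) (.leaf 8232))) (.node 2 (.node 1 (.leaf 8236) (.leaf 8237)) (.node 1 (.leaf 8239) (.leaf 8240)))) (.node 4 (.node 2 (.node 1 (.leaf 8243) (.leaf 8244)) (.node 1 (.leaf 8249) (.leaf 8253))) (.node 2 (.node 1 (.leaf 8255) (.leaf 8256)) (.node 1 (.leaf 8260) (.leaf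 8261))))) (.node 8 (.node 4 (.node 2 (.node 1 (.leaf 8262) (.leaf 8263)) (.node 1 (.leaf 8264) (.leaf 8266))) (.node 2 (.node 1 (.leaf 8267) (.leaf 8268)) (.node 1 (.leaf 8274) (.leaf 8282)))) (.node 4 (.node 2 (.node 1 (.leaf 8286) (.leaf 8288)) (.node 1 (.leaf 8295) (.leaf 8297))) (.node 2 (.node 1 (.leaf 8298) (.leaf 8300)) (.node 1 (.leaf 8302) (.node 1 (.leaf 8303) (.leaf 8304)))))))))))

/-- Part 10 of `par0Tab`. -/
def par0Tab_10 : BT ℕ :=
  (.node 256 (.node 128 (.node 64 (.node 32 (.node 16 (.node 8 (.node 4 (.node 2 (.node 1 (.leaf 8307) (.leaf 8308)) (.node 1 (.leaf 8309) (.leaf 8310))) (.node 2 (.node 1 (.leaf 8312) (.leaf 8313)) (.node 1 (.leaf 8314) (.leaf 8317)))) (.node 4 (.node 2 (.node 1 (.leaf 8318) (.leaf 8320)) (.node 1 (.leaf 8322) (.leaf 8324))) (.node 2 (.node 1 (.leaf 8325) (.leaf 8330)) (.node 1 (.leaf 8331) (.leaf 8332))))) (.node 8 (.node 4 (.node 2 (.node 1 (.leaf 8336) (.leaf 8337)) (.node 1 (.leaf 8338) (.leaf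 8344))) (.node 2 (.node 1 (.leaf 8345) (.leaf 8350)) (.node 1 (.leaf 8351) (.leaf 8352)))) (.node 4 (.node 2 (.node 1 (.leaf 8357) (.leaf 8358)) (.node 1 (.leaf 8360) (.leaf 8362))) (.node 2 (.node 1 (.leaf 8363) (.leaf 8364)) (.node 1 (.leaf 8366) (.leaf 8370)))))) (.node 16 (.node 8 (.node 4 (.node 2 (.node 1 (.leaf 8374) (.leaf 8376)) (.node 1 (.leaf 8379) (.leaf 8383))) (.node 2 (.node 1 (.leaf 8388) (.leaf 8389)) (.node 1 (.leaf 8390) (.leaf 8391)))) (.node 4 (.node 2 (.node 1 (.leaf 8393) (.leaf 8394)) (.node 1 (.leaf 8397) (.leaf 8398))) (.node 2 (.node 1 (.leaf 8400) (.leaf 8404)) (.node 1 (.leaf 8407) (.leaf 8413))))) (.node 8 (.node 4 (.node 2 (.node 1 (.leaf 8415) (.leaf 8425)) (.node 1 (.leaf 8430) (.leaf 8431))) (.node 2 (.node 1 (.leaf 8434) (.leaf 8436)) (.node 1 (.leaf 8437) (.leaf 8438)))) (.node 4 (.node 2 (.node 1 (.leaf 8440) (.leaf 8442)) (.node 1 (.leaf 8447) (.leaf 8452))) (.node 2 (.node 1 (.leaf 8454) (.leaf 8457))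 (.node 1 (.leaf 8459) (.leaf 8460))))))) (.node 32 (.node 16 (.node 8 (.node 4 (.node 2 (.node 1 (.leaf 8468) (.leaf 8475)) (.node 1 (.leaf 8476) (.leaf 8478))) (.node 2 (.node 1 (.leaf 8480) (.leaf 8482)) (.node 1 (.leaf 8485) (.leaf 8486)))) (.node 4 (.node 2 (.node 1 (.leaf 8488) (.leaf 8490)) (.node 1 (.leaf 8493) (.leaf 8494))) (.node 2 (.node 1 (.leaf 8496) (.leaf 8497)) (.node 1 (.leaf 8498) (.leaf 8502))))) (.node 8 (.node 4 (.node 2 (.node 1 (.leaf 8505) (.leaf 8509)) (.node 1 (.leaf 8512) (.leaf 8513))) (.node 2 (.node 1 (.leaf 8514) (.leaf 8515)) (.node 1 (.leaf 8516) (.leaf 8517)))) (.node 4 (.node 2 (.node 1 (.leaf 8521) (.leaf 8523)) (.node 1 (.leaf 8528) (.leaf 8532))) (.node 2 (.node 1 (.leaf 8535) (.leaf 8538)) (.node 1 (.leaf 8540) (.leaf 8542)))))) (.node 16 (.node 8 (.node 4 (.node 2 (.node 1 (.leaf 8543) (.leaf 8546)) (.node 1 (.leaf 8550) (.leaf 8553))) (.node 2 (.node 1 (.leaf 8554) (.leaf 8556)) (.node 1 (.leaf 8560)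 (.leaf 8561)))) (.node 4 (.node 2 (.node 1 (.leaf 8564) (.leaf 8566)) (.node 1 (.leaf 8569) (.leaf 8571))) (.node 2 (.node 1 (.leaf 8572) (.leaf 8573)) (.node 1 (.leaf 8574) (.leaf 8576))))) (.node 8 (.node 4 (.node 2 (.node 1 (.leaf 8577) (.leaf 8580)) (.node 1 (.leaf 8581) (.leaf 8582))) (.node 2 (.node 1 (.leaf 8585) (.leaf 8586)) (.node 1 (.leaf 8587) (.leaf 8592)))) (.node 4 (.node 2 (.node 1 (.leaf 8593) (.leaf 8594)) (.node 1 (.leaf 8596) (.leaf 8598))) (.node 2 (.node 1 (.leaf 8599) (.leaf 8600)) (.node 1 (.leaf 8602) (.leaf 8605)))))))) (.node 64 (.node 32 (.node 16 (.node 8 (.node 4 (.node 2 (.node 1 (.leaf 8606) (.leaf 8607)) (.node 1 (.leaf 8609) (.leaf 8610))) (.node 2 (.node 1 (.leaf 8613) (.leaf 8615)) (.node 1 (.leaf 8623) (.leaf 8624)))) (.node 4 (.node 2 (.node 1 (.leaf 8628) (.leaf 8629)) (.node 1 (.leaf 8634) (.leaf 8644))) (.node 2 (.node 1 (.leaf 8647) (.leaf 8649)) (.node 1 (.leaf 8654) (.leaf 8660))))) (.node 8 (.node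 4 (.node 2 (.node 1 (.leaf 8661) (.leaf 8667)) (.node 1 (.leaf 8670) (.leaf 8671))) (.node 2 (.node 1 (.leaf 8672) (.leaf 8673)) (.node 1 (.leaf 8674) (.leaf 8676)))) (.node 4 (.node 2 (.node 1 (.leaf 8682) (.leaf 8684)) (.node 1 (.leaf 8688) (.leaf 8693))) (.node 2 (.node 1 (.leaf 8694) (.leaf 8697)) (.node 1 (.leaf 8698) (.leaf 8699)))))) (.node 16 (.node 8 (.node 4 (.node 2 (.node 1 (.leaf 8702) (.leaf 8703)) (.node 1 (.leaf 8704) (.leaf 8707))) (.node 2 (.node 1 (.leaf 8708) (.leaf 8709)) (.node 1 (.leaf 8714) (.leaf 8715)))) (.node 4 (.node 2 (.node 1 (.leaf 8720) (.leaf 8722)) (.node 1 (.leaf 8723) (.leaf 8727))) (.node 2 (.node 1 (.leaf 8728) (.leaf 8729)) (.node 1 (.leaf 8731) (.leaf 8733))))) (.node 8 (.node 4 (.node 2 (.node 1 (.leaf 8738) (.leaf 8739)) (.node 1 (.leaf 8742) (.leaf 8743))) (.node 2 (.node 1 (.leaf 8744) (.leaf 8747)) (.node 1 (.leaf 8749) (.leaf 8750)))) (.node 4 (.node 2 (.node 1 (.leaf 8754) (.leaf 8758)) (.node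 1 (.leaf 8759) (.leaf 8762))) (.node 2 (.node 1 (.leaf 8764) (.leaf 8768)) (.node 1 (.leaf 8769) (.leaf 8771))))))) (.node 32 (.node 16 (.node 8 (.node 4 (.node 2 (.node 1 (.leaf 8772) (.leaf 8773)) (.node 1 (.leaf 8774) (.leaf 8777))) (.node 2 (.node 1 (.leaf 8778) (.leaf 8779)) (.node 1 (.leaf 8781) (.leaf 8782)))) (.node 4 (.node 2 (.node 1 (.leaf 8783) (.leaf 8786)) (.node 1 (.leaf 8787) (.leaf 8788))) (.node 2 (.node 1 (.leaf 8792) (.leaf 8796)) (.node 1 (.leaf 8797) (.leaf 8798))))) (.node 8 (.node 4 (.node 2 (.node 1 (.leaf 8802) (.leaf 8810)) (.node 1 (.leaf 8812) (.leaf 8816))) (.node 2 (.node 1 (.leaf 8817) (.leaf 8819)) (.node 1 (.leaf 8824) (.leaf 8828)))) (.node 4 (.node 2 (.node 1 (.leaf 8831) (.leaf 8834)) (.node 1 (.leaf 8835) (.leaf 8838))) (.node 2 (.node 1 (.leaf 8840) (.leaf 8844)) (.node 1 (.leaf 8847) (.leaf 8848)))))) (.node 16 (.node 8 (.node 4 (.node 2 (.node 1 (.leaf 8851) (.leaf 8853)) (.node 1 (.leaf 8856) (.leaf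 8862))) (.node 2 (.node 1 (.leaf 8863) (.leaf 8865)) (.node 1 (.leaf 8870) (.leaf 8871)))) (.node 4 (.node 2 (.node 1 (.leaf 8872) (.leaf 8876)) (.node 1 (.leaf 8878) (.leaf 8879))) (.node 2 (.node 1 (.leaf 8888) (.leaf 8890)) (.node 1 (.leaf 8896) (.leaf 8897))))) (.node 8 (.node 4 (.node 2 (.node 1 (.leaf 8902) (.leaf 8905)) (.node 1 (.leaf 8906) (.leaf 8909))) (.node 2 (.node 1 (.leaf 8910) (.leaf 8912)) (.node 1 (.leaf 8915) (.leaf 8920)))) (.node 4 (.node 2 (.node 1 (.leaf 8922) (.leaf 8923)) (.node 1 (.leaf 8924) (.leaf 8928))) (.node 2 (.node 1 (.leaf 8932) (.leaf 8935)) (.node 1 (.leaf 8936) (.leaf 8944))))))))) (.node 128 (.node 64 (.node 32 (.node 16 (.node 8 (.node 4 (.node 2 (.node 1 (.leaf 8945) (.leaf 8946)) (.node 1 (.leaf 8948) (.leaf 8950))) (.node 2 (.node 1 (.leaf 8952) (.leaf 8954)) (.node 1 (.leaf 8955) (.leaf 8964)))) (.node 4 (.node 2 (.node 1 (.leaf 8965) (.leaf 8966)) (.node 1 (.leaf 8972) (.leaf 8973))) (.node 2 (.node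 1 (.leaf 8982) (.leaf 8990)) (.node 1 (.leaf 8992) (.leaf 8993))))) (.node 8 (.node 4 (.node 2 (.node 1 (.leaf 8994) (.leaf 8995)) (.node 1 (.leaf 8998) (.leaf 9000))) (.node 2 (.node 1 (.leaf 9002) (.leaf 9004)) (.node 1 (.leaf 9006) (.leaf 9010)))) (.node 4 (.node 2 (.node 1 (.leaf 9011) (.leaf 9012)) (.node 1 (.leaf 9017) (.leaf 9019))) (.node 2 (.node 1 (.leaf 9020) (.leaf 9022)) (.node 1 (.leaf 9023) (.leaf 9032)))))) (.node 16 (.node 8 (.node 4 (.node 2 (.node 1 (.leaf 9033) (.leaf 9034)) (.node 1 (.leaf 9036) (.leaf 9039))) (.node 2 (.node 1 (.leaf 9042) (.leaf 9046)) (.node 1 (.leaf 9047) (.leaf 9048)))) (.node 4 (.node 2 (.node 1 (.leaf 9050) (.leaf 9052)) (.node 1 (.leaf 9054) (.leaf 9056))) (.node 2 (.node 1 (.leaf 9059) (.leaf 9060)) (.node 1 (.leaf 9062) (.leaf 9063))))) (.node 8 (.node 4 (.node 2 (.node 1 (.leaf 9065) (.leaf 9066)) (.node 1 (.leaf 9068) (.leaf 9070))) (.node 2 (.node 1 (.leaf 9071) (.leaf 9080)) (.node 1 (.leaf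 9089) (.leaf 9093)))) (.node 4 (.node 2 (.node 1 (.leaf 9095) (.leaf 9100)) (.node 1 (.leaf 9102) (.leaf 9103))) (.node 2 (.node 1 (.leaf 9104) (.leaf 9107)) (.node 1 (.leaf 9114) (.leaf 9116))))))) (.node 32 (.node 16 (.node 8 (.node 4 (.node 2 (.node 1 (.leaf 9119) (.leaf 9120)) (.node 1 (.leaf 9125) (.leaf 9134))) (.node 2 (.node 1 (.leaf 9136) (.leaf 9137)) (.node 1 (.leaf 9141) (.leaf 9144)))) (.node 4 (.node 2 (.node 1 (.leaf 9145) (.leaf 9148)) (.node 1 (.leaf 9150) (.leaf 9151))) (.node 2 (.node 1 (.leaf 9154) (.leaf 9155)) (.node 1 (.leaf 9161) (.leaf 9166))))) (.node 8 (.node 4 (.node 2 (.node 1 (.leaf 9172) (.leaf 9173)) (.node 1 (.leaf 9176) (.leaf 9182))) (.node 2 (.node 1 (.leaf 9183) (.leaf 9188)) (.node 1 (.leaf 9192) (.leaf 9193)))) (.node 4 (.node 2 (.node 1 (.leaf 9194) (.leaf 9195)) (.node 1 (.leaf 9199) (.leaf 9200))) (.node 2 (.node 1 (.leaf 9201) (.leaf 9204)) (.node 1 (.leaf 9212) (.leaf 9218)))))) (.node 16 (.node 8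 (.node 4 (.node 2 (.node 1 (.leaf 9219) (.leaf 9220)) (.node 1 (.leaf 9222) (.leaf 9224))) (.node 2 (.node 1 (.leaf 9228) (.leaf 9229)) (.node 1 (.leaf 9236) (.leaf 9238)))) (.node 4 (.node 2 (.node 1 (.leaf 9241) (.leaf 9244)) (.node 1 (.leaf 9256) (.leaf 9257))) (.node 2 (.node 1 (.leaf 9261) (.leaf 9262)) (.node 1 (.leaf 9263) (.leaf 9269))))) (.node 8 (.node 4 (.node 2 (.node 1 (.leaf 9273) (.leaf 9276)) (.node 1 (.leaf 9283) (.leaf 9284))) (.node 2 (.node 1 (.leaf 9286) (.leaf 9289)) (.node 1 (.leaf 9292) (.leaf 9293)))) (.node 4 (.node 2 (.node 1 (.leaf 9294) (.leaf 9296)) (.node 1 (.leaf 9297) (.leaf 9298))) (.node 2 (.node 1 (.leaf 9301) (.leaf 9302)) (.node 1 (.leaf 9304) (.leaf 9305)))))))) (.node 64 (.node 32 (.node 16 (.node 8 (.node 4 (.node 2 (.node 1 (.leaf 9306) (.leaf 9310)) (.node 1 (.leaf 9311) (.leaf 9315))) (.node 2 (.node 1 (.leaf 9318) (.leaf 9320)) (.node 1 (.leaf 9331) (.leaf 9334)))) (.node 4 (.node 2 (.node 1 (.leaf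 9336) (.leaf 9338)) (.node 1 (.leaf 9343) (.leaf 9350))) (.node 2 (.node 1 (.leaf 9351) (.leaf 9355)) (.node 1 (.leaf 9356) (.leaf 9363))))) (.node 8 (.node 4 (.node 2 (.node 1 (.leaf 9368) (.leaf 9372)) (.node 1 (.leaf 9374) (.leaf 9381))) (.node 2 (.node 1 (.leaf 9386) (.leaf 9388)) (.node 1 (.leaf 9390) (.leaf 9393)))) (.node 4 (.node 2 (.node 1 (.leaf 9397) (.leaf 9401)) (.node 1 (.leaf 9404) (.leaf 9406))) (.node 2 (.node 1 (.leaf 9410) (.leaf 9416)) (.node 1 (.leaf 9420) (.leaf 9423)))))) (.node 16 (.node 8 (.node 4 (.node 2 (.node 1 (.leaf 9425) (.leaf 9428)) (.node 1 (.leaf 9432) (.leaf 9440))) (.node 2 (.node 1 (.leaf 9443) (.leaf 9447)) (.node 1 (.leaf 9450) (.leaf 9454)))) (.node 4 (.node 2 (.node 1 (.leaf 9458) (.leaf 9460)) (.node 1 (.leaf 9462) (.leaf 9465))) (.node 2 (.node 1 (.leaf 9471) (.leaf 9472)) (.node 1 (.leaf 9473) (.leaf 9474))))) (.node 8 (.node 4 (.node 2 (.node 1 (.leaf 9476) (.leaf 9477)) (.node 1 (.leaf 9478) (.leaf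 9480))) (.node 2 (.node 1 (.leaf 9481) (.leaf 9489)) (.node 1 (.leaf 9490) (.leaf 9491)))) (.node 4 (.node 2 (.node 1 (.leaf 9492) (.leaf 9494)) (.node 1 (.leaf 9495) (.leaf 9496))) (.node 2 (.node 1 (.leaf 9498) (.leaf 9502)) (.node 1 (.leaf 9509) (.leaf 9512))))))) (.node 32 (.node 16 (.node 8 (.node 4 (.node 2 (.node 1 (.leaf 9514) (.leaf 9515)) (.node 1 (.leaf 9528) (.leaf 9530))) (.node 2 (.node 1 (.leaf 9536) (.leaf 9537)) (.node 1 (.leaf 9539) (.leaf 9543)))) (.node 4 (.node 2 (.node 1 (.leaf 9545) (.leaf 9548)) (.node 1 (.leaf 9550) (.leaf 9560))) (.node 2 (.node 1 (.leaf 9564) (.leaf 9565)) (.node 1 (.leaf 9568) (.leaf 9570))))) (.node 8 (.node 4 (.node 2 (.node 1 (.leaf 9573) (.leaf 9576)) (.node 1 (.leaf 9578) (.leaf 9582))) (.node 2 (.node 1 (.leaf 9583) (.leaf 9588)) (.node 1 (.leaf 9589) (.leaf 9596)))) (.node 4 (.node 2 (.node 1 (.leaf 9604) (.leaf 9608)) (.node 1 (.leaf 9610) (.leaf 9616))) (.node 2 (.node 1 (.leaf 9620) (.leaf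 9622)) (.node 1 (.leaf 9623) (.leaf 9640)))))) (.node 16 (.node 8 (.node 4 (.node 2 (.node 1 (.leaf 9646) (.leaf 9649)) (.node 1 (.leaf 9650) (.leaf 9652))) (.node 2 (.node 1 (.leaf 9654) (.leaf 9659)) (.node 1 (.leaf 9660) (.leaf 9662)))) (.node 4 (.node 2 (.node 1 (.leaf 9669) (.leaf 9672)) (.node 1 (.leaf 9674) (.leaf 9675))) (.node 2 (.node 1 (.leaf 9676) (.leaf 9686)) (.node 1 (.leaf 9688) (.leaf 9693))))) (.node 8 (.node 4 (.node 2 (.node 1 (.leaf 9697) (.leaf 9698)) (.node 1 (.leaf 9700) (.leaf 9704))) (.node 2 (.node 1 (.leaf 9705) (.leaf 9706)) (.node 1 (.leaf 9707) (.leaf 9712)))) (.node 4 (.node 2 (.node 1 (.leaf 9714) (.leaf 9720)) (.node 1 (.leaf 9725) (.leaf 9730))) (.node 2 (.node 1 (.leaf 9732) (.leaf 9734)) (.node 1 (.leaf 9736) (.node 1 (.leaf 9740) (.leaf 9748)))))))))))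

/-- Part 11 of `par0Tab`. -/
def par0Tab_11 : BT ℕ :=
  (.node 256 (.node 128 (.node 64 (.node 32 (.node 16 (.node 8 (.node 4 (.node 2 (.node 1 (.leaf 9749) (.leaf 9750)) (.node 1 (.leaf 9751) (.leaf 9759))) (.node 2 (.node 1 (.leaf 9760) (.leaf 9764)) (.node 1 (.leaf 9767) (.leaf 9770)))) (.node 4 (.node 2 (.node 1 (.leaf 9776) (.leaf 9779)) (.node 1 (.leaf 9781) (.leaf 9783))) (.node 2 (.node 1 (.leaf 9793) (.leaf 9798)) (.node 1 (.leaf 9799) (.leaf 9800))))) (.node 8 (.node 4 (.node 2 (.node 1 (.leaf 9804) (.leaf 9808)) (.node 1 (.leaf 9814) (.leaf 9815))) (.node 2 (.node 1 (.leaf 9816) (.leaf 9818)) (.node 1 (.leaf 9819) (.leaf 9820)))) (.node 4 (.node 2 (.node 1 (.leaf 9823) (.leaf 9828)) (.node 1 (.leaf 9829) (.leaf 9830))) (.node 2 (.node 1 (.leaf 9834) (.leaf 9837)) (.node 1 (.leaf 9838) (.leaf 9842)))))) (.node 16 (.node 8 (.node 4 (.node 2 (.node 1 (.leaf 9843) (.leaf 9844)) (.node 1 (.leaf 9850) (.leaf 9855))) (.node 2 (.node 1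 (.leaf 9856) (.leaf 9859)) (.node 1 (.leaf 9861) (.leaf 9864)))) (.node 4 (.node 2 (.node 1 (.leaf 9871) (.leaf 9872)) (.node 1 (.leaf 9873) (.leaf 9881))) (.node 2 (.node 1 (.leaf 9884) (.leaf 9887)) (.node 1 (.leaf 9893) (.leaf 9894))))) (.node 8 (.node 4 (.node 2 (.node 1 (.leaf 9900) (.leaf 9901)) (.node 1 (.leaf 9902) (.leaf 9904))) (.node 2 (.node 1 (.leaf 9908) (.leaf 9912)) (.node 1 (.leaf 9913) (.leaf 9914)))) (.node 4 (.node 2 (.node 1 (.leaf 9918) (.leaf 9922)) (.node 1 (.leaf 9924) (.leaf 9927))) (.node 2 (.node 1 (.leaf 9928) (.leaf 9931)) (.node 1 (.leaf 9939) (.leaf 9945))))))) (.node 32 (.node 16 (.node 8 (.node 4 (.node 2 (.node 1 (.leaf 9948) (.leaf 9952)) (.node 1 (.leaf 9953) (.leaf 9954))) (.node 2 (.node 1 (.leaf 9958) (.leaf 9966)) (.node 1 (.leaf 9967) (.leaf 9968)))) (.node 4 (.node 2 (.node 1 (.leaf 9970) (.leaf 9974)) (.node 1 (.leaf 9975) (.leaf 9976))) (.node 2 (.node 1 (.leaf 9980) (.leaf 9982)) (.node 1 (.leaf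 9983) (.leaf 9991))))) (.node 8 (.node 4 (.node 2 (.node 1 (.leaf 9996) (.leaf 9997)) (.node 1 (.leaf 10000) (.leaf 10004))) (.node 2 (.node 1 (.leaf 10006) (.leaf 10012)) (.node 1 (.leaf 10015) (.leaf 10018)))) (.node 4 (.node 2 (.node 1 (.leaf 10021) (.leaf 10022)) (.node 1 (.leaf 10025) (.leaf 10029))) (.node 2 (.node 1 (.leaf 10034) (.leaf 10035)) (.node 1 (.leaf 10037) (.leaf 10040)))))) (.node 16 (.node 8 (.node 4 (.node 2 (.node 1 (.leaf 10041) (.leaf 10045)) (.node 1 (.leaf 10054) (.leaf 10056))) (.node 2 (.node 1 (.leaf 10058) (.leaf 10060)) (.node 1 (.leaf 10063) (.leaf 10065)))) (.node 4 (.node 2 (.node 1 (.leaf 10067) (.leaf 10068)) (.node 1 (.leaf 10070) (.leaf 10075))) (.node 2 (.node 1 (.leaf 10076) (.leaf 10079)) (.node 1 (.leaf 10080) (.leaf 10081))))) (.node 8 (.node 4 (.node 2 (.node 1 (.leaf 10082) (.leaf 10084)) (.node 1 (.leaf 10085) (.leaf 10088))) (.node 2 (.node 1 (.leaf 10089) (.leaf 10092)) (.node 1 (.leaf 10093)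 (.leaf 10095)))) (.node 4 (.node 2 (.node 1 (.leaf 10101) (.leaf 10113)) (.node 1 (.leaf 10114) (.leaf 10116))) (.node 2 (.node 1 (.leaf 10121) (.leaf 10126)) (.node 1 (.leaf 10134) (.leaf 10135)))))))) (.node 64 (.node 32 (.node 16 (.node 8 (.node 4 (.node 2 (.node 1 (.leaf 10138) (.leaf 10151)) (.node 1 (.leaf 10159) (.leaf 10160))) (.node 2 (.node 1 (.leaf 10162) (.leaf 10164)) (.node 1 (.leaf 10168) (.leaf 10170)))) (.node 4 (.node 2 (.node 1 (.leaf 10173) (.leaf 10174)) (.node 1 (.leaf 10182) (.leaf 10184))) (.node 2 (.node 1 (.leaf 10186) (.leaf 10187)) (.node 1 (.leaf 10200) (.leaf 10203))))) (.node 8 (.node 4 (.node 2 (.node 1 (.leaf 10204) (.leaf 10210)) (.node 1 (.leaf 10212) (.leaf 10213))) (.node 2 (.node 1 (.leaf 10226) (.leaf 10230)) (.node 1 (.leaf 10231) (.leaf 10232)))) (.node 4 (.node 2 (.node 1 (.leaf 10234) (.leaf 10241)) (.node 1 (.leaf 10243) (.leaf 10246))) (.node 2 (.node 1 (.leaf 10248) (.leaf 10255)) (.node 1 (.leaf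 10258) (.leaf 10262)))))) (.node 16 (.node 8 (.node 4 (.node 2 (.node 1 (.leaf 10264) (.leaf 10270)) (.node 1 (.leaf 10278) (.leaf 10279))) (.node 2 (.node 1 (.leaf 10281) (.leaf 10283)) (.node 1 (.leaf 10284) (.leaf 10290)))) (.node 4 (.node 2 (.node 1 (.leaf 10292) (.leaf 10294)) (.node 1 (.leaf 10296) (.leaf 10297))) (.node 2 (.node 1 (.leaf 10300) (.leaf 10302)) (.node 1 (.leaf 10303) (.leaf 10304))))) (.node 8 (.node 4 (.node 2 (.node 1 (.leaf 10307) (.leaf 10308)) (.node 1 (.leaf 10310) (.leaf 10311))) (.node 2 (.node 1 (.leaf 10314) (.leaf 10315)) (.node 1 (.leaf 10318) (.leaf 10320)))) (.node 4 (.node 2 (.node 1 (.leaf 10321) (.leaf 10322)) (.node 1 (.leaf 10334) (.leaf 10340))) (.node 2 (.node 1 (.leaf 10343) (.leaf 10346)) (.node 1 (.leaf 10348) (.leaf 10349))))))) (.node 32 (.node 16 (.node 8 (.node 4 (.node 2 (.node 1 (.leaf 10351) (.leaf 10352)) (.node 1 (.leaf 10358) (.leaf 10371))) (.node 2 (.node 1 (.leaf 10372) (.leaf 10378))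 (.node 1 (.leaf 10384) (.leaf 10390)))) (.node 4 (.node 2 (.node 1 (.leaf 10397) (.leaf 10399)) (.node 1 (.leaf 10405) (.leaf 10413))) (.node 2 (.node 1 (.leaf 10414) (.leaf 10417)) (.node 1 (.leaf 10418) (.leaf 10419))))) (.node 8 (.node 4 (.node 2 (.node 1 (.leaf 10420) (.leaf 10425)) (.node 1 (.leaf 10429) (.leaf 10430))) (.node 2 (.node 1 (.leaf 10442) (.leaf 10443)) (.node 1 (.leaf 10444) (.leaf 10448)))) (.node 4 (.node 2 (.node 1 (.leaf 10449) (.leaf 10452)) (.node 1 (.leaf 10454) (.leaf 10461))) (.node 2 (.node 1 (.leaf 10465) (.leaf 10466)) (.node 1 (.leaf 10472) (.leaf 10474)))))) (.node 16 (.node 8 (.node 4 (.node 2 (.node 1 (.leaf 10484) (.leaf 10488)) (.node 1 (.leaf 10490) (.leaf 10495))) (.node 2 (.node 1 (.leaf 10499) (.leaf 10503)) (.node 1 (.leaf 10508) (.leaf 10510)))) (.node 4 (.node 2 (.node 1 (.leaf 10513) (.leaf 10516)) (.node 1 (.leaf 10528) (.leaf 10530))) (.node 2 (.node 1 (.leaf 10533) (.leaf 10536)) (.node 1 (.leaf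 10538) (.leaf 10542))))) (.node 8 (.node 4 (.node 2 (.node 1 (.leaf 10544) (.leaf 10546)) (.node 1 (.leaf 10548) (.leaf 10552))) (.node 2 (.node 1 (.leaf 10558) (.leaf 10560)) (.node 1 (.leaf 10561) (.leaf 10564)))) (.node 4 (.node 2 (.node 1 (.leaf 10566) (.leaf 10569)) (.node 1 (.leaf 10574) (.leaf 10581))) (.node 2 (.node 1 (.leaf 10584) (.leaf 10588)) (.node 1 (.leaf 10597) (.leaf 10598))))))))) (.node 128 (.node 64 (.node 32 (.node 16 (.node 8 (.node 4 (.node 2 (.node 1 (.leaf 10600) (.leaf 10602)) (.node 1 (.leaf 10604) (.leaf 10605))) (.node 2 (.node 1 (.leaf 10606) (.leaf 10613)) (.node 1 (.leaf 10618) (.leaf 10627)))) (.node 4 (.node 2 (.node 1 (.leaf 10632) (.leaf 10637)) (.node 1 (.leaf 10650) (.leaf 10656))) (.node 2 (.node 1 (.leaf 10659) (.leaf 10660)) (.node 1 (.leaf 10663) (.leaf 10664))))) (.node 8 (.node 4 (.node 2 (.node 1 (.leaf 10666) (.leaf 10668)) (.node 1 (.leaf 10669) (.leaf 10672))) (.node 2 (.node 1 (.leaf 10675)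 (.leaf 10676)) (.node 1 (.leaf 10681) (.leaf 10691)))) (.node 4 (.node 2 (.node 1 (.leaf 10701) (.leaf 10706)) (.node 1 (.leaf 10710) (.leaf 10712))) (.node 2 (.node 1 (.leaf 10713) (.leaf 10718)) (.node 1 (.leaf 10721) (.leaf 10724)))))) (.node 16 (.node 8 (.node 4 (.node 2 (.node 1 (.leaf 10725) (.leaf 10727)) (.node 1 (.leaf 10732) (.leaf 10733))) (.node 2 (.node 1 (.leaf 10749) (.leaf 10754)) (.node 1 (.leaf 10766) (.leaf 10770)))) (.node 4 (.node 2 (.node 1 (.leaf 10775) (.leaf 10779)) (.node 1 (.leaf 10790) (.leaf 10794))) (.node 2 (.node 1 (.leaf 10796) (.leaf 10799)) (.node 1 (.leaf 10801) (.leaf 10806))))) (.node 8 (.node 4 (.node 2 (.node 1 (.leaf 10809) (.leaf 10813)) (.node 1 (.leaf 10815) (.leaf 10816))) (.node 2 (.node 1 (.leaf 10820) (.leaf 10828)) (.node 1 (.leaf 10830) (.leaf 10831)))) (.node 4 (.node 2 (.node 1 (.leaf 10835) (.leaf 10836)) (.node 1 (.leaf 10838) (.leaf 10842))) (.node 2 (.node 1 (.leaf 10844) (.leaf 10847))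 (.node 1 (.leaf 10848) (.leaf 10852))))))) (.node 32 (.node 16 (.node 8 (.node 4 (.node 2 (.node 1 (.leaf 10854) (.leaf 10859)) (.node 1 (.leaf 10864) (.leaf 10872))) (.node 2 (.node 1 (.leaf 10873) (.leaf 10876)) (.node 1 (.leaf 10878) (.leaf 10879)))) (.node 4 (.node 2 (.node 1 (.leaf 10887) (.leaf 10890)) (.node 1 (.leaf 10892) (.leaf 10896))) (.node 2 (.node 1 (.leaf 10897) (.leaf 10902)) (.node 1 (.leaf 10920) (.leaf 10925))))) (.node 8 (.node 4 (.node 2 (.node 1 (.leaf 10926) (.leaf 10931)) (.node 1 (.leaf 10932) (.leaf 10934))) (.node 2 (.node 1 (.leaf 10945) (.leaf 10954)) (.node 1 (.leaf 10962) (.leaf 10964)))) (.node 4 (.node 2 (.node 1 (.leaf 10969) (.leaf 10970)) (.node 1 (.leaf 10972) (.leaf 10976))) (.node 2 (.node 1 (.leaf 10979) (.leaf 10985)) (.node 1 (.leaf 10986) (.leaf 10990)))))) (.node 16 (.node 8 (.node 4 (.node 2 (.node 1 (.leaf 10994) (.leaf 10996)) (.node 1 (.leaf 10999) (.leaf 11004))) (.node 2 (.node 1 (.leaf 11018)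 (.leaf 11020)) (.node 1 (.leaf 11025) (.leaf 11028)))) (.node 4 (.node 2 (.node 1 (.leaf 11034) (.leaf 11036)) (.node 1 (.leaf 11038) (.leaf 11048))) (.node 2 (.node 1 (.leaf 11050) (.leaf 11054)) (.node 1 (.leaf 11057) (.leaf 11063))))) (.node 8 (.node 4 (.node 2 (.node 1 (.leaf 11064) (.leaf 11078)) (.node 1 (.leaf 11081) (.leaf 11098))) (.node 2 (.node 1 (.leaf 11108) (.leaf 11110)) (.node 1 (.leaf 11113) (.leaf 11119)))) (.node 4 (.node 2 (.node 1 (.leaf 11120) (.leaf 11126)) (.node 1 (.leaf 11132) (.leaf 11136))) (.node 2 (.node 1 (.leaf 11142) (.leaf 11146)) (.node 1 (.leaf 11155) (.leaf 11161)))))))) (.node 64 (.node 32 (.node 16 (.node 8 (.node 4 (.node 2 (.node 1 (.leaf 11164) (.leaf 11174)) (.node 1 (.leaf 11179) (.leaf 11198))) (.node 2 (.node 1 (.leaf 11199) (.leaf 11205)) (.node 1 (.leaf 11209) (.leaf 11214)))) (.node 4 (.node 2 (.node 1 (.leaf 11220) (.leaf 11225)) (.node 1 (.leaf 11226) (.leaf 11227))) (.node 2 (.node 1 (.leaf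 11228) (.leaf 11240)) (.node 1 (.leaf 11245) (.leaf 11252))))) (.node 8 (.node 4 (.node 2 (.node 1 (.leaf 11254) (.leaf 11256)) (.node 1 (.leaf 11264) (.leaf 11267))) (.node 2 (.node 1 (.leaf 11271) (.leaf 11284)) (.node 1 (.leaf 11300) (.leaf 11301)))) (.node 4 (.node 2 (.node 1 (.leaf 11306) (.leaf 11324)) (.node 1 (.leaf 11332) (.leaf 11340))) (.node 2 (.node 1 (.leaf 11341) (.leaf 11348)) (.node 1 (.leaf 11359) (.leaf 11362)))))) (.node 16 (.node 8 (.node 4 (.node 2 (.node 1 (.leaf 11364) (.leaf 11375)) (.node 1 (.leaf 11378) (.leaf 11383))) (.node 2 (.node 1 (.leaf 11384) (.leaf 11386)) (.node 1 (.leaf 11391) (.leaf 11397)))) (.node 4 (.node 2 (.node 1 (.leaf 11399) (.leaf 11406)) (.node 1 (.leaf 11415) (.leaf 11418))) (.node 2 (.node 1 (.leaf 11424) (.leaf 11426)) (.node 1 (.leaf 11433) (.leaf 11434))))) (.node 8 (.node 4 (.node 2 (.node 1 (.leaf 11440) (.leaf 11442)) (.node 1 (.leaf 11444) (.leaf 11454))) (.node 2 (.node 1 (.leaf 11458)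 (.leaf 11466)) (.node 1 (.leaf 11477) (.leaf 11488)))) (.node 4 (.node 2 (.node 1 (.leaf 11490) (.leaf 11492)) (.node 1 (.leaf 11498) (.leaf 11499))) (.node 2 (.node 1 (.leaf 11503) (.leaf 11504)) (.node 1 (.leaf 11508) (.leaf 11512))))))) (.node 32 (.node 16 (.node 8 (.node 4 (.node 2 (.node 1 (.leaf 11534) (.leaf 11540)) (.node 1 (.leaf 11544) (.leaf 11548))) (.node 2 (.node 1 (.leaf 11550) (.leaf 11553)) (.node 1 (.leaf 11558) (.leaf 11564)))) (.node 4 (.node 2 (.node 1 (.leaf 11567) (.leaf 11578)) (.node 1 (.leaf 11600) (.leaf 11603))) (.node 2 (.node 1 (.leaf 11604) (.leaf 11614)) (.node 1 (.leaf 11616) (.leaf 11622))))) (.node 8 (.node 4 (.node 2 (.node 1 (.leaf 11641) (.leaf 11648)) (.node 1 (.leaf 11653) (.leaf 11657))) (.node 2 (.node 1 (.leaf 11686) (.leaf 11694)) (.node 1 (.leaf 11700) (.leaf 11702)))) (.node 4 (.node 2 (.node 1 (.leaf 11724) (.leaf 11738)) (.node 1 (.leaf 11752) (.leaf 11769))) (.node 2 (.node 1 (.leaf 11782) (.leaf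 11802)) (.node 1 (.leaf 11821) (.leaf 11846)))))) (.node 16 (.node 8 (.node 4 (.node 2 (.node 1 (.leaf 11850) (.leaf 11854)) (.node 1 (.leaf 11856) (.leaf 11877))) (.node 2 (.node 1 (.leaf 11880) (.leaf 11900)) (.node 1 (.leaf 11908) (.leaf 11912)))) (.node 4 (.node 2 (.node 1 (.leaf 11945) (.leaf 11946)) (.node 1 (.leaf 11962) (.leaf 11969))) (.node 2 (.node 1 (.leaf 11978) (.leaf 11990)) (.node 1 (.leaf 12007) (.leaf 12013))))) (.node 8 (.node 4 (.node 2 (.node 1 (.leaf 12017) (.leaf 12038)) (.node 1 (.leaf 12040) (.leaf 12066))) (.node 2 (.node 1 (.leaf 12069) (.leaf 12075)) (.node 1 (.leaf 12076) (.leaf 12092)))) (.node 4 (.node 2 (.node 1 (.leaf 12097) (.leaf 12107)) (.node 1 (.leaf 12109) (.leaf 12113))) (.node 2 (.node 1 (.leaf 12127) (.leaf 12157)) (.node 1 (.leaf 12178) (.node 1 (.leaf 12232) (.leaf 12307)))))))))))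

/-- `par0Tab`. -/
def par0Tab : BT ℕ :=
  (.node 3078 (.node 1539 (.node 513 par0Tab_0 (.node 513 par0Tab_1 par0Tab_2)) (.node 513 par0Tab_3 (.node 513 par0Tab_4 par0Tab_5))) (.node 1539 (.node 513 par0Tab_6 (.node 513 par0Tab_7 par0Tab_8)) (.node 513 par0Tab_9 (.node 513 par0Tab_10 par0Tab_11))))

end CfsgLib.J23
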