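import Cfsg.Agent.JankoTwoThree.Span
import Cfsg.Agent.JankoTwoThree.J3DataT
import Cfsg.Agent.JankoTwoThree.J3DataE
import Cfsg.Agent.JankoTwoThree.J3DataK
import Cfsg.Agent.JankoTwoThree.J3DataSmall

/-!
# Boolean predicates of the certificate for `3·J₃`

They are verified in `J3CheckA*`, `J3CheckK*` and `J3CheckSmall`.
-/

set_option autoImplicit false

namespace CfsgLib.J23

open CfsgLib.J1

/-- A key for a block. -/
def enc (M : M9) : ℕ := M.a + M.b * 2417851639229258349412352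

/-- An element of the subgroup, from a code below `85 * 288`. -/
def hElt (c : ℕ) : M9 :=
  bif Nat.beq c 0 then mOne else mul (t1Tab.get (c / 288)) (kTab.get (c % 288))

/-- An edge of the coset graph. -/
def chkE0 (e : ℕ) : Bool :=
  let c := e0Tab.get e
  let lhs := mul (s0Tab.get (e % 2)) (t0Tab.get (e / 2))
  Nat.blt (c / 24480) 6156 &&
    bif Nat.beq (c % 24480) 0 then eqb lhs (t0Tab.get (c / 24480))
    else eqb lhs (mul (t0Tab.get (c / 24480)) (hElt (c % 24480)))

/-- The parent of a coset. -/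
def chkP0 (i : ℕ) : Bool :=
  Nat.beq i 0 || (Nat.blt (par0Tab.get i / 2) i && Nat.beq (e0Tab.get (par0Tab.get i)) (24480 * i))

/-- The echelon basis of a coset. -/
def chkK0 (i : ℕ) : Bool :=
  let b := key0Tab.get i
  chkEch 4 b.2 b.1 && chkIn 4 b.2 b.1 (mul (t0Tab.get i) wBlock) &&
    Nat.beq (find0.search (enc b.1)) i

/-- An edge inside the subgroup. -/
def chkE1 (e : ℕ) : Bool :=
  let c := e1Tab.get e
  let lhs := mul (s1Tab.get (e % 2)) (t1Tab.get (e / 2))
  Nat.blt (c / 288) 85 &&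
    bif Nat.beq (c % 288) 0 then eqb lhs (t1Tab.get (c / 288))
    else eqb lhs (mul (t1Tab.get (c / 288)) (kTab.get (c % 288)))

/-- The parent and the line of a coset inside the subgroup. -/
def chkI1 (i : ℕ) : Bool :=
  (Nat.beq i 0 || (Nat.blt (par1Tab.get i / 2) i && Nat.beq (e1Tab.get (par1Tab.get i)) (288 * i))) &&
    (chkEch 1 (key1Tab.get i).2 (key1Tab.get i).1 &&
      chkIn 1 (key1Tab.get i).2 (key1Tab.get i).1 (mul (t1Tab.get i) vBlock) &&
      Nat.beq (find1.search (enc (key1Tab.get i).1)) i)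

/-- An edge of the bottom group. -/
def chkE2 (e : ℕ) : Bool :=
  Nat.blt (e2Tab.get e) 288 &&
    eqb (mul (s2Tab.get (e % 2)) (kTab.get (e / 2))) (kTab.get (e2Tab.get e))

/-- An element of the bottom group. -/
def chkI2 (i : ℕ) : Bool :=
  (Nat.beq i 0 || (Nat.blt (par2Tab.get i / 2) i && Nat.beq (e2Tab.get (par2Tab.get i)) i)) &&
    Nat.beq (find2.search (enc (kTab.get i))) i

/-- A generator as an element of the certificate. -/
def chkW (a : ℕ) : Bool :=
  let c := genWord.get a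
  Nat.blt (c / 24480) 6156 && wfB (genTab.get a) &&
    eqb (mul (genTab.get a) (genInvTab.get a)) mOne &&
    eqb (mul (genInvTab.get a) (genTab.get a)) mOne &&
    eqb (mul (t0Tab.get (c / 24480)) (hElt (c % 24480))) (genTab.get a)

/-- The small facts. -/
def chkMisc : Bool :=
  eqb (t0Tab.get 0) mOne && eqb (t1Tab.get 0) mOne && eqb (kTab.get 0) mOne &&
  eqb (mul (genTab.get 21) (genTab.get 30)) (s0Tab.get 0) && eqb (genTab.get 37) (s0Tab.get 1) &&
  (Nat.blt (hgEdge.get 0) 12312 && Nat.blt (hgEdge.get 1) 12312) &&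
  (Nat.blt (kgEdge.get 0) 170 && Nat.blt (kgEdge.get 1) 170) &&
  eqb (hElt (e0Tab.get (hgEdge.get 0) % 24480)) (s1Tab.get 0) &&
  eqb (hElt (e0Tab.get (hgEdge.get 1) % 24480)) (s1Tab.get 1) &&
  eqb (kTab.get (e1Tab.get (kgEdge.get 0) % 288)) (s2Tab.get 0) &&
  eqb (kTab.get (e1Tab.get (kgEdge.get 1) % 288)) (s2Tab.get 1) &&
  chkEch 4 wPiv wBlock && chkEch 1 vPiv vBlock &&
  (chkIn 4 wPiv wBlock (mul (s1Tab.get 0) wBlock) && chkIn 4 wPiv wBlock (mul (s1Tab.get 1) wBlock)) &&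
  (chkIn 1 vPiv vBlock (mul (s2Tab.get 0) vBlock) && chkIn 1 vPiv vBlock (mul (s2Tab.get 1) vBlock))

end CfsgLib.J23
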