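import Cfsg.Agent.JankoTwoThree.J3Check

/-!
Kernel verification of part of the certificate for `3·J₃`.
-/

set_option autoImplicit false

namespace CfsgLib.J23

open CfsgLib.J1

theorem chkE0_part4 : allLt 513 (fun j => chkE0 (2052 + j)) = true := by decide +kernel

theorem chkE0_part5 : allLt 513 (fun j => chkE0 (2565 + j)) = true := by decide +kernel

theorem chkE0_part6 : allLt 513 (fun j => chkE0 (3078 + j)) = true := by decide +kernel

theorem chkE0_part7 : allLt 513 (fun j => chkE0 (3591 + j)) = true := by decide +kernel

end CfsgLib.J23
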