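import Cfsg.Agent.JankoTwoThree.J3Check

/-!
Kernel verification of part of the certificate for `3·J₃`.
-/

set_option autoImplicit false

namespace CfsgLib.J23

open CfsgLib.J1

theorem chkE0_part8 : allLt 513 (fun j => chkE0 (4104 + j)) = true := by decide +kernel

theorem chkE0_part9 : allLt 513 (fun j => chkE0 (4617 + j)) = true := by decide +kernel

theorem chkE0_part10 : allLt 513 (fun j => chkE0 (5130 + j)) = true := by decide +kernel

theorem chkE0_part11 : allLt 513 (fun j => chkE0 (5643 + j)) = true := by decide +kernel

end CfsgLib.J23
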