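import Cfsg.Agent.JankoTwoThree.J3Check

/-!
Kernel verification of part of the certificate for `3·J₃`.
-/

set_option autoImplicit false

namespace CfsgLib.J23

open CfsgLib.J1

theorem chkE1_all : allLt 170 chkE1 = true := by decide +kernel

theorem chkI1_all : allLt 85 chkI1 = true := by decide +kernel

theorem chkE2_all : allLt 576 chkE2 = true := by decide +kernel

theorem chkI2_all : allLt 288 chkI2 = true := by decide +kernel

theorem chkW_all : allLt 43 chkW = true := by decide +kernel

theorem chkMisc_ok : chkMisc = true := by decide +kernel

end CfsgLib.J23
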