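import Cfsg.Agent.JankoTwoThree.J3Involution
import Cfsg.Agent.FusionSimple.Generic
import Cfsg.Agent.BlocksCharsC.PGroupCenter

/-!
# The 2-fusion system of `J₃` is simple

The Sylow subgroup has centre `⟨tJ⟩` and is generated by involutions, all conjugate to `tJ`; its
normaliser lies in the centraliser of `tJ`, which is generated by its 2-elements.
-/

set_option autoImplicit false

namespace CfsgLib.J23

open Cfsg.Spor CfsgLib.J1 CfsgLib.Schur CfsgLib.FusionSimple

/-- Indices of involutions of the Sylow group whose products are its generators. -/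
def pGenFactors : List (List ℕ) := [[52, 14], [40, 9], [36, 8], [37, 8], [5], [6]]

/-- The product of listed elements. -/
def pProd : List ℕ → List ℕ
  | [] => []
  | i :: l => pEltW.getD i [] ++ pProd l

/-- The facts used for the fusion system. -/
def chkFusion : Bool :=
  pGenW.all (fun g => wCommute g invWord) &&
    (qGenW.all (fun q => memT (baseImg q) (pEltW.map baseImg)) &&
    (pEltW.all (fun u => wEq u [] || (wEq u invWord || !pGenW.all fun g => wCommute g u)) &&
    (pEltW.all (fun u => memT (baseImg u) (qEltW.map baseImg) || !qGenW.all fun q => wCommute q u) &&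
    (allLt 6 (fun k => (pGenFactors.getD k []).all (fun i => Nat.blt i 128 && (Nat.blt 0 i &&
        wEq (pEltW.getD i [] ++ pEltW.getD i []) [])) &&
      wEq (pProd (pGenFactors.getD k [])) (pGenW.getD k [])) &&
    (wEq (aGenW.getD 0 [] ++ aGenW.getD 0 []) [] &&
      (wEq (aEltW.getD 56 [] ++ aEltW.getD 56 []) [] &&
        (wEq (aEltW.getD 57 [] ++ aEltW.getD 57 []) [] &&
          wEq (aEltW.getD 56 [] ++ aEltW.getD 57 []) (aGenW.getD 1 []))))))))

theorem chkFusion_ok : chkFusion = true := by decide +kernel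

theorem card_pGroup : Nat.card (wordGroup pGenW) = 128 := by
  rw [(listed_spec pListed).2]; decide +kernel

theorem pGroup_le_centralizer : wordGroup pGenW ≤ Subgroup.centralizer ({tJ} : Set J3P) := by
  have h := chkFusion_ok
  simp only [chkFusion, Bool.and_eq_true, List.all_eq_true] at h
  refine (Subgroup.closure_le _).2 ?_
  rintro _ ⟨a, rfl⟩
  exact Subgroup.mem_centralizer_singleton_iff.2
    (commute_of_wCommute (h.1 _ (getD_mem _ _ _ a.2)))

theorem qGroup_le_pGroup : wordGroup qGenW ≤ wordGroup pGenW := by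
  have h := chkFusion_ok
  simp only [chkFusion, Bool.and_eq_true, List.all_eq_true] at h
  refine (Subgroup.closure_le _).2 ?_
  rintro _ ⟨a, rfl⟩
  exact ((listed_spec pListed).1 _).2 (memT_iff.1 (h.2.1 _ (getD_mem _ _ _ a.2)))

theorem tJ_mem_pGroup : tJ ∈ wordGroup pGenW := qGroup_le_pGroup structFacts.2.2.2

theorem center_pGroup {x : J3P} (hx : x ∈ wordGroup pGenW)
    (hc : ∀ y ∈ wordGroup pGenW, y * x = x * y) : x = 1 ∨ x = tJ := by
  have h := chkFusion_ok
  simp only [chkFusion, Bool.and_eq_true, List.all_eq_true, Bool.or_eq_true, Bool.not_eq_true',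
    List.all_eq_false] at h
  obtain ⟨u, hu, rfl⟩ := ((listed_spec pListed).1 _).1 hx
  rcases h.2.2.1 u hu with he | he | ⟨g, hg, he⟩
  · exact Or.inl (wEq_sound he)
  · exact Or.inr (wEq_sound he)
  · refine absurd (wEq_complete ?_) he
    rw [pW_append, pW_append]
    exact hc _ (pW_mem_wordGroup hg)

theorem pGroup_inf_centralizer : wordGroup pGenW ⊓
    Subgroup.centralizer ((wordGroup qGenW : Subgroup J3P) : Set J3P) ≤ wordGroup qGenW := by
  have h := chkFusion_ok
  simp only [chkFusion, Bool.and_eq_true, List.all_eq_true, Bool.or_eq_true, Bool.not_eq_true',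
    List.all_eq_false] at h
  rintro x ⟨hx, hc⟩
  obtain ⟨u, hu, rfl⟩ := ((listed_spec pListed).1 _).1 hx
  rcases h.2.2.2.1 u hu with he | ⟨q, hq, he⟩
  · exact ((listed_spec qListed).1 _).2 (memT_iff.1 he)
  · refine absurd (wEq_complete ?_) he
    rw [pW_append, pW_append]
    exact Subgroup.mem_centralizer_iff.1 hc _ (pW_mem_wordGroup hq)

theorem centralizer_le_normalizer_q : Subgroup.centralizer ({tJ} : Set J3P) ≤
    Subgroup.normalizer ((wordGroup qGenW : Subgroup J3P) : Set J3P) := by
  intro g hg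
  have hn := normal_qC
  rw [Subgroup.mem_normalizer_iff]
  intro x
  constructor
  · intro hx
    exact hn.conj_mem ⟨x, q_le_centralizer hx⟩ hx ⟨g, hg⟩
  · intro hx
    have := hn.conj_mem ⟨g * x * g⁻¹, q_le_centralizer hx⟩ hx ⟨g⁻¹, inv_mem hg⟩
    have e : g⁻¹ * (g * x * g⁻¹) * g⁻¹⁻¹ = x := by group
    exact e ▸ (this : g⁻¹ * (g * x * g⁻¹) * g⁻¹⁻¹ ∈ wordGroup qGenW)

theorem orderOf_two_pow_of_sq {x : J3P} (h : x * x = 1) : ∃ k : ℕ, orderOf x = 2 ^ k := by
  obtain ⟨k, -, hk⟩ := (Nat.dvd_prime_pow Nat.prime_two).1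
    (orderOf_dvd_of_pow_eq_one (show x ^ 2 ^ 1 = 1 by rw [pow_one, pow_two, h]))
  exact ⟨k, hk⟩

/-- The centraliser of `tJ` is generated by 2-elements normalising the normal subgroup. -/
theorem centralizer_le_two : Subgroup.centralizer ({tJ} : Set J3P) ≤
    Subgroup.closure {y : J3P | y ∈ Subgroup.normalizer
      ((wordGroup qGenW : Subgroup J3P) : Set J3P) ∧ ∃ k : ℕ, orderOf y = 2 ^ k} := by
  set K := Subgroup.closure {y : J3P | y ∈ Subgroup.normalizer
      ((wordGroup qGenW : Subgroup J3P) : Set J3P) ∧ ∃ k : ℕ, orderOf y = 2 ^ k}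
  have hsub : ∀ y ∈ Subgroup.centralizer ({tJ} : Set J3P), (∃ k : ℕ, orderOf y = 2 ^ k) → y ∈ K :=
    fun y hy hk => Subgroup.subset_closure ⟨centralizer_le_normalizer_q hy, hk⟩
  have hq : wordGroup qGenW ≤ K := by
    intro x hx
    have hp : IsPGroup 2 (wordGroup qGenW) := by
      refine IsPGroup.of_card (n := 5) ?_
      rw [(listed_spec qListed).2]; decide +kernel
    obtain ⟨k, hk⟩ := hp ⟨x, hx⟩
    obtain ⟨j, -, hj⟩ := (Nat.dvd_prime_pow Nat.prime_two).1
      (orderOf_dvd_of_pow_eq_one (congrArg Subtype.val hk : x ^ 2 ^ k = 1))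
    exact hsub x (q_le_centralizer hx) ⟨j, hj⟩
  have ha : wordGroup aGenW ≤ K := by
    have h := chkFusion_ok
    simp only [chkFusion, Bool.and_eq_true] at h
    obtain ⟨h0, h56, h57, h1⟩ := h.2.2.2.2.2
    have hel : ∀ i, i < 60 → pW (aEltW.getD i []) ∈ Subgroup.centralizer ({tJ} : Set J3P) :=
      fun i hi => a_le_centralizer (((listed_spec aListed).1 _).2
        ⟨_, getD_mem _ _ _ (by
          have hl : aEltW.length = 60 := by decide +kernel
          omega), rfl⟩)
    have sq : ∀ w : List ℕ, wEq (w ++ w) [] = true → pW w * pW w = 1 := fun w hw => by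
      rw [← pW_append, ← pW_nil]; exact wEq_sound hw
    have hlen : aGenW.length = 2 := by decide +kernel
    refine (Subgroup.closure_le _).2 ?_
    rintro _ ⟨a, rfl⟩
    rcases (show (a : ℕ) = 0 ∨ (a : ℕ) = 1 by have := a.2; omega) with e | e
    · simp only [e]
      exact hsub _ (a_le_centralizer (pW_mem_wordGroup (getD_mem _ _ _ (by omega))))
        (orderOf_two_pow_of_sq (sq _ h0))
    · simp only [e]
      rw [← wEq_sound h1, pW_append]
      exact mul_mem (hsub _ (hel 56 (by norm_num)) (orderOf_two_pow_of_sq (sq _ h56)))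
        (hsub _ (hel 57 (by norm_num)) (orderOf_two_pow_of_sq (sq _ h57)))
  intro g hg
  have htop : qC ⊔ aC = ⊤ := isComplement_qC.sup_eq_top
  have hmap := congrArg (fun H => H.map (Subgroup.centralizer ({tJ} : Set J3P)).subtype) htop
  simp only [Subgroup.map_sup, qC, aC, Subgroup.subgroupOf_map_subtype,
    ← MonoidHom.range_eq_map, Subgroup.range_subtype] at hmap
  rw [← hmap] at hg
  exact sup_le (inf_le_left.trans hq) (inf_le_left.trans ha) hg

/-- The Sylow subgroup from the list. -/
noncomputable def pSylow : Sylow 2 J3P :=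
  haveI : Fact (Nat.Prime 2) := ⟨Nat.prime_two⟩
  (IsPGroup.of_card (n := 7) (show Nat.card (wordGroup pGenW) = 2 ^ 7 by
    rw [card_pGroup]; norm_num)).toSylow (by
    have := (wordGroup pGenW).card_mul_index
    rw [card_pGroup, card_J3P] at this
    omega)

theorem coe_pSylow : (pSylow : Subgroup J3P) = wordGroup pGenW := rfl

theorem closed_pGroup {T : Subgroup J3P} (hT : Closed (wordGroup pGenW) T) :
    T = ⊥ ∨ T = wordGroup pGenW := by
  haveI : Fact (Nat.Prime 2) := ⟨Nat.prime_two⟩
  by_cases hb : T = ⊥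
  · exact Or.inl hb
  right
  refine le_antisymm hT.1 ?_
  set U := wordGroup pGenW with hU
  have hnormal : (T.subgroupOf U).Normal := ⟨fun x hx g =>
    hT.2 x hx g ((g * x * g⁻¹ : U).2)⟩
  have hp : IsPGroup 2 U := IsPGroup.of_card (n := 7) (by rw [hU, card_pGroup]; norm_num)
  have hne : T.subgroupOf U ≠ ⊥ := fun e => hb (by
    rw [Subgroup.subgroupOf_eq_bot, disjoint_iff] at e
    rwa [inf_eq_left.2 hT.1] at e)
  haveI : Nontrivial (T.subgroupOf U) := (Subgroup.nontrivial_iff_ne_bot _).2 hne
  obtain ⟨z, hz, hz1⟩ := CfsgLib.BlocksCharsC.exists_mem_ne_one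
    (CfsgLib.BlocksCharsC.inf_center_ne_bot hp (T.subgroupOf U))
  have hzt : (z : J3P) = tJ := (center_pGroup z.2 fun y hy =>
    congrArg Subtype.val (Subgroup.mem_center_iff.1 hz.2 ⟨y, hy⟩)).resolve_left
      fun e => hz1 (Subtype.ext e)
  have htT : tJ ∈ T := hzt ▸ hz.1
  have hinv : ∀ x ∈ U, x * x = 1 → x ∈ T := by
    intro x hx hxx
    by_cases hx1 : x = 1
    · rw [hx1]; exact one_mem _
    obtain ⟨g, hg⟩ := isConj_iff.1 (isConj_tJ_of_orderOf
      (orderOf_eq_prime (by rw [pow_two, hxx]) hx1))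
    exact hg ▸ hT.2 tJ htT g (hg ▸ hx)
  have h := chkFusion_ok
  simp only [chkFusion, Bool.and_eq_true] at h
  have h5 := h.2.2.2.2.1
  have hprod : ∀ l : List ℕ, (∀ i ∈ l, pW (pEltW.getD i []) ∈ T) → pW (pProd l) ∈ T := by
    intro l
    induction l with
    | nil => exact fun _ => one_mem _
    | cons i l ih =>
      intro hl
      rw [pProd, pW_append]
      exact mul_mem (hl i List.mem_cons_self) (ih fun j hj => hl j (List.mem_cons_of_mem _ hj))
  refine (Subgroup.closure_le _).2 ?_
  rintro _ ⟨a, rfl⟩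
  have ha : (a : ℕ) < 6 := by
    have := a.2
    have hl : pGenW.length = 6 := by decide +kernel
    omega
  have := allLt_spec h5 a ha
  simp only [Bool.and_eq_true, List.all_eq_true] at this
  show pW (pGenW.getD (a : ℕ) []) ∈ T
  rw [← wEq_sound this.2]
  refine hprod _ fun i hi => ?_
  obtain ⟨hlt, -, he⟩ := this.1 i hi
  refine hinv _ (((listed_spec pListed).1 _).2 ⟨_, getD_mem _ _ _ ?_, rfl⟩) ?_
  · have hl : pEltW.length = 128 := by decide +kernel
    rw [hl]; exact Nat.le_of_ble_eq_true hlt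
  · rw [← pW_append, ← pW_nil]; exact wEq_sound he

theorem normalizer_pGroup_le :
    Subgroup.normalizer ((wordGroup pGenW : Subgroup J3P) : Set J3P) ≤
      Subgroup.closure (basicElts 2 (wordGroup pGenW)) := by
  intro g hg
  refine Subgroup.subset_closure ⟨hg, Or.inr (Or.inr ⟨wordGroup qGenW, qGroup_le_pGroup,
    pGroup_le_centralizer.trans centralizer_le_normalizer_q, pGroup_inf_centralizer, ?_⟩)⟩
  refine centralizer_le_two ?_
  have hmem : g * tJ * g⁻¹ ∈ wordGroup pGenW :=
    (Subgroup.mem_normalizer_iff.1 hg tJ).1 tJ_mem_pGroup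
  have hc : ∀ y ∈ wordGroup pGenW, y * (g * tJ * g⁻¹) = g * tJ * g⁻¹ * y := by
    intro y hy
    have hy' : g⁻¹ * y * g ∈ wordGroup pGenW := by
      refine (Subgroup.mem_normalizer_iff.1 hg _).2 ?_
      rwa [show g * (g⁻¹ * y * g) * g⁻¹ = y by group]
    have h1 := Subgroup.mem_centralizer_singleton_iff.1 (pGroup_le_centralizer hy')
    calc y * (g * tJ * g⁻¹) = g * (g⁻¹ * y * g * tJ) * g⁻¹ := by group
      _ = g * (tJ * (g⁻¹ * y * g)) * g⁻¹ := by rw [h1]
      _ = g * tJ * g⁻¹ * y := by group
  rw [Subgroup.mem_centralizer_singleton_iff]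
  rcases center_pGroup hmem hc with e | e
  · exfalso
    rw [conj_eq_one_iff] at e
    have := orderOf_tJ
    rw [e, orderOf_one] at this
    exact absurd this (by norm_num)
  · exact mul_inv_eq_iff_eq_mul.1 e

/-- The criterion for any copy of `J₃`. -/
theorem isSimple_fusion_J3 {G : Type*} [Group G] [Finite G] (e : G ≃* J3P) (S : Sylow 2 G) :
    (Cfsg.groupFusionSystem (S : Subgroup G)).IsSimple 2 := by
  haveI : Fact (Nat.Prime 2) := ⟨Nat.prime_two⟩
  let U : Sylow 2 G := pSylow.comapOfInjective e.toMonoidHom e.injective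
    fun x _ => ⟨e.symm x, e.apply_symm_apply x⟩
  have hU : (U : Subgroup G) = (wordGroup pGenW).map e.symm.toMonoidHom :=
    (Subgroup.map_equiv_eq_comap_symm e.symm (wordGroup pGenW)).symm
  refine isSimple_of_one_sylow U ?_ ?_ ?_ S
  · rw [hU]
    intro hbot
    have := card_pGroup
    rw [(Subgroup.map_eq_bot_iff_of_injective _ e.symm.injective).1 hbot, Subgroup.card_bot] at this
    exact absurd this (by norm_num)
  · intro T hT
    rw [hU] at hT ⊢
    have hmap : (T.comap e.symm.toMonoidHom).map e.symm.toMonoidHom = T :=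
      Subgroup.map_comap_eq_self_of_surjective e.symm.surjective T
    rcases closed_pGroup (closed_comap e.symm hT) with h | h
    · left; rw [← hmap, h, Subgroup.map_bot]
    · right; rw [← hmap, h]
  · intro g hg
    have hn : e g ∈ Subgroup.normalizer ((wordGroup pGenW : Subgroup J3P) : Set J3P) := by
      have h := mem_normalizer_map_equiv e hg
      rwa [hU, Subgroup.map_map, show e.toMonoidHom.comp e.symm.toMonoidHom = MonoidHom.id J3P from
        MonoidHom.ext fun x => e.apply_symm_apply x, Subgroup.map_id] at h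
    have := Subgroup.mem_map_of_mem e.symm.toMonoidHom (normalizer_pGroup_le hn)
    rw [MonoidHom.map_closure] at this
    have h2 : Subgroup.closure (e.symm.toMonoidHom '' basicElts 2 (wordGroup pGenW)) ≤
        Subgroup.closure (basicElts 2 (U : Subgroup G)) := by
      refine Subgroup.closure_mono ?_
      rintro _ ⟨y, hy, rfl⟩
      rw [hU]
      exact basicElts_map e.symm hy
    simpa using h2 this

end CfsgLib.J23
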