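import Cfsg.Agent.JankoTwoThree.J3CheckSmall

/-!
# The defining matrices of `3·J₃` and their packed forms
-/

set_option autoImplicit false

namespace CfsgLib.J23

open Cfsg.Spor CfsgLib.J1

/-- The bits of a power of `ω`. -/
def powCode (n : ZMod 3) : Bool × Bool :=
  if n = 0 then (true, false) else if n = 1 then (false, true) else (true, true)

/-- The bits of zero. -/
def zeroCode : Bool × Bool := (false, false)

/-- The bits of one. -/
def oneCode : Bool × Bool := (true, false)

/-- Bits of the entries of `A_Z`. -/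
def codeA (Z w z : F9) : Bool × Bool :=
  if w = z then powCode (Z.1 * w.1 + Z.2 * w.2) else zeroCode

/-- Bits of the entries of `E_Z`. -/
def codeE (Z w z : F9) : Bool × Bool :=
  if w = z then powCode ((Z.1 - w.1) ^ 2 + (Z.2 - w.2) ^ 2) else zeroCode

/-- Bits of `λ`. -/
def codeLam (Z z : F9) : Bool × Bool :=
  if z = 0 then oneCode
  else if F9.div Z z = F9.I - F9.one then powCode 1
  else if F9.div Z z = -F9.I - F9.one then powCode 2
  else oneCode

/-- Bits of the entries of `D_Z`. -/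
def codeD (Z w z : F9) : Bool × Bool := if w = z + Z then codeLam Z z else zeroCode

/-- Bits of the entries of `B_Z`. -/
def codeB (Z w z : F9) : Bool × Bool := if w = F9.mul Z z then oneCode else zeroCode

/-- Bits of the entries of `C_Z`. -/
def codeC (Z w z : F9) : Bool × Bool :=
  if z = 0 then (if w = 0 then oneCode else zeroCode)
  else if w = -F9.div Z z ∨ w = F9.mul F9.I (F9.div Z z) ∨ w = -F9.mul F9.I (F9.div Z z) then oneCode
  else zeroCode

/-- The bits of a packed matrix. -/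
def bitsOf (P : M9) (w z : F9) : Bool × Bool :=
  (P.a.testBit (9 * idx w + idx z), P.b.testBit (9 * idx w + idx z))

theorem genTab_A : ∀ Z w z : F9, bitsOf (genTab.get (idx Z)) w z = codeA Z w z := by decide +kernel

theorem genTab_E : ∀ Z w z : F9, bitsOf (genTab.get (9 + idx Z)) w z = codeE Z w z := by
  decide +kernel

theorem genTab_D : ∀ Z w z : F9, bitsOf (genTab.get (18 + idx Z)) w z = codeD Z w z := by
  decide +kernel

theorem genTab_B : ∀ Z w z : F9, Z ≠ 0 → bitsOf (genTab.get (26 + idx Z)) w z = codeB Z w z := by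
  decide +kernel

theorem genTab_C : ∀ Z w z : F9, Z ≠ 0 → bitsOf (genTab.get (34 + idx Z)) w z = codeC Z w z := by
  decide +kernel

section
variable {F : Type*} [Field F] {ω : F}

theorem charP_two [Fintype F] (hF : Fintype.card F = 4) : CharP F 2 :=
  charP_of_card_eq_prime_pow (f := 2) (by rw [hF]; norm_num)

variable [CharP F 2] (hω : ω ^ 2 + ω + 1 = 0)
include hω

theorem ev_powCode (n : ZMod 3) : ev ω (powCode n).1 (powCode n).2 = omegaPow F ω n := by
  obtain rfl | rfl | rfl : n = 0 ∨ n = 1 ∨ n = 2 := by revert n; decide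
  · simp [powCode, ev, omegaPow]
  · simp [powCode, ev, omegaPow, show (1 : ZMod 3).val = 1 from rfl]
  · simp [powCode, ev, omegaPow, pow_two, omega_sq hω, add_comm,
      show ¬ (2 : ZMod 3) = 0 by decide, show ¬ (2 : ZMod 3) = 1 by decide,
      show (2 : ZMod 3).val = 2 from rfl]

omit hω [CharP F 2] in
theorem dec_eq_of_bits {P : M9} {c : F9 → F9 → Bool × Bool} {M : Matrix F9 F9 F}
    (h : ∀ w z, bitsOf P w z = c w z) (hM : ∀ w z, ev ω (c w z).1 (c w z).2 = M w z) :
    dec ω P = M := by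
  ext w z
  rw [← hM w z, ← h w z]
  rfl

theorem dec_genTab_A (Z : F9) : dec ω (genTab.get (idx Z)) = j3A F ω Z :=
  dec_eq_of_bits (genTab_A Z) fun w z => by
    rw [j3A, Matrix.diagonal_apply, codeA]
    by_cases h : w = z
    · rw [if_pos h, if_pos h, ev_powCode hω]
    · simp [h, zeroCode, ev]

theorem dec_genTab_E (Z : F9) : dec ω (genTab.get (9 + idx Z)) = j3E F ω Z :=
  dec_eq_of_bits (genTab_E Z) fun w z => by
    rw [j3E, Matrix.diagonal_apply, codeE]
    by_cases h : w = z
    · rw [if_pos h, if_pos h, ev_powCode hω]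
    · simp [h, zeroCode, ev]

theorem dec_genTab_D (Z : F9) : dec ω (genTab.get (18 + idx Z)) = j3D F ω Z :=
  dec_eq_of_bits (genTab_D Z) fun w z => by
    rw [j3D, Matrix.of_apply, codeD]
    by_cases h : w = z + Z
    · rw [if_pos h, if_pos h, codeLam, j3Lam]
      split_ifs
      · simp [oneCode, ev]
      · rw [ev_powCode hω]; simp [omegaPow, show (1 : ZMod 3).val = 1 from rfl]
      · rw [ev_powCode hω]; simp [omegaPow, show (2 : ZMod 3).val = 2 from rfl]
      · simp [oneCode, ev]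
    · simp [h, zeroCode, ev]

omit hω [CharP F 2] in
theorem dec_genTab_B {Z : F9} (hZ : Z ≠ 0) : dec ω (genTab.get (26 + idx Z)) = j3B F Z :=
  dec_eq_of_bits (fun w z => genTab_B Z w z hZ) fun w z => by
    rw [j3B, Matrix.of_apply, codeB]
    split_ifs <;> simp [oneCode, zeroCode, ev]

omit hω [CharP F 2] in
theorem dec_genTab_C {Z : F9} (hZ : Z ≠ 0) : dec ω (genTab.get (34 + idx Z)) = j3C F Z :=
  dec_eq_of_bits (fun w z => genTab_C Z w z hZ) fun w z => by
    rw [j3C, Matrix.of_apply, codeC]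
    split_ifs <;> simp [oneCode, zeroCode, ev]

theorem exists_of_mem_j3Gens {M : Matrix F9 F9 F} (hM : M ∈ j3Gens F ω) :
    ∃ a < 43, M = dec ω (genTab.get a) := by
  rcases hM with (((⟨Z, rfl⟩ | ⟨Z, rfl⟩) | ⟨Z, rfl⟩) | ⟨Z, hZ, rfl⟩) | ⟨Z, hZ, rfl⟩
  · exact ⟨_, by have := idx_lt Z; omega, (dec_genTab_A hω Z).symm⟩
  · exact ⟨_, by have := idx_lt Z; omega, (dec_genTab_E hω Z).symm⟩
  · exact ⟨_, by have := idx_lt Z; omega, (dec_genTab_D hω Z).symm⟩
  · exact ⟨_, by have := idx_lt Z; omega, (dec_genTab_B hZ).symm⟩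
  · exact ⟨_, by have := idx_lt Z; omega, (dec_genTab_C hZ).symm⟩

theorem mem_j3Gens_D (r : ℕ) (hr : r < 9) : dec ω (genTab.get (18 + r)) ∈ j3Gens F ω := by
  refine Or.inl (Or.inl (Or.inr ⟨pt r, ?_⟩))
  rw [← dec_genTab_D hω, idx_pt r hr]

omit hω [CharP F 2] in
theorem mem_j3Gens_B (r : ℕ) (hr : r < 9) (h : pt r ≠ 0) :
    dec ω (genTab.get (26 + r)) ∈ j3Gens F ω := by
  refine Or.inl (Or.inr ⟨pt r, h, ?_⟩)
  rw [← dec_genTab_B h, idx_pt r hr]

omit hω [CharP F 2] in
theorem mem_j3Gens_C (r : ℕ) (hr : r < 9) (h : pt r ≠ 0) :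
    dec ω (genTab.get (34 + r)) ∈ j3Gens F ω := by
  refine Or.inr ⟨pt r, h, ?_⟩
  rw [← dec_genTab_C h, idx_pt r hr]

end

end CfsgLib.J23
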