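import Cfsg.Agent.JankoTwoThree.Level
import Cfsg.Agent.JankoTwoThree.J3Gens
import Cfsg.Agent.JankoTwoThree.J3CheckA0
import Cfsg.Agent.JankoTwoThree.J3CheckA1
import Cfsg.Agent.JankoTwoThree.J3CheckA2
import Cfsg.Agent.JankoTwoThree.J3CheckA3
import Cfsg.Agent.JankoTwoThree.J3CheckA4
import Cfsg.Agent.JankoTwoThree.J3CheckA5
import Cfsg.Agent.JankoTwoThree.J3CheckK0
import Cfsg.Agent.JankoTwoThree.J3CheckK1
import Cfsg.Agent.JankoTwoThree.J3CheckK2

/-!
# The order of `3·J₃`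

`threeJ3 F ω` has a subgroup `j3H` of order 24480 with transversal `tG` of size 6156.
-/

set_option autoImplicit false

namespace CfsgLib.J23

open Cfsg.Spor CfsgLib.J1

theorem allLt_chunk {f : ℕ → Bool} {o : ℕ} (h : allLt 513 (fun j => f (o + j)) = true) {i : ℕ}
    (h1 : o ≤ i) (h2 : i < o + 513) : f i = true := by
  have := allLt_spec h (i - o) (by omega)
  rwa [Nat.add_sub_cancel' h1] at this

attribute [local irreducible] chkE0 chkK0 chkP0

theorem e0Facts {e : ℕ} (he : e < 12312) : chkE0 e = true := by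
  obtain ⟨o, ho, h1, h2⟩ : ∃ o, (o / 513 < 24 ∧ o % 513 = 0) ∧ o ≤ e ∧ e < o + 513 :=
    ⟨e / 513 * 513, by omega, by omega, by omega⟩
  obtain ⟨c, rfl⟩ : ∃ c, o = 513 * c := ⟨o / 513, by omega⟩
  have hc : c < 24 := by omega
  interval_cases c
  · exact allLt_chunk (f := chkE0) (o := 0) chkE0_part0 h1 h2
  · exact allLt_chunk (f := chkE0) (o := 513) chkE0_part1 h1 h2
  · exact allLt_chunk (f := chkE0) (o := 1026) chkE0_part2 h1 h2
  · exact allLt_chunk (f := chkE0) (o := 1539) chkE0_part3 h1 h2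
  · exact allLt_chunk (f := chkE0) (o := 2052) chkE0_part4 h1 h2
  · exact allLt_chunk (f := chkE0) (o := 2565) chkE0_part5 h1 h2
  · exact allLt_chunk (f := chkE0) (o := 3078) chkE0_part6 h1 h2
  · exact allLt_chunk (f := chkE0) (o := 3591) chkE0_part7 h1 h2
  · exact allLt_chunk (f := chkE0) (o := 4104) chkE0_part8 h1 h2
  · exact allLt_chunk (f := chkE0) (o := 4617) chkE0_part9 h1 h2
  · exact allLt_chunk (f := chkE0) (o := 5130) chkE0_part10 h1 h2
  · exact allLt_chunk (f := chkE0) (o := 5643) chkE0_part11 h1 h2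
  · exact allLt_chunk (f := chkE0) (o := 6156) chkE0_part12 h1 h2
  · exact allLt_chunk (f := chkE0) (o := 6669) chkE0_part13 h1 h2
  · exact allLt_chunk (f := chkE0) (o := 7182) chkE0_part14 h1 h2
  · exact allLt_chunk (f := chkE0) (o := 7695) chkE0_part15 h1 h2
  · exact allLt_chunk (f := chkE0) (o := 8208) chkE0_part16 h1 h2
  · exact allLt_chunk (f := chkE0) (o := 8721) chkE0_part17 h1 h2
  · exact allLt_chunk (f := chkE0) (o := 9234) chkE0_part18 h1 h2
  · exact allLt_chunk (f := chkE0) (o := 9747) chkE0_part19 h1 h2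
  · exact allLt_chunk (f := chkE0) (o := 10260) chkE0_part20 h1 h2
  · exact allLt_chunk (f := chkE0) (o := 10773) chkE0_part21 h1 h2
  · exact allLt_chunk (f := chkE0) (o := 11286) chkE0_part22 h1 h2
  · exact allLt_chunk (f := chkE0) (o := 11799) chkE0_part23 h1 h2

theorem k0Facts {i : ℕ} (hi : i < 6156) : chkK0 i = true ∧ chkP0 i = true := by
  suffices h : (fun i => chkK0 i && chkP0 i) i = true by exact Bool.and_eq_true_iff.mp h
  obtain ⟨o, ho, h1, h2⟩ : ∃ o, (o / 513 < 12 ∧ o % 513 = 0) ∧ o ≤ i ∧ i < o + 513 :=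
    ⟨i / 513 * 513, by omega, by omega, by omega⟩
  obtain ⟨c, rfl⟩ : ∃ c, o = 513 * c := ⟨o / 513, by omega⟩
  have hc : c < 12 := by omega
  interval_cases c
  · exact allLt_chunk (f := fun i => chkK0 i && chkP0 i) (o := 0) chkK0_part0 h1 h2
  · exact allLt_chunk (f := fun i => chkK0 i && chkP0 i) (o := 513) chkK0_part1 h1 h2
  · exact allLt_chunk (f := fun i => chkK0 i && chkP0 i) (o := 1026) chkK0_part2 h1 h2
  · exact allLt_chunk (f := fun i => chkK0 i && chkP0 i) (o := 1539) chkK0_part3 h1 h2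
  · exact allLt_chunk (f := fun i => chkK0 i && chkP0 i) (o := 2052) chkK0_part4 h1 h2
  · exact allLt_chunk (f := fun i => chkK0 i && chkP0 i) (o := 2565) chkK0_part5 h1 h2
  · exact allLt_chunk (f := fun i => chkK0 i && chkP0 i) (o := 3078) chkK0_part6 h1 h2
  · exact allLt_chunk (f := fun i => chkK0 i && chkP0 i) (o := 3591) chkK0_part7 h1 h2
  · exact allLt_chunk (f := fun i => chkK0 i && chkP0 i) (o := 4104) chkK0_part8 h1 h2
  · exact allLt_chunk (f := fun i => chkK0 i && chkP0 i) (o := 4617) chkK0_part9 h1 h2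
  · exact allLt_chunk (f := fun i => chkK0 i && chkP0 i) (o := 5130) chkK0_part10 h1 h2
  · exact allLt_chunk (f := fun i => chkK0 i && chkP0 i) (o := 5643) chkK0_part11 h1 h2

theorem lt_of_blt {a b : ℕ} (h : Nat.blt a b = true) : a < b := Nat.le_of_ble_eq_true h

/-- Everything `chkMisc` says. -/
theorem miscFacts : t0Tab.get 0 = mOne ∧ t1Tab.get 0 = mOne ∧ kTab.get 0 = mOne ∧
    mul (genTab.get 21) (genTab.get 30) = s0Tab.get 0 ∧ genTab.get 37 = s0Tab.get 1 ∧
    (∀ a : Fin 2, hgEdge.get a < 12312 ∧ kgEdge.get a < 170 ∧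
      hElt (e0Tab.get (hgEdge.get a) % 24480) = s1Tab.get a ∧
      kTab.get (e1Tab.get (kgEdge.get a) % 288) = s2Tab.get a ∧
      chkIn 4 wPiv wBlock (mul (s1Tab.get a) wBlock) = true ∧
      chkIn 1 vPiv vBlock (mul (s2Tab.get a) vBlock) = true) ∧
    chkEch 4 wPiv wBlock = true ∧ chkEch 1 vPiv vBlock = true := by
  have h := chkMisc_ok
  simp only [chkMisc, Bool.and_eq_true] at h
  obtain ⟨⟨⟨⟨⟨⟨⟨⟨⟨⟨⟨⟨⟨⟨h1, h2⟩, h3⟩, h4⟩, h5⟩, h6, h7⟩, h8, h9⟩, h10⟩, h11⟩, h12⟩, h13⟩, h14⟩,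
    h15⟩, h16, h17⟩, h18, h19⟩ := h
  refine ⟨eq_of_eqb h1, eq_of_eqb h2, eq_of_eqb h3, eq_of_eqb h4, eq_of_eqb h5, fun a => ?_, h14, h15⟩
  match a with
  | 0 => exact ⟨lt_of_blt h6, lt_of_blt h8, eq_of_eqb h10, eq_of_eqb h12, h16, h18⟩
  | 1 => exact ⟨lt_of_blt h7, lt_of_blt h9, eq_of_eqb h11, eq_of_eqb h13, h17, h19⟩

variable {F : Type*} [Field F] (ω : F)

/-- `P` encodes `g`. -/
def Rep (P : M9) (g : Matrix.GeneralLinearGroup F9 F) : Prop := (g : Matrix F9 F9 F) = dec ω P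

variable {ω}

theorem Rep.unique {P : M9} {g h : Matrix.GeneralLinearGroup F9 F} (hg : Rep ω P g) (hh : Rep ω P h) :
    g = h := Units.ext (hg.trans hh.symm)

variable [CharP F 2]

theorem Rep.mul (hω : ω ^ 2 + ω + 1 = 0) {P Q : M9} {g h : Matrix.GeneralLinearGroup F9 F}
    (hg : Rep ω P g) (hh : Rep ω Q h) : Rep ω (J23.mul P Q) (g * h) := by
  rw [Rep] at *; rw [Units.val_mul, hg, hh, dec_mul hω]

omit [CharP F 2] in
theorem rep_one : Rep ω mOne 1 := by rw [Rep, dec_mOne]; rfl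

variable (hω : ω ^ 2 + ω + 1 = 0)
include hω

/-- The span attached to a block, moved by `g`. -/
theorem Rep.map_span {k pw pc : ℕ} {W B P : M9} {g : Matrix.GeneralLinearGroup F9 F} (hg : Rep ω P g)
    (hW : chkEch k pw W = true) (hB : chkEch k pc B = true)
    (hin : chkIn k pc B (J23.mul P W) = true) :
    (colSpan ω k W).map (g : Matrix F9 F9 F).mulVecLin = colSpan ω k B :=
  map_colSpan_eq ω hω hW hB hin hg

theorem genInv_spec {a : ℕ} (ha : a < 43) :
    dec ω (genTab.get a) * dec ω (genInvTab.get a) = 1 ∧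
      dec ω (genInvTab.get a) * dec ω (genTab.get a) = 1 := by
  have h := allLt_spec chkW_all a ha
  simp only [chkW, Bool.and_eq_true] at h
  exact ⟨by rw [← dec_mul hω, eq_of_eqb h.1.1.2, dec_mOne],
    by rw [← dec_mul hω, eq_of_eqb h.1.2, dec_mOne]⟩

/-- A generator of the definition, as a unit. -/
def genU (a : Fin 43) : Matrix.GeneralLinearGroup F9 F :=
  ⟨dec ω (genTab.get a), dec ω (genInvTab.get a), (genInv_spec hω a.2).1, (genInv_spec hω a.2).2⟩

omit [CharP F 2] hω in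
theorem rep_genU [CharP F 2] (hω : ω ^ 2 + ω + 1 = 0) (a : Fin 43) :
    Rep ω (genTab.get a) (genU hω a) := rfl

/-- The two generators. -/
def sG : Fin 2 → Matrix.GeneralLinearGroup F9 F := ![genU hω 21 * genU hω 30, genU hω 37]

theorem rep_sG : ∀ a : Fin 2, Rep ω (s0Tab.get a) (sG hω a)
  | 0 => by
    rw [Rep, show ((0 : Fin 2) : ℕ) = 0 from rfl, ← miscFacts.2.2.2.1, dec_mul hω]
    rfl
  | 1 => by
    rw [Rep, show ((1 : Fin 2) : ℕ) = 1 from rfl, ← miscFacts.2.2.2.2.1]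
    rfl

theorem sG_mem (a : Fin 2) : sG hω a ∈ threeJ3 F ω := by
  have hD : genU hω 21 ∈ threeJ3 F ω :=
    Subgroup.subset_closure (mem_j3Gens_D hω 3 (by norm_num))
  have hB : genU hω 30 ∈ threeJ3 F ω :=
    Subgroup.subset_closure (mem_j3Gens_B 4 (by norm_num) (by decide +kernel))
  have hC : genU hω 37 ∈ threeJ3 F ω :=
    Subgroup.subset_closure (mem_j3Gens_C 3 (by norm_num) (by decide +kernel))
  match a with
  | 0 => exact mul_mem hD hB
  | 1 => exact hC

/-- The group generated by the two generators. -/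
def genGroup : Subgroup (Matrix.GeneralLinearGroup F9 F) := Subgroup.closure (Set.range (sG hω))

theorem exists_t0 : ∀ i, i < 6156 → ∃ g ∈ genGroup hω, Rep ω (t0Tab.get i) g := by
  intro i
  induction i using Nat.strong_induction_on with
  | _ i ih =>
    intro hi
    have hP := (k0Facts hi).2
    simp only [chkP0, Bool.or_eq_true, Bool.and_eq_true] at hP
    rcases hP with h0 | ⟨hlt, hc⟩
    · rw [Nat.eq_of_beq_eq_true h0, miscFacts.1]; exact ⟨1, one_mem _, rep_one⟩
    · set e := par0Tab.get i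
      have hlt' : e / 2 < i := lt_of_blt hlt
      have he := e0Facts (e := e) (by omega)
      simp only [chkE0, Bool.and_eq_true] at he
      rw [Nat.eq_of_beq_eq_true hc, show 24480 * i / 24480 = i by omega,
        show 24480 * i % 24480 = 0 by omega] at he
      obtain ⟨g, hg, hgR⟩ := ih (e / 2) hlt' (by omega)
      refine ⟨sG hω ⟨e % 2, Nat.mod_lt _ (by norm_num)⟩ * g,
        mul_mem (Subgroup.subset_closure ⟨_, rfl⟩) hg, ?_⟩
      rw [← eq_of_eqb (show eqb _ _ = true from he.2)]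
      exact (rep_sG hω ⟨e % 2, _⟩).mul hω hgR

/-- The coset representative. -/
noncomputable def tG (i : Fin 6156) : Matrix.GeneralLinearGroup F9 F := (exists_t0 hω i i.2).choose

theorem rep_tG (i : Fin 6156) : Rep ω (t0Tab.get i) (tG hω i) :=
  (exists_t0 hω i i.2).choose_spec.2

theorem tG_mem (i : Fin 6156) : tG hω i ∈ genGroup hω := (exists_t0 hω i i.2).choose_spec.1

/-- The element attached to an edge. -/
noncomputable def edgeElt (e : Fin 12312) : Matrix.GeneralLinearGroup F9 F :=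
  (tG hω ⟨e0Tab.get e / 24480, by
    have he := e0Facts e.2
    simp only [chkE0, Bool.and_eq_true] at he
    exact lt_of_blt he.1⟩)⁻¹ *
    (sG hω ⟨e % 2, Nat.mod_lt _ (by norm_num)⟩ * tG hω ⟨e / 2, by omega⟩)

theorem rep_edgeElt (e : Fin 12312) : Rep ω (hElt (e0Tab.get e % 24480)) (edgeElt hω e) := by
  have he := e0Facts e.2
  simp only [chkE0, Bool.and_eq_true] at he
  have hlt : e0Tab.get e / 24480 < 6156 := lt_of_blt he.1
  have hl := (rep_sG hω ⟨(e : ℕ) % 2, Nat.mod_lt _ (by norm_num)⟩).mul hω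
    (rep_tG hω ⟨(e : ℕ) / 2, by omega⟩)
  have key : dec ω (t0Tab.get (e0Tab.get e / 24480)) * dec ω (hElt (e0Tab.get e % 24480)) =
      dec ω (J23.mul (s0Tab.get ((e : ℕ) % 2)) (t0Tab.get ((e : ℕ) / 2))) := by
    cases hb : Nat.beq (e0Tab.get (e : ℕ) % 24480) 0
    · rw [hb, cond_false] at he
      rw [← dec_mul hω, eq_of_eqb he.2]
    · rw [hb, cond_true] at he
      rw [hElt, hb, cond_true, dec_mOne, mul_one, eq_of_eqb he.2]
  rw [Rep, edgeElt, Units.val_mul, show ((sG hω _ * tG hω _ :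
    Matrix.GeneralLinearGroup F9 F) : Matrix F9 F9 F) = _ from hl, ← key,
    ← show (tG hω ⟨e0Tab.get e / 24480, hlt⟩ : Matrix F9 F9 F) = _ from rep_tG hω ⟨_, hlt⟩,
    ← mul_assoc, Units.inv_mul, one_mul]

theorem edgeElt_mem (e : Fin 12312) : edgeElt hω e ∈ genGroup hω :=
  mul_mem (inv_mem (tG_mem hω _)) (mul_mem (Subgroup.subset_closure ⟨_, rfl⟩) (tG_mem hω _))

/-- Generators of the subgroup of order 24480. -/
noncomputable def hGen (a : Fin 2) : Matrix.GeneralLinearGroup F9 F :=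
  edgeElt hω ⟨hgEdge.get a, (miscFacts.2.2.2.2.2.1 a).1⟩

theorem rep_hGen (a : Fin 2) : Rep ω (s1Tab.get a) (hGen hω a) := by
  rw [← (miscFacts.2.2.2.2.2.1 a).2.2.1]; exact rep_edgeElt hω _

/-- The subgroup of order 24480 and index 6156, a triple cover of `L₂(16):2`. -/
noncomputable def j3H : Subgroup (Matrix.GeneralLinearGroup F9 F) :=
  Subgroup.closure (Set.range (hGen hω))

theorem j3H_le : j3H hω ≤ genGroup hω := (Subgroup.closure_le _).2 (by
  rintro _ ⟨a, rfl⟩; exact edgeElt_mem hω _)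

theorem exists_t1 : ∀ i, i < 85 → ∃ g ∈ j3H hω, Rep ω (t1Tab.get i) g := by
  intro i
  induction i using Nat.strong_induction_on with
  | _ i ih =>
    intro hi
    have hP := allLt_spec chkI1_all i hi
    simp only [chkI1, Bool.or_eq_true, Bool.and_eq_true] at hP
    rcases hP.1 with h0 | ⟨hlt, hc⟩
    · rw [Nat.eq_of_beq_eq_true h0, miscFacts.2.1]; exact ⟨1, one_mem _, rep_one⟩
    · set e := par1Tab.get i
      have hlt' : e / 2 < i := lt_of_blt hlt
      have he := allLt_spec chkE1_all e (by omega)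
      simp only [chkE1, Bool.and_eq_true] at he
      rw [Nat.eq_of_beq_eq_true hc, show 288 * i / 288 = i by omega,
        show 288 * i % 288 = 0 by omega] at he
      obtain ⟨g, hg, hgR⟩ := ih (e / 2) hlt' (by omega)
      refine ⟨hGen hω ⟨e % 2, Nat.mod_lt _ (by norm_num)⟩ * g,
        mul_mem (Subgroup.subset_closure ⟨_, rfl⟩) hg, ?_⟩
      rw [← eq_of_eqb (show eqb _ _ = true from he.2)]
      exact (rep_hGen hω ⟨e % 2, _⟩).mul hω hgR

/-- The representative inside `j3H`. -/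
noncomputable def uG (i : Fin 85) : Matrix.GeneralLinearGroup F9 F := (exists_t1 hω i i.2).choose

theorem rep_uG (i : Fin 85) : Rep ω (t1Tab.get i) (uG hω i) :=
  (exists_t1 hω i i.2).choose_spec.2

theorem uG_mem (i : Fin 85) : uG hω i ∈ j3H hω := (exists_t1 hω i i.2).choose_spec.1

/-- The element attached to an edge inside `j3H`. -/
noncomputable def edgeElt1 (e : Fin 170) : Matrix.GeneralLinearGroup F9 F :=
  (uG hω ⟨e1Tab.get e / 288, by
    have he := allLt_spec chkE1_all e e.2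
    simp only [chkE1, Bool.and_eq_true] at he
    exact lt_of_blt he.1⟩)⁻¹ *
    (hGen hω ⟨e % 2, Nat.mod_lt _ (by norm_num)⟩ * uG hω ⟨e / 2, by omega⟩)

theorem rep_edgeElt1 (e : Fin 170) : Rep ω (kTab.get (e1Tab.get e % 288)) (edgeElt1 hω e) := by
  have he := allLt_spec chkE1_all e e.2
  simp only [chkE1, Bool.and_eq_true] at he
  have hlt : e1Tab.get e / 288 < 85 := lt_of_blt he.1
  have hl := (rep_hGen hω ⟨(e : ℕ) % 2, Nat.mod_lt _ (by norm_num)⟩).mul hω
    (rep_uG hω ⟨(e : ℕ) / 2, by omega⟩)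
  have key : dec ω (t1Tab.get (e1Tab.get e / 288)) * dec ω (kTab.get (e1Tab.get e % 288)) =
      dec ω (J23.mul (s1Tab.get ((e : ℕ) % 2)) (t1Tab.get ((e : ℕ) / 2))) := by
    cases hb : Nat.beq (e1Tab.get (e : ℕ) % 288) 0
    · rw [hb, cond_false] at he
      rw [← dec_mul hω, eq_of_eqb he.2]
    · rw [hb, cond_true] at he
      rw [Nat.eq_of_beq_eq_true hb, miscFacts.2.2.1, dec_mOne, mul_one, eq_of_eqb he.2]
  rw [Rep, edgeElt1, Units.val_mul, show ((hGen hω _ * uG hω _ :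
    Matrix.GeneralLinearGroup F9 F) : Matrix F9 F9 F) = _ from hl, ← key,
    ← show (uG hω ⟨e1Tab.get e / 288, hlt⟩ : Matrix F9 F9 F) = _ from rep_uG hω ⟨_, hlt⟩,
    ← mul_assoc, Units.inv_mul, one_mul]

theorem edgeElt1_mem (e : Fin 170) : edgeElt1 hω e ∈ j3H hω :=
  mul_mem (inv_mem (uG_mem hω _)) (mul_mem (Subgroup.subset_closure ⟨_, rfl⟩) (uG_mem hω _))

/-- Generators of the bottom group. -/
noncomputable def kGen (a : Fin 2) : Matrix.GeneralLinearGroup F9 F :=
  edgeElt1 hω ⟨kgEdge.get a, (miscFacts.2.2.2.2.2.1 a).2.1⟩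

theorem rep_kGen (a : Fin 2) : Rep ω (s2Tab.get a) (kGen hω a) := by
  rw [← (miscFacts.2.2.2.2.2.1 a).2.2.2.1]; exact rep_edgeElt1 hω _

/-- The bottom group, of order 288. -/
noncomputable def j3K : Subgroup (Matrix.GeneralLinearGroup F9 F) :=
  Subgroup.closure (Set.range (kGen hω))

theorem j3K_le : j3K hω ≤ j3H hω := (Subgroup.closure_le _).2 (by
  rintro _ ⟨a, rfl⟩; exact edgeElt1_mem hω _)

theorem exists_t2 : ∀ i, i < 288 → ∃ g ∈ j3K hω, Rep ω (kTab.get i) g ∧ WF (kTab.get i) := by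
  intro i
  induction i using Nat.strong_induction_on with
  | _ i ih =>
    intro hi
    have hP := allLt_spec chkI2_all i hi
    simp only [chkI2, Bool.or_eq_true, Bool.and_eq_true] at hP
    rcases hP.1 with h0 | ⟨hlt, hc⟩
    · rw [Nat.eq_of_beq_eq_true h0, miscFacts.2.2.1]; exact ⟨1, one_mem _, rep_one, wf_mOne⟩
    · set e := par2Tab.get i
      have hlt' : e / 2 < i := lt_of_blt hlt
      have he := allLt_spec chkE2_all e (by omega)
      simp only [chkE2, Bool.and_eq_true] at he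
      rw [Nat.eq_of_beq_eq_true hc] at he
      obtain ⟨g, hg, hgR, -⟩ := ih (e / 2) hlt' (by omega)
      refine ⟨kGen hω ⟨e % 2, Nat.mod_lt _ (by norm_num)⟩ * g,
        mul_mem (Subgroup.subset_closure ⟨_, rfl⟩) hg, ?_⟩
      rw [← eq_of_eqb he.2]
      exact ⟨(rep_kGen hω ⟨e % 2, _⟩).mul hω hgR, wf_mul _ _⟩

/-- An element of the bottom group. -/
noncomputable def kG (i : Fin 288) : Matrix.GeneralLinearGroup F9 F := (exists_t2 hω i i.2).choose

theorem rep_kG (i : Fin 288) : Rep ω (kTab.get i) (kG hω i) :=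
  (exists_t2 hω i i.2).choose_spec.2.1

theorem kG_mem (i : Fin 288) : kG hω i ∈ j3K hω := (exists_t2 hω i i.2).choose_spec.1

theorem kG_zero : kG hω 0 = 1 :=
  (rep_kG hω 0).unique (by rw [show ((0 : Fin 288) : ℕ) = 0 from rfl, miscFacts.2.2.1]; exact rep_one)

theorem uG_zero : uG hω 0 = 1 :=
  (rep_uG hω 0).unique (by rw [show ((0 : Fin 85) : ℕ) = 0 from rfl, miscFacts.2.1]; exact rep_one)

theorem tG_zero : tG hω 0 = 1 :=
  (rep_tG hω 0).unique (by rw [show ((0 : Fin 6156) : ℕ) = 0 from rfl, miscFacts.1]; exact rep_one)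

theorem kG_injective : Function.Injective (kG hω) := by
  intro i j e
  have h : kTab.get (i : ℕ) = kTab.get (j : ℕ) := dec_inj hω (exists_t2 hω i i.2).choose_spec.2.2
    (exists_t2 hω j j.2).choose_spec.2.2 (by rw [← rep_kG hω i, ← rep_kG hω j, e])
  have hi := allLt_spec chkI2_all i i.2
  have hj := allLt_spec chkI2_all j j.2
  simp only [chkI2, Bool.and_eq_true] at hi hj
  exact Fin.ext (by rw [← Nat.eq_of_beq_eq_true hi.2, h, Nat.eq_of_beq_eq_true hj.2])

theorem j3K_spec : (∀ g ∈ j3K hω, ∃ i, g = kG hω i) ∧ Nat.card (j3K hω) = 288 := by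
  have h := level_spec (kGen hω) (kG hω) ⊥ id bot_le (kG_mem hω) ⟨0, kG_zero hω⟩
    (fun a i => by
      have he := allLt_spec chkE2_all (2 * (i : ℕ) + a) (by omega)
      simp only [chkE2, Bool.and_eq_true] at he
      rw [show (2 * (i : ℕ) + a) % 2 = a by omega, show (2 * (i : ℕ) + a) / 2 = (i : ℕ) by omega] at he
      refine ⟨⟨_, lt_of_blt he.1⟩, 1, one_mem _, ?_⟩
      refine Eq.trans ?_ (mul_one _).symm
      have hj := rep_kG hω ⟨_, lt_of_blt he.1⟩
      have hai : Rep ω (J23.mul (s2Tab.get (a : ℕ)) (kTab.get (i : ℕ))) (kGen hω a * kG hω i) :=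
        (rep_kGen hω a).mul hω (rep_kG hω i)
      rw [eq_of_eqb he.2] at hai
      exact hai.unique hj)
    (fun g h hh => by rw [Subgroup.mem_bot.1 hh, mul_one]) (kG_injective hω)
  refine ⟨fun g hg => ?_, h.2.trans (by simp)⟩
  obtain ⟨i, k, hk, rfl⟩ := h.1 g hg
  exact ⟨i, by rw [Subgroup.mem_bot.1 hk, mul_one]⟩

omit hω [CharP F 2] in
theorem map_mulVecLin_mul (S : Submodule F (F9 → F)) (g h : Matrix.GeneralLinearGroup F9 F) :
    S.map ((g * h : Matrix.GeneralLinearGroup F9 F) : Matrix F9 F9 F).mulVecLin =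
      (S.map (h : Matrix F9 F9 F).mulVecLin).map (g : Matrix F9 F9 F).mulVecLin := by
  rw [Units.val_mul, Matrix.mulVecLin_mul, Submodule.map_comp]

omit hω [CharP F 2] in
theorem map_eq_self_of_mem_closure {ι : Type*} {f : ι → Matrix.GeneralLinearGroup F9 F}
    {S : Submodule F (F9 → F)} (hf : ∀ a, S.map (f a : Matrix F9 F9 F).mulVecLin = S)
    {g : Matrix.GeneralLinearGroup F9 F} (hg : g ∈ Subgroup.closure (Set.range f)) :
    S.map (g : Matrix F9 F9 F).mulVecLin = S := by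
  have h1 : S.map ((1 : Matrix.GeneralLinearGroup F9 F) : Matrix F9 F9 F).mulVecLin = S := by
    simp
  induction hg using Subgroup.closure_induction with
  | mem x hx => obtain ⟨a, rfl⟩ := hx; exact hf a
  | one => exact h1
  | mul x y _ _ hx hy => rw [map_mulVecLin_mul, hy, hx]
  | inv x _ hx =>
    conv_lhs => rw [← hx]
    rw [← map_mulVecLin_mul, inv_mul_cancel, h1]

theorem j3H_spec : (∀ g ∈ j3H hω, ∃ u k, g = uG hω u * kG hω k) ∧ Nat.card (j3H hω) = 24480 := by
  set key := fun g : Matrix.GeneralLinearGroup F9 F =>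
    (colSpan ω 1 vBlock).map (g : Matrix F9 F9 F).mulVecLin
  have hinv : ∀ g, ∀ h ∈ j3K hω, key (g * h) = key g := fun g h hh => by
    simp only [key, map_mulVecLin_mul]
    rw [map_eq_self_of_mem_closure (fun a => (rep_kGen hω a).map_span hω miscFacts.2.2.2.2.2.2.2
      miscFacts.2.2.2.2.2.2.2 (miscFacts.2.2.2.2.2.1 a).2.2.2.2.2) hh]
  have hspan : ∀ i : Fin 85, key (uG hω i) = colSpan ω 1 (key1Tab.get i).1 := fun i => by
    have hP := allLt_spec chkI1_all i i.2
    simp only [chkI1, Bool.and_eq_true] at hP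
    exact (rep_uG hω i).map_span hω miscFacts.2.2.2.2.2.2.2 hP.2.1.1 hP.2.1.2
  have hinj : Function.Injective (key ∘ uG hω) := by
    intro i j e
    simp only [Function.comp_apply, hspan] at e
    have hi := allLt_spec chkI1_all i i.2
    have hj := allLt_spec chkI1_all j j.2
    simp only [chkI1, Bool.and_eq_true] at hi hj
    have := block_eq ω hω hi.2.1.1 hj.2.1.1 e
    exact Fin.ext (by rw [← Nat.eq_of_beq_eq_true hi.2.2, this, Nat.eq_of_beq_eq_true hj.2.2])
  have h := level_spec (hGen hω) (uG hω) (j3K hω) key (j3K_le hω) (uG_mem hω) ⟨0, uG_zero hω⟩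
    (fun a i => by
      have hlt : 2 * (i : ℕ) + a < 170 := by omega
      have he := allLt_spec chkE1_all _ hlt
      simp only [chkE1, Bool.and_eq_true] at he
      refine ⟨⟨_, lt_of_blt he.1⟩, edgeElt1 hω ⟨_, hlt⟩, ?_, ?_⟩
      · rw [(rep_edgeElt1 hω ⟨_, hlt⟩).unique (rep_kG hω ⟨_, Nat.mod_lt _ (by norm_num)⟩)]
        exact kG_mem hω _
      · simp only [edgeElt1, show (2 * (i : ℕ) + a) % 2 = a by omega,
          show (2 * (i : ℕ) + a) / 2 = (i : ℕ) by omega, mul_inv_cancel_left])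
    hinv hinj
  refine ⟨fun g hg => ?_, h.2.trans (by rw [(j3K_spec hω).2])⟩
  obtain ⟨i, k, hk, rfl⟩ := h.1 g hg
  obtain ⟨l, rfl⟩ := (j3K_spec hω).1 k hk
  exact ⟨i, l, rfl⟩

theorem rep_hElt {c : ℕ} (hc : c < 24480) :
    Rep ω (hElt c) (uG hω ⟨c / 288, by omega⟩ * kG hω ⟨c % 288, Nat.mod_lt _ (by norm_num)⟩) := by
  cases hb : Nat.beq c 0
  · rw [hElt, hb, cond_false]
    exact (rep_uG hω ⟨c / 288, by omega⟩).mul hω (rep_kG hω ⟨c % 288, Nat.mod_lt _ (by norm_num)⟩)
  · have h0 := Nat.eq_of_beq_eq_true hb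
    subst h0
    rw [hElt, hb, cond_true, show uG hω ⟨0 / 288, _⟩ = 1 from uG_zero hω,
      show kG hω ⟨0 % 288, _⟩ = 1 from kG_zero hω, mul_one]
    exact rep_one

theorem genGroup_eq : genGroup hω = threeJ3 F ω := by
  refine le_antisymm ((Subgroup.closure_le _).2 (by rintro _ ⟨a, rfl⟩; exact sG_mem hω a)) ?_
  rw [threeJ3, Subgroup.closure_le]
  intro g hg
  obtain ⟨a, ha, hga⟩ := exists_of_mem_j3Gens hω hg
  have h := allLt_spec chkW_all a ha
  simp only [chkW, Bool.and_eq_true] at h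
  have hlt : genWord.get a / 24480 < 6156 := lt_of_blt h.1.1.1.1
  have hR := (rep_tG hω ⟨_, hlt⟩).mul hω (rep_hElt hω (Nat.mod_lt (genWord.get a) (by norm_num : 24480 > 0)))
  rw [eq_of_eqb h.2] at hR
  rw [show g = _ from Rep.unique (P := genTab.get a) hga hR]
  exact mul_mem (tG_mem hω _) (j3H_le hω (mul_mem (uG_mem hω _) (j3K_le hω (kG_mem hω _))))

/-- The key separating the cosets of `j3H`. -/
noncomputable def key0 (g : Matrix.GeneralLinearGroup F9 F) : Submodule F (F9 → F) :=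
  (colSpan ω 4 wBlock).map (g : Matrix F9 F9 F).mulVecLin

theorem key0_mul_of_mem (g : Matrix.GeneralLinearGroup F9 F) {h : Matrix.GeneralLinearGroup F9 F}
    (hh : h ∈ j3H hω) : key0 (ω := ω) (g * h) = key0 (ω := ω) g := by
  simp only [key0, map_mulVecLin_mul]
  rw [map_eq_self_of_mem_closure (fun a => (rep_hGen hω a).map_span hω miscFacts.2.2.2.2.2.2.1
    miscFacts.2.2.2.2.2.2.1 (miscFacts.2.2.2.2.2.1 a).2.2.2.2.1) hh]

theorem key0_injective : Function.Injective (key0 (ω := ω) ∘ tG hω) := by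
  have hspan : ∀ i : Fin 6156, key0 (ω := ω) (tG hω i) = colSpan ω 4 (key0Tab.get i).1 := fun i => by
    have hP := (k0Facts i.2).1
    simp only [chkK0, Bool.and_eq_true] at hP
    exact (rep_tG hω i).map_span hω miscFacts.2.2.2.2.2.2.1 hP.1.1 hP.1.2
  intro i j e
  simp only [Function.comp_apply, hspan] at e
  have hi := (k0Facts i.2).1
  have hj := (k0Facts j.2).1
  simp only [chkK0, Bool.and_eq_true] at hi hj
  have := block_eq ω hω hi.1.1 hj.1.1 e
  exact Fin.ext (by rw [← Nat.eq_of_beq_eq_true hi.2, this, Nat.eq_of_beq_eq_true hj.2])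

theorem threeJ3_spec : (∀ g ∈ threeJ3 F ω, ∃ i, ∃ h ∈ j3H hω, g = tG hω i * h) ∧
    Nat.card (threeJ3 F ω) = 150698880 := by
  have h := level_spec (sG hω) (tG hω) (j3H hω) (key0 (ω := ω)) (j3H_le hω) (tG_mem hω) ⟨0, tG_zero hω⟩
    (fun a i => by
      have hlt : 2 * (i : ℕ) + a < 12312 := by omega
      have he := e0Facts hlt
      simp only [chkE0, Bool.and_eq_true] at he
      refine ⟨⟨_, lt_of_blt he.1⟩, edgeElt hω ⟨_, hlt⟩, ?_, ?_⟩
      · rw [(rep_edgeElt hω ⟨_, hlt⟩).unique (rep_hElt hω (Nat.mod_lt _ (by norm_num : 24480 > 0)))]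
        exact mul_mem (uG_mem hω _) (j3K_le hω (kG_mem hω _))
      · simp only [edgeElt, show (2 * (i : ℕ) + a) % 2 = a by omega,
          show (2 * (i : ℕ) + a) / 2 = (i : ℕ) by omega, mul_inv_cancel_left])
    (fun g _ hh => key0_mul_of_mem hω g hh) (key0_injective hω)
  refine ⟨fun g hg => h.1 g (show g ∈ genGroup hω by rwa [genGroup_eq hω]), ?_⟩
  rw [← genGroup_eq hω]
  exact h.2.trans (by rw [(j3H_spec hω).2])

theorem card_threeJ3 : Nat.card (threeJ3 F ω) = 150698880 := (threeJ3_spec hω).2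

end CfsgLib.J23
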