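import Mathlib

/-!
Certificate data for the involution centraliser of `J₃`.
-/

set_option autoImplicit false
set_option linter.style.longLine false

namespace CfsgLib.J23

/-- An involution fixing `0`. -/
def invWord : List ℕ := [2, 2, 2, 3, 2, 2, 2, 2, 1, 2, 2, 1, 0, 1, 2, 1, 2, 2, 1, 2, 2, 1, 0, 0, 1, 0]

/-- Generators of the normal subgroup of order 32. -/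
def qGenW : List (List ℕ) :=
  [[3, 2, 2, 3, 2, 2, 2, 2, 1, 0, 0, 0, 0, 1, 0, 0, 0, 1, 0, 0, 0, 1, 2, 2],
    [0, 0, 0, 3, 2, 2, 1, 0, 0, 1, 0, 1, 2, 2, 1, 0, 1, 0, 1, 0, 0, 1],
    [3, 2, 2, 2, 2, 3, 2, 2, 2, 1, 0, 1, 2, 2, 1, 0, 0, 1, 0, 1, 2, 2, 1, 0, 0, 0],
    [3, 2, 3, 2, 3, 0, 3, 2, 1, 2, 2, 1, 0, 0, 0, 0, 1, 2, 1, 2, 2, 2, 1, 2, 1, 0]]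

/-- The elements of the normal subgroup of order 32. -/
def qEltW : List (List ℕ) :=
  [[],
    [3, 2, 2, 3, 2, 2, 2, 2, 1, 0, 0, 0, 0, 1, 0, 0, 0, 1, 0, 0, 0, 1, 2, 2],
    [0, 0, 0, 3, 2, 2, 1, 0, 0, 1, 0, 1, 2, 2, 1, 0, 1, 0, 1, 0, 0, 1],
    [3, 2, 2, 2, 2, 3, 2, 2, 2, 1, 0, 1, 2, 2, 1, 0, 0, 1, 0, 1, 2, 2, 1, 0, 0, 0],
    [3, 2, 3, 2, 3, 0, 3, 2, 1, 2, 2, 1, 0, 0, 0, 0, 1, 2, 1, 2, 2, 2, 1, 2, 1, 0],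
    [2, 2, 2, 3, 2, 2, 2, 2, 1, 2, 2, 1, 0, 1, 2, 1, 2, 2, 1, 2, 2, 1, 0, 0, 1, 0],
    [2, 3, 0, 3, 2, 2, 3, 0, 3, 2, 1, 2, 1, 0, 0, 1, 0, 0, 1, 2, 1, 0, 0, 1, 0, 1, 2],
    [2, 3, 2, 3, 2, 2, 2, 2, 1, 2, 1, 0, 1, 2, 1, 2, 1, 0, 0, 1, 2, 1, 2, 2, 2, 1],
    [2, 2, 3, 2, 2, 3, 0, 0, 1, 2, 2, 1, 2, 2, 1, 0, 0, 1, 2, 1, 0, 1, 2, 1, 0],
    [3, 2, 2, 2, 3, 0, 0, 0, 1, 0, 1, 0, 1, 0, 0, 1, 0, 1, 2, 2, 1, 2, 2, 1, 0],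
    [3, 2, 3, 0, 0, 3, 0, 0, 1, 0, 1, 2, 1, 0, 1, 0, 0, 0, 0, 1, 2, 1, 2, 1, 2, 2],
    [2, 3, 0, 0, 3, 0, 0, 1, 2, 1, 2, 2, 1, 2, 1, 2, 1, 2, 2, 2, 1, 0, 0, 0, 1],
    [0, 3, 0, 3, 0, 3, 2, 3, 2, 1, 2, 1, 0, 0, 0, 1, 0, 0, 1, 0, 0, 1, 0, 0, 1, 0, 1],
    [2, 3, 0, 3, 2, 3, 0, 1, 2, 2, 1, 0, 0, 1, 0, 0, 1, 2, 2, 1, 0, 0, 1, 0, 0],
    [3, 2, 3, 2, 2, 3, 2, 2, 3, 2, 2, 1, 2, 2, 2, 1, 0, 1, 0, 1, 0, 1, 2, 1, 2, 1, 2],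
    [0, 0, 3, 2, 2, 2, 1, 2, 2, 2, 1, 0, 0, 0, 0, 1, 0, 0, 0, 0, 1, 0, 0, 1],
    [3, 2, 2, 3, 2, 1, 2, 1, 0, 0, 1, 2, 1, 2, 2, 1, 0, 0, 1, 2, 2, 2],
    [2, 2, 2, 3, 0, 0, 3, 2, 1, 2, 2, 1, 0, 0, 1, 2, 1, 0, 0, 0, 1, 0, 0, 0, 0, 1],
    [2, 3, 0, 3, 0, 0, 0, 3, 0, 1, 0, 0, 0, 0, 1, 0, 0, 1, 0, 1, 2, 1, 0, 1, 0, 1],
    [3, 2, 2, 3, 0, 3, 2, 2, 1, 0, 1, 0, 0, 0, 1, 2, 2, 2, 1, 2, 1, 0, 1, 2, 1, 2],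
    [1, 2, 2, 2, 1, 2, 2, 1, 0, 0, 1, 0, 0, 0, 1],
    [2, 3, 2, 3, 2, 3, 0, 0, 0, 1, 2, 2, 2, 1, 0, 1, 0, 1, 2, 1, 0, 1, 2, 1, 0],
    [0, 3, 0, 3, 0, 1, 2, 1, 0, 0, 1, 0, 1, 0, 1, 0, 1, 2, 1, 0, 0, 1],
    [3, 2, 2, 3, 0, 1, 2, 1, 2, 1, 2, 1, 2, 2, 1, 0, 1, 2, 1, 2, 1, 2],
    [2, 3, 0, 0, 0, 3, 2, 2, 1, 2, 1, 2, 1, 2, 2, 1, 2, 2, 2, 1, 2, 1, 2, 2, 1, 0],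
    [3, 0, 0, 0, 1, 2, 1, 2, 1, 0, 0, 0, 0, 1, 0, 1, 0, 1, 2, 2, 2, 1],
    [2, 3, 0, 0, 3, 0, 3, 0, 0, 0, 1, 0, 0, 1, 0, 1, 0, 1, 0, 0, 1, 2, 2, 2, 1, 0],
    [2, 2, 2, 3, 2, 3, 2, 3, 2, 2, 1, 2, 1, 0, 0, 1, 0, 0, 1, 0, 1, 2, 1, 0, 1, 2],
    [2, 2, 2, 3, 2, 2, 2, 2, 1, 2, 1, 0, 0, 1, 2, 2, 2, 1, 2, 1, 0, 0, 1, 0],
    [3, 2, 3, 0, 0, 0, 3, 2, 2, 1, 2, 2, 1, 2, 2, 1, 0, 0, 1, 0, 0, 1, 0, 1, 2, 2, 1],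
    [3, 2, 2, 2, 3, 2, 1, 2, 2, 1, 2, 1, 0, 0, 1, 2, 2, 2, 1, 2, 2, 1, 0, 0],
    [2, 2, 3, 0, 0, 3, 0, 0, 0, 1, 2, 2, 1, 0, 1, 0, 0, 1, 0, 1, 0, 0, 0, 1]]

/-- Parents in the normal subgroup of order 32. -/
def qPar : List (ℕ × ℕ) := [(0, 0), (0, 0), (1, 0), (2, 0), (3, 0), (0, 1), (1, 1), (2, 1), (3, 1), (2, 2), (3, 2), (1, 3), (3, 3), (0, 4), (2, 4), (0, 5), (1, 5), (2, 5), (3, 5), (2, 6), (3, 6), (1, 7), (3, 7), (2, 8), (3, 9), (0, 10), (2, 10), (1, 15), (2, 15), (3, 16), (3, 19), (2, 20)]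

/-- Products by generators in the normal subgroup of order 32. -/
def qEdge : List ℕ := [1, 2, 3, 4, 5, 6, 7, 8, 6, 5, 9, 10, 7, 11, 5, 12, 13, 10, 14, 5, 15, 16, 17, 18, 16, 15, 19, 20, 17, 21, 15, 22, 4, 20, 23, 15, 19, 3, 16, 24, 25, 18, 26, 16, 21, 17, 2, 26, 23, 26, 4, 17, 18, 25, 22, 1, 22, 24, 18, 3, 0, 27, 28, 13, 27, 0, 11, 29, 28, 9, 0, 14, 8, 29, 12, 0, 11, 7, 27, 30, 10, 13, 31, 27, 9, 28, 6, 31, 12, 31, 8, 28, 14, 30, 13, 7, 31, 12, 10, 11, 29, 8, 30, 6, 30, 14, 29, 9, 2, 1, 21, 25, 3, 19, 1, 23, 20, 4, 24, 2, 24, 22, 20, 21, 26, 23, 25, 19]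

/-- Generators of the complement of order 60. -/
def aGenW : List (List ℕ) :=
  [[2, 2, 3, 2, 3, 2, 2, 1, 0, 0, 1, 2, 1, 2, 1, 2, 1, 0, 0, 1, 2, 1, 2, 2, 2],
    [3, 2, 3, 2, 3, 0, 0, 0, 1, 0, 1, 2, 1, 0, 0, 0, 1, 0, 1, 2, 1, 2, 1, 0, 0, 1]]

/-- The elements of the complement of order 60. -/
def aEltW : List (List ℕ) :=
  [[],
    [2, 2, 3, 2, 3, 2, 2, 1, 0, 0, 1, 2, 1, 2, 1, 2, 1, 0, 0, 1, 2, 1, 2, 2, 2],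
    [3, 2, 3, 2, 3, 0, 0, 0, 1, 0, 1, 2, 1, 0, 0, 0, 1, 0, 1, 2, 1, 2, 1, 0, 0, 1],
    [0, 3, 0, 3, 0, 0, 3, 2, 1, 0, 1, 2, 2, 1, 2, 1, 2, 1, 2, 1, 2, 1, 2, 1, 2],
    [2, 3, 0, 3, 2, 2, 1, 2, 1, 2, 2, 1, 2, 2, 1, 0, 1, 2, 1, 2, 1, 0, 0, 1],
    [3, 2, 2, 3, 0, 3, 0, 3, 2, 1, 2, 2, 2, 1, 0, 1, 2, 1, 2, 2, 2, 1, 0, 1, 0, 1],
    [3, 2, 2, 2, 2, 3, 2, 1, 0, 1, 0, 1, 2, 1, 0, 1, 2, 1, 2, 1, 0, 0, 1, 2],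
    [3, 2, 2, 3, 0, 3, 0, 1, 2, 1, 0, 0, 1, 0, 0, 1, 0, 1, 0, 0, 1, 2, 1, 0],
    [3, 2, 2, 3, 2, 2, 2, 2, 3, 2, 2, 1, 0, 1, 2, 1, 2, 2, 2, 1, 2, 2, 1, 2, 1, 2, 1],
    [0, 3, 0, 3, 0, 3, 0, 1, 0, 1, 0, 1, 0, 0, 1, 2, 1, 0, 1, 2, 2, 1, 2, 1, 2],
    [2, 2, 2, 2, 3, 2, 2, 3, 0, 0, 1, 2, 2, 1, 2, 2, 1, 2, 2, 1, 0, 1, 2, 2, 2, 1, 2],
    [0, 3, 2, 2, 3, 0, 1, 0, 1, 2, 1, 0, 1, 2, 1, 2, 1, 0, 1, 0, 0, 0, 0, 1],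
    [2, 2, 2, 3, 2, 2, 3, 2, 3, 2, 1, 0, 1, 2, 1, 0, 1, 2, 1, 2, 1, 2, 2, 1, 2, 2, 1],
    [2, 3, 2, 2, 3, 0, 3, 2, 2, 1, 2, 2, 1, 0, 0, 1, 0, 0, 1, 2, 1, 0, 0, 1, 0],
    [2, 3, 2, 3, 2, 3, 2, 2, 3, 2, 1, 0, 1, 2, 1, 2, 1, 2, 1, 0, 0, 0, 1, 2, 1, 2, 1, 2],
    [3, 0, 3, 2, 3, 0, 3, 2, 2, 3, 2, 2, 1, 0, 1, 0, 1, 0, 0, 1, 2, 1, 0, 0, 0, 1, 0, 0],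
    [2, 2, 2, 3, 0, 0, 3, 2, 3, 2, 1, 0, 0, 1, 2, 2, 1, 0, 0, 0, 0, 1, 0, 0, 1, 2, 1],
    [0, 0, 3, 0, 0, 1, 2, 1, 0, 1, 2, 2, 2, 1, 2, 2, 1, 0, 1, 2, 2],
    [2, 2, 3, 2, 2, 2, 3, 0, 3, 2, 2, 1, 2, 1, 2, 1, 0, 0, 1, 0, 0, 1, 2, 1, 0, 1, 2, 1],
    [2, 3, 0, 0, 0, 3, 2, 2, 3, 0, 1, 2, 1, 2, 2, 1, 0, 1, 0, 0, 1, 2, 1, 0, 0, 1, 0],
    [0, 0, 3, 2, 1, 0, 0, 1, 0, 0, 0, 1, 2, 1, 0, 1, 2, 2, 1, 2, 2],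
    [3, 0, 3, 0, 3, 0, 0, 3, 0, 0, 0, 1, 0, 1, 2, 1, 0, 0, 1, 0, 0, 0, 0, 1, 0, 0, 1],
    [3, 0, 0, 0, 3, 2, 2, 3, 2, 1, 2, 2, 1, 2, 1, 0, 1, 2, 2, 1, 2, 2, 1, 2, 1, 0, 1],
    [3, 0, 3, 0, 3, 0, 3, 0, 0, 1, 0, 1, 0, 1, 2, 1, 2, 1, 2, 2, 1, 2, 1, 2, 1, 2, 1],
    [2, 3, 0, 3, 0, 3, 0, 3, 2, 2, 1, 0, 1, 2, 2, 1, 0, 1, 0, 0, 1, 0, 1, 2, 2, 2],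
    [2, 2, 3, 0, 3, 2, 3, 0, 0, 0, 1, 0, 0, 0, 1, 0, 1, 0, 0, 1, 2, 1, 2, 1, 2, 1, 0],
    [2, 2, 2, 2, 3, 2, 3, 2, 1, 0, 0, 0, 1, 2, 2, 1, 0, 1, 2, 2, 1, 2, 2, 1, 2],
    [0, 3, 0, 3, 2, 2, 3, 0, 0, 1, 2, 2, 1, 0, 1, 0, 1, 2, 2, 1, 0, 1, 0, 1, 0],
    [1, 2, 1, 2, 2, 1, 0, 1, 2, 2, 2, 1, 0, 1, 2, 1, 0, 1],
    [1, 2, 1, 0, 1, 2, 1, 0, 0, 0, 1, 2, 1, 0, 0, 1, 0, 1],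
    [2, 3, 0, 3, 0, 0, 0, 1, 0, 0, 0, 1, 0, 0, 1, 0, 1, 0, 0, 0, 0, 1, 2, 2],
    [2, 2, 3, 0, 3, 2, 3, 2, 2, 1, 2, 2, 1, 0, 1, 0, 0, 0, 1, 2, 1, 2, 1, 0, 0, 0],
    [2, 3, 0, 3, 2, 3, 0, 1, 0, 0, 0, 1, 0, 0, 0, 0, 1, 2, 2, 2, 1, 0, 1, 0, 0],
    [3, 2, 2, 2, 2, 3, 0, 0, 1, 0, 1, 2, 2, 1, 0, 1, 2, 2, 2, 1, 2, 2, 1, 2, 2, 1],
    [2, 3, 2, 2, 2, 3, 2, 1, 2, 1, 2, 1, 0, 1, 2, 1, 0, 0, 1, 2, 2, 1, 2, 1, 0],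
    [2, 3, 2, 3, 2, 3, 0, 0, 1, 2, 1, 2, 1, 0, 0, 1, 2, 2, 1, 0, 0, 1, 2, 1, 2],
    [2, 2, 2, 3, 0, 3, 0, 3, 2, 2, 2, 1, 2, 1, 0, 0, 1, 0, 0, 1, 0, 1, 2, 1, 0, 0],
    [3, 2, 3, 0, 3, 2, 3, 0, 1, 2, 2, 1, 2, 1, 0, 0, 1, 0, 0, 0, 1, 0, 1, 2, 2, 1],
    [2, 2, 3, 2, 3, 0, 0, 0, 1, 0, 0, 0, 0, 1, 2, 2, 2, 1, 2, 1, 0, 1, 2, 1, 0],
    [3, 0, 3, 2, 3, 2, 3, 2, 1, 2, 1, 2, 2, 1, 2, 2, 2, 1, 0, 0, 1, 2, 1, 0, 1, 2],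
    [3, 2, 2, 3, 0, 3, 2, 3, 0, 0, 0, 1, 0, 0, 1, 0, 0, 1, 2, 2, 1, 2, 1, 2, 2, 1, 2, 2],
    [3, 0, 0, 0, 3, 0, 3, 0, 1, 0, 0, 1, 2, 1, 0, 1, 2, 1, 0, 1, 2, 2, 1, 0, 0],
    [0, 0, 3, 2, 2, 2, 2, 1, 2, 1, 2, 2, 1, 2, 2, 2, 1, 2, 2, 2, 1, 2, 1, 0],
    [3, 0, 0, 1, 0, 1, 2, 1, 0, 1, 2, 1, 0, 1, 2, 1, 2, 2, 1],
    [3, 2, 3, 0, 3, 0, 3, 2, 2, 2, 1, 0, 0, 1, 0, 0, 0, 1, 2, 2, 1, 0, 1, 2, 1, 2, 1, 2],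
    [3, 0, 0, 3, 2, 3, 2, 2, 2, 1, 2, 2, 1, 0, 1, 0, 0, 1, 2, 1, 0, 1, 2, 1, 0, 1],
    [2, 2, 3, 0, 3, 0, 0, 3, 2, 1, 2, 2, 1, 0, 1, 0, 1, 2, 1, 2, 1, 0, 1, 2, 2, 1, 0],
    [2, 3, 0, 0, 3, 0, 3, 0, 0, 0, 1, 0, 1, 2, 1, 2, 1, 0, 1, 2, 1, 0, 1, 2, 2],
    [0, 3, 2, 2, 3, 2, 3, 2, 1, 0, 0, 0, 1, 0, 0, 1, 2, 2, 2, 1, 2, 2, 1, 2, 1, 2],
    [2, 2, 3, 0, 0, 0, 1, 2, 1, 2, 2, 1, 0, 1, 2, 2, 2, 1, 0, 0, 1],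
    [2, 3, 2, 3, 0, 3, 2, 3, 0, 3, 0, 1, 2, 2, 2, 1, 2, 1, 2, 2, 1, 2, 2, 2, 1, 2, 1, 2],
    [2, 2, 3, 0, 0, 3, 2, 1, 0, 1, 2, 1, 0, 1, 2, 2, 1, 2, 1, 2, 1, 2, 2, 2, 1],
    [0, 0, 3, 2, 3, 2, 3, 0, 1, 0, 0, 0, 1, 0, 1, 2, 2, 2, 1, 0, 0, 0, 0, 1, 2],
    [0, 0, 3, 2, 2, 1, 0, 0, 0, 0, 1, 2, 1, 2, 1, 0, 1, 2, 1, 2, 1, 0],
    [0, 3, 2, 2, 2, 2, 3, 0, 0, 0, 1, 2, 1, 2, 2, 2, 1, 2, 1, 0, 1, 0, 1, 2, 2],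
    [2, 3, 0, 3, 0, 1, 2, 1, 0, 1, 0, 1, 0, 0, 0, 0, 1, 0, 0, 1, 2, 2],
    [2, 2, 3, 2, 3, 2, 2, 1, 0, 1, 2, 2, 1, 0, 0, 1, 2, 1, 0, 0, 1, 0, 1, 2, 1],
    [2, 2, 3, 0, 3, 2, 3, 2, 2, 1, 0, 1, 2, 1, 2, 2, 1, 2, 1, 2, 1, 0, 1, 0, 0, 1, 0],
    [3, 2, 3, 0, 3, 0, 0, 1, 2, 1, 0, 1, 0, 1, 0, 0, 1, 0, 1, 0, 0, 1, 2],
    [3, 2, 3, 0, 0, 0, 3, 0, 1, 0, 0, 1, 0, 0, 1, 2, 1, 2, 1, 2, 2, 1, 0, 1, 2, 2]]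

/-- Parents in the complement of order 60. -/
def aPar : List (ℕ × ℕ) := [(0, 0), (0, 0), (1, 0), (1, 1), (0, 2), (1, 2), (0, 3), (1, 3), (1, 4), (0, 5), (1, 6), (0, 7), (0, 8), (1, 8), (1, 9), (0, 10), (1, 10), (1, 11), (1, 12), (0, 13), (0, 14), (1, 14), (1, 15), (0, 16), (0, 17), (1, 17), (1, 18), (1, 19), (1, 20), (1, 22), (1, 23), (1, 24), (0, 26), (0, 27), (1, 27), (1, 28), (0, 29), (0, 30), (1, 30), (1, 31), (1, 32), (1, 33), (0, 35), (1, 36), (1, 37), (0, 39), (0, 40), (1, 40), (1, 41), (1, 42), (0, 43), (1, 43), (1, 44), (1, 45), (0, 48), (0, 49), (0, 52), (0, 53), (1, 54), (1, 56)]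

/-- Products by generators in the complement of order 60. -/
def aEdge : List ℕ := [1, 2, 0, 3, 4, 5, 6, 7, 2, 8, 9, 0, 3, 10, 11, 1, 12, 13, 5, 14, 15, 16, 7, 17, 8, 18, 19, 4, 20, 21, 10, 22, 23, 6, 24, 25, 25, 26, 13, 27, 14, 28, 22, 9, 21, 29, 16, 30, 17, 31, 18, 11, 32, 12, 33, 34, 34, 35, 36, 15, 37, 38, 38, 39, 26, 40, 27, 41, 28, 19, 42, 20, 29, 43, 30, 44, 31, 23, 45, 24, 46, 47, 47, 48, 35, 49, 50, 51, 51, 52, 39, 53, 40, 45, 41, 32, 54, 33, 55, 50, 43, 42, 44, 36, 56, 37, 57, 46, 48, 58, 49, 54, 52, 59, 53, 56, 59, 55, 58, 57]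

/-- Generators of a Sylow 2-subgroup. -/
def pGenW : List (List ℕ) :=
  [[3, 2, 2, 3, 2, 2, 2, 2, 1, 0, 0, 0, 0, 1, 0, 0, 0, 1, 0, 0, 0, 1, 2, 2],
    [0, 0, 0, 3, 2, 2, 1, 0, 0, 1, 0, 1, 2, 2, 1, 0, 1, 0, 1, 0, 0, 1],
    [3, 2, 2, 2, 2, 3, 2, 2, 2, 1, 0, 1, 2, 2, 1, 0, 0, 1, 0, 1, 2, 2, 1, 0, 0, 0],
    [3, 2, 3, 2, 3, 0, 3, 2, 1, 2, 2, 1, 0, 0, 0, 0, 1, 2, 1, 2, 2, 2, 1, 2, 1, 0],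
    [2, 2, 3, 2, 3, 2, 2, 1, 0, 0, 1, 2, 1, 2, 1, 2, 1, 0, 0, 1, 2, 1, 2, 2, 2],
    [3, 2, 3, 0, 3, 0, 0, 1, 2, 1, 0, 1, 0, 1, 0, 0, 1, 0, 1, 0, 0, 1, 2]]

/-- The elements of a Sylow 2-subgroup. -/
def pEltW : List (List ℕ) :=
  [[],
    [3, 2, 2, 3, 2, 2, 2, 2, 1, 0, 0, 0, 0, 1, 0, 0, 0, 1, 0, 0, 0, 1, 2, 2],
    [0, 0, 0, 3, 2, 2, 1, 0, 0, 1, 0, 1, 2, 2, 1, 0, 1, 0, 1, 0, 0, 1],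
    [3, 2, 2, 2, 2, 3, 2, 2, 2, 1, 0, 1, 2, 2, 1, 0, 0, 1, 0, 1, 2, 2, 1, 0, 0, 0],
    [3, 2, 3, 2, 3, 0, 3, 2, 1, 2, 2, 1, 0, 0, 0, 0, 1, 2, 1, 2, 2, 2, 1, 2, 1, 0],
    [2, 2, 3, 2, 3, 2, 2, 1, 0, 0, 1, 2, 1, 2, 1, 2, 1, 0, 0, 1, 2, 1, 2, 2, 2],
    [3, 2, 3, 0, 3, 0, 0, 1, 2, 1, 0, 1, 0, 1, 0, 0, 1, 0, 1, 0, 0, 1, 2],
    [2, 2, 2, 3, 2, 2, 2, 2, 1, 2, 2, 1, 0, 1, 2, 1, 2, 2, 1, 2, 2, 1, 0, 0, 1, 0],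
    [2, 3, 0, 3, 2, 2, 3, 0, 3, 2, 1, 2, 1, 0, 0, 1, 0, 0, 1, 2, 1, 0, 0, 1, 0, 1, 2],
    [2, 3, 2, 3, 2, 2, 2, 2, 1, 2, 1, 0, 1, 2, 1, 2, 1, 0, 0, 1, 2, 1, 2, 2, 2, 1],
    [2, 2, 3, 2, 2, 3, 0, 0, 1, 2, 2, 1, 2, 2, 1, 0, 0, 1, 2, 1, 0, 1, 2, 1, 0],
    [3, 2, 2, 2, 1, 2, 2, 1, 0, 0, 1, 0, 1, 0, 1, 2, 1, 2, 1, 2],
    [0, 0, 3, 0, 3, 0, 3, 2, 2, 1, 2, 1, 0, 0, 1, 2, 1, 0, 1, 0, 0, 1, 2, 2, 2],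
    [3, 2, 2, 2, 3, 0, 0, 0, 1, 0, 1, 0, 1, 0, 0, 1, 0, 1, 2, 2, 1, 2, 2, 1, 0],
    [3, 2, 3, 0, 0, 3, 0, 0, 1, 0, 1, 2, 1, 0, 1, 0, 0, 0, 0, 1, 2, 1, 2, 1, 2, 2],
    [0, 0, 0, 3, 0, 1, 2, 1, 0, 1, 2, 2, 1, 0, 1, 0, 1, 2, 1, 0, 0, 0],
    [0, 0, 0, 3, 2, 2, 3, 2, 1, 0, 1, 2, 2, 1, 0, 1, 0, 0, 1, 2, 1, 2, 1, 2, 2],
    [2, 3, 0, 0, 3, 0, 0, 1, 2, 1, 2, 2, 1, 2, 1, 2, 1, 2, 2, 2, 1, 0, 0, 0, 1],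
    [0, 3, 0, 3, 0, 3, 2, 3, 2, 1, 2, 1, 0, 0, 0, 1, 0, 0, 1, 0, 0, 1, 0, 0, 1, 0, 1],
    [1, 2, 2, 1, 0, 1, 2, 1, 2, 1, 2],
    [0, 3, 2, 2, 3, 0, 3, 2, 1, 0, 1, 2, 1, 2, 1, 0, 1, 0, 1, 2, 2, 2, 1, 0, 0, 0],
    [2, 3, 0, 3, 2, 3, 0, 1, 2, 2, 1, 0, 0, 1, 0, 0, 1, 2, 2, 1, 0, 0, 1, 0, 0],
    [3, 2, 3, 2, 2, 3, 2, 2, 3, 2, 2, 1, 2, 2, 2, 1, 0, 1, 0, 1, 0, 1, 2, 1, 2, 1, 2],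
    [3, 2, 2, 2, 1, 2, 1, 0, 0, 0, 1, 0, 0, 1, 0, 0, 1, 0, 0, 1, 0, 1],
    [2, 3, 2, 2, 2, 3, 2, 2, 2, 2, 1, 2, 1, 2, 2, 1, 0, 0, 1, 0, 0, 1, 0, 1, 2, 2],
    [2, 2, 2, 3, 2, 2, 3, 0, 3, 2, 1, 2, 1, 2, 1, 2, 2, 2, 1, 0, 0, 1, 2, 1, 2, 2, 1, 2],
    [2, 3, 2, 2, 3, 0, 1, 2, 2, 2, 1, 2, 2, 1, 0, 0, 0, 1, 2, 1, 2, 2, 1, 0],
    [3, 2, 3, 0, 0, 0, 3, 0, 1, 0, 0, 1, 0, 0, 1, 2, 1, 2, 1, 2, 2, 1, 0, 1, 2, 2],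
    [3, 2, 3, 0, 3, 2, 3, 2, 1, 0, 1, 0, 1, 2, 2, 2, 1, 0, 0, 1, 2, 1, 2, 1, 2],
    [0, 3, 0, 3, 0, 3, 2, 2, 1, 0, 0, 0, 1, 2, 1, 2, 1, 0, 1, 0, 1, 2, 1, 0, 1],
    [0, 0, 3, 2, 2, 2, 1, 2, 2, 2, 1, 0, 0, 0, 0, 1, 0, 0, 0, 0, 1, 0, 0, 1],
    [3, 2, 2, 3, 2, 1, 2, 1, 0, 0, 1, 2, 1, 2, 2, 1, 0, 0, 1, 2, 2, 2],
    [2, 2, 2, 3, 0, 0, 3, 2, 1, 2, 2, 1, 0, 0, 1, 2, 1, 0, 0, 0, 1, 0, 0, 0, 0, 1],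
    [2, 3, 0, 3, 0, 0, 0, 3, 0, 1, 0, 0, 0, 0, 1, 0, 0, 1, 0, 1, 2, 1, 0, 1, 0, 1],
    [2, 3, 0, 0, 3, 0, 0, 1, 0, 0, 1, 0, 1, 0, 0, 0, 0, 1, 0, 1, 2, 2, 1],
    [2, 2, 3, 2, 2, 2, 1, 2, 1, 2, 1, 0, 1, 0, 1, 0, 0, 0, 1, 0, 0],
    [3, 2, 2, 3, 0, 3, 2, 2, 1, 0, 1, 0, 0, 0, 1, 2, 2, 2, 1, 2, 1, 0, 1, 2, 1, 2],
    [1, 2, 2, 2, 1, 2, 2, 1, 0, 0, 1, 0, 0, 0, 1],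
    [2, 2, 3, 0, 0, 0, 1, 0, 1, 0, 0, 1, 2, 2, 1, 2, 2, 1, 2, 1, 0, 0, 1, 0],
    [1, 2, 1, 0, 0, 0, 1, 2, 1, 0, 1, 2, 2, 2, 1, 0, 1],
    [2, 3, 2, 3, 2, 3, 0, 0, 0, 1, 2, 2, 2, 1, 0, 1, 0, 1, 2, 1, 0, 1, 2, 1, 0],
    [0, 3, 0, 3, 0, 1, 2, 1, 0, 0, 1, 0, 1, 0, 1, 0, 1, 2, 1, 0, 0, 1],
    [3, 0, 3, 2, 3, 0, 0, 1, 0, 0, 0, 1, 2, 1, 0, 0, 1, 0, 1, 0, 1, 0, 1],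
    [3, 2, 3, 0, 3, 2, 2, 3, 0, 1, 2, 2, 1, 2, 2, 1, 2, 1, 0, 0, 0, 1, 0, 1, 0, 0],
    [3, 2, 2, 3, 0, 1, 2, 1, 2, 1, 2, 1, 2, 2, 1, 0, 1, 2, 1, 2, 1, 2],
    [0, 1, 0, 1, 0, 1, 2, 1, 0, 0, 1],
    [2, 2, 3, 0, 0, 3, 0, 0, 1, 0, 0, 1, 2, 1, 2, 1, 0, 1, 2, 1, 2, 2, 1, 2, 1],
    [2, 3, 2, 2, 3, 0, 3, 2, 1, 2, 1, 0, 0, 1, 0, 0, 1, 0, 0, 0, 1, 0, 1, 0, 1, 0],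
    [2, 2, 3, 2, 3, 0, 1, 2, 1, 0, 1, 0, 1, 2, 2, 2, 1, 0, 1, 0, 1, 2, 2],
    [2, 2, 2, 3, 0, 3, 2, 2, 1, 0, 0, 1, 2, 2, 2, 1, 0, 1, 0, 1, 0, 0, 1, 2],
    [2, 3, 0, 0, 0, 3, 2, 2, 1, 2, 1, 2, 1, 2, 2, 1, 2, 2, 2, 1, 2, 1, 2, 2, 1, 0],
    [3, 0, 3, 2, 3, 0, 0, 0, 1, 0, 1, 2, 1, 0, 1, 2, 1, 2, 2, 1, 0, 1, 2, 2, 2],
    [3, 0, 0, 0, 1, 2, 1, 2, 1, 0, 0, 0, 0, 1, 0, 1, 0, 1, 2, 2, 2, 1],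
    [2, 3, 0, 0, 3, 0, 3, 0, 0, 0, 1, 0, 0, 1, 0, 1, 0, 1, 0, 0, 1, 2, 2, 2, 1, 0],
    [2, 3, 2, 2, 3, 2, 3, 2, 1, 2, 1, 0, 1, 2, 2, 1, 0, 1, 2, 1, 2, 1, 0, 0, 0, 1],
    [3, 2, 3, 2, 3, 0, 1, 2, 1, 0, 1, 2, 1, 2, 1, 2, 1, 0, 1, 0, 1, 0, 1, 0],
    [3, 2, 3, 2, 3, 2, 1, 2, 2, 1, 0, 1, 2, 2, 2, 1, 2, 2, 1, 0, 1, 2, 1],
    [0, 3, 0, 0, 3, 0, 3, 2, 2, 3, 0, 0, 0, 1, 0, 1, 0, 1, 0, 1, 2, 1, 0, 0, 1, 0, 0, 0],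
    [3, 2, 2, 2, 2, 3, 0, 0, 0, 1, 0, 1, 0, 1, 2, 2, 1, 0, 0, 1, 0, 1, 0, 1, 2, 2, 1],
    [3, 2, 3, 2, 2, 1, 2, 2, 1, 2, 2, 1, 2, 2, 2, 1, 0, 1, 0, 0, 0, 1],
    [2, 2, 2, 2, 3, 0, 3, 0, 1, 2, 1, 2, 1, 2, 2, 2, 1, 0, 1, 0, 0, 1, 2, 1, 2],
    [2, 3, 0, 3, 0, 0, 0, 3, 0, 0, 0, 0, 1, 2, 2, 2, 1, 0, 0, 0, 1, 0, 1, 0, 0, 1],
    [2, 3, 2, 3, 2, 2, 1, 2, 1, 0, 0, 0, 1, 0, 1, 2, 1, 2, 1, 2, 1, 2, 1],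
    [3, 2, 2, 2, 3, 2, 2, 1, 0, 1, 0, 0, 0, 1, 0, 0, 1, 0, 0, 1, 0, 0, 1, 0, 1],
    [3, 0, 3, 2, 2, 2, 2, 1, 2, 2, 2, 1, 0, 0, 1, 0, 0, 1, 2, 1, 0, 1, 2, 2],
    [2, 3, 2, 3, 2, 3, 2, 1, 0, 1, 0, 1, 0, 1, 2, 1, 0, 1, 2, 1, 0, 1, 0, 1],
    [0, 3, 0, 3, 2, 2, 3, 2, 1, 0, 0, 0, 1, 0, 1, 0, 1, 2, 1, 2, 1, 0, 0, 0, 0],
    [3, 2, 2, 3, 0, 0, 3, 0, 1, 0, 1, 0, 0, 1, 2, 1, 2, 2, 1, 0, 0, 1, 2, 1, 0, 0],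
    [0, 3, 0, 3, 2, 1, 2, 2, 1, 0, 0, 0, 1, 0, 0, 0, 0, 1, 2, 2, 1, 2, 2],
    [2, 2, 2, 3, 0, 1, 2, 1, 2, 1, 0, 0, 1, 2, 1, 0, 1, 2, 1, 2, 2, 2],
    [0, 3, 0, 3, 2, 1, 0, 1, 0, 0, 0, 1, 2, 2, 2, 1, 2, 1, 0, 1, 2, 1, 2],
    [2, 2, 3, 0, 0, 0, 3, 2, 1, 0, 1, 0, 0, 0, 0, 1, 0, 0, 1, 0, 1, 2, 1, 2, 2, 2],
    [2, 2, 3, 2, 3, 2, 2, 2, 1, 0, 1, 0, 0, 1, 0, 0, 1, 2, 1, 0, 0, 1, 2, 1, 0, 1],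
    [2, 3, 0, 0, 3, 0, 1, 2, 2, 2, 1, 0, 0, 1, 0, 0, 0, 1, 2, 1, 0, 0, 1, 0],
    [2, 2, 3, 0, 3, 2, 2, 3, 0, 0, 1, 0, 1, 2, 2, 1, 2, 1, 2, 1, 2, 2, 1, 0, 0, 1],
    [3, 2, 2, 3, 2, 1, 0, 0, 0, 1, 2, 1, 2, 1, 0, 1, 0, 1, 2, 1, 0, 1],
    [3, 2, 2, 3, 2, 3, 2, 2, 2, 1, 0, 0, 0, 1, 0, 0, 0, 0, 1, 2, 2, 2, 1, 2, 1, 0],
    [2, 2, 3, 2, 2, 2, 2, 1, 2, 2, 1, 0, 1, 0, 1, 0, 0, 1, 2, 1, 2, 1, 0, 0, 0],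
    [3, 2, 2, 2, 3, 0, 3, 0, 3, 0, 0, 1, 2, 1, 0, 1, 2, 2, 1, 2, 1, 2, 1, 0, 0, 0, 1],
    [2, 3, 0, 0, 0, 3, 2, 2, 1, 2, 1, 0, 1, 0, 1, 2, 2, 2, 1, 2, 2, 1, 0, 0, 1, 2],
    [2, 2, 2, 3, 2, 3, 2, 3, 2, 2, 1, 2, 1, 0, 0, 1, 0, 0, 1, 0, 1, 2, 1, 0, 1, 2],
    [2, 2, 2, 3, 2, 2, 2, 2, 1, 2, 1, 0, 0, 1, 2, 2, 2, 1, 2, 1, 0, 0, 1, 0],
    [3, 2, 3, 0, 0, 0, 3, 2, 2, 1, 2, 2, 1, 2, 2, 1, 0, 0, 1, 0, 0, 1, 0, 1, 2, 2, 1],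
    [0, 3, 0, 1, 0, 1, 2, 1, 2, 1, 2, 2, 1, 0, 0, 1, 0, 0, 0, 1],
    [2, 2, 2, 2, 3, 0, 0, 0, 1, 2, 2, 1, 0, 0, 0, 1, 0, 0, 1, 2, 1, 2, 1, 0, 1, 0],
    [2, 2, 2, 3, 0, 0, 0, 3, 2, 1, 2, 1, 0, 1, 0, 1, 2, 1, 0, 1, 2, 1, 0, 0, 1, 2],
    [3, 2, 3, 0, 3, 2, 2, 1, 2, 2, 2, 1, 0, 0, 0, 1, 0, 0, 1, 2, 1, 0, 1],
    [3, 2, 2, 2, 3, 2, 1, 2, 2, 1, 2, 1, 0, 0, 1, 2, 2, 2, 1, 2, 2, 1, 0, 0],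
    [3, 2, 3, 0, 3, 2, 3, 2, 2, 1, 2, 2, 1, 2, 1, 0, 1, 2, 2, 1, 0, 1, 2, 1, 0, 0, 0],
    [2, 2, 3, 0, 0, 3, 0, 0, 0, 1, 2, 2, 1, 0, 1, 0, 0, 1, 0, 1, 0, 0, 0, 1],
    [0, 0, 3, 0, 0, 0, 1, 0, 1, 2, 2, 2, 1, 0, 1, 0, 1, 0, 1, 2, 1, 2, 1],
    [2, 2, 2, 3, 0, 3, 2, 3, 0, 0, 1, 2, 1, 0, 1, 0, 0, 1, 0, 0, 1, 0, 1, 2, 1, 0, 1],
    [3, 0, 3, 0, 3, 2, 1, 2, 1, 2, 1, 0, 0, 0, 1, 2, 1, 2, 2, 2, 1, 2, 2],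
    [3, 2, 2, 3, 2, 3, 0, 1, 0, 1, 2, 1, 2, 2, 2, 1, 2, 1, 2, 1, 0, 1, 2, 2, 2],
    [0, 3, 2, 1, 0, 0, 0, 1, 0, 0, 0, 1, 0, 0, 1, 0, 0, 0, 1, 2, 2],
    [2, 3, 0, 0, 0, 3, 0, 1, 0, 0, 1, 0, 0, 0, 1, 2, 1, 2, 2, 2, 1, 0, 1, 0, 1],
    [0, 3, 0, 0, 3, 0, 1, 0, 1, 0, 0, 1, 0, 0, 0, 1, 0, 1, 0, 1, 2, 2, 2],
    [3, 2, 2, 3, 0, 3, 2, 2, 2, 2, 1, 2, 2, 2, 1, 0, 0, 0, 1, 0, 1, 2, 1, 0, 1],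
    [0, 3, 0, 3, 0, 3, 2, 1, 0, 1, 0, 0, 0, 1, 2, 1, 0, 1, 2, 2, 2, 1, 0, 1],
    [2, 3, 2, 2, 2, 2, 3, 2, 3, 2, 2, 1, 0, 0, 1, 0, 0, 1, 2, 2, 1, 2, 2, 2, 1, 0, 0],
    [0, 0, 0, 3, 0, 3, 2, 3, 2, 2, 1, 0, 0, 0, 0, 1, 2, 1, 0, 1, 2, 2, 2, 1, 0, 0],
    [3, 2, 3, 2, 3, 0, 0, 0, 1, 0, 1, 2, 2, 2, 1, 2, 2, 1, 2, 1, 2, 2, 2, 1, 0],
    [2, 2, 2, 2, 3, 0, 3, 2, 3, 0, 1, 0, 0, 0, 0, 1, 0, 0, 0, 0, 1, 0, 0, 1, 2, 1, 0],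
    [3, 2, 2, 3, 0, 3, 2, 2, 3, 0, 1, 0, 0, 1, 2, 1, 2, 1, 2, 2, 1, 0, 1, 0, 1, 2, 2],
    [2, 3, 2, 2, 2, 2, 1, 2, 2, 2, 1, 0, 0, 0, 1, 0, 0, 0, 0, 1, 0],
    [2, 2, 3, 2, 2, 3, 0, 0, 3, 2, 1, 2, 1, 0, 1, 2, 1, 0, 1, 0, 0, 0, 1, 2, 1, 2, 2],
    [3, 2, 3, 0, 3, 2, 3, 2, 2, 2, 1, 0, 0, 0, 1, 0, 0, 0, 0, 1, 2, 1, 0, 0, 1],
    [3, 0, 3, 2, 3, 2, 3, 0, 0, 1, 0, 0, 0, 1, 0, 1, 0, 1, 2, 2, 1, 0, 0, 0, 1, 2],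
    [3, 2, 3, 0, 1, 2, 1, 2, 2, 2, 1, 0, 0, 0, 1, 0, 0, 0, 1, 2, 1, 2],
    [0, 0, 3, 2, 2, 2, 1, 2, 2, 1, 2, 2, 2, 1, 2, 2, 2, 1, 0, 1, 2],
    [2, 2, 2, 3, 0, 3, 0, 0, 3, 2, 1, 2, 2, 1, 2, 1, 2, 1, 2, 2, 1, 2, 1, 0, 1, 2, 1],
    [2, 2, 2, 3, 0, 3, 0, 1, 2, 2, 1, 2, 1, 2, 1, 0, 0, 1, 0, 0, 0, 0, 1, 0, 0],
    [0, 0, 3, 2, 3, 0, 1, 2, 2, 1, 2, 2, 1, 0, 0, 0, 1, 0, 0, 0, 0, 1, 2, 1],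
    [0, 3, 0, 0, 3, 2, 2, 2, 1, 0, 0, 1, 0, 0, 1, 2, 2, 1, 0, 0, 0, 1, 2, 2, 1, 2],
    [0, 3, 0, 3, 2, 2, 3, 0, 0, 0, 1, 2, 2, 1, 0, 1, 0, 1, 2, 1, 2, 2, 2, 1, 2, 1],
    [2, 2, 2, 3, 0, 3, 0, 3, 0, 0, 1, 0, 1, 0, 1, 2, 1, 2, 2, 1, 0, 0, 1, 2, 2, 1, 2],
    [2, 2, 2, 3, 0, 3, 2, 2, 1, 2, 2, 1, 0, 1, 2, 2, 2, 1, 0, 0, 0, 0, 1, 0, 0],
    [3, 0, 3, 0, 0, 0, 3, 0, 1, 2, 1, 2, 1, 0, 0, 1, 2, 2, 2, 1, 0, 0, 1, 2, 1, 2],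
    [3, 0, 3, 2, 3, 0, 3, 0, 0, 1, 0, 1, 0, 1, 0, 0, 1, 0, 1, 2, 2, 1, 2, 1, 0, 0, 0],
    [3, 2, 3, 0, 1, 2, 1, 2, 1, 0, 1, 0, 1, 2, 2, 2, 1, 0, 1, 0, 0, 1],
    [0, 3, 0, 0, 3, 2, 2, 2, 1, 0, 0, 1, 2, 2, 1, 2, 2, 1, 0, 0, 0, 1, 2, 2, 1, 2],
    [0, 3, 0, 3, 2, 2, 2, 1, 2, 2, 2, 1, 0, 0, 0, 1, 0, 1, 2, 1, 0, 1],
    [2, 2, 3, 2, 2, 2, 2, 1, 0, 0, 0, 1, 2, 1, 0, 0, 1, 0, 0, 1, 2, 1, 0, 0, 0],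
    [3, 2, 3, 0, 0, 0, 1, 2, 1, 0, 1, 2, 2, 2, 1, 2, 1, 0, 1, 2, 1, 2, 1, 2],
    [3, 2, 3, 0, 3, 2, 3, 2, 2, 2, 1, 2, 1, 0, 1, 0, 0, 0, 1, 0, 1, 2, 1, 0, 1],
    [3, 2, 3, 2, 2, 1, 2, 1, 2, 2, 2, 1, 0, 0, 0, 1, 0, 1, 0, 0, 1, 0, 1],
    [0, 3, 0, 3, 2, 3, 2, 1, 0, 1, 2, 1, 0, 1, 0, 1, 0, 0, 0, 0, 1, 0, 0, 0],
    [2, 2, 2, 3, 2, 2, 2, 2, 1, 2, 1, 2, 1, 0, 1, 2, 1, 0, 1, 0, 1, 2, 1, 2]]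

/-- Parents in a Sylow 2-subgroup. -/
def pPar : List (ℕ × ℕ) := [(0, 0), (0, 0), (1, 0), (2, 0), (3, 0), (4, 0), (5, 0), (0, 1), (1, 1), (2, 1), (3, 1), (4, 1), (5, 1), (2, 2), (3, 2), (4, 2), (5, 2), (1, 3), (3, 3), (4, 3), (5, 3), (0, 4), (2, 4), (4, 4), (5, 4), (2, 5), (3, 5), (5, 5), (0, 6), (1, 6), (0, 7), (1, 7), (2, 7), (3, 7), (4, 7), (5, 7), (2, 8), (3, 8), (4, 8), (5, 8), (1, 9), (3, 9), (4, 9), (5, 9), (2, 10), (4, 10), (5, 10), (3, 11), (5, 11), (0, 12), (3, 13), (5, 13), (0, 14), (2, 14), (4, 14), (5, 14), (2, 15), (3, 15), (5, 15), (4, 17), (5, 17), (4, 18), (5, 18), (2, 19), (5, 19), (1, 20), (5, 21), (4, 22), (5, 22), (2, 23), (3, 23), (5, 23), (0, 24), (1, 25), (3,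 25), (5, 25), (2, 26), (5, 26), (0, 27), (1, 27), (1, 30), (2, 30), (3, 31), (4, 31), (5, 32), (5, 33), (5, 34), (3, 36), (5, 36), (2, 37), (4, 37), (5, 37), (3, 38), (5, 38), (4, 40), (5, 40), (4, 41), (5, 41), (5, 42), (5, 44), (5, 45), (0, 46), (2, 47), (5, 47), (1, 48), (5, 50), (5, 53), (2, 54), (5, 54), (1, 56), (5, 56), (5, 57), (5, 59), (5, 61), (5, 63), (0, 64), (5, 67), (5, 70), (1, 71), (5, 73), (5, 74), (1, 75), (5, 76), (0, 77), (5, 87), (5, 89), (5, 96), (5, 102)]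

/-- Products by generators in a Sylow 2-subgroup. -/
def pEdge : List ℕ := [1, 2, 3, 4, 5, 6, 7, 8, 9, 10, 11, 12, 8, 7, 13, 14, 15, 16, 9, 17, 7, 18, 19, 20, 21, 14, 22, 7, 23, 24, 15, 11, 25, 26, 0, 27, 28, 29, 24, 20, 27, 0, 30, 31, 32, 33, 34, 35, 31, 30, 36, 37, 38, 39, 32, 40, 30, 41, 42, 43, 4, 37, 44, 30, 45, 46, 38, 34, 23, 47, 1, 48, 49, 6, 46, 43, 48, 1, 36, 3, 31, 50, 26, 51, 52, 33, 53, 31, 54, 55, 34, 38, 56, 57, 2, 58, 6, 49, 55, 51, 58, 2, 40, 32, 2, 53, 59, 60, 44, 53, 4, 32, 61, 62, 59, 42, 63, 15, 3, 64, 51, 65, 62, 35, 64, 3, 33, 52, 41, 1, 25, 66, 41, 50, 33, 3, 67, 68, 54, 25, 69, 70, 4, 71, 72, 46, 35, 68, 71, 4, 56, 73, 34, 74, 21, 75, 19, 47, 76, 34, 13, 77,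 78, 79, 77, 75, 6, 5, 35, 39, 72, 60, 79, 31, 39, 35, 66, 65, 78, 30, 0, 80, 81, 21, 69, 29, 80, 0, 17, 82, 83, 28, 81, 13, 0, 22, 57, 84, 10, 82, 18, 0, 73, 85, 83, 69, 45, 59, 7, 86, 16, 12, 85, 84, 86, 7, 17, 9, 80, 87, 47, 88, 14, 21, 89, 80, 90, 91, 69, 83, 54, 92, 8, 93, 12, 16, 91, 88, 93, 8, 13, 81, 8, 89, 94, 95, 18, 89, 10, 81, 96, 97, 94, 57, 61, 38, 9, 98, 88, 20, 97, 29, 98, 9, 22, 87, 21, 9, 63, 99, 90, 23, 5, 76, 10, 100, 101, 85, 29, 99, 100, 10, 42, 59, 102, 69, 36, 103, 27, 104, 103, 71, 12, 11, 29, 28, 101, 95, 104, 80, 89, 18, 14, 17, 102, 105, 84, 95, 105, 28, 77, 13, 82, 10, 87, 8, 56, 101, 87, 22, 82, 13, 70, 106, 73, 56, 107, 61, 14, 108, 24, 91, 28, 106, 108,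 14, 45, 109, 83, 63, 52, 110, 26, 92, 96, 83, 32, 111, 104, 27, 111, 110, 16, 15, 57, 94, 74, 5, 17, 112, 20, 88, 106, 16, 112, 17, 70, 63, 92, 109, 18, 113, 105, 97, 84, 24, 113, 18, 74, 67, 57, 90, 44, 114, 115, 77, 58, 114, 20, 19, 95, 84, 99, 12, 115, 81, 91, 24, 12, 97, 75, 21, 102, 96, 42, 54, 22, 116, 106, 99, 20, 85, 116, 22, 107, 5, 73, 94, 30, 78, 67, 74, 47, 73, 53, 117, 100, 118, 117, 78, 24, 23, 85, 101, 16, 105, 118, 82, 109, 45, 11, 102, 33, 119, 96, 102, 26, 45, 87, 120, 71, 121, 120, 86, 66, 25, 63, 70, 59, 25, 89, 122, 123, 111, 86, 122, 51, 26, 86, 93, 123, 119, 29, 69, 93, 86, 64, 121, 28, 83, 2, 1, 40, 52, 107, 49, 3, 36, 1, 44, 92, 65, 37, 4, 50, 2, 109, 72, 5,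 107, 90, 19, 31, 79, 60, 43, 68, 6, 111, 32, 55, 66, 6, 62, 119, 33, 48, 58, 112, 100, 35, 34, 50, 41, 37, 40, 74, 124, 65, 51, 124, 49, 103, 36, 53, 44, 52, 36, 76, 125, 25, 54, 15, 96, 37, 121, 46, 72, 49, 125, 121, 37, 47, 19, 67, 107, 81, 115, 58, 48, 115, 108, 39, 38, 92, 26, 70, 11, 40, 123, 43, 60, 125, 39, 123, 40, 76, 61, 19, 56, 41, 126, 124, 68, 65, 46, 126, 41, 64, 103, 93, 113, 43, 42, 125, 62, 43, 66, 114, 44, 119, 110, 122, 27, 46, 45, 66, 55, 39, 124, 110, 52, 61, 76, 94, 23, 50, 127, 77, 115, 78, 127, 88, 47, 79, 78, 98, 118, 49, 107, 68, 124, 60, 55, 127, 50, 62, 125, 51, 72, 117, 53, 11, 15, 109, 42, 80, 104, 121, 71, 113, 104, 55, 54, 23, 90, 38, 67, 82, 118, 108,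 75, 114, 79, 101, 56, 98, 112, 79, 126, 84, 57, 103, 64, 27, 120, 60, 59, 126, 127, 118, 115, 62, 61, 113, 122, 121, 111, 99, 63, 111, 123, 104, 116, 65, 92, 114, 117, 108, 98, 68, 67, 122, 113, 119, 103, 106, 70, 110, 119, 116, 93, 72, 109, 75, 108, 127, 48, 85, 73, 117, 114, 100, 77, 124, 74, 118, 100, 126, 58, 91, 90, 127, 126, 75, 112, 125, 76, 112, 98, 48, 117, 95, 94, 99, 106, 95, 91, 120, 87, 97, 105, 88, 101, 122, 89, 116, 120, 110, 64, 97, 96, 120, 116, 71, 123, 105, 102]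

/-- The position of the involution. -/
def qInvIdx : List ℕ := [5]

/-- Conjugating words from the involution to those of the Sylow 2-subgroup. -/
def pConjW : List (List ℕ) :=
  [[],
    [],
    [],
    [],
    [],
    [1, 2, 1, 2, 1, 2, 1, 2, 2, 2, 1, 2, 2, 1, 0],
    [2, 2, 2, 1, 2, 1, 0, 0, 1, 0, 1, 0],
    [],
    [1, 2, 2, 2, 1, 2, 2, 1, 2, 1, 0, 1, 0, 1],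
    [1, 2, 1, 0, 1, 0, 0, 0, 1, 2, 2, 2, 1, 0],
    [],
    [],
    [],
    [],
    [0, 0, 1, 2, 2, 1, 0, 0, 0, 1, 0, 0, 1, 0],
    [],
    [],
    [],
    [],
    [],
    [],
    [],
    [],
    [],
    [],
    [],
    [],
    [2, 2, 1, 0, 1, 0, 0, 1, 0, 1, 0, 0],
    [],
    [],
    [],
    [],
    [],
    [],
    [1, 2, 1, 2, 1, 2, 1, 0, 0, 1, 2, 1, 2, 2],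
    [1, 2, 2, 1, 2, 2, 1, 0, 1, 2, 2, 1, 2, 2],
    [0, 1, 2, 1, 0, 1, 2, 1, 0, 1, 0, 0, 0, 0],
    [1, 2, 1, 2, 1, 0, 1, 2, 1, 0, 1, 0, 1],
    [0, 1, 0, 0, 0, 0, 1, 0, 1, 2, 1, 0, 1, 2],
    [0, 1, 2, 2, 1, 0, 0, 1, 0, 0, 0, 1, 0],
    [2, 1, 2, 1, 2, 1, 2, 1, 0, 1, 0, 1, 0, 0, 1],
    [],
    [],
    [],
    [],
    [],
    [],
    [],
    [0, 0, 1, 2, 2, 1, 0, 0, 0, 1, 0, 0, 1, 2, 1],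
    [0, 0, 0, 1, 2, 1, 2, 1, 2, 2],
    [],
    [],
    [1, 2, 1, 2, 1, 0, 0, 0, 1, 0, 0, 0, 1],
    [],
    [],
    [],
    [],
    [],
    [0, 0, 1, 2, 2, 2, 1, 0, 1, 0, 1, 0],
    [],
    [],
    [],
    [1, 0, 1, 2, 1, 2, 1, 0, 0, 1, 2, 2, 1, 0, 1, 2],
    [1, 0, 1, 0, 1, 2, 1, 2, 1, 2, 2, 1, 2],
    [],
    [],
    [],
    [],
    [1, 2, 1, 2, 2, 2, 1, 0, 1, 0, 0, 1],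
    [],
    [1, 0, 0, 1, 0, 0, 1, 0, 1, 0, 0, 1, 2, 2],
    [],
    [],
    [],
    [],
    [],
    [],
    [],
    [1, 2, 1, 2, 2, 1, 2, 1, 2, 1, 0, 0, 0, 1],
    [1, 2, 2, 1, 2, 1, 0, 0, 0, 1, 0, 1],
    [1, 2, 1, 0, 1, 2, 1, 0, 0, 1, 0, 1],
    [2, 2, 1, 2, 2, 1, 0, 1, 0, 1, 2, 2, 1, 0],
    [2, 1, 0, 0, 1, 2, 1, 2, 1, 0, 0, 1, 0, 0],
    [],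
    [],
    [],
    [1, 0, 0, 1, 0, 0, 0, 1, 2, 1, 0, 1, 0, 1, 2],
    [],
    [],
    [],
    [],
    [],
    [],
    [0, 0, 1, 0, 1, 2, 1, 2, 2],
    [],
    [],
    [2, 2, 1, 2, 1, 2],
    [],
    [],
    [],
    [],
    [],
    [2, 1, 2, 2, 1, 2, 1, 2, 1, 0, 0, 0, 0, 1],
    [],
    [1, 2, 1, 0, 1, 2, 1, 2, 1, 0, 1, 0, 0, 1],
    [],
    [],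
    [1, 2, 1, 0, 1, 2, 2, 1, 2, 1, 0, 0, 0, 1],
    [],
    [],
    [],
    [],
    [],
    [],
    [],
    [],
    [],
    [],
    [],
    [],
    [],
    [],
    [],
    [],
    [0, 0, 0, 1, 2, 1, 0, 1, 0, 1, 0, 0, 0, 0, 1],
    [0, 1, 0, 0, 1, 0, 1, 0, 1, 2, 1, 2, 1],
    [],
    []]

/-- The conjugates of the involution under the stabiliser. -/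
def clsW : List (List ℕ) :=
  [[2, 2, 2, 3, 2, 2, 2, 2, 1, 2, 2, 1, 0, 1, 2, 1, 2, 2, 1, 2, 2, 1, 0, 0, 1, 0],
    [2, 3, 2, 2, 2, 2, 3, 0, 1, 0, 1, 2, 1, 0, 1, 2, 1, 2, 1, 0, 0, 0, 0, 1, 0],
    [2, 2, 3, 0, 3, 0, 3, 2, 2, 1, 0, 0, 1, 0, 0, 0, 1, 0, 0, 1, 0, 1, 0, 1, 2, 1],
    [2, 2, 2, 3, 2, 2, 1, 0, 0, 1, 2, 1, 0, 1, 2, 2, 1, 0, 0, 1, 0, 0, 0],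
    [1, 2, 1, 2, 1, 2, 1, 0, 1, 2, 1, 0, 1, 0, 1, 0, 1],
    [3, 2, 2, 3, 2, 3, 0, 3, 0, 1, 2, 2, 1, 2, 1, 0, 0, 0, 1, 2, 2, 1, 2, 2, 1, 2, 1],
    [2, 2, 2, 3, 0, 3, 2, 2, 1, 0, 1, 2, 1, 2, 2, 2, 1, 0, 1, 2, 1, 2, 2, 1],
    [1, 2, 1, 0, 0, 0, 1, 2, 1, 0, 1, 2, 2, 2, 1, 0, 1],
    [3, 2, 3, 0, 3, 0, 0, 1, 2, 1, 0, 1, 0, 1, 0, 0, 1, 0, 1, 0, 0, 1, 2],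
    [2, 2, 3, 2, 3, 2, 3, 2, 3, 2, 2, 2, 1, 2, 2, 1, 0, 0, 1, 0, 1, 0, 0, 1, 2, 1, 2],
    [3, 2, 2, 3, 2, 3, 0, 1, 0, 0, 1, 0, 0, 1, 2, 2, 2, 1, 0, 0, 1, 2, 2, 2],
    [2, 2, 2, 2, 3, 0, 3, 0, 1, 0, 0, 0, 0, 1, 0, 1, 2, 1, 0, 0, 1, 2, 1, 2, 2, 1],
    [2, 2, 2, 1, 0, 1, 0, 1, 0, 1, 2, 1, 2, 1, 2, 1, 0, 0, 0],
    [3, 2, 2, 2, 3, 2, 2, 2, 3, 0, 0, 1, 0, 1, 0, 1, 0, 1, 2, 2, 1, 2, 1, 0, 0, 1, 2],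
    [3, 2, 3, 0, 3, 2, 2, 1, 0, 0, 0, 0, 1, 0, 0, 0, 0, 1, 0, 0, 1, 2, 1, 0, 1],
    [3, 2, 2, 2, 1, 2, 2, 1, 2, 1, 0, 1, 0, 0, 1, 0, 0, 0, 1],
    [2, 2, 2, 3, 0, 3, 2, 2, 3, 2, 1, 2, 1, 0, 0, 1, 0, 0, 0, 1, 2, 1, 0, 0, 1, 0, 1],
    [3, 2, 2, 2, 3, 2, 3, 2, 1, 0, 1, 2, 1, 0, 1, 0, 1, 0, 0, 1, 2, 1, 0, 1, 0, 1],
    [2, 2, 2, 3, 2, 2, 2, 2, 1, 0, 0, 0, 1, 2, 2, 2, 1, 2, 1, 2, 2, 1, 2, 1, 2, 2],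
    [2, 2, 3, 0, 1, 2, 2, 1, 2, 2, 1, 0, 0, 1, 0, 0, 1, 2, 1, 0, 0],
    [2, 2, 2, 2, 3, 2, 2, 1, 0, 0, 0, 1, 2, 2, 2, 1, 0, 0, 1, 0, 0, 0, 0],
    [0, 3, 2, 2, 2, 3, 0, 0, 0, 1, 2, 2, 2, 1, 2, 2, 1, 0, 1, 2, 1, 0, 0, 1, 2, 2],
    [2, 3, 2, 1, 2, 1, 0, 0, 1, 0, 1, 2, 1, 2, 2, 1, 0, 1, 0, 1, 0],
    [2, 2, 3, 0, 3, 0, 0, 3, 0, 0, 0, 1, 2, 2, 1, 2, 2, 1, 2, 1, 2, 1, 0, 1, 2, 2, 1, 2],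
    [3, 2, 3, 0, 3, 2, 1, 0, 0, 1, 2, 1, 0, 0, 0, 1, 0, 0, 0, 1, 2, 2, 1, 2],
    [2, 3, 2, 3, 0, 3, 2, 2, 2, 1, 0, 0, 0, 1, 2, 2, 1, 2, 2, 2, 1, 0, 1, 0, 1, 2, 2],
    [2, 3, 0, 0, 3, 2, 3, 2, 2, 1, 0, 1, 0, 0, 1, 0, 0, 0, 0, 1, 0, 1, 0, 0, 1],
    [2, 3, 2, 2, 3, 0, 0, 0, 3, 2, 1, 2, 2, 1, 2, 2, 1, 2, 1, 2, 1, 0, 0, 1, 0, 0, 1],
    [0, 3, 2, 2, 2, 3, 2, 3, 0, 1, 0, 0, 1, 2, 2, 1, 2, 1, 2, 2, 2, 1, 2, 1, 2, 2, 2],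
    [0, 0, 3, 2, 3, 2, 2, 3, 2, 1, 0, 1, 2, 1, 2, 2, 1, 0, 0, 0, 1, 2, 2, 2, 1, 2, 2],
    [3, 0, 0, 3, 2, 1, 2, 2, 2, 1, 2, 1, 0, 1, 0, 0, 0, 1, 0, 1, 2, 2, 1],
    [2, 2, 3, 2, 3, 0, 3, 0, 1, 2, 1, 2, 1, 0, 1, 0, 1, 2, 1, 2, 1, 0, 1, 0, 0],
    [2, 2, 2, 3, 0, 3, 0, 3, 0, 1, 2, 2, 1, 0, 0, 0, 0, 1, 0, 0, 1, 0, 0, 1, 0, 0],
    [2, 2, 2, 2, 3, 0, 3, 2, 1, 0, 0, 0, 1, 2, 1, 0, 0, 0, 0, 1, 0, 1, 0, 1, 2, 1],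
    [0, 1, 0, 1, 0, 1, 0, 0, 0, 0, 1, 2, 1, 2, 1, 2],
    [3, 2, 1, 0, 1, 2, 1, 2, 1, 0, 0, 1, 0, 0, 0, 1, 2, 1, 2],
    [3, 0, 0, 1, 0, 1, 2, 2, 2, 1, 0, 0, 0, 1, 2, 1, 2, 2, 1],
    [0, 0, 3, 2, 2, 3, 0, 3, 2, 1, 0, 0, 1, 0, 1, 2, 1, 0, 0, 0, 0, 1, 2, 1, 2, 2],
    [2, 3, 2, 2, 3, 2, 3, 2, 2, 1, 0, 0, 0, 0, 1, 0, 1, 0, 0, 1, 2, 1, 0, 0, 1, 0, 1],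
    [0, 3, 0, 0, 3, 2, 2, 2, 1, 2, 2, 1, 0, 0, 1, 0, 0, 0, 1, 2, 2, 1, 2],
    [2, 2, 3, 2, 2, 2, 2, 3, 0, 1, 0, 0, 1, 0, 0, 1, 2, 2, 2, 1, 0, 1, 0, 1, 2, 1],
    [0, 3, 0, 0, 3, 2, 2, 2, 2, 1, 0, 1, 2, 1, 0, 1, 2, 2, 1, 0, 0, 0, 1, 2, 2, 2],
    [2, 2, 2, 3, 0, 0, 0, 1, 2, 2, 2, 1, 2, 2, 1, 0, 1, 2, 1, 0, 0, 1, 2, 1],
    [2, 2, 3, 2, 3, 2, 2, 2, 3, 0, 0, 1, 0, 0, 0, 0, 1, 0, 0, 1, 2, 2, 1, 0, 1, 2, 2, 1, 0],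
    [3, 2, 2, 3, 0, 0, 0, 1, 2, 1, 2, 1, 0, 1, 0, 0, 0, 1, 2, 2, 2, 1, 2, 1],
    [0, 3, 2, 2, 1, 0, 1, 0, 0, 1, 0, 1, 2, 1, 0, 1, 0, 0, 1, 2, 1, 2],
    [2, 2, 3, 2, 3, 0, 0, 0, 3, 2, 1, 2, 1, 2, 2, 1, 0, 0, 0, 1, 2, 2, 2, 1, 2, 2, 2],
    [2, 2, 3, 2, 2, 3, 2, 3, 2, 3, 0, 1, 2, 2, 2, 1, 0, 0, 1, 2, 1, 2, 1, 0, 1, 0, 0, 1],
    [2, 2, 3, 0, 3, 2, 2, 3, 2, 2, 1, 2, 2, 2, 1, 0, 0, 0, 1, 0, 0, 1, 0, 0, 1, 0],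
    [2, 2, 2, 3, 0, 0, 0, 3, 0, 0, 1, 2, 1, 2, 1, 2, 1, 2, 2, 2, 1, 0, 1, 2, 1, 0, 0],
    [2, 2, 2, 3, 0, 0, 1, 0, 0, 1, 0, 0, 0, 0, 1, 2, 2, 1, 2, 2, 1, 0, 0, 0],
    [2, 3, 2, 2, 2, 2, 3, 0, 3, 2, 1, 2, 2, 2, 1, 0, 1, 2, 1, 0, 1, 2, 2, 1, 0, 1, 2],
    [2, 2, 3, 0, 0, 0, 3, 0, 1, 2, 2, 2, 1, 0, 0, 0, 1, 2, 1, 2, 2, 2, 1, 0, 0],
    [2, 3, 2, 2, 2, 1, 2, 2, 1, 0, 0, 1, 2, 2, 1, 0, 0, 1, 0, 0, 0, 1, 0],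
    [2, 2, 3, 2, 3, 0, 0, 0, 1, 0, 0, 1, 2, 1, 2, 1, 2, 1, 2, 2, 2, 1, 0, 1, 0],
    [3, 0, 0, 3, 2, 1, 0, 1, 0, 1, 0, 0, 0, 1, 0, 1, 2, 1, 0, 0, 1, 2],
    [3, 2, 3, 2, 2, 1, 0, 0, 0, 1, 2, 1, 0, 1, 2, 2, 2, 1, 0, 0, 1, 0, 1],
    [2, 2, 2, 3, 0, 0, 3, 2, 1, 0, 1, 2, 1, 0, 1, 2, 1, 0, 1, 2, 2, 1, 0, 0, 0],
    [3, 0, 0, 0, 3, 0, 3, 2, 1, 0, 1, 0, 1, 0, 1, 2, 2, 1, 0, 0, 0, 1, 2, 2, 2],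
    [2, 1, 2, 2, 1, 0, 0, 0, 1, 2, 2, 2, 1, 0, 0, 1, 0],
    [3, 2, 2, 3, 2, 1, 0, 0, 1, 0, 0, 0, 0, 1, 2, 2, 1, 0, 1, 0, 0, 1],
    [2, 2, 2, 3, 2, 2, 3, 2, 2, 1, 2, 1, 0, 1, 2, 2, 2, 1, 0, 1, 0, 1, 0, 0, 1, 2, 1],
    [2, 3, 2, 2, 2, 3, 0, 3, 2, 2, 2, 1, 0, 0, 0, 0, 1, 0, 1, 0, 1, 2, 1, 2, 1, 2, 1],
    [3, 2, 2, 3, 0, 3, 0, 3, 0, 1, 0, 1, 0, 1, 2, 1, 0, 0, 0, 1, 0, 0, 1, 0, 1, 2, 2],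
    [3, 2, 2, 2, 3, 0, 3, 0, 1, 0, 0, 1, 2, 2, 1, 2, 1, 0, 0, 1, 0, 0, 0, 1, 0, 1],
    [2, 2, 3, 0, 0, 3, 2, 2, 3, 0, 1, 0, 0, 0, 1, 2, 1, 2, 1, 0, 1, 2, 2, 1, 2, 2, 2, 1],
    [2, 2, 3, 0, 0, 0, 1, 0, 1, 0, 0, 1, 2, 2, 1, 2, 2, 1, 2, 1, 0, 0, 1, 0],
    [2, 3, 0, 0, 3, 0, 0, 1, 0, 0, 1, 0, 1, 0, 0, 0, 0, 1, 0, 1, 2, 2, 1],
    [3, 2, 3, 0, 3, 0, 3, 0, 0, 0, 1, 0, 0, 0, 0, 1, 2, 2, 2, 1, 2, 1, 2, 1, 0, 1],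
    [2, 3, 2, 3, 0, 3, 2, 2, 2, 2, 1, 0, 1, 2, 1, 0, 0, 0, 0, 1, 2, 1, 0, 1, 0, 1],
    [3, 0, 3, 0, 0, 3, 0, 3, 2, 2, 1, 2, 1, 2, 1, 2, 1, 2, 2, 1, 0, 0, 1, 2, 1, 2, 2],
    [3, 0, 0, 3, 2, 2, 3, 2, 1, 0, 1, 0, 1, 0, 0, 1, 0, 1, 0, 0, 1, 2, 2, 1, 2, 2],
    [3, 2, 3, 0, 3, 2, 1, 2, 1, 2, 2, 1, 0, 0, 1, 0, 1, 0, 1, 2, 1, 0, 1],
    [2, 2, 2, 2, 3, 2, 3, 2, 2, 2, 1, 2, 2, 1, 0, 0, 1, 2, 1, 2, 2, 2, 1, 0, 0, 1, 0],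
    [3, 2, 3, 0, 3, 2, 2, 2, 2, 1, 2, 1, 2, 1, 0, 0, 0, 1, 0, 0, 1, 0, 0, 0, 1, 2],
    [2, 2, 3, 0, 0, 0, 1, 0, 1, 0, 1, 2, 1, 2, 1, 2, 2, 2, 1, 0, 0],
    [3, 0, 3, 0, 0, 0, 3, 2, 2, 1, 2, 2, 1, 0, 0, 1, 0, 0, 1, 2, 2, 2, 1, 2, 1],
    [2, 3, 0, 0, 0, 3, 2, 2, 2, 3, 0, 0, 1, 0, 1, 0, 1, 2, 2, 2, 1, 0, 0, 1, 0, 0, 0, 1],
    [3, 2, 2, 2, 3, 2, 1, 0, 1, 2, 1, 0, 1, 0, 0, 0, 0, 1, 0, 0, 0, 0, 1, 2],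
    [2, 2, 2, 3, 0, 0, 0, 1, 0, 1, 2, 2, 1, 0, 0, 0, 1, 2, 1, 2, 1, 0, 0],
    [3, 0, 3, 2, 3, 2, 2, 1, 0, 0, 0, 1, 0, 0, 1, 2, 2, 1, 2, 1, 2, 1, 2, 2],
    [2, 2, 3, 2, 2, 3, 0, 0, 1, 2, 2, 1, 2, 2, 2, 1, 2, 2, 2, 1, 0, 0, 1, 2, 1],
    [2, 3, 2, 2, 2, 2, 3, 2, 1, 2, 1, 0, 0, 0, 0, 1, 0, 1, 0, 1, 0, 0, 0, 0, 1, 0],
    [3, 2, 3, 2, 2, 2, 3, 0, 3, 0, 1, 0, 0, 0, 0, 1, 0, 1, 2, 1, 2, 1, 0, 1, 0, 1, 2],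
    [3, 0, 3, 0, 0, 3, 2, 1, 0, 0, 0, 1, 0, 1, 2, 2, 1, 0, 1, 0, 0, 1, 0, 1, 2],
    [3, 2, 2, 2, 3, 2, 2, 2, 2, 3, 0, 0, 0, 0, 1, 0, 0, 0, 0, 1, 0, 1, 0, 0, 0, 1, 2, 2],
    [0, 0, 0, 3, 0, 3, 0, 1, 0, 0, 1, 0, 1, 2, 1, 2, 2, 1, 2, 1, 2, 1, 2, 2, 2],
    [2, 2, 3, 2, 3, 2, 2, 2, 2, 1, 0, 1, 0, 0, 0, 0, 1, 2, 1, 0, 0, 0, 0, 1, 0, 1],
    [2, 2, 2, 2, 3, 0, 0, 0, 1, 2, 1, 0, 0, 0, 0, 1, 0, 1, 2, 2, 2, 1, 0, 0, 0, 0],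
    [3, 0, 3, 0, 3, 0, 0, 3, 0, 1, 2, 1, 0, 1, 0, 0, 0, 1, 0, 0, 0, 1, 2, 2, 2, 1],
    [0, 1, 0, 1, 0, 0, 0, 0, 1, 2, 1, 2],
    [2, 2, 3, 0, 0, 0, 1, 2, 2, 1, 2, 1, 0, 0, 0, 1, 0, 1, 0, 0, 0, 1, 2, 1],
    [2, 3, 2, 3, 0, 0, 3, 2, 2, 2, 1, 2, 1, 0, 1, 0, 0, 1, 0, 1, 0, 0, 1, 2, 1, 2, 1],
    [3, 2, 3, 0, 3, 0, 3, 0, 1, 2, 1, 2, 2, 1, 0, 1, 0, 1, 0, 0, 1, 0, 1, 0, 1, 2],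
    [2, 2, 3, 0, 0, 3, 0, 3, 2, 1, 0, 0, 0, 1, 2, 2, 1, 0, 0, 0, 1, 0, 1, 2, 2, 1],
    [2, 3, 2, 2, 3, 0, 0, 3, 0, 1, 0, 1, 2, 2, 2, 1, 2, 1, 2, 1, 0, 0, 0, 1, 0, 1, 2],
    [2, 3, 0, 0, 3, 2, 2, 2, 1, 0, 1, 2, 1, 2, 1, 0, 0, 1, 2, 1, 0, 0, 1, 2, 1, 2],
    [2, 3, 0, 0, 3, 2, 2, 1, 0, 1, 0, 0, 1, 2, 2, 2, 1, 2, 1, 2, 1, 2, 2, 2, 1],
    [2, 2, 2, 3, 2, 3, 2, 3, 0, 0, 1, 0, 0, 1, 2, 2, 1, 2, 1, 2, 1, 0, 0, 0, 0, 1],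
    [3, 2, 3, 0, 0, 3, 2, 2, 2, 2, 1, 0, 0, 0, 1, 0, 1, 0, 0, 0, 1, 0, 0, 1, 2, 1],
    [3, 2, 2, 2, 3, 2, 2, 2, 2, 1, 2, 2, 1, 0, 0, 1, 0, 0, 0, 0, 1, 0, 0, 0, 1],
    [0, 3, 0, 0, 3, 2, 2, 2, 1, 0, 0, 1, 2, 2, 1, 0, 0, 0, 1, 2, 2, 1, 2],
    [2, 2, 3, 0, 0, 0, 3, 0, 1, 2, 2, 2, 1, 0, 0, 0, 0, 1, 0, 0, 0, 1, 2, 1, 2],
    [0, 1, 0, 1, 2, 2, 2, 1, 0, 0, 0, 1, 2, 1, 2],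
    [2, 3, 0, 3, 2, 2, 2, 2, 3, 2, 2, 1, 2, 1, 0, 1, 0, 0, 1, 0, 0, 0, 0, 1, 2, 1, 0],
    [2, 2, 2, 3, 0, 3, 2, 2, 1, 2, 2, 1, 2, 2, 2, 1, 2, 1, 2, 2, 1, 0, 0, 1, 0],
    [2, 2, 3, 2, 3, 2, 2, 1, 2, 2, 1, 0, 1, 2, 2, 2, 1, 2, 1, 2, 1, 2, 1, 2, 2],
    [0, 0, 1, 0, 1, 0, 0, 1, 2, 1, 0, 1, 2, 2, 1, 2, 1, 2, 2],
    [0, 3, 2, 3, 0, 0, 3, 0, 0, 1, 0, 0, 1, 2, 2, 1, 2, 2, 1, 2, 2, 1, 0, 1, 2],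
    [2, 3, 2, 3, 0, 3, 0, 3, 2, 2, 3, 2, 2, 1, 0, 0, 0, 1, 2, 1, 2, 2, 1, 2, 2, 1, 2, 2, 1],
    [2, 2, 2, 3, 2, 2, 3, 0, 0, 1, 2, 1, 2, 2, 2, 1, 0, 0, 1, 2, 2, 2, 1, 2, 1],
    [2, 3, 0, 3, 0, 0, 1, 2, 1, 2, 2, 1, 0, 0, 1, 0, 1, 2, 2, 1, 2, 1, 0],
    [3, 0, 3, 0, 3, 2, 2, 1, 2, 1, 0, 1, 2, 1, 0, 1, 0, 0, 1, 2, 1, 2, 1],
    [0, 0, 1, 0, 1, 0, 0, 1, 0, 0, 0, 0, 1, 2, 2, 1, 2, 1, 2, 2],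
    [2, 2, 2, 3, 0, 3, 0, 1, 2, 2, 1, 2, 1, 2, 2, 2, 1, 2, 2, 1, 0, 1, 2, 2, 2],
    [3, 0, 3, 2, 3, 2, 3, 0, 1, 2, 1, 2, 2, 2, 1, 0, 0, 1, 2, 1, 2, 2, 2, 1, 2, 1],
    [3, 2, 2, 3, 0, 3, 0, 3, 0, 1, 2, 1, 0, 0, 1, 0, 1, 0, 0, 0, 1, 2, 2, 2, 1, 2, 2],
    [2, 3, 0, 3, 2, 2, 3, 0, 0, 1, 0, 1, 0, 0, 0, 1, 2, 1, 2, 2, 1, 2, 1, 2, 2, 1],
    [2, 3, 0, 1, 0, 0, 0, 1, 0, 0, 1, 0, 0, 1, 0, 0, 1, 2, 2, 1, 2],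
    [2, 3, 2, 3, 0, 1, 2, 2, 1, 2, 2, 1, 0, 0, 1, 0, 0, 1, 2, 1, 0, 1, 0],
    [2, 2, 3, 0, 0, 3, 2, 3, 2, 2, 1, 2, 2, 1, 2, 2, 1, 2, 2, 1, 2, 1, 0, 0, 1, 2, 2, 1],
    [2, 3, 0, 3, 0, 0, 0, 3, 2, 1, 0, 1, 0, 1, 2, 1, 2, 2, 1, 0, 0, 1, 0, 1, 2, 2, 2],
    [0, 3, 0, 1, 2, 2, 2, 1, 0, 0, 0, 0, 1, 0, 0, 0, 1, 2, 1, 2],
    [2, 2, 2, 3, 2, 3, 0, 0, 0, 1, 0, 0, 1, 0, 0, 0, 1, 0, 0, 1, 0, 1, 0, 0, 1, 2, 1],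
    [2, 2, 2, 2, 3, 0, 3, 0, 1, 2, 2, 1, 2, 1, 2, 2, 2, 1, 2, 2, 1, 0, 1, 2, 2],
    [3, 0, 0, 1, 2, 2, 2, 1, 2, 1, 0, 0, 1, 0, 0, 1, 2, 2, 1, 2, 2],
    [2, 2, 3, 2, 3, 0, 3, 2, 2, 2, 2, 1, 0, 1, 2, 1, 0, 0, 1, 2, 2, 2, 1, 2, 1, 2],
    [2, 2, 3, 0, 0, 0, 1, 2, 1, 0, 0, 1, 0, 0, 1, 0, 1, 2, 2, 1, 0, 1, 2, 2],
    [2, 2, 2, 3, 0, 1, 0, 1, 2, 1, 2, 1, 0, 1, 0, 1, 2, 1, 2, 1, 0, 0, 0],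
    [2, 2, 2, 3, 2, 3, 2, 2, 1, 0, 1, 2, 2, 1, 0, 1, 0, 1, 2, 1, 0, 1, 0, 0, 1, 0],
    [3, 2, 3, 0, 3, 2, 2, 1, 0, 1, 0, 1, 0, 1, 2, 2, 1, 0, 0, 1, 0, 1, 2, 2, 1],
    [3, 2, 2, 2, 3, 0, 1, 0, 0, 1, 0, 0, 1, 2, 2, 1, 2, 1, 2, 1, 2, 2, 1, 2],
    [2, 1, 2, 2, 1, 2, 2, 1, 0, 0, 1, 0, 0, 1, 0],
    [2, 3, 0, 0, 3, 2, 3, 2, 1, 0, 0, 1, 0, 1, 2, 1, 2, 1, 2, 2, 1, 2, 2, 2, 1, 2],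
    [2, 2, 3, 0, 0, 3, 0, 1, 2, 2, 2, 1, 2, 1, 2, 2, 2, 1, 0, 1, 0, 0, 1, 2],
    [2, 3, 2, 3, 2, 2, 2, 2, 1, 2, 1, 0, 1, 2, 1, 0, 0, 0, 1, 0, 0, 0, 1, 0, 0, 1],
    [0, 0, 3, 0, 3, 0, 0, 0, 1, 2, 2, 1, 2, 1, 0, 1, 2, 1, 2, 2, 1, 2, 2, 1, 2, 2],
    [2, 2, 3, 0, 3, 2, 3, 0, 0, 1, 2, 2, 1, 2, 1, 0, 0, 1, 2, 2, 2, 1, 2, 1, 2, 2, 1],
    [2, 2, 3, 0, 0, 3, 0, 0, 3, 2, 2, 1, 0, 1, 0, 0, 1, 0, 0, 1, 0, 0, 1, 0, 0, 1, 0, 1],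
    [3, 2, 2, 3, 0, 0, 3, 2, 3, 2, 1, 0, 0, 1, 0, 1, 2, 1, 0, 0, 1, 0, 0, 1, 2, 2, 1],
    [2, 2, 2, 2, 3, 0, 0, 1, 0, 0, 0, 1, 0, 1, 0, 0, 1, 2, 2, 1, 2, 2, 1, 2, 2],
    [2, 2, 3, 2, 3, 2, 2, 1, 0, 0, 1, 2, 1, 0, 1, 2, 2, 1, 0, 0, 1, 0, 1, 0, 0],
    [2, 2, 3, 2, 3, 2, 3, 2, 2, 1, 0, 1, 0, 1, 2, 1, 2, 2, 2, 1, 2, 2, 1, 2, 2, 1, 2],
    [2, 2, 3, 0, 3, 2, 2, 1, 0, 0, 0, 1, 2, 2, 2, 1, 0, 0, 1, 2, 1, 0, 0],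
    [2, 2, 2, 2, 3, 0, 3, 0, 1, 2, 2, 1, 2, 1, 0, 1, 2, 1, 0, 0, 0, 1, 2, 2, 1, 0],
    [2, 3, 2, 1, 2, 1, 2, 2, 1, 0, 1, 2, 1, 0, 0, 1, 0, 1, 0, 1, 0],
    [0, 0, 3, 2, 1, 2, 2, 2, 1, 0, 0, 0, 0, 1, 0, 0, 0, 1, 0, 1, 2, 2],
    [3, 0, 3, 0, 3, 0, 3, 0, 1, 2, 2, 1, 0, 0, 0, 0, 1, 0, 0, 1, 0, 0, 1, 2, 2],
    [2, 3, 2, 2, 3, 2, 2, 1, 2, 2, 2, 1, 0, 0, 0, 1, 0, 0, 1, 0, 0, 1, 0],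
    [3, 0, 3, 2, 3, 2, 3, 0, 0, 0, 1, 0, 0, 0, 0, 1, 2, 2, 2, 1, 0, 1, 0, 1, 2, 1],
    [2, 3, 0, 0, 3, 0, 0, 3, 0, 0, 0, 1, 2, 1, 0, 1, 2, 2, 2, 1, 2, 2, 1, 2, 2, 1, 0],
    [3, 0, 3, 2, 2, 2, 2, 3, 0, 1, 0, 1, 0, 0, 0, 1, 0, 0, 1, 2, 2, 1, 2, 2, 1, 2],
    [2, 2, 2, 2, 3, 2, 3, 2, 2, 2, 2, 1, 0, 1, 0, 0, 0, 1, 2, 2, 2, 1, 2, 2, 2, 1, 0, 1, 2],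
    [3, 2, 2, 2, 2, 1, 2, 2, 2, 1, 0, 1, 2, 1, 0, 0, 1, 0, 1, 2],
    [3, 2, 2, 2, 3, 0, 0, 1, 2, 2, 2, 1, 0, 0, 0, 1, 2, 2, 1, 0, 0, 0, 1],
    [3, 2, 3, 0, 0, 0, 3, 0, 1, 0, 0, 1, 0, 0, 1, 2, 1, 2, 1, 2, 2, 1, 0, 1, 2, 2],
    [3, 2, 3, 0, 3, 2, 2, 1, 2, 2, 2, 1, 0, 0, 0, 1, 0, 0, 1, 2, 1, 0, 1],
    [3, 0, 3, 2, 3, 0, 0, 0, 1, 2, 2, 2, 1, 0, 0, 0, 1, 2, 2, 2, 1, 0, 1, 2, 1],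
    [0, 0, 1, 2, 1, 0, 0, 1, 0, 1, 2, 1, 2, 2, 1, 0, 1, 2, 2],
    [3, 2, 2, 3, 0, 3, 0, 3, 0, 0, 0, 1, 2, 1, 0, 0, 1, 0, 0, 0, 0, 1, 2, 2, 1, 2],
    [2, 2, 2, 3, 0, 0, 3, 2, 3, 0, 0, 0, 1, 2, 2, 1, 0, 0, 0, 1, 2, 2, 1, 0, 1, 2, 2, 2, 1],
    [3, 2, 2, 3, 0, 3, 2, 2, 1, 2, 1, 0, 0, 1, 0, 0, 1, 0, 0, 1, 0, 1, 2, 2, 1],
    [2, 2, 2, 2, 3, 2, 3, 2, 3, 2, 2, 1, 2, 1, 2, 2, 1, 2, 2, 1, 2, 1, 0, 0, 1, 2, 1, 0, 0],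
    [2, 3, 2, 3, 0, 3, 2, 2, 2, 2, 1, 0, 0, 1, 0, 0, 1, 0, 0, 1, 2, 1, 0, 0, 1, 2, 2, 1],
    [3, 2, 2, 3, 0, 0, 0, 3, 2, 2, 1, 2, 2, 1, 0, 1, 2, 1, 2, 2, 1, 2, 1, 2, 1, 2, 2, 2],
    [2, 2, 3, 2, 2, 3, 2, 3, 2, 1, 2, 2, 1, 2, 1, 2, 2, 1, 2, 2, 1, 2, 1, 0, 0, 1, 0],
    [2, 2, 3, 2, 1, 0, 0, 1, 2, 2, 1, 0, 0, 0, 0, 1, 2, 1, 0, 0, 1, 2],
    [3, 0, 3, 0, 3, 0, 3, 0, 0, 3, 2, 2, 2, 2, 1, 2, 2, 2, 1, 2, 1, 2, 1, 2, 2, 2, 1, 2, 2],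
    [0, 1, 0, 1, 0, 1, 2, 1, 2, 1, 2],
    [2, 3, 0, 3, 2, 3, 2, 3, 0, 1, 2, 1, 0, 1, 0, 0, 0, 0, 1, 0, 1, 2, 2, 1, 2, 1],
    [2, 2, 2, 3, 2, 2, 2, 2, 1, 2, 2, 2, 1, 2, 2, 2, 1, 2, 2, 2, 1, 0, 1, 0, 0, 0],
    [2, 2, 2, 2, 3, 2, 2, 3, 0, 0, 0, 0, 1, 0, 0, 1, 2, 1, 2, 1, 2, 1, 0, 1, 0, 0],
    [3, 0, 3, 0, 3, 0, 3, 2, 1, 2, 1, 0, 1, 0, 0, 0, 1, 0, 1, 2, 1, 2, 2, 2, 1],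
    [2, 3, 2, 2, 3, 0, 3, 2, 3, 0, 1, 2, 2, 1, 0, 0, 1, 2, 1, 0, 1, 2, 1, 0, 0, 1, 0],
    [0, 0, 3, 0, 3, 0, 0, 1, 2, 1, 0, 0, 0, 0, 1, 0, 1, 2, 2, 1, 2, 1, 2, 2],
    [2, 2, 2, 2, 3, 0, 0, 1, 2, 2, 1, 2, 2, 2, 1, 2, 2, 2, 1, 0, 0, 1, 2, 1],
    [2, 2, 3, 2, 3, 2, 3, 2, 2, 2, 1, 0, 0, 1, 2, 2, 2, 1, 0, 1, 2, 2, 2, 1, 0],
    [2, 2, 3, 2, 3, 0, 3, 2, 1, 0, 1, 2, 2, 1, 2, 1, 0, 0, 1, 0, 0, 1, 2, 1, 2],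
    [2, 3, 2, 3, 2, 3, 0, 0, 3, 0, 0, 1, 2, 1, 2, 2, 1, 2, 2, 2, 1, 0, 1, 2, 1, 2, 1],
    [2, 2, 3, 2, 3, 2, 3, 2, 2, 1, 2, 1, 0, 1, 2, 1, 2, 1, 0, 1, 0, 1, 0, 0, 1, 2],
    [2, 3, 2, 3, 0, 0, 3, 0, 1, 2, 2, 2, 1, 2, 1, 0, 0, 0, 1, 0, 1, 2, 2, 1, 2],
    [2, 3, 2, 2, 2, 2, 3, 2, 3, 2, 2, 1, 0, 1, 2, 2, 2, 1, 0, 0, 1, 2, 2, 1, 2, 1, 0],
    [0, 0, 0, 3, 0, 0, 1, 2, 2, 1, 2, 1, 0, 1, 0, 0, 1, 2, 2, 1, 2, 2, 2],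
    [2, 2, 3, 0, 3, 2, 1, 2, 1, 0, 0, 1, 0, 1, 2, 1, 2, 2, 1, 0, 1, 0, 1, 0],
    [2, 3, 2, 2, 3, 2, 3, 2, 2, 2, 1, 2, 1, 0, 1, 2, 2, 1, 2, 1, 0, 0, 1, 0, 1],
    [2, 3, 0, 3, 0, 0, 3, 2, 1, 2, 2, 2, 1, 0, 1, 2, 1, 2, 1, 0, 0, 1, 0, 0, 1],
    [2, 2, 2, 2, 3, 2, 3, 2, 3, 2, 2, 1, 0, 0, 0, 0, 1, 0, 0, 1, 0, 1, 0, 1, 0, 0, 0, 0],
    [2, 2, 3, 2, 1, 0, 1, 0, 1, 0, 1, 2, 1, 2, 1, 2, 1, 0, 1, 0, 0],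
    [3, 2, 2, 2, 2, 3, 2, 2, 1, 2, 2, 2, 1, 0, 0, 0, 1, 0, 1, 2, 2, 1, 2, 1, 0, 1],
    [2, 3, 2, 2, 3, 0, 3, 0, 0, 3, 0, 0, 0, 0, 1, 2, 1, 2, 1, 0, 0, 0, 1, 0, 1, 2, 2, 2],
    [3, 0, 0, 3, 2, 2, 3, 2, 2, 1, 2, 1, 2, 1, 0, 0, 0, 1, 2, 1, 2, 2, 2, 1, 2, 2],
    [3, 2, 3, 0, 3, 0, 3, 2, 2, 1, 0, 0, 1, 2, 2, 2, 1, 0, 0, 0, 1, 2, 1, 2, 1, 2, 2],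
    [3, 2, 3, 2, 3, 0, 3, 0, 1, 2, 1, 2, 2, 2, 1, 2, 2, 1, 0, 1, 2, 1, 2, 2, 1, 2],
    [3, 2, 3, 0, 0, 1, 0, 1, 0, 1, 2, 1, 0, 1, 2, 1, 2, 1, 2, 2, 1, 0, 1],
    [3, 0, 3, 2, 3, 2, 1, 0, 1, 0, 1, 0, 1, 2, 2, 1, 0, 1, 0, 1, 2, 2, 2],
    [2, 2, 3, 0, 3, 0, 0, 1, 2, 1, 2, 2, 1, 0, 1, 0, 1, 0, 1, 2, 1, 0, 1, 2, 2],
    [3, 2, 2, 3, 0, 3, 0, 3, 2, 2, 1, 0, 1, 2, 1, 0, 0, 1, 2, 1, 2, 1, 0, 1, 0, 1],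
    [2, 3, 2, 1, 2, 2, 2, 1, 2, 2, 1, 0, 0, 1, 0, 0, 0, 1, 0, 1, 0],
    [2, 2, 3, 0, 0, 3, 0, 3, 2, 1, 2, 1, 0, 0, 0, 1, 2, 2, 1, 2, 2, 1, 2, 1, 2, 2],
    [2, 2, 3, 2, 2, 2, 2, 3, 2, 1, 0, 0, 0, 0, 1, 2, 2, 1, 2, 1, 0, 1, 0, 0, 0, 1],
    [0, 3, 2, 3, 0, 0, 3, 2, 1, 0, 1, 0, 0, 0, 0, 1, 2, 1, 0, 1, 2, 2, 1, 0, 1, 2],
    [0, 3, 0, 0, 0, 3, 2, 1, 0, 0, 1, 0, 1, 2, 1, 2, 2, 1, 0, 1, 2, 2, 2, 1, 2],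
    [2, 2, 2, 3, 0, 0, 3, 2, 2, 2, 2, 1, 0, 1, 2, 1, 0, 0, 0, 0, 1, 2, 2, 1, 0, 0, 0],
    [2, 3, 0, 3, 0, 3, 2, 2, 1, 0, 1, 0, 0, 0, 0, 1, 2, 1, 0, 0, 1, 2, 1, 2, 1, 0],
    [2, 3, 2, 2, 2, 2, 3, 2, 2, 1, 0, 1, 0, 1, 0, 1, 2, 2, 2, 1, 2, 2, 1, 2, 1, 2, 1],
    [2, 2, 3, 0, 3, 2, 2, 2, 2, 3, 0, 0, 1, 0, 0, 1, 0, 1, 2, 2, 2, 1, 0, 0, 1, 2, 2, 1],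
    [2, 3, 0, 0, 3, 0, 3, 0, 1, 0, 1, 2, 2, 1, 2, 1, 2, 1, 0, 0, 1, 2, 1, 2, 1],
    [2, 3, 0, 3, 0, 3, 2, 2, 3, 0, 0, 1, 0, 1, 2, 2, 2, 1, 2, 1, 2, 1, 2, 2, 1, 0, 1],
    [2, 2, 3, 2, 2, 3, 0, 0, 1, 2, 2, 2, 1, 0, 0, 1, 2, 1, 2, 1, 2, 1, 2, 1, 0, 1],
    [0, 3, 2, 3, 0, 3, 2, 3, 0, 1, 2, 1, 0, 1, 2, 1, 0, 1, 2, 1, 0, 1, 2, 1, 0, 1, 2],
    [3, 2, 3, 0, 3, 2, 1, 2, 1, 0, 0, 1, 2, 2, 1, 0, 1, 0, 1, 2, 1, 0, 1],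
    [2, 2, 2, 3, 0, 3, 2, 3, 2, 2, 1, 0, 1, 2, 1, 0, 0, 0, 0, 1, 0, 0, 1, 2, 1, 2],
    [0, 3, 2, 2, 3, 2, 2, 2, 2, 1, 2, 2, 1, 0, 0, 1, 0, 0, 0, 0, 1, 0, 0, 1, 2],
    [2, 2, 3, 0, 3, 0, 3, 2, 1, 0, 0, 1, 2, 2, 2, 1, 0, 0, 0, 0, 1, 0, 1, 0, 1, 0],
    [2, 3, 2, 2, 3, 2, 3, 0, 3, 2, 2, 1, 0, 0, 1, 0, 0, 1, 0, 1, 0, 1, 0, 0, 1, 2, 2],
    [2, 3, 2, 3, 0, 0, 0, 1, 2, 1, 0, 0, 0, 1, 2, 1, 0, 1, 2, 2, 1, 0, 0, 1],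
    [2, 2, 2, 2, 3, 0, 0, 1, 2, 2, 1, 2, 1, 2, 2, 2, 1, 2, 2, 1, 2, 2, 1, 2, 2],
    [3, 0, 3, 2, 2, 2, 2, 1, 2, 1, 0, 0, 1, 2, 2, 2, 1, 2, 1, 0, 1, 0, 1, 2],
    [2, 2, 3, 2, 3, 2, 2, 1, 0, 0, 1, 2, 1, 2, 1, 2, 1, 0, 0, 1, 2, 1, 2, 2, 2],
    [3, 0, 3, 2, 3, 2, 3, 0, 0, 1, 0, 0, 0, 1, 0, 1, 0, 1, 2, 2, 1, 0, 0, 0, 1, 2],
    [2, 2, 3, 0, 1, 2, 2, 1, 0, 1, 0, 0, 1, 0, 0, 1, 2, 2, 1, 2, 1, 2],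
    [2, 3, 0, 3, 2, 3, 2, 3, 0, 0, 0, 1, 2, 1, 0, 0, 1, 2, 2, 2, 1, 0, 0, 1, 0, 1],
    [0, 3, 0, 1, 0, 1, 0, 0, 0, 0, 1, 0, 0, 0, 0, 1, 2, 1, 2, 1, 2],
    [0, 0, 0, 1, 2, 1, 2, 1, 0, 1, 0, 1, 2, 2, 2],
    [0, 0, 3, 0, 3, 0, 0, 3, 2, 1, 2, 1, 2, 2, 1, 0, 1, 0, 1, 2, 1, 0, 1, 2, 2, 2],
    [2, 2, 1, 0, 0],
    [2, 3, 2, 3, 2, 3, 0, 1, 2, 2, 2, 1, 2, 2, 1, 2, 1, 0, 1, 0, 1, 2, 1, 2, 2],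
    [2, 3, 0, 3, 2, 3, 2, 3, 2, 1, 2, 2, 1, 0, 0, 1, 0, 0, 0, 0, 1, 0, 0, 1, 2, 1],
    [3, 2, 3, 0, 1, 2, 1, 2, 1, 0, 0, 0, 0, 1, 0, 1, 0, 1, 2, 1, 0, 1],
    [3, 2, 2, 2, 3, 2, 2, 2, 2, 1, 0, 0, 0, 1, 2, 2, 2, 1, 0, 0, 0, 0, 1, 0, 0, 0, 1],
    [3, 2, 2, 3, 0, 3, 0, 3, 0, 0, 1, 2, 2, 2, 1, 2, 2, 1, 0, 1, 2, 2, 1, 2, 2, 2],
    [3, 0, 3, 2, 1, 0, 1, 2, 1, 2, 1, 0, 0, 1, 0, 1, 0, 1, 2, 2, 1, 2],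
    [3, 0, 3, 0, 0, 0, 3, 2, 2, 1, 0, 0, 0, 1, 2, 1, 2, 1, 0, 0, 1, 2, 1, 2, 2, 2],
    [3, 2, 3, 0, 3, 0, 3, 0, 0, 1, 0, 1, 2, 2, 1, 0, 0, 1, 2, 1, 0, 0, 0, 1, 2, 1, 2],
    [2, 3, 0, 3, 2, 2, 3, 0, 3, 2, 1, 2, 1, 0, 0, 1, 0, 0, 1, 2, 1, 0, 0, 1, 0, 1, 2],
    [2, 3, 2, 3, 2, 1, 0, 0, 0, 1, 2, 2, 2, 1, 2, 1, 2, 2, 1, 0, 0, 1],
    [2, 2, 3, 2, 3, 0, 0, 3, 2, 1, 2, 1, 0, 0, 1, 0, 0, 1, 2, 1, 0, 1, 2, 1, 0, 1],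
    [0, 3, 0, 0, 1, 2, 2, 2, 1, 0, 0, 0, 0, 1, 0, 0, 0, 1, 2, 2, 1, 2],
    [3, 0, 0, 3, 2, 3, 2, 2, 3, 0, 0, 1, 2, 1, 2, 1, 2, 1, 0, 1, 2, 1, 0, 1, 2, 1, 2],
    [2, 2, 2, 2, 3, 2, 3, 2, 1, 2, 2, 1, 0, 0, 1, 2, 1, 2, 1, 2, 2, 2, 1, 0, 0],
    [2, 2, 3, 2, 2, 1, 2, 1, 2, 1, 2, 2, 1, 0, 0, 1, 2, 1, 2, 1, 2],
    [2, 2, 3, 2, 2, 3, 2, 3, 0, 0, 0, 1, 2, 2, 1, 0, 1, 2, 1, 2, 1, 0, 0, 0, 1, 0, 0, 1],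
    [2, 2, 3, 0, 3, 0, 0, 0, 3, 2, 1, 0, 1, 0, 1, 2, 1, 2, 2, 1, 0, 0, 1, 0, 1, 2, 2],
    [2, 2, 2, 3, 0, 0, 3, 0, 1, 2, 1, 2, 2, 1, 2, 2, 1, 2, 2, 1, 2, 2, 2, 1, 0],
    [2, 2, 3, 0, 0, 0, 1, 0, 1, 0, 0, 0, 0, 1, 2, 1, 2, 2, 2, 1, 0, 0],
    [2, 3, 2, 3, 2, 3, 2, 1, 2, 2, 1, 2, 2, 1, 2, 1, 2, 2, 1, 2, 1, 0, 1, 0],
    [2, 3, 2, 2, 2, 2, 1, 2, 2, 2, 1, 0, 0, 0, 1, 0, 0, 0, 0, 1, 0],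
    [3, 2, 2, 3, 2, 3, 0, 1, 0, 1, 2, 1, 2, 2, 2, 1, 2, 1, 2, 1, 0, 1, 2, 2, 2],
    [0, 3, 2, 2, 2, 3, 0, 1, 2, 1, 2, 2, 1, 0, 1, 2, 1, 0, 0, 0, 1, 2, 1, 2],
    [3, 0, 3, 0, 0, 0, 1, 2, 1, 0, 1, 2, 1, 0, 1, 2, 2, 2, 1, 2, 1],
    [2, 2, 2, 3, 0, 3, 2, 2, 1, 0, 0, 1, 2, 2, 2, 1, 0, 1, 0, 1, 0, 0, 1, 2],
    [2, 2, 3, 2, 2, 2, 1, 2, 1, 2, 1, 0, 1, 0, 1, 0, 0, 0, 1, 0, 0],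
    [2, 3, 0, 0, 0, 3, 0, 0, 1, 0, 0, 1, 2, 1, 0, 1, 2, 2, 1, 2, 2, 1, 2, 2],
    [2, 2, 2, 3, 2, 3, 2, 3, 2, 2, 1, 2, 1, 0, 0, 1, 0, 0, 1, 0, 1, 2, 1, 0, 1, 2],
    [3, 2, 3, 0, 0, 0, 3, 2, 3, 2, 3, 2, 2, 1, 2, 2, 2, 1, 0, 0, 0, 1, 2, 2, 1, 2, 1, 2, 2]]

/-- Parents of the conjugates. -/
def clsPar : List (ℕ × ℕ) := [(0, 0), (0, 0), (1, 0), (0, 1), (1, 1), (0, 2), (1, 2), (0, 3), (1, 3), (0, 4), (1, 4), (0, 5), (1, 5), (0, 6), (1, 6), (0, 7), (1, 7), (0, 8), (1, 8), (0, 9), (1, 9), (0, 10), (1, 10), (0, 11), (1, 11), (0, 12), (1, 12), (0, 13), (1, 13), (0, 14), (1, 14), (0, 15), (1, 15), (0, 16), (1, 16), (0, 17), (1, 17), (0, 18), (1, 18), (0, 19), (1, 19), (0, 20), (1, 20), (1,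 21), (0, 22), (1, 22), (0, 23), (1, 23), (0, 24), (1, 24), (0, 25), (1, 25), (0, 26), (1, 26), (0, 27), (1, 27), (1, 28), (0, 29), (1, 29), (1, 30), (0, 32), (1, 32), (0, 33), (1, 33), (0, 34), (1, 34), (0, 35), (1, 35), (0, 36), (1, 36), (0, 37), (1, 37), (0, 38), (1, 38), (1, 39), (0, 40), (1, 40), (0, 41), (0, 42), (1, 42), (1, 43), (0, 44), (1, 44), (0, 45), (1, 45), (0, 46), (0, 47), (1, 47), (0, 48), (1, 48), (0, 49), (1, 49), (0, 50), (1, 50), (0, 51), (1, 51), (0, 53), (1, 53), (0, 54), (1, 54), (0, 55), (1, 55), (0, 56), (1, 57), (1, 58), (0, 59), (1, 59), (0, 60), (1, 60), (0, 61), (1, 61), (0, 62), (1, 62), (0, 63), (0, 64), (1, 64), (0, 65), (0, 66), (1, 66), (1, 67), (0,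 68), (0, 70), (1, 70), (0, 71), (0, 72), (1, 72), (0, 73), (1, 73), (0, 74), (1, 74), (0, 75), (1, 75), (0, 76), (1, 76), (1, 77), (0, 78), (0, 79), (1, 79), (1, 81), (0, 82), (0, 83), (1, 83), (1, 84), (1, 85), (0, 86), (1, 86), (0, 87), (1, 87), (0, 88), (0, 90), (0, 91), (1, 91), (0, 92), (1, 92), (0, 94), (0, 95), (1, 95), (0, 96), (0, 97), (1, 98), (1, 99), (1, 100), (1, 101), (1, 103), (0, 105), (0, 106), (0, 107), (1, 107), (1, 109), (0, 111), (1, 112), (0, 113), (1, 113), (0, 114), (1, 114), (1, 115), (0, 117), (1, 117), (0, 118), (1, 118), (1, 119), (0, 121), (1, 121), (0, 122), (1, 122), (1, 123), (0, 124), (1, 124), (0, 126), (1, 127), (1, 128), (0, 129), (1, 129), (1, 130),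 (0, 132), (1, 133), (1, 134), (0, 135), (1, 136), (0, 137), (0, 138), (1, 141), (0, 142), (1, 143), (0, 144), (1, 144), (0, 145), (1, 145), (1, 147), (1, 148), (0, 149), (1, 149), (0, 155), (0, 156), (1, 158), (1, 159), (0, 161), (1, 162), (0, 165), (1, 165), (0, 166), (1, 166), (0, 167), (1, 169), (1, 172), (0, 175), (1, 175), (0, 179), (1, 182), (0, 184), (1, 184), (1, 185), (1, 189), (0, 190), (0, 191), (1, 192), (1, 194), (0, 195), (1, 197), (1, 199), (1, 200), (0, 201), (1, 204), (0, 205), (1, 210), (0, 212), (0, 216), (1, 216), (0, 220), (1, 221), (0, 224), (1, 224), (0, 230), (0, 231), (0, 232)]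

/-- Edges between the conjugates. -/
def clsEdge : List ℕ := [1, 2, 3, 4, 5, 6, 7, 8, 9, 10, 11, 12, 13, 14, 15, 16, 17, 18, 19, 20, 21, 22, 23, 24, 25, 26, 27, 28, 29, 30, 31, 32, 33, 34, 35, 36, 37, 38, 39, 40, 41, 42, 36, 43, 44, 45, 46, 47, 48, 49, 50, 51, 52, 53, 54, 55, 38, 56, 57, 58, 10, 59, 0, 0, 60, 61, 62, 63, 64, 65, 66, 67, 68, 69, 70, 71, 72, 73, 61, 74, 75, 76, 77, 15, 78, 79, 49, 80, 81, 82, 83, 84, 85, 62, 86, 87, 88, 89, 90, 91, 92, 93, 94, 95, 67, 66, 96, 97, 98, 99, 100, 101, 102, 86, 20, 103, 16, 104, 105, 106, 107, 108, 109, 110, 111, 112, 113, 17, 114, 115, 116, 39, 117, 118, 26, 119, 120, 78, 99, 88, 121, 122, 123, 117, 124, 125, 126, 127, 128, 129, 130, 131,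 132, 133, 14, 134, 135, 57, 136, 137, 131, 41, 110, 138, 139, 114, 140, 141, 119, 142, 2, 143, 144, 145, 146, 147, 148, 116, 101, 96, 149, 113, 150, 151, 152, 153, 97, 100, 154, 31, 155, 156, 157, 140, 158, 102, 115, 159, 53, 160, 79, 161, 151, 162, 112, 29, 76, 163, 159, 139, 164, 94, 165, 72, 166, 167, 71, 83, 4, 168, 122, 92, 169, 164, 56, 170, 171, 172, 173, 174, 6, 175, 42, 130, 176, 177, 178, 179, 80, 180, 30, 111, 181, 182, 183, 184, 73, 185, 186, 187, 180, 48, 188, 85, 69, 189, 47, 190, 191, 192, 118, 193, 167, 44, 194, 68, 28, 195, 137, 196, 197, 1, 138, 198, 199, 52, 200, 9, 104, 77, 63, 188, 182, 201, 202, 90, 195, 203, 204, 205, 206, 207, 34, 81, 162, 208, 175, 209, 210,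 211, 198, 109, 59, 200, 207, 128, 18, 149, 185, 165, 212, 173, 213, 186, 127, 23, 177, 214, 205, 215, 170, 37, 216, 64, 214, 217, 217, 176, 89, 98, 218, 219, 220, 221, 222, 136, 184, 178, 58, 223, 211, 124, 45, 166, 190, 224, 87, 158, 221, 144, 225, 226, 8, 7, 145, 220, 223, 135, 227, 171, 192, 50, 153, 11, 226, 228, 22, 132, 229, 230, 163, 231, 133, 21, 189, 194, 108, 105, 103, 232, 233, 3, 234, 234, 91, 235, 147, 229, 187, 236, 237, 212, 156, 155, 65, 238, 125, 210, 172, 239, 55, 240, 241, 35, 236, 213, 193, 123, 74, 242, 243, 154, 93, 121, 12, 152, 95, 169, 203, 27, 240, 244, 142, 25, 245, 181, 231, 75, 209, 5, 224, 46, 246, 247, 51, 191, 161, 120, 129, 206, 248, 225, 141, 249,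 84, 70, 40, 148, 250, 251, 24, 126, 242, 60, 230, 146, 235, 202, 143, 197, 252, 204, 253, 253, 254, 13, 134, 254, 249, 157, 179, 183, 160, 199, 168, 233, 201, 245, 219, 218, 43, 241, 238, 216, 174, 237, 82, 33, 196, 222, 251, 250, 106, 107, 232, 19, 32, 243, 239, 227, 215, 252, 208, 150, 228, 248, 244, 54, 247, 246]

/-- The fixed points, coset words, and whether they are images of `0` under the centraliser. -/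
def fixW : List (ℕ × List ℕ × Bool) :=
  [(0, [], true),
    (65, [1, 0, 1, 0, 0, 0, 1], true),
    (147, [0, 1, 0, 0, 0, 1, 0, 1, 0], true),
    (195, [0, 0, 1, 0, 0, 1, 0, 0, 0, 0], true),
    (203, [0, 0, 1, 0, 0, 0, 1, 0, 0, 0], true),
    (241, [1, 0, 1, 0, 1, 0, 1, 0, 1, 0], true),
    (256, [0, 0, 0, 0, 0, 0, 1, 0, 0, 1], true),
    (303, [0, 0, 0, 1, 0, 1, 0, 0, 0, 0, 0], true),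
    (420, [0, 0, 0, 1, 0, 1, 0, 1, 0, 0, 1], true),
    (525, [0, 1, 0, 1, 0, 0, 1, 0, 1, 0, 0, 0], true),
    (551, [1, 0, 1, 0, 1, 0, 1, 0, 0, 0, 1, 0], false),
    (564, [1, 0, 0, 1, 0, 1, 0, 1, 0, 0, 1, 0], true),
    (642, [0, 0, 0, 0, 0, 1, 0, 0, 1, 0, 0, 1], true),
    (678, [1, 0, 0, 0, 0, 0, 1, 0, 0, 1, 0, 1], true),
    (920, [0, 1, 0, 0, 1, 0, 0, 0, 0, 0, 0, 0, 1], true),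
    (1093, [1, 0, 0, 0, 0, 0, 1, 0, 0, 0, 0, 0, 0, 0], true),
    (1136, [0, 0, 0, 0, 0, 0, 1, 0, 1, 0, 0, 0, 0, 0], true),
    (1144, [0, 1, 0, 0, 0, 0, 0, 0, 0, 1, 0, 0, 0, 0], true),
    (1285, [1, 0, 0, 0, 0, 0, 0, 0, 1, 0, 0, 0, 1, 0], true),
    (1457, [0, 0, 1, 0, 0, 0, 1, 0, 1, 0, 0, 0, 0, 1], true),
    (1533, [0, 0, 0, 0, 1, 0, 0, 0, 1, 0, 1, 0, 0, 1], true),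
    (1609, [1, 0, 1, 0, 0, 0, 1, 0, 1, 0, 0, 1, 0, 1], true),
    (1658, [1, 0, 1, 0, 0, 0, 0, 1, 0, 0, 0, 0, 0, 0, 0], false),
    (1882, [1, 0, 1, 0, 0, 0, 0, 1, 0, 1, 0, 1, 0, 0, 0], true),
    (1929, [0, 1, 0, 0, 1, 0, 0, 0, 0, 1, 0, 0, 0, 1, 0], true),
    (1997, [0, 0, 0, 1, 0, 0, 1, 0, 1, 0, 1, 0, 0, 1, 0], true),
    (2077, [0, 1, 0, 1, 0, 0, 0, 1, 0, 1, 0, 1, 0, 1, 0], true),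
    (2124, [0, 0, 1, 0, 1, 0, 0, 0, 1, 0, 0, 0, 0, 0, 1], true),
    (2219, [1, 0, 0, 1, 0, 1, 0, 0, 0, 0, 0, 1, 0, 0, 1], true),
    (2301, [0, 0, 1, 0, 1, 0, 0, 1, 0, 1, 0, 1, 0, 0, 1], true),
    (2470, [0, 1, 0, 1, 0, 0, 0, 0, 0, 1, 0, 0, 0, 0, 0, 0], true),
    (2836, [0, 1, 0, 1, 0, 0, 1, 0, 1, 0, 1, 0, 0, 0, 1, 0], true),
    (2839, [0, 1, 0, 1, 0, 0, 0, 0, 0, 0, 0, 1, 0, 0, 1, 0], true),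
    (2882, [0, 1, 0, 0, 0, 0, 0, 1, 0, 1, 0, 1, 0, 0, 1, 0], true),
    (3162, [0, 1, 0, 0, 0, 0, 1, 0, 0, 0, 0, 0, 1, 0, 0, 1], false),
    (3164, [0, 0, 0, 0, 1, 0, 1, 0, 0, 0, 0, 0, 1, 0, 0, 1], true),
    (3168, [1, 0, 0, 0, 0, 1, 0, 1, 0, 0, 0, 0, 1, 0, 0, 1], true),
    (3208, [1, 0, 0, 0, 0, 0, 1, 0, 0, 1, 0, 0, 1, 0, 0, 1], true),
    (3371, [1, 0, 0, 0, 0, 0, 1, 0, 1, 0, 1, 0, 0, 1, 0, 1], false),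
    (3483, [1, 0, 0, 0, 0, 0, 1, 0, 0, 0, 1, 0, 0, 0, 0, 0, 0], false),
    (3581, [0, 0, 0, 0, 1, 0, 0, 1, 0, 0, 0, 0, 1, 0, 0, 0, 0], false),
    (3833, [0, 1, 0, 0, 0, 1, 0, 1, 0, 0, 1, 0, 0, 0, 0, 1, 0], true),
    (3834, [0, 0, 0, 1, 0, 1, 0, 1, 0, 0, 1, 0, 0, 0, 0, 1, 0], false),
    (3933, [0, 0, 1, 0, 1, 0, 0, 1, 0, 0, 1, 0, 1, 0, 0, 1, 0], false),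
    (3946, [0, 1, 0, 0, 0, 0, 1, 0, 0, 0, 0, 0, 0, 1, 0, 1, 0], true),
    (4092, [0, 0, 1, 0, 0, 0, 1, 0, 0, 0, 1, 0, 0, 0, 0, 0, 1], true),
    (4112, [1, 0, 1, 0, 0, 0, 0, 0, 1, 0, 1, 0, 0, 0, 0, 0, 1], true),
    (4138, [1, 0, 1, 0, 0, 0, 0, 0, 1, 0, 0, 1, 0, 0, 0, 0, 1], true),
    (4142, [1, 0, 1, 0, 1, 0, 0, 0, 1, 0, 0, 1, 0, 0, 0, 0, 1], true),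
    (4181, [0, 1, 0, 0, 0, 0, 0, 1, 0, 0, 1, 0, 1, 0, 0, 0, 1], false),
    (4206, [0, 1, 0, 0, 0, 0, 0, 1, 0, 0, 0, 0, 0, 1, 0, 0, 1], true),
    (4330, [0, 0, 0, 0, 0, 1, 0, 1, 0, 1, 0, 1, 0, 1, 0, 0, 1], false),
    (4440, [0, 1, 0, 1, 0, 0, 0, 1, 0, 0, 0, 0, 1, 0, 1, 0, 1], true),
    (4511, [0, 0, 0, 1, 0, 1, 0, 0, 1, 0, 1, 0, 0, 0, 0, 0, 0, 0], false),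
    (4638, [0, 1, 0, 1, 0, 0, 1, 0, 0, 1, 0, 0, 0, 1, 0, 0, 0, 0], true),
    (4656, [0, 0, 0, 1, 0, 0, 0, 0, 0, 0, 0, 1, 0, 1, 0, 0, 0, 0], false),
    (4848, [0, 1, 0, 0, 1, 0, 1, 0, 1, 0, 1, 0, 0, 0, 0, 0, 1, 0], true),
    (4852, [0, 1, 0, 1, 0, 0, 0, 0, 0, 0, 0, 1, 0, 0, 0, 0, 1, 0], true),
    (4945, [0, 1, 0, 1, 0, 0, 0, 1, 0, 0, 0, 1, 0, 1, 0, 0, 1, 0], true),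
    (4964, [1, 0, 0, 0, 0, 0, 0, 1, 0, 0, 0, 0, 0, 0, 1, 0, 1, 0], true),
    (5020, [0, 0, 1, 0, 0, 0, 1, 0, 0, 1, 0, 1, 0, 0, 1, 0, 1, 0], true),
    (5043, [0, 1, 0, 1, 0, 1, 0, 0, 1, 0, 1, 0, 1, 0, 1, 0, 1, 0], false),
    (5249, [0, 0, 1, 0, 1, 0, 1, 0, 1, 0, 0, 0, 1, 0, 1, 0, 0, 1], true),
    (5295, [1, 0, 0, 0, 0, 0, 1, 0, 0, 0, 0, 1, 0, 0, 0, 1, 0, 1], true),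
    (5304, [1, 0, 0, 0, 1, 0, 0, 0, 1, 0, 0, 1, 0, 0, 0, 1, 0, 1], true),
    (5338, [0, 1, 0, 0, 1, 0, 1, 0, 1, 0, 0, 0, 1, 0, 0, 1, 0, 1], false),
    (5365, [1, 0, 0, 0, 1, 0, 0, 0, 1, 0, 0, 0, 0, 1, 0, 1, 0, 1], true),
    (5460, [0, 0, 1, 0, 0, 1, 0, 0, 0, 0, 1, 0, 0, 1, 0, 0, 0, 0, 0], true),
    (5524, [1, 0, 0, 0, 1, 0, 1, 0, 1, 0, 0, 0, 1, 0, 1, 0, 0, 0, 0], true),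
    (5611, [1, 0, 0, 0, 0, 0, 0, 0, 1, 0, 0, 1, 0, 1, 0, 1, 0, 0, 0], true),
    (5674, [0, 0, 1, 0, 1, 0, 0, 1, 0, 1, 0, 1, 0, 1, 0, 0, 0, 1, 0], true),
    (5760, [0, 0, 1, 0, 1, 0, 0, 0, 0, 0, 1, 0, 0, 0, 0, 0, 0, 0, 1], true),
    (5843, [1, 0, 0, 0, 1, 0, 1, 0, 0, 1, 0, 1, 0, 0, 0, 1, 0, 0, 1], true),
    (5915, [0, 0, 1, 0, 1, 0, 0, 0, 0, 1, 0, 0, 0, 1, 0, 0, 1, 0, 1], true),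
    (5966, [0, 0, 0, 1, 0, 0, 1, 0, 0, 0, 1, 0, 0, 1, 0, 0, 0, 0, 0, 0], false),
    (6036, [1, 0, 1, 0, 0, 0, 0, 0, 0, 1, 0, 0, 1, 0, 1, 0, 1, 0, 0, 0], false)]

/-- Permutations of five letters matching the complement. -/
def aPerm : List (List ℕ) := [[0, 1, 2, 3, 4], [1, 0, 3, 2, 4], [0, 2, 4, 3, 1], [2, 0, 3, 4, 1], [1, 3, 4, 2, 0], [0, 4, 1, 3, 2], [3, 1, 2, 4, 0], [4, 0, 3, 1, 2], [2, 3, 1, 4, 0], [1, 4, 0, 2, 3], [3, 2, 4, 1, 0], [4, 1, 2, 0, 3], [3, 2, 0, 4, 1], [4, 3, 2, 1, 0], [2, 1, 0, 4, 3], [2, 3, 4, 0, 1], [3, 4, 1, 2, 0], [1, 2, 4, 0, 3], [3, 4, 0, 1, 2], [4, 2, 3, 0, 1], [3, 0, 1, 4, 2], [4, 2, 0, 1, 3], [4, 3, 1, 0, 2], [2, 4, 0, 3, 1], [0, 3, 4, 1, 2], [2, 4, 1, 0,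 3], [3, 1, 0, 2, 4], [1, 4, 3, 0, 2], [3, 0, 2, 1, 4], [1, 3, 2, 0, 4], [4, 1, 0, 3, 2], [0, 3, 1, 2, 4], [2, 0, 1, 3, 4], [0, 4, 2, 1, 3], [2, 1, 3, 0, 4], [3, 0, 4, 2, 1], [0, 2, 3, 1, 4], [4, 0, 1, 2, 3], [1, 2, 0, 3, 4], [0, 3, 2, 4, 1], [4, 0, 2, 3, 1], [0, 1, 4, 2, 3], [2, 1, 4, 3, 0], [0, 4, 3, 2, 1], [1, 0, 2, 4, 3], [1, 2, 3, 4, 0], [4, 1, 3, 2, 0], [1, 0, 4, 3, 2], [0, 2, 1, 4, 3], [4, 2, 1, 3, 0], [1, 4, 2, 3, 0], [0, 1, 3, 4, 2], [2, 0, 4, 1, 3], [2, 4, 3, 1, 0], [1, 3, 0, 4, 2], [4, 3, 0, 2, 1], [3, 1, 4, 0, 2], [3, 4, 2, 0, 1], [2, 3, 0, 1, 4], [3, 2, 1, 0, 4]]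

end CfsgLib.J23
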