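import Cfsg.Agent.JankoTwoThree.J3PermDefs
import Cfsg.Agent.JankoTwoThree.J3InvData

/-!
# Checks for the involutions of `J₃`
-/

set_option autoImplicit false

namespace CfsgLib.J23

open CfsgLib.J1

/-- Membership of a triple. -/
def memT (t : ℕ × ℕ × ℕ) (l : List (ℕ × ℕ × ℕ)) : Bool := l.any (tEq t)

/-- No repeated triple. -/
def nodupT : List (ℕ × ℕ × ℕ) → Bool
  | [] => true
  | t :: l => !memT t l && nodupT l

/-- A listed subgroup generated by words. -/
def chkListed (gens : List (List ℕ)) (els : List (List ℕ)) (par : List (ℕ × ℕ)) (edge : List ℕ) : Bool :=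
  Nat.blt 0 els.length && wEq (els.getD 0 []) [] &&
    allLt els.length (fun i =>
      (Nat.beq i 0 || (Nat.blt (par.getD i (0, 0)).1 gens.length && (Nat.blt (par.getD i (0, 0)).2 i &&
        wEq (gens.getD (par.getD i (0, 0)).1 [] ++ els.getD (par.getD i (0, 0)).2 []) (els.getD i [])))) &&
      allLt gens.length fun a =>
        Nat.blt (edge.getD (gens.length * i + a) 0) els.length &&
          wEq (gens.getD a [] ++ els.getD i []) (els.getD (edge.getD (gens.length * i + a) 0) [])) &&
    nodupT (els.map baseImg)

/-- Conjugation of a word. -/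
def wConj (c w : List ℕ) : List ℕ := c ++ (w ++ wInv c)

/-- Two words commute. -/
def wCommute (u v : List ℕ) : Bool := wEq (u ++ v) (v ++ u)

/-- The class of the involution in the stabiliser. -/
def chkCls : Bool :=
  wEq (clsW.getD 0 []) invWord && Nat.beq clsW.length 255 &&
    allLt 255 (fun i =>
      (Nat.beq i 0 || (Nat.blt (clsPar.getD i (0, 0)).2 i && Nat.blt (clsPar.getD i (0, 0)).1 2 &&
        wEq (wConj (hWord (clsPar.getD i (0, 0)).1) (clsW.getD (clsPar.getD i (0, 0)).2 [])) (clsW.getD i []))) &&
      allLt 2 fun a =>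
        Nat.blt (clsEdge.getD (2 * i + a) 0) 255 &&
          wEq (wConj (hWord a) (clsW.getD i [])) (clsW.getD (clsEdge.getD (2 * i + a) 0) [])) &&
    nodupT (clsW.map baseImg)

/-- The fixed points of the involution and their kinds. -/
def chkFix : Bool :=
  let T := clsW.map baseImg
  allLt 6156 (fun i => !(Nat.beq (appW invWord i) i) || fixW.any fun q => Nat.beq q.1 i) &&
    fixW.all (fun q => Nat.beq (appW q.2.1 0) q.1 &&
      (q.2.2 || !memT (baseImg (wInv q.2.1 ++ (invWord ++ q.2.1))) T)) &&
    Nat.beq (fixW.filter fun q => q.2.2).length 60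

/-- Every element of the Sylow group is trivial, of order over two, or a conjugate. -/
def chkPConj : Bool :=
  allLt 128 fun i => Nat.beq i 0 || (!wEq (pEltW.getD i [] ++ pEltW.getD i []) [] ||
    wEq (wConj (pConjW.getD i []) invWord) (pEltW.getD i []))

/-- The relations between the normal subgroup, the complement and the involution. -/
def chkStruct : Bool :=
  let T := qEltW.map baseImg
  (qGenW ++ aGenW).all (fun g => wCommute g invWord) &&
    aGenW.all (fun g => qGenW.all fun q => memT (baseImg (wConj g q)) T) &&
    aEltW.all (fun w => wEq w [] || !memT (baseImg w) T) &&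
    Nat.blt (qInvIdx.getD 0 0) 32 && wEq (qEltW.getD (qInvIdx.getD 0 0) []) invWord

/-- Squares, commutators and the centre of the normal subgroup. -/
def chkExtra : Bool :=
  qEltW.all (fun u => wEq u [] || (wEq u invWord || !qGenW.all fun g => wCommute g u)) &&
    qEltW.all (fun u => wEq (u ++ u) [] || wEq (u ++ u) invWord) &&
    qEltW.any (fun u => wEq (u ++ u) invWord) &&
    qEltW.all (fun u => qEltW.all fun v => wEq (wComm u v) [] || wEq (wComm u v) invWord) &&
    qEltW.any (fun u => qEltW.any fun v => wEq (wComm u v) invWord)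

/-- No elementary abelian subgroup of order eight in the normal subgroup. -/
def chkRank : Bool :=
  qEltW.all fun u => wEq u [] || (!wEq (u ++ u) [] ||
    qEltW.all fun v => wEq v [] || (wEq v u || (!wEq (v ++ v) [] || (!wCommute u v ||
      qEltW.all fun w => wEq w [] || (wEq w u || (wEq w v || (wEq w (u ++ v) ||
        (!wEq (w ++ w) [] || (!wCommute u w || !wCommute v w)))))))))

/-- The complement acts as the alternating group. -/
def chkAlt : Bool :=
  Nat.beq aPerm.length 60 && aPerm.all (fun p => Nat.beq p.length 5 && p.all fun x => Nat.blt x 5) &&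
    (aPerm.getD 0 [] == [0, 1, 2, 3, 4]) &&
    allLt 60 (fun i => allLt 2 fun a =>
      (aPerm.getD (aEdge.getD (2 * i + a) 0) [] ==
        (aPerm.getD i []).map fun x => (aPerm.getD (aEdge.getD a 0) []).getD x 0)) &&
    allLt 60 (fun i => allLt i fun j => !(aPerm.getD i [] == aPerm.getD j []))

end CfsgLib.J23
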