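import Cfsg.Agent.JankoTwoThree.J3Involution
import Cfsg.Agent.MonsterType.ExtraIso

/-!
# The structure of an involution centraliser, for any copy of `J₃`
-/

set_option autoImplicit false

namespace CfsgLib.J23

open Cfsg.Spor CfsgLib.J1 CfsgLib.Schur Equiv.Perm

/-- The permutation of the `i`-th element of the complement. -/
noncomputable def tauA (i : ℕ) : Equiv.Perm (Fin 5) := permFive (aPerm.getD i [])

theorem tauA_apply {i : ℕ} (hi : i < 60) (x : Fin 5) :
    (tauA i x : ℕ) = (aPerm.getD i []).getD x 0 := by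
  obtain ⟨hlen, -, -, hp, -⟩ := altFacts
  obtain ⟨h5, hlt⟩ := hp _ (getD_mem aPerm i [] (hlen.symm ▸ hi))
  have hb : ∀ i, i < 60 →
      Function.Bijective (fun x : Fin 5 => (Fin.ofNat 5 ((aPerm.getD i []).getD x 0))) := by
    intro i hi
    have h : allLt 60 (fun i => allLt 5 fun x => allLt x fun y =>
        !Nat.beq ((aPerm.getD i []).getD x 0 % 5) ((aPerm.getD i []).getD y 0 % 5)) = true := by
      decide +kernel
    refine Finite.injective_iff_bijective.1 fun x y e => ?_
    by_contra hne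
    rcases Nat.lt_trichotomy (x : ℕ) y with h' | h' | h'
    · have hh := allLt_spec (allLt_spec (allLt_spec h i hi) y y.2) x h'
      rw [show (aPerm.getD i []).getD x 0 % 5 = (aPerm.getD i []).getD y 0 % 5 from
        congrArg Fin.val e, Nat.beq_refl] at hh
      exact Bool.noConfusion hh
    · exact hne (Fin.ext h')
    · have hh := allLt_spec (allLt_spec (allLt_spec h i hi) x x.2) y h'
      rw [show (aPerm.getD i []).getD x 0 % 5 = (aPerm.getD i []).getD y 0 % 5 from
        congrArg Fin.val e, Nat.beq_refl] at hh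
      exact Bool.noConfusion hh
  rw [tauA, permFive, dif_pos (hb i hi), Equiv.ofBijective_apply]
  show (aPerm.getD i []).getD x 0 % 5 = _
  exact Nat.mod_eq_of_lt (hlt _ (getD_mem _ _ _ (h5.symm ▸ x.2)))

theorem aEdge_lt {i : ℕ} (hi : i < 60) {a : ℕ} (ha : a < 2) : aEdge.getD (2 * i + a) 0 < 60 ∧
    pW (aGenW.getD a []) * pW (aEltW.getD i []) = pW (aEltW.getD (aEdge.getD (2 * i + a) 0) []) := by
  have h := aListed
  have hn : aEltW.length = 60 := by decide +kernel
  have hg : aGenW.length = 2 := by decide +kernel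
  simp only [chkListed, Bool.and_eq_true, hn, hg] at h
  have := allLt_spec h.1.2 i hi
  simp only [Bool.and_eq_true] at this
  have he := allLt_spec this.2 a ha
  simp only [Bool.and_eq_true] at he
  exact ⟨Nat.le_of_ble_eq_true he.1, by rw [← pW_append]; exact wEq_sound he.2⟩

theorem tauA_edge {i : ℕ} (hi : i < 60) {a : ℕ} (ha : a < 2) :
    tauA (aEdge.getD (2 * i + a) 0) = tauA (aEdge.getD a 0) * tauA i := by
  refine Equiv.ext fun x => Fin.ext ?_
  obtain ⟨hlen, -, hedge, hp, -⟩ := altFacts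
  have hg : aEdge.getD a 0 < 60 := by
    have := (aEdge_lt (i := 0) (by norm_num) ha).1; simpa using this
  rw [Equiv.Perm.mul_apply, tauA_apply hg, tauA_apply (aEdge_lt hi ha).1, tauA_apply hi,
    hedge i hi a ha]
  have h5 := (hp _ (getD_mem aPerm i [] (hlen.symm ▸ hi))).1
  rw [List.getD_eq_getElem _ _ (by rw [List.length_map, h5]; exact x.2), List.getElem_map,
    List.getD_eq_getElem (aPerm.getD i []) 0 (h5.symm ▸ x.2)]

/-- The graph of the isomorphism between the complement and the alternating group. -/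
noncomputable def graphA : Subgroup (J3P × Equiv.Perm (Fin 5)) :=
  Subgroup.closure (Set.range fun a : Fin 2 => (pW (aGenW.getD a []), tauA (aEdge.getD a 0)))

theorem graphA_spec : (∀ g ∈ graphA, ∃ i : Fin 60, g = (pW (aEltW.getD i []), tauA i)) ∧
    Nat.card graphA = 60 := by
  have hn : aEltW.length = 60 := by decide +kernel
  have hg : aGenW.length = 2 := by decide +kernel
  have h := aListed
  simp only [chkListed, Bool.and_eq_true, Bool.or_eq_true, hn, hg] at h
  obtain ⟨⟨⟨-, h0⟩, hall⟩, hnd⟩ := h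
  let t : Fin 60 → J3P × Equiv.Perm (Fin 5) := fun i => (pW (aEltW.getD i []), tauA i)
  have h1 : tauA 0 = 1 := Equiv.ext fun x => Fin.ext (by
    rw [tauA_apply (by norm_num), altFacts.2.1, Equiv.Perm.one_apply]
    fin_cases x <;> rfl)
  have ht : ∀ i, i < 60 → (pW (aEltW.getD i []), tauA i) ∈ graphA := by
    intro i
    induction i using Nat.strong_induction_on with
    | _ i ih =>
      intro hi
      have := allLt_spec hall i hi
      simp only [Bool.and_eq_true, Bool.or_eq_true] at this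
      rcases this.1 with hz | ⟨ha, hp, he⟩
      · rw [Nat.eq_of_beq_eq_true hz, h1, wEq_sound h0, pW_nil]; exact one_mem _
      · set a := (aPar.getD i (0, 0)).1
        set p := (aPar.getD i (0, 0)).2
        have hp' : p < i := Nat.le_of_ble_eq_true hp
        have ha' : a < 2 := Nat.le_of_ble_eq_true ha
        obtain ⟨hlt, hprod⟩ := aEdge_lt (i := p) (by omega) ha'
        have hidx : aEdge.getD (2 * p + a) 0 = i := by
          refine nodupT_spec aEltW hnd _ _ (hn.symm ▸ hlt) (hn.symm ▸ hi) ?_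
          rw [← hprod, ← pW_append]; exact wEq_sound he
        have := graphA.mul_mem (Subgroup.subset_closure ⟨⟨a, ha'⟩, rfl⟩) (ih p hp' (by omega))
        rw [Prod.mk_mul_mk, hprod, ← tauA_edge (by omega) ha', hidx] at this
        exact this
  have hl := level_spec (fun a : Fin 2 => (pW (aGenW.getD a []), tauA (aEdge.getD a 0))) t ⊥ id
    bot_le (fun i => ht i i.2) ⟨0, by show (pW (aEltW.getD 0 []), tauA 0) = 1; rw [wEq_sound h0, h1, pW_nil]; rfl⟩
    (fun a i => by
      refine ⟨⟨_, (aEdge_lt i.2 a.2).1⟩, 1, one_mem _, ?_⟩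
      rw [mul_one]
      exact Prod.ext (aEdge_lt i.2 a.2).2 (tauA_edge i.2 a.2).symm)
    (fun g k hk => by rw [Subgroup.mem_bot.1 hk, mul_one])
    (fun i j e => Fin.ext (nodupT_spec aEltW hnd i j (hn.symm ▸ i.2) (hn.symm ▸ j.2)
      (congrArg Prod.fst e)))
  refine ⟨fun g hg => ?_, hl.2.trans (by simp)⟩
  obtain ⟨i, k, hk, rfl⟩ := hl.1 g hg
  exact ⟨i, by rw [Subgroup.mem_bot.1 hk, mul_one]⟩

theorem aGroup_equiv_alt : Nonempty (wordGroup aGenW ≃* alternatingGroup (Fin 5)) := by
  obtain ⟨hmem, hcard⟩ := graphA_spec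
  have hn : aEltW.length = 60 := by decide +kernel
  have hg2 : aGenW.length = 2 := by decide +kernel
  have hnd : nodupT (aEltW.map baseImg) = true := by
    have h := aListed
    simp only [chkListed, Bool.and_eq_true] at h
    exact h.2
  let p1 := (MonoidHom.fst J3P (Equiv.Perm (Fin 5))).comp graphA.subtype
  let p2 := (MonoidHom.snd J3P (Equiv.Perm (Fin 5))).comp graphA.subtype
  have i1 : Function.Injective p1 := by
    rintro ⟨g, hg⟩ ⟨h, hh⟩ e
    obtain ⟨i, rfl⟩ := hmem g hg
    obtain ⟨j, rfl⟩ := hmem h hh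
    have hij : i = j := Fin.ext (nodupT_spec aEltW hnd i j (hn.symm ▸ i.2) (hn.symm ▸ j.2) e)
    subst hij; rfl
  have i2 : Function.Injective p2 := by
    rintro ⟨g, hg⟩ ⟨h, hh⟩ e
    obtain ⟨i, rfl⟩ := hmem g hg
    obtain ⟨j, rfl⟩ := hmem h hh
    have e' : tauA i = tauA j := e
    have hij : i = j := Fin.ext (altFacts.2.2.2.2 i j i.2 j.2 (by
      obtain ⟨hlen, -, -, hp, -⟩ := altFacts
      have l1 := (hp _ (getD_mem aPerm i [] (hlen.symm ▸ i.2))).1
      have l2 := (hp _ (getD_mem aPerm j [] (hlen.symm ▸ j.2))).1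
      refine List.ext_getElem (l1.trans l2.symm) fun k hk hk' => ?_
      have := congrArg (fun σ : Equiv.Perm (Fin 5) => (σ ⟨k, l1 ▸ hk⟩ : ℕ)) e'
      simp only [tauA_apply i.2, tauA_apply j.2] at this
      rwa [List.getD_eq_getElem _ _ hk, List.getD_eq_getElem _ _ hk'] at this))
    subst hij; rfl
  have r1 : p1.range = wordGroup aGenW := by
    rw [MonoidHom.range_comp, Subgroup.range_subtype, graphA, MonoidHom.map_closure, wordGroup]
    congr 1
    ext x
    constructor
    · rintro ⟨_, ⟨a, rfl⟩, rfl⟩; exact ⟨⟨a, hg2.symm ▸ a.2⟩, rfl⟩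
    · rintro ⟨a, rfl⟩; exact ⟨_, ⟨⟨a, hg2 ▸ a.2⟩, rfl⟩, rfl⟩
  have r2 : p2.range = alternatingGroup (Fin 5) := by
    refine eq_alternatingGroup_of_index_eq_two ?_
    have h := p2.range.card_mul_index
    rw [← Nat.card_congr (MonoidHom.ofInjective i2).toEquiv, hcard, Nat.card_perm, Nat.card_fin] at h
    simp only [show Nat.factorial 5 = 120 from rfl] at h
    omega
  exact ⟨((MulEquiv.subgroupCongr r1).symm.trans (MonoidHom.ofInjective i1).symm).trans
    ((MonoidHom.ofInjective i2).trans (MulEquiv.subgroupCongr r2))⟩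

/-- One class of involutions, and the centraliser is `2^{1+4}₋ : A₅`. -/
theorem involution_structure {G : Type*} [Group G] (e : G ≃* J3P) :
    (∀ x y : G, orderOf x = 2 → orderOf y = 2 → IsConj x y) ∧
    ∃ t : G, orderOf t = 2 ∧ ∃ (Q : Subgroup ↥(Subgroup.centralizer ({t} : Set G))) (_ : Q.Normal),
      Cfsg.IsExtraspecial 2 Q ∧ Nat.card Q = 32 ∧
      (∀ E : Subgroup Q, Cfsg.IsElementaryAbelian 2 E → Nat.card E ≤ 2 ^ 2) ∧
      (∃ H : Subgroup ↥(Subgroup.centralizer ({t} : Set G)), Q.IsComplement' H) ∧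
      Nonempty (↥(Subgroup.centralizer ({t} : Set G)) ⧸ Q ≃* ↥(alternatingGroup (Fin 5))) := by
  haveI : Finite G := Finite.of_equiv J3P e.symm.toEquiv
  refine ⟨fun x y hx hy => ?_, e.symm tJ, by rw [MulEquiv.orderOf_eq, orderOf_tJ], ?_⟩
  · have hxy : IsConj (e x) (e y) :=
      (isConj_tJ_of_orderOf (by rw [MulEquiv.orderOf_eq, hx])).symm.trans
        (isConj_tJ_of_orderOf (by rw [MulEquiv.orderOf_eq, hy]))
    obtain ⟨c, hc⟩ := isConj_iff.1 hxy
    exact isConj_iff.2 ⟨e.symm c, e.injective (by simp [hc])⟩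
  have hmap : (Subgroup.centralizer ({e.symm tJ} : Set G)).map e.toMonoidHom =
      Subgroup.centralizer ({tJ} : Set J3P) := by
    ext y
    simp only [Subgroup.mem_map, Subgroup.mem_centralizer_singleton_iff]
    constructor
    · rintro ⟨x, hx, rfl⟩
      have := congrArg e hx
      simpa using this
    · intro hy
      exact ⟨e.symm y, by rw [← map_mul, ← map_mul, hy], by simp⟩
  let eC := (e.subgroupMap (Subgroup.centralizer ({e.symm tJ} : Set G))).trans
    (MulEquiv.subgroupCongr hmap)
  let Q := qC.comap eC.toMonoidHom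
  haveI hQn : Q.Normal := normal_qC.comap _
  let eQ : Q ≃* qC := (eC.subgroupMap Q).trans (MulEquiv.subgroupCongr
    (Subgroup.map_comap_eq_self_of_surjective eC.surjective qC))
  refine ⟨Q, hQn, CfsgLib.MonsterType.extraspecial_congr eQ.symm isExtraspecial_qC,
    (Nat.card_congr eQ.toEquiv).trans card_qC, fun E hE => ?_, ⟨aC.comap eC.toMonoidHom, ?_⟩, ?_⟩
  · rw [Nat.card_congr (E.equivMapOfInjective eQ.toMonoidHom eQ.injective).toEquiv]
    refine rank_qC _ ⟨?_, ?_⟩
    · haveI := hE.1
      infer_instance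
    · rintro _ ⟨x, hx, rfl⟩
      show eQ x ^ 2 = 1
      rw [← map_pow, hE.2 x hx, map_one]
  · refine Subgroup.isComplement'_of_card_mul_and_disjoint ?_ ?_
    · rw [Nat.card_congr eQ.toEquiv,
        Nat.card_congr ((eC.subgroupMap (aC.comap eC.toMonoidHom)).trans (MulEquiv.subgroupCongr
          (Subgroup.map_comap_eq_self_of_surjective eC.surjective aC))).toEquiv,
        Nat.card_congr eC.toEquiv, card_qC, card_aC, card_centralizer]
    · rw [Subgroup.disjoint_def]
      intro x hx hx'
      exact eC.injective ((Subgroup.disjoint_def.1 disjoint_qC_aC hx hx').trans (map_one eC).symm)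
  · haveI := normal_qC
    obtain ⟨φ⟩ := aGroup_equiv_alt
    exact ⟨((QuotientGroup.congr Q qC eC
      (Subgroup.map_comap_eq_self_of_surjective eC.surjective qC)).trans
      isComplement_qC.symm.QuotientMulEquiv).trans
      ((Subgroup.subgroupOfEquivOfLe a_le_centralizer).trans φ)⟩

end CfsgLib.J23
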