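import Cfsg.Agent.JankoTwoThree.J3Lines

/-!
# The orbit of `⟨e₀⟩` and transitivity on isotropic lines
-/

set_option autoImplicit false

namespace CfsgLib.J23

open Cfsg.Spor CfsgLib.J1 CfsgLib.Schur Matrix

theorem orbA_size : orbA.size = 23256 := by unfold orbA; rfl

theorem orbI_size : orbI.size = 43605 := by unfold orbI; rfl

theorem orbA_ok : ∀ i, i < orbA.size → chkLine orbA i = true := fun _ hi =>
  orbA_line (orbA_size ▸ hi)

theorem orbI_ok : ∀ i, i < orbI.size → chkLine orbI i = true := fun _ hi =>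
  orbI_line (orbI_size ▸ hi)

theorem orbA_get_zero : orbA.get 0 = 1 := by decide +kernel

theorem get_lt_of_lt {i j : ℕ} (hij : i < j) (hj : j < 23256) : orbA.get i < orbA.get j := by
  induction j with
  | zero => omega
  | succ j ih =>
    have h := orbA_inc hj
    simp only [chkInc, Bool.or_eq_true] at h
    rcases h with h | h
    · exact absurd (Nat.eq_of_beq_eq_true h) (by omega)
    · have h1 : orbA.get j < orbA.get (j + 1) := Nat.le_of_ble_eq_true h
      rcases Nat.lt_or_ge i j with h2 | h2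
      · exact (ih h2 (by omega)).trans h1
      · obtain rfl : i = j := by omega
        exact h1

variable {F : Type*} [Field F] [Fintype F] {ω : F} [CharP F 2] (hω : ω ^ 2 + ω + 1 = 0)
  (hF : Fintype.card F = 4)
include hω hF

theorem scalar_cases {k : F} (hk : k ≠ 0) : k = 1 ∨ k = ω ∨ k = ω * ω := by
  classical
  have hb : Function.Surjective fun q : Bool × Bool => ev ω q.1 q.2 :=
    ((Fintype.bijective_iff_injective_and_card _).2 ⟨fun p q h => Prod.ext (ev_inj hω h).1
      (ev_inj hω h).2, by rw [hF]; rfl⟩).2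
  obtain ⟨⟨a, b⟩, e⟩ := hb k
  subst e
  cases a <;> cases b
  · exact absurd (by simp [ev]) hk
  · right; left; simp [ev]
  · left; simp [ev]
  · right; right; simp [ev, omega_sq hω, add_comm]

theorem eq_of_least3 {c d : ℕ} (hc : c < 262144) (hd : d < 262144)
    (h1 : c ≤ smC c) (h2 : c ≤ smC (smC c)) (h3 : d ≤ smC d) (h4 : d ≤ smC (smC d)) {k : F}
    (hk : k ≠ 0) (h : vecF ω c = k • vecF ω d) : c = d := by
  have h0 := omega_ne_zero hω
  have hcube : ω * (ω * ω) = 1 := by linear_combination (ω - 1) * hω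
  rcases scalar_cases hω hF hk with rfl | rfl | rfl
  · exact vecF_inj hω hc hd (by rw [h, one_smul])
  · have e1 : c = smC d := vecF_inj hω hc (smC_lt hd) (by rw [vecF_smC hω hd, h])
    have e2 : d = smC (smC c) := vecF_inj hω hd (smC_lt (smC_lt hc)) (by
      rw [vecF_smC hω (smC_lt hc), vecF_smC hω hc, h, smul_smul, smul_smul, mul_assoc, hcube,
        one_smul])
    omega
  · have e1 : c = smC (smC d) := vecF_inj hω hc (smC_lt (smC_lt hd)) (by
      rw [vecF_smC hω (smC_lt hd), vecF_smC hω hd, h, smul_smul])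
    have e2 : d = smC c := vecF_inj hω hd (smC_lt hc) (by
      rw [vecF_smC hω hc, h, smul_smul, hcube, one_smul])
    omega

omit hF in
theorem vecF_one : vecF ω 1 = (Pi.single (0 : F9) (1 : F) : F9 → F) := by
  ext w
  have h : ∀ w : F9, (1 : ℕ).testBit (idx w) = decide (w = 0) ∧
      (1 : ℕ).testBit (9 + idx w) = false := by decide +kernel
  rw [vecF, (h w).1, (h w).2]
  by_cases e : w = 0
  · subst e; simp [ev]
  · simp [ev, e]

theorem orbit_e0_ncard :
    {L : Submodule F (F9 → F) | ∃ g ∈ threeJ3 F ω, L = F ∙ ((g : Matrix F9 F9 F) *ᵥ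
      (Pi.single (0 : F9) (1 : F) : F9 → F))}.ncard = 23256 := by
  have h0lt : 0 < orbA.size := by rw [orbA_size]; norm_num
  have e0 : (Pi.single (0 : F9) (1 : F) : F9 → F) = vecF ω (orbA.get 0) := by
    rw [orbA_get_zero, vecF_one hω]
  let f : Fin 23256 → Submodule F (F9 → F) := fun i => F ∙ vecF ω (orbA.get i)
  have hset : {L : Submodule F (F9 → F) | ∃ g ∈ threeJ3 F ω, L = F ∙ ((g : Matrix F9 F9 F) *ᵥ
      (Pi.single (0 : F9) (1 : F) : F9 → F))} = Set.range f := by
    ext L
    constructor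
    · rintro ⟨g, hg, rfl⟩
      obtain ⟨j, hj, k, hk, e⟩ := moves_of_mem hω orbA_ok hg 0 h0lt
      refine ⟨⟨j, orbA_size ▸ hj⟩, ?_⟩
      show F ∙ vecF ω (orbA.get j) = _
      rw [e0, e, Submodule.span_singleton_smul_eq (IsUnit.mk0 k hk)]
    · rintro ⟨i, rfl⟩
      obtain ⟨g, hg, k, hk, e⟩ := reach hω orbA_ok i (by rw [orbA_size]; exact i.2)
      refine ⟨g, hg, ?_⟩
      show F ∙ vecF ω (orbA.get i) = _
      rw [e0, e, Submodule.span_singleton_smul_eq (IsUnit.mk0 k hk)]
  have hinj : Function.Injective f := by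
    intro i j e
    obtain ⟨u, hu⟩ := Submodule.span_singleton_eq_span_singleton.1 e.symm
    obtain ⟨-, a1, a2, a3, -⟩ := lineFacts hω orbA_ok (i := i) (by rw [orbA_size]; exact i.2)
    obtain ⟨-, b1, b2, b3, -⟩ := lineFacts hω orbA_ok (i := j) (by rw [orbA_size]; exact j.2)
    have hij := eq_of_least3 hω hF a1 b1 a2 a3 b2 b3 u.ne_zero hu.symm
    rcases Nat.lt_trichotomy (i : ℕ) j with h | h | h
    · exact absurd hij (get_lt_of_lt h j.2).ne
    · exact Fin.ext h
    · exact absurd hij.symm (get_lt_of_lt h i.2).ne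
  rw [hset, Set.ncard_range_of_injective hinj, Nat.card_fin]

omit hF hω [Fintype F] [CharP F 2] [Field F] in
theorem exists_index {c : ℕ} (h1 : 0 < c) (h2 : c < 262144) (he : evenC c = true)
    (hl : least3 c = true) : ∃ i, i < 43605 ∧ orbI.get i = c := by
  by_contra hne
  push_neg at hne
  have key : ∀ i, i ≤ 43605 → (0 < i → orbI.get (i - 1) < c) := by
    intro i
    induction i with
    | zero => intro _ h; omega
    | succ i ih =>
      intro hi _
      have h := orbI_gap (i := i) (by omega)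
      have hblt : Nat.blt i 43605 = true := Nat.ble_eq_true_of_le (by omega)
      simp only [chkGap, frc_eq, hblt, cond_true, Bool.and_eq_true] at h
      rcases Nat.lt_trichotomy (orbI.get i) c with hlt | heq | hgt
      · simpa using hlt
      · exact absurd heq (hne i (by omega))
      · exfalso
        set lo := (bif Nat.beq i 0 then 0 else orbI.get (i - 1)) with hlo
        have hloc : lo < c := by
          rw [hlo]
          cases hb : Nat.beq i 0
          · exact ih (by omega) (Nat.pos_of_ne_zero fun e => by simp [e] at hb)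
          · exact h1
        have := allLt_spec h.2 (c - (lo + 1)) (by omega)
        rw [show lo + 1 + (c - (lo + 1)) = c by omega, he, hl] at this
        simp at this
  have h := orbI_gap (i := 43605) (by omega)
  have hb : Nat.blt 43605 43605 = false := by decide +kernel
  have hb' : Nat.beq 43605 0 = false := by decide +kernel
  simp only [chkGap, frc_eq, hb, hb', cond_false, Bool.and_eq_true] at h
  have hlo := key 43605 le_rfl (by norm_num)
  have := allLt_spec h.2 (c - (orbI.get (43605 - 1) + 1)) (by omega)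
  rw [show orbI.get (43605 - 1) + 1 + (c - (orbI.get (43605 - 1) + 1)) = c by omega, he, hl] at this
  simp at this

theorem isotropic_transitive (v w : F9 → F) (hv : v ≠ 0) (hw : w ≠ 0)
    (hv3 : ∑ z, (v z) ^ 3 = 0) (hw3 : ∑ z, (w z) ^ 3 = 0) :
    ∃ g ∈ threeJ3 F ω, ∃ c : F, c ≠ 0 ∧ (g : Matrix F9 F9 F) *ᵥ v = c • w := by
  have h0 := omega_ne_zero hω
  have hnorm : ∀ v : F9 → F, v ≠ 0 → ∑ z, (v z) ^ 3 = 0 →
      ∃ i, i < 43605 ∧ ∃ k : F, k ≠ 0 ∧ v = k • vecF ω (orbI.get i) := by
    intro v hv hv3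
    obtain ⟨c, hc, rfl⟩ := exists_vecF hω hF v
    have hs2 := smC_lt hc
    have hs3 := smC_lt hs2
    have hcube : ω * (ω * ω) = 1 := by linear_combination (ω - 1) * hω
    have hper : smC (smC (smC c)) = c := vecF_inj hω (smC_lt hs3) hc (by
      rw [vecF_smC hω hs3, vecF_smC hω hs2, vecF_smC hω hc, smul_smul, smul_smul, mul_assoc,
        hcube, one_smul])
    have pick : ∀ d, d < 262144 → (∃ k : F, k ≠ 0 ∧ vecF ω c = k • vecF ω d) → least3 d = true →
        ∃ i, i < 43605 ∧ ∃ k : F, k ≠ 0 ∧ vecF ω c = k • vecF ω (orbI.get i) := by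
      intro d hd ⟨k, hk, e⟩ hl
      have hd0 : 0 < d := Nat.pos_of_ne_zero fun e' => hv (by
        rw [e, e', vecF_zero, smul_zero])
      have hde : evenC d = true := (evenC_iff hω hd).1 (by
        have : ∑ z, (vecF ω c z) ^ 3 = k ^ 3 * ∑ z, (vecF ω d z) ^ 3 := by
          rw [Finset.mul_sum]
          refine Finset.sum_congr rfl fun z _ => ?_
          rw [e, Pi.smul_apply, smul_eq_mul, mul_pow]
        rw [hv3] at this
        exact (mul_eq_zero.1 this.symm).resolve_left (pow_ne_zero 3 hk))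
      obtain ⟨i, hi, rfl⟩ := exists_index hd0 hd hde hl
      exact ⟨i, hi, k, hk, e⟩
    have l3 : ∀ d, d ≤ smC d → d ≤ smC (smC d) → least3 d = true := fun d a b => by
      simp only [least3, Nat.ble_eq_true_of_le a, Nat.ble_eq_true_of_le b, Bool.and_self]
    by_cases m1 : c ≤ smC c ∧ c ≤ smC (smC c)
    · exact pick c hc ⟨1, one_ne_zero, (one_smul _ _).symm⟩ (l3 c m1.1 m1.2)
    by_cases m2 : smC c ≤ smC (smC c)
    · exact pick (smC c) hs2 ⟨ω * ω, mul_ne_zero h0 h0, by
        rw [vecF_smC hω hc, smul_smul, mul_assoc, hcube, one_smul]⟩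
        (l3 _ m2 (by rw [hper]; omega))
    · exact pick (smC (smC c)) hs3 ⟨ω, h0, by
        rw [vecF_smC hω hs2, vecF_smC hω hc, smul_smul, smul_smul, mul_assoc, hcube, one_smul]⟩
        (l3 _ (by rw [hper]; omega) (by rw [hper]; omega))
  obtain ⟨i, hi, a, ha, rfl⟩ := hnorm v hv hv3
  obtain ⟨j, hj, b, hb, rfl⟩ := hnorm w hw hw3
  obtain ⟨g, hg, k, hk, e⟩ := reach hω orbI_ok i (by rw [orbI_size]; exact hi)
  obtain ⟨g', hg', k', hk', e'⟩ := reach hω orbI_ok j (by rw [orbI_size]; exact hj)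
  refine ⟨g' * g⁻¹, mul_mem hg' (inv_mem hg), a * k⁻¹ * k' * b⁻¹,
    mul_ne_zero (mul_ne_zero (mul_ne_zero ha (inv_ne_zero hk)) hk') (inv_ne_zero hb), ?_⟩
  have hinv : ((g⁻¹ : Matrix.GeneralLinearGroup F9 F) : Matrix F9 F9 F) *ᵥ vecF ω (orbI.get i) =
      k⁻¹ • vecF ω (orbI.get 0) := by
    have h1 := congrArg (fun x => ((g⁻¹ : Matrix.GeneralLinearGroup F9 F) : Matrix F9 F9 F) *ᵥ x) e
    simp only [Matrix.mulVec_mulVec, Units.inv_mul, Matrix.one_mulVec, Matrix.mulVec_smul] at h1
    rw [h1, smul_smul, inv_mul_cancel₀ hk, one_smul]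
  rw [Units.val_mul, ← Matrix.mulVec_mulVec, Matrix.mulVec_smul, Matrix.mulVec_smul,
    hinv, Matrix.mulVec_smul, e', smul_smul, smul_smul, smul_smul]
  congr 1
  rw [mul_assoc _ b⁻¹ b, inv_mul_cancel₀ hb, mul_one, mul_assoc]

end CfsgLib.J23
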