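import Cfsg.Agent.JankoTwoThree.J3LinesDefs

/-!
Kernel verification of the orbits on lines, part 0.
-/

set_option autoImplicit false

namespace CfsgLib.J23

open CfsgLib.J1

theorem orbA_line0 : allLt 4096 (fun j => chkLine orbA (0 + j)) = true := by decide +kernel

theorem orbA_line16384 : allLt 4096 (fun j => chkLine orbA (16384 + j)) = true := by decide +kernel

theorem orbA_inc8192 : allLt 4096 (fun j => chkInc orbA (8192 + j)) = true := by decide +kernel

theorem orbI_line0 : allLt 4096 (fun j => chkLine orbI (0 + j)) = true := by decide +kernel

theorem orbI_line16384 : allLt 4096 (fun j => chkLine orbI (16384 + j)) = true := by decide +kernel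

theorem orbI_line32768 : allLt 4096 (fun j => chkLine orbI (32768 + j)) = true := by decide +kernel

theorem orbI_gap4096 : allLt 4096 (fun j => chkGap (4096 + j)) = true := by decide +kernel

theorem orbI_gap20480 : allLt 4096 (fun j => chkGap (20480 + j)) = true := by decide +kernel

theorem orbI_gap36864 : allLt 4096 (fun j => chkGap (36864 + j)) = true := by decide +kernel

theorem lineTab_ok02 : allLt 64 (chkTab 0 2) = true := by decide +kernel

end CfsgLib.J23
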