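import Cfsg.Agent.JankoTwoThree.J3LinesDefs

/-!
Kernel verification of the orbits on lines, part 1.
-/

set_option autoImplicit false

namespace CfsgLib.J23

open CfsgLib.J1

theorem orbA_line4096 : allLt 4096 (fun j => chkLine orbA (4096 + j)) = true := by decide +kernel

theorem orbA_line20480 : allLt 2776 (fun j => chkLine orbA (20480 + j)) = true := by decide +kernel

theorem orbA_inc12288 : allLt 4096 (fun j => chkInc orbA (12288 + j)) = true := by decide +kernel

theorem orbI_line4096 : allLt 4096 (fun j => chkLine orbI (4096 + j)) = true := by decide +kernel

theorem orbI_line20480 : allLt 4096 (fun j => chkLine orbI (20480 + j)) = true := by decide +kernel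

theorem orbI_line36864 : allLt 4096 (fun j => chkLine orbI (36864 + j)) = true := by decide +kernel

theorem orbI_gap8192 : allLt 4096 (fun j => chkGap (8192 + j)) = true := by decide +kernel

theorem orbI_gap24576 : allLt 4096 (fun j => chkGap (24576 + j)) = true := by decide +kernel

theorem orbI_gap40960 : allLt 2646 (fun j => chkGap (40960 + j)) = true := by decide +kernel

theorem lineTab_ok10 : allLt 64 (chkTab 1 0) = true := by decide +kernel

end CfsgLib.J23
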