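import Cfsg.Agent.JankoTwoThree.J3LinesDefs

/-!
Kernel verification of the orbits on lines, part 2.
-/

set_option autoImplicit false

namespace CfsgLib.J23

open CfsgLib.J1

theorem orbA_line8192 : allLt 4096 (fun j => chkLine orbA (8192 + j)) = true := by decide +kernel

theorem orbA_inc0 : allLt 4096 (fun j => chkInc orbA (0 + j)) = true := by decide +kernel

theorem orbA_inc16384 : allLt 4096 (fun j => chkInc orbA (16384 + j)) = true := by decide +kernel

theorem orbI_line8192 : allLt 4096 (fun j => chkLine orbI (8192 + j)) = true := by decide +kernel

theorem orbI_line24576 : allLt 4096 (fun j => chkLine orbI (24576 + j)) = true := by decide +kernel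

theorem orbI_line40960 : allLt 2645 (fun j => chkLine orbI (40960 + j)) = true := by decide +kernel

theorem orbI_gap12288 : allLt 4096 (fun j => chkGap (12288 + j)) = true := by decide +kernel

theorem orbI_gap28672 : allLt 4096 (fun j => chkGap (28672 + j)) = true := by decide +kernel

theorem lineTab_ok00 : allLt 64 (chkTab 0 0) = true := by decide +kernel

theorem lineTab_ok11 : allLt 64 (chkTab 1 1) = true := by decide +kernel

end CfsgLib.J23
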