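import Cfsg.Agent.JankoTwoThree.J3LinesDefs

/-!
Kernel verification of the orbits on lines, part 3.
-/

set_option autoImplicit false

namespace CfsgLib.J23

open CfsgLib.J1

theorem orbA_line12288 : allLt 4096 (fun j => chkLine orbA (12288 + j)) = true := by decide +kernel

theorem orbA_inc4096 : allLt 4096 (fun j => chkInc orbA (4096 + j)) = true := by decide +kernel

theorem orbA_inc20480 : allLt 2776 (fun j => chkInc orbA (20480 + j)) = true := by decide +kernel

theorem orbI_line12288 : allLt 4096 (fun j => chkLine orbI (12288 + j)) = true := by decide +kernel

theorem orbI_line28672 : allLt 4096 (fun j => chkLine orbI (28672 + j)) = true := by decide +kernel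

theorem orbI_gap0 : allLt 4096 (fun j => chkGap (0 + j)) = true := by decide +kernel

theorem orbI_gap16384 : allLt 4096 (fun j => chkGap (16384 + j)) = true := by decide +kernel

theorem orbI_gap32768 : allLt 4096 (fun j => chkGap (32768 + j)) = true := by decide +kernel

theorem lineTab_ok01 : allLt 64 (chkTab 0 1) = true := by decide +kernel

theorem lineTab_ok12 : allLt 64 (chkTab 1 2) = true := by decide +kernel

end CfsgLib.J23
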