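import Cfsg.Agent.JankoTwoThree.J3Simple
import Cfsg.Agent.JankoTwoThree.J3LinesCheck0
import Cfsg.Agent.JankoTwoThree.J3LinesCheck1
import Cfsg.Agent.JankoTwoThree.J3LinesCheck2
import Cfsg.Agent.JankoTwoThree.J3LinesCheck3

/-!
# The orbits of `3·J₃` on lines
-/

set_option autoImplicit false

namespace CfsgLib.J23

open Cfsg.Spor CfsgLib.J1 CfsgLib.Schur Matrix

theorem allLt_off {f : ℕ → Bool} {n o : ℕ} (h : allLt n (fun j => f (o + j)) = true) {i : ℕ}
    (h1 : o ≤ i) (h2 : i < o + n) : f i = true := by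
  have := allLt_spec h (i - o) (by omega)
  rwa [Nat.add_sub_cancel' h1] at this

attribute [local irreducible] chkLine chkInc chkGap orbA orbI

theorem orbA_line {i : ℕ} (hi : i < 23256) : chkLine orbA i = true := by
  have h : i < 4096 ∨ i < 8192 ∨ i < 12288 ∨ i < 16384 ∨ i < 20480 ∨ i < 23256 := by omega
  by_cases i < 4096; · exact allLt_off orbA_line0 (by omega) (by omega)
  by_cases i < 8192; · exact allLt_off orbA_line4096 (by omega) (by omega)
  by_cases i < 12288; · exact allLt_off orbA_line8192 (by omega) (by omega)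
  by_cases i < 16384; · exact allLt_off orbA_line12288 (by omega) (by omega)
  by_cases i < 20480; · exact allLt_off orbA_line16384 (by omega) (by omega)
  exact allLt_off orbA_line20480 (by omega) (by omega)

theorem orbA_inc {i : ℕ} (hi : i < 23256) : chkInc orbA i = true := by
  by_cases i < 4096; · exact allLt_off orbA_inc0 (by omega) (by omega)
  by_cases i < 8192; · exact allLt_off orbA_inc4096 (by omega) (by omega)
  by_cases i < 12288; · exact allLt_off orbA_inc8192 (by omega) (by omega)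
  by_cases i < 16384; · exact allLt_off orbA_inc12288 (by omega) (by omega)
  by_cases i < 20480; · exact allLt_off orbA_inc16384 (by omega) (by omega)
  exact allLt_off orbA_inc20480 (by omega) (by omega)

theorem orbI_line {i : ℕ} (hi : i < 43605) : chkLine orbI i = true := by
  by_cases i < 4096; · exact allLt_off orbI_line0 (by omega) (by omega)
  by_cases i < 8192; · exact allLt_off orbI_line4096 (by omega) (by omega)
  by_cases i < 12288; · exact allLt_off orbI_line8192 (by omega) (by omega)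
  by_cases i < 16384; · exact allLt_off orbI_line12288 (by omega) (by omega)
  by_cases i < 20480; · exact allLt_off orbI_line16384 (by omega) (by omega)
  by_cases i < 24576; · exact allLt_off orbI_line20480 (by omega) (by omega)
  by_cases i < 28672; · exact allLt_off orbI_line24576 (by omega) (by omega)
  by_cases i < 32768; · exact allLt_off orbI_line28672 (by omega) (by omega)
  by_cases i < 36864; · exact allLt_off orbI_line32768 (by omega) (by omega)
  by_cases i < 40960; · exact allLt_off orbI_line36864 (by omega) (by omega)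
  exact allLt_off orbI_line40960 (by omega) (by omega)

theorem orbI_gap {i : ℕ} (hi : i < 43606) : chkGap i = true := by
  by_cases i < 4096; · exact allLt_off orbI_gap0 (by omega) (by omega)
  by_cases i < 8192; · exact allLt_off orbI_gap4096 (by omega) (by omega)
  by_cases i < 12288; · exact allLt_off orbI_gap8192 (by omega) (by omega)
  by_cases i < 16384; · exact allLt_off orbI_gap12288 (by omega) (by omega)
  by_cases i < 20480; · exact allLt_off orbI_gap16384 (by omega) (by omega)
  by_cases i < 24576; · exact allLt_off orbI_gap20480 (by omega) (by omega)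
  by_cases i < 28672; · exact allLt_off orbI_gap24576 (by omega) (by omega)
  by_cases i < 32768; · exact allLt_off orbI_gap28672 (by omega) (by omega)
  by_cases i < 36864; · exact allLt_off orbI_gap32768 (by omega) (by omega)
  by_cases i < 40960; · exact allLt_off orbI_gap36864 (by omega) (by omega)
  exact allLt_off orbI_gap40960 (by omega) (by omega)

variable {F : Type*} [Field F] (ω : F)

/-- The vector of a code. -/
def vecF (c : ℕ) : F9 → F := fun w => ev ω (c.testBit (idx w)) (c.testBit (9 + idx w))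

/-- The bits of a column of a generator. -/
def chkCol (a k : ℕ) : Bool :=
  bif Nat.blt k 9 then
    allLt 9 fun i => (colC a k).testBit i == (letM a).a.testBit (9 * i + k) &&
      (colC a k).testBit (9 + i) == (letM a).b.testBit (9 * i + k)
  else Nat.beq (colC a k) (smC (colC a (k - 9)))

theorem chkCol_all : allLt 18 (chkCol 0) = true ∧ allLt 18 (chkCol 1) = true := by decide +kernel

theorem parity_ok : allLt 512 (fun s =>
    (parityTab >>> s) &&& 1 == (xor (s.testBit 0) (xor (s.testBit 1) (xor (s.testBit 2)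
      (xor (s.testBit 3) (xor (s.testBit 4) (xor (s.testBit 5) (xor (s.testBit 6)
        (xor (s.testBit 7) (s.testBit 8))))))))).toNat) = true := by decide +kernel

variable [CharP F 2]

theorem vecF_xor (c d : ℕ) : vecF ω (c ^^^ d) = vecF ω c + vecF ω d := by
  ext w
  simp only [vecF, Pi.add_apply, Nat.testBit_xor, ev_xor]

omit [CharP F 2] in
theorem vecF_zero : vecF ω 0 = 0 := by
  ext w; simp [vecF, ev]

variable {ω} (hω : ω ^ 2 + ω + 1 = 0)
include hω

theorem vecF_inj {c d : ℕ} (hc : c < 262144) (hd : d < 262144) (h : vecF ω c = vecF ω d) : c = d := by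
  refine Nat.eq_of_testBit_eq fun k => ?_
  by_cases hk : k < 18
  · by_cases hk9 : k < 9
    · have := congrFun h (pt k)
      simp only [vecF, idx_pt k hk9] at this
      exact (ev_inj hω this).1
    · have := congrFun h (pt (k - 9))
      simp only [vecF, idx_pt (k - 9) (by omega), show 9 + (k - 9) = k by omega] at this
      exact (ev_inj hω this).2
  · have hp : 262144 ≤ 2 ^ k := by
      rw [show 262144 = 2 ^ 18 by norm_num]; exact Nat.pow_le_pow_right (by norm_num) (by omega)
    rw [Nat.testBit_lt_two_pow (lt_of_lt_of_le hc hp), Nat.testBit_lt_two_pow (lt_of_lt_of_le hd hp)]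

theorem exists_vecF [Fintype F] (hF : Fintype.card F = 4) (v : F9 → F) :
    ∃ c, c < 262144 ∧ v = vecF ω c := by
  classical
  let f : Fin 262144 → (F9 → F) := fun c => vecF ω c
  have hf : Function.Injective f := fun c d h => Fin.ext (vecF_inj hω c.2 d.2 h)
  have hb := (Fintype.bijective_iff_injective_and_card f).2 ⟨hf, by
    rw [Fintype.card_fin, Fintype.card_fun, hF, show Fintype.card F9 = 9 by decide]; norm_num⟩
  obtain ⟨c, hc⟩ := hb.2 v
  exact ⟨c, c.2, hc.symm⟩

omit hω [CharP F 2] [Field F] in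
theorem smC_bits {c : ℕ} (hc : c < 262144) {i : ℕ} (hi : i < 9) :
    (smC c).testBit i = c.testBit (9 + i) ∧
      (smC c).testBit (9 + i) = xor (c.testBit i) (c.testBit (9 + i)) := by
  have hlt : c >>> 9 < 2 ^ 9 := by rw [Nat.shiftRight_eq_div_pow]; omega
  have e : smC c = 2 ^ 9 * ((c &&& 511) ^^^ (c >>> 9)) + c >>> 9 := by
    rw [smC, Nat.shiftLeft_eq]; ring
  rw [e, Nat.testBit_two_pow_mul_add _ hlt, Nat.testBit_two_pow_mul_add _ hlt, if_pos hi,
    if_neg (by omega), Nat.add_sub_cancel_left, Nat.testBit_xor, Nat.testBit_land,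
    Nat.testBit_shiftRight, show (511 : ℕ) = 2 ^ 9 - 1 by norm_num, Nat.testBit_two_pow_sub_one]
  simp [hi]

theorem vecF_smC {c : ℕ} (hc : c < 262144) : vecF ω (smC c) = ω • vecF ω c := by
  ext w
  obtain ⟨h1, h2⟩ := smC_bits (i := idx w) hc (idx_lt w)
  simp only [vecF, h1, h2, Pi.smul_apply, smul_eq_mul]
  cases c.testBit (idx w) <;> cases c.testBit (9 + idx w) <;> simp [ev, mul_add, omega_sq hω]
  all_goals first
    | exact add_comm _ _
    | rw [← add_assoc, CharTwo.add_self_eq_zero, zero_add]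

omit hω [CharP F 2] [Field F] in
theorem colC_lt (a k : ℕ) : colC a k < 262144 := by
  have h : (262143 : ℕ) < 262144 := by norm_num
  rcases a with _ | a <;> exact lt_of_le_of_lt Nat.and_le_right h

omit hω [CharP F 2] [Field F] in
theorem smC_lt {c : ℕ} (hc : c < 262144) : smC c < 262144 := by
  have h1 : c >>> 9 < 512 := by rw [Nat.shiftRight_eq_div_pow]; omega
  have h2 : (c &&& 511) ^^^ (c >>> 9) < 2 ^ 9 :=
    Nat.xor_lt_two_pow (lt_of_le_of_lt Nat.and_le_right (by norm_num)) h1
  rw [smC, Nat.shiftLeft_eq]; omega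

omit [CharP F 2] hω in
theorem vecF_two_pow {k : ℕ} (w : F9) : vecF ω (2 ^ k) w =
    cond (decide (k = idx w)) 1 0 + cond (decide (k = 9 + idx w)) ω 0 := by
  simp [vecF, ev, Nat.testBit_two_pow]

theorem mulVec_two_pow {a : ℕ} (ha : a < 2) {k : ℕ} (hk : k < 18) :
    dec ω (letM a) *ᵥ vecF ω (2 ^ k) = vecF ω (colC a k) := by
  have hl : allLt 18 (chkCol a) = true := by
    interval_cases a
    exacts [chkCol_all.1, chkCol_all.2]
  have low : ∀ k, k < 9 → dec ω (letM a) *ᵥ vecF ω (2 ^ k) = vecF ω (colC a k) := by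
    intro k hk
    have h := allLt_spec hl k (by omega)
    have hb : Nat.blt k 9 = true := Nat.ble_eq_true_of_le hk
    rw [chkCol, hb, cond_true] at h
    have hv : vecF ω (2 ^ k) = Pi.single (pt k) 1 := by
      ext w
      rw [vecF_two_pow]
      by_cases e : w = pt k
      · subst e; simp [idx_pt k hk]
      · have : k ≠ idx w := fun h' => e (by rw [h', pt_idx])
        simp [e, this, show k ≠ 9 + idx w by omega]
    rw [hv, Matrix.mulVec_single_one]
    ext w
    have h' := allLt_spec h (idx w) (idx_lt w)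
    simp only [Bool.and_eq_true, beq_iff_eq] at h'
    simp only [Matrix.col_apply, dec, vecF, idx_pt k hk, h'.1, h'.2]
  by_cases hk9 : k < 9
  · exact low k hk9
  · have h := allLt_spec hl k hk
    have hb : Nat.blt k 9 = false := by
      cases hb : Nat.blt k 9
      · rfl
      · exact absurd (Nat.le_of_ble_eq_true hb) hk9
    rw [chkCol, hb, cond_false] at h
    rw [Nat.eq_of_beq_eq_true h, vecF_smC hω (colC_lt _ _), ← low _ (by omega)]
    rw [← Matrix.mulVec_smul]
    congr 1
    ext w
    rw [Pi.smul_apply, smul_eq_mul, vecF_two_pow, vecF_two_pow]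
    have := idx_lt w
    by_cases e : k - 9 = idx w
    · simp [e, show k ≠ idx w by omega, show k = 9 + idx w by omega,
        show idx w ≠ 9 + idx w by omega]
    · simp [e, show k ≠ idx w by omega, show k ≠ 9 + idx w by omega,
        show k - 9 ≠ 9 + idx w by omega]

theorem vecF_linC {a : ℕ} (ha : a < 2) : ∀ n, n ≤ 18 → ∀ c,
    vecF ω (linC a n c) = dec ω (letM a) *ᵥ vecF ω (c % 2 ^ n)
  | 0, _, c => by rw [linC, pow_zero, Nat.mod_one, vecF_zero, Matrix.mulVec_zero]
  | n + 1, hn, c => by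
    have e : c % 2 ^ (n + 1) = (cond (c.testBit n) (2 ^ n) 0) ^^^ (c % 2 ^ n) := by
      refine Nat.eq_of_testBit_eq fun k => ?_
      rw [Nat.testBit_xor, Nat.testBit_mod_two_pow, Nat.testBit_mod_two_pow]
      rcases Nat.lt_trichotomy k n with h | h | h
      · simp [h, show k < n + 1 by omega]
        cases c.testBit n <;> simp [Nat.testBit_two_pow, show n ≠ k by omega]
      · subst h
        cases hb : c.testBit k <;> simp [Nat.testBit_two_pow_self]
      · simp [show ¬k < n by omega, show ¬k < n + 1 by omega]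
        cases c.testBit n <;> simp [Nat.testBit_two_pow, show n ≠ k by omega]
    rw [linC, e, vecF_xor, vecF_xor, Matrix.mulVec_add, vecF_linC ha n (by omega) c]
    congr 1
    cases c.testBit n
    · rw [cond_false, cond_false, vecF_zero, Matrix.mulVec_zero]
    · rw [cond_true, cond_true, mulVec_two_pow hω ha (by omega)]

omit hω [CharP F 2] [Field F] in
theorem linC_xor (a : ℕ) : ∀ n c d, linC a n (c ^^^ d) = linC a n c ^^^ linC a n d
  | 0, _, _ => by simp [linC]
  | n + 1, c, d => by
    rw [linC, linC, linC, linC_xor a n c d, Nat.testBit_xor]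
    generalize colC a n = x
    refine Nat.eq_of_testBit_eq fun k => ?_
    cases c.testBit n <;> cases d.testBit n <;> simp [Nat.testBit_xor] <;>
      cases x.testBit k <;> cases (linC a n c).testBit k <;> simp

omit hω [CharP F 2] [Field F] in
theorem imgC_eq {a : ℕ} (ha : a < 2) {c : ℕ} (hc : c < 262144) : imgC a c = linC a 18 c := by
  have hT : ∀ j, j < 3 → ∀ x, x < 64 →
      (lineTab a j >>> (18 * x)) &&& 262143 = linC a 18 (x <<< (6 * j)) := by
    intro j hj x hx
    refine Nat.eq_of_beq_eq_true ?_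
    interval_cases a <;> interval_cases j
    exacts [allLt_spec lineTab_ok00 x hx, allLt_spec lineTab_ok01 x hx, allLt_spec lineTab_ok02 x hx,
      allLt_spec lineTab_ok10 x hx, allLt_spec lineTab_ok11 x hx, allLt_spec lineTab_ok12 x hx]
  have h63 : (63 : ℕ) = 2 ^ 6 - 1 := by norm_num
  have e : c = ((c &&& 63) <<< (6 * 0)) ^^^ ((((c >>> 6) &&& 63) <<< (6 * 1)) ^^^
      ((c >>> 12) <<< (6 * 2))) := by
    refine Nat.eq_of_testBit_eq fun k => ?_
    simp only [Nat.testBit_xor, Nat.testBit_shiftLeft, Nat.testBit_land, Nat.testBit_shiftRight,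
      h63, Nat.testBit_two_pow_sub_one]
    rcases (by omega : k < 6 ∨ (6 ≤ k ∧ k < 12) ∨ 12 ≤ k) with h | ⟨h, h'⟩ | h
    · simp [h, show ¬ 6 ≤ k by omega, show ¬ 12 ≤ k by omega]
    · simp [h, show ¬ k < 6 by omega, show k - 6 < 6 by omega, show ¬ 12 ≤ k by omega]
    · simp [h, show ¬ k < 6 by omega, show ¬ k - 6 < 6 by omega]
  conv_rhs => rw [e]
  rw [linC_xor, linC_xor, ← hT 0 (by norm_num) _ ?_, ← hT 1 (by norm_num) _ ?_,
    ← hT 2 (by norm_num) _ ?_, imgC]
  · rw [Nat.shiftRight_eq_div_pow]; omega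
  · exact lt_of_le_of_lt Nat.and_le_right (by norm_num)
  · exact lt_of_le_of_lt Nat.and_le_right (by norm_num)

theorem vecF_imgC {a : ℕ} (ha : a < 2) {c : ℕ} (hc : c < 262144) :
    vecF ω (imgC a c) = dec ω (letM a) *ᵥ vecF ω c := by
  rw [imgC_eq ha hc, vecF_linC hω ha 18 le_rfl,
    Nat.mod_eq_of_lt (lt_of_lt_of_le hc (by norm_num))]

theorem ev_cube (x₀ x₁ : Bool) : ev ω x₀ x₁ ^ 3 = ev ω (x₀ || x₁) false := by
  have h3 : ω ^ 3 = 1 := by linear_combination (ω - 1) * hω
  cases x₀ <;> cases x₁ <;> simp [ev, h3]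
  rw [show (1 + ω) = ω * ω by rw [omega_sq hω, add_comm], mul_pow, h3, one_mul]

theorem evenC_iff {c : ℕ} (hc : c < 262144) : ∑ z, vecF ω c z ^ 3 = 0 ↔ evenC c = true := by
  set s := (c &&& 511) ||| (c >>> 9) with hs
  have hs9 : s < 512 := Nat.or_lt_two_pow (n := 9) (lt_of_le_of_lt Nat.and_le_right (by norm_num))
    (by rw [Nat.shiftRight_eq_div_pow]; omega)
  have hbit : ∀ i, i < 9 → s.testBit i = (c.testBit i || c.testBit (9 + i)) := fun i hi => by
    rw [hs, Nat.testBit_lor, Nat.testBit_land, Nat.testBit_shiftRight,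
      show (511 : ℕ) = 2 ^ 9 - 1 by norm_num, Nat.testBit_two_pow_sub_one]
    simp [hi]
  have hp := allLt_spec parity_ok s hs9
  rw [beq_iff_eq] at hp
  have hsum : ∑ z, vecF ω c z ^ 3 = ev ω (xor (s.testBit 0) (xor (s.testBit 1) (xor (s.testBit 2)
      (xor (s.testBit 3) (xor (s.testBit 4) (xor (s.testBit 5) (xor (s.testBit 6)
        (xor (s.testBit 7) (s.testBit 8))))))))) false := by
    have hz : ∀ r, r < 9 → ∀ (z : F9), idx z = r → vecF ω c z ^ 3 = ev ω (s.testBit r) false := by
      intro r hr z hz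
      rw [vecF, ev_cube hω, hz, hbit r hr]
    rw [sum_F9]
    simp only [hz 0 (by norm_num) _ (idx_pt 0 (by norm_num)),
      hz 1 (by norm_num) _ (idx_pt 1 (by norm_num)), hz 2 (by norm_num) _ (idx_pt 2 (by norm_num)),
      hz 3 (by norm_num) _ (idx_pt 3 (by norm_num)), hz 4 (by norm_num) _ (idx_pt 4 (by norm_num)),
      hz 5 (by norm_num) _ (idx_pt 5 (by norm_num)), hz 6 (by norm_num) _ (idx_pt 6 (by norm_num)),
      hz 7 (by norm_num) _ (idx_pt 7 (by norm_num)), hz 8 (by norm_num) _ (idx_pt 8 (by norm_num)),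
      ← ev_xor, Bool.bne_assoc, Bool.false_xor, Bool.xor_false, Bool.xor_assoc]
  rw [hsum, evenC, ← hs, hp]
  generalize xor (s.testBit 0) _ = b
  cases b <;> simp [ev]

omit hω [CharP F 2] [Field F] in
theorem sameLine_iff {d c : ℕ} (h : sameLine d c = true) :
    d = c ∨ d = smC c ∨ d = smC (smC c) := by
  simp only [sameLine, Bool.or_eq_true] at h
  exact h.imp Nat.eq_of_beq_eq_true (Or.imp Nat.eq_of_beq_eq_true Nat.eq_of_beq_eq_true)

theorem exists_smul_of_sameLine {d c : ℕ} (hc : c < 262144) (h : sameLine d c = true) :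
    ∃ k : F, k ≠ 0 ∧ vecF ω d = k • vecF ω c := by
  have h0 := omega_ne_zero hω
  rcases sameLine_iff h with rfl | rfl | rfl
  · exact ⟨1, one_ne_zero, (one_smul _ _).symm⟩
  · exact ⟨ω, h0, vecF_smC hω hc⟩
  · exact ⟨ω * ω, mul_ne_zero h0 h0, by rw [vecF_smC hω (smC_lt hc), vecF_smC hω hc, smul_smul]⟩

/-- Moving lines: `g` sends the line of each code of the orbit to one of the orbit. -/
def Moves (O : Orb) (g : Matrix.GeneralLinearGroup F9 F) : Prop :=
  ∀ i, i < O.size → ∃ j, j < O.size ∧ ∃ k : F, k ≠ 0 ∧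
    (g : Matrix F9 F9 F) *ᵥ vecF ω (O.get i) = k • vecF ω (O.get j)

variable {O : Orb} (hO : ∀ i, i < O.size → chkLine O i = true)
include hO

theorem lineFacts {i : ℕ} (hi : i < O.size) :
    0 < O.get i ∧ O.get i < 262144 ∧ O.get i ≤ smC (O.get i) ∧
      O.get i ≤ smC (smC (O.get i)) ∧
      (∀ a, a < 2 → unp O.edge 16 (2 * i + a) < O.size ∧
        sameLine (imgC a (O.get i)) (O.get (unp O.edge 16 (2 * i + a))) = true) ∧
      (i ≠ 0 → ((unp O.par 22 i &&& 131071) / 2 < O.size ∧
        unp O.par 22 ((unp O.par 22 i &&& 131071) / 2) >>> 17 < unp O.par 22 i >>> 17 ∧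
        unp O.edge 16 (unp O.par 22 i &&& 131071) = i)) := by
  have h := hO i hi
  simp only [chkLine, frc_eq, Bool.and_eq_true, least3, Bool.or_eq_true] at h
  obtain ⟨h1, h2, ⟨h3, h4⟩, h5, h6, h7, h8, h9⟩ := h
  refine ⟨Nat.le_of_ble_eq_true h1, Nat.le_of_ble_eq_true h2, Nat.le_of_ble_eq_true h3,
    Nat.le_of_ble_eq_true h4, fun a ha => ?_, fun h0 => ?_⟩
  · interval_cases a
    · exact ⟨Nat.le_of_ble_eq_true h5, h7⟩
    · exact ⟨Nat.le_of_ble_eq_true h6, h8⟩
  · rcases h9 with h | ⟨ha, hb, hc⟩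
    · exact absurd (Nat.eq_of_beq_eq_true h) h0
    · exact ⟨Nat.le_of_ble_eq_true ha, Nat.le_of_ble_eq_true hb, Nat.eq_of_beq_eq_true hc⟩

theorem lgen_edge {a : ℕ} (ha : a < 2) {i : ℕ} (hi : i < O.size) : ∃ k : F, k ≠ 0 ∧
    (lgen hω a : Matrix F9 F9 F) *ᵥ vecF ω (O.get i) =
      k • vecF ω (O.get (unp O.edge 16 (2 * i + a))) := by
  obtain ⟨-, hc, -, -, he, -⟩ := lineFacts hω hO hi
  obtain ⟨hj, hs⟩ := he a ha
  obtain ⟨k, hk, hk'⟩ := exists_smul_of_sameLine hω (lineFacts hω hO hj).2.1 hs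
  refine ⟨k, hk, ?_⟩
  rw [show (lgen hω a : Matrix F9 F9 F) = dec ω (letM a) from rep_lgen hω a,
    ← vecF_imgC hω ha hc, hk']

theorem moves_of_mem {g : Matrix.GeneralLinearGroup F9 F} (hg : g ∈ threeJ3 F ω) :
    Moves (ω := ω) O g := by
  have hone : Moves (ω := ω) O (1 : Matrix.GeneralLinearGroup F9 F) := fun i hi =>
    ⟨i, hi, 1, one_ne_zero, by rw [Units.val_one, Matrix.one_mulVec, one_smul]⟩
  have hmul : ∀ {g h : Matrix.GeneralLinearGroup F9 F}, Moves (ω := ω) O g → Moves (ω := ω) O h →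
      Moves (ω := ω) O (g * h) := by
    intro g h hg hh i hi
    obtain ⟨j, hj, k, hk, e⟩ := hh i hi
    obtain ⟨l, hl, k', hk', e'⟩ := hg j hj
    refine ⟨l, hl, k * k', mul_ne_zero hk hk', ?_⟩
    rw [Units.val_mul, ← Matrix.mulVec_mulVec, e, Matrix.mulVec_smul, e', smul_smul]
  have hpow : ∀ {g : Matrix.GeneralLinearGroup F9 F}, Moves (ω := ω) O g → ∀ n : ℕ,
      Moves (ω := ω) O (g ^ n) := by
    intro g hg n
    induction n with
    | zero => rw [pow_zero]; exact hone
    | succ n ih => rw [pow_succ]; exact hmul ih hg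
  have hfin : Finite (genGroup hω) := Nat.finite_of_card_ne_zero (by
    rw [genGroup_eq hω, card_threeJ3 hω]; norm_num)
  rw [← genGroup_eq hω] at hg
  suffices H : g ∈ genGroup hω → Moves (ω := ω) O g from H hg
  intro hg'
  clear hg
  induction hg' using Subgroup.closure_induction with
  | mem x hx =>
    obtain ⟨a, rfl⟩ := hx
    intro i hi
    obtain ⟨k, hk, e⟩ := lgen_edge hω hO a.2 hi
    refine ⟨_, ((lineFacts hω hO hi).2.2.2.2.1 a a.2).1, k, hk, ?_⟩
    rw [← e]
    match a with
    | 0 => rfl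
    | 1 => rfl
  | one => exact hone
  | mul x y _ _ hx hy => exact hmul hx hy
  | inv x hx ih =>
    haveI := hfin
    let x' : genGroup hω := ⟨x, hx⟩
    have e : x⁻¹ = x ^ (orderOf x' - 1) := by
      have h := pow_orderOf_eq_one x'
      have h' : x ^ orderOf x' = 1 := congrArg Subtype.val h
      rw [inv_eq_iff_mul_eq_one, ← pow_succ', Nat.sub_add_cancel (orderOf_pos x'), h']
    rw [e]
    exact hpow ih _

theorem reach : ∀ i, i < O.size → ∃ g ∈ threeJ3 F ω, ∃ k : F, k ≠ 0 ∧
    (g : Matrix F9 F9 F) *ᵥ vecF ω (O.get 0) = k • vecF ω (O.get i) := by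
  suffices H : ∀ d, ∀ i, i < O.size → unp O.par 22 i >>> 17 = d → ∃ g ∈ threeJ3 F ω, ∃ k : F,
      k ≠ 0 ∧ (g : Matrix F9 F9 F) *ᵥ vecF ω (O.get 0) = k • vecF ω (O.get i) from
    fun i hi => H _ i hi rfl
  intro d
  induction d using Nat.strong_induction_on with
  | _ d ih =>
    intro i hi hd
    by_cases h0 : i = 0
    · subst h0
      exact ⟨1, one_mem _, 1, one_ne_zero, by rw [Units.val_one, Matrix.one_mulVec, one_smul]⟩
    · obtain ⟨hp, hlt, he⟩ := (lineFacts hω hO hi).2.2.2.2.2 h0
      set q := unp O.par 22 i &&& 131071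
      obtain ⟨g, hg, k, hk, e⟩ := ih _ (hd ▸ hlt) _ hp rfl
      obtain ⟨k', hk', e'⟩ := lgen_edge hω hO (Nat.mod_lt q (by norm_num : 2 > 0)) hp
      refine ⟨lgen hω (q % 2) * g, mul_mem (lgen_mem hω _) hg, k * k', mul_ne_zero hk hk', ?_⟩
      rw [Units.val_mul, ← Matrix.mulVec_mulVec, e, Matrix.mulVec_smul, e', smul_smul,
        show 2 * (q / 2) + q % 2 = q by omega, he]

end CfsgLib.J23
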