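import Cfsg.Agent.JankoTwoThree.J3PermDefs
import Cfsg.Agent.JankoTwoThree.J3LinesData

/-!
# Checks on the orbits of lines

A vector of `F₄⁹` is an 18-bit code: nine bits for the coefficients of `1`, nine for those of `ω`.
-/

set_option autoImplicit false

namespace CfsgLib.J23

open CfsgLib.J1

/-- An entry of a packed table. -/
def unp (T : BT ℕ) (w i : ℕ) : ℕ := (T.get (i / 512) >>> (w * (i % 512))) &&& (2 ^ w - 1)

/-- The code multiplied by `ω`. -/
def smC (c : ℕ) : ℕ := (c >>> 9) + (((c &&& 511) ^^^ (c >>> 9)) <<< 9)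

/-- The least of the three multiples. -/
def least3 (c : ℕ) : Bool := Nat.ble c (smC c) && Nat.ble c (smC (smC c))

/-- Even support. -/
def evenC (c : ℕ) : Bool := Nat.beq ((parityTab >>> ((c &&& 511) ||| (c >>> 9))) &&& 1) 0

/-- A column of a generator as a code. -/
def colC : ℕ → ℕ → ℕ
  | 0, k => (lineCol0 >>> (18 * k)) &&& 262143
  | _, k => (lineCol1 >>> (18 * k)) &&& 262143

/-- The image of the first `n` coordinates. -/
def linC (a : ℕ) : ℕ → ℕ → ℕ
  | 0, _ => 0
  | n + 1, c => (cond (c.testBit n) (colC a n) 0) ^^^ linC a n c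

/-- The table of a chunk. -/
def lineTab : ℕ → ℕ → ℕ
  | 0, 0 => lineTab00
  | 0, 1 => lineTab01
  | 0, _ => lineTab02
  | _, 0 => lineTab10
  | _, 1 => lineTab11
  | _, _ => lineTab12

/-- The image of a code from the tables. -/
def imgC (a c : ℕ) : ℕ :=
  ((lineTab a 0 >>> (18 * (c &&& 63))) &&& 262143) ^^^
    (((lineTab a 1 >>> (18 * ((c >>> 6) &&& 63))) &&& 262143) ^^^
      ((lineTab a 2 >>> (18 * (c >>> 12))) &&& 262143))

/-- The tables are linear. -/
def chkTab (a j x : ℕ) : Bool :=
  Nat.beq ((lineTab a j >>> (18 * x)) &&& 262143) (linC a 18 (x <<< (6 * j)))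

/-- An image is a multiple of a code. -/
def sameLine (d c : ℕ) : Bool := Nat.beq d c || (Nat.beq d (smC c) || Nat.beq d (smC (smC c)))

/-- An orbit: codes, edges and parents. -/
structure Orb where
  size : ℕ
  code : BT ℕ
  edge : BT ℕ
  par : BT ℕ

/-- The code number `i`. -/
def Orb.get (O : Orb) (i : ℕ) : ℕ := unp O.code 18 i

/-- The orbit of `e₀`. -/
def orbA : Orb := ⟨23256, orbACode, orbAEdge, orbAPar⟩

/-- The isotropic lines. -/
def orbI : Orb := ⟨43605, orbICode, orbIEdge, orbIPar⟩

/-- One code of an orbit with its edges and parent. -/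
def chkLine (O : Orb) (i : ℕ) : Bool :=
  frc (O.get i) fun c =>
    Nat.blt 0 c && (Nat.blt c 262144 && (least3 c && (Nat.blt (unp O.edge 16 (2 * i)) O.size &&
      (Nat.blt (unp O.edge 16 (2 * i + 1)) O.size &&
        (sameLine (imgC 0 c) (O.get (unp O.edge 16 (2 * i))) &&
          (sameLine (imgC 1 c) (O.get (unp O.edge 16 (2 * i + 1))) &&
            (Nat.beq i 0 || frc (unp O.par 22 i) fun p => frc (p &&& 131071) fun q =>
              Nat.blt (q / 2) O.size && (Nat.blt (unp O.par 22 (q / 2) >>> 17) (p >>> 17) &&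
                Nat.beq (unp O.edge 16 q) i))))))))

/-- The codes increase. -/
def chkInc (O : Orb) (i : ℕ) : Bool :=
  Nat.beq i 0 || Nat.blt (O.get (i - 1)) (O.get i)

/-- No isotropic least code strictly between two entries. -/
def chkGap (i : ℕ) : Bool :=
  frc (bif Nat.beq i 0 then 0 else orbI.get (i - 1)) fun lo =>
    frc (bif Nat.blt i 43605 then orbI.get i else 262144) fun hi =>
      (Nat.beq i 0 || Nat.blt lo hi) && allLt (hi - (lo + 1)) fun j => frc (lo + 1 + j) fun c => !(evenC c && least3 c)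

end CfsgLib.J23
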