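import Cfsg.Agent.JankoTwoThree.J3Simple
import Cfsg.Prelude.Def_Classical

/-!
# `3·J₃` inside `SU₉(2)`

The two generators preserve `∑ uᵢ vᵢ²`; the group is perfect, so the determinant is trivial.
-/

set_option autoImplicit false

namespace CfsgLib.J23

open Cfsg.Spor CfsgLib.J1 CfsgLib.Schur Matrix

/-- The inverse of the packed generator is its conjugate transpose. -/
def chkUnit (a k : ℕ) : Bool :=
  let P := letM a
  let Q := letM (a + 2)
  let i := k / 9
  let j := k % 9
  Q.a.testBit (9 * j + i) == xor (P.a.testBit (9 * i + j)) (P.b.testBit (9 * i + j)) &&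
    Q.b.testBit (9 * j + i) == P.b.testBit (9 * i + j)

theorem chkUnit_all : allLt 81 (chkUnit 0) = true ∧ allLt 81 (chkUnit 1) = true := by decide +kernel

variable {F : Type*} [Field F] {ω : F} [CharP F 2] (hω : ω ^ 2 + ω + 1 = 0)
include hω

theorem ev_sq (x₀ x₁ : Bool) : ev ω x₀ x₁ ^ 2 = ev ω (xor x₀ x₁) x₁ := by
  have h : ω ^ 2 = 1 + ω := by rw [sq, omega_sq hω, add_comm]
  cases x₀ <;> cases x₁ <;> simp [ev, h]
  rw [sq, CharTwo.add_mul_self, omega_sq hω, one_mul, ← add_assoc, add_comm 1 ω, add_assoc,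
    CharTwo.add_self_eq_zero, add_zero]

theorem conjTranspose_lgen {a : ℕ} (ha : a < 2) (i j : F9) :
    dec ω (letM (a + 2)) j i = (dec ω (letM a) i j) ^ 2 := by
  have hl : allLt 81 (chkUnit a) = true := by
    interval_cases a
    exacts [chkUnit_all.1, chkUnit_all.2]
  have h := allLt_spec hl (9 * idx i + idx j) (by have := idx_lt i; have := idx_lt j; omega)
  simp only [chkUnit, show (9 * idx i + idx j) / 9 = idx i by have := idx_lt j; omega,
    show (9 * idx i + idx j) % 9 = idx j by have := idx_lt j; omega, Bool.and_eq_true,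
    beq_iff_eq] at h
  rw [dec, dec, ev_sq hω, h.1, h.2]

/-- The Hermitian form on `F9 → F`. -/
def herm9 (u v : F9 → F) : F := ∑ i, u i * v i ^ 2

theorem herm9_lgen {a : ℕ} (ha : a < 2) (u v : F9 → F) :
    herm9 ((lgen hω a : Matrix F9 F9 F) *ᵥ u) ((lgen hω a : Matrix F9 F9 F) *ᵥ v) =
      herm9 u v := by
  have hM : (lgen hω a : Matrix F9 F9 F) = dec ω (letM a) := rep_lgen hω a
  have hinv : dec ω (letM (a + 2)) * dec ω (letM a) = 1 := by
    have h : lgen hω (a + 2) * lgen hω a = 1 := by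
      interval_cases a <;> exact inv_mul_cancel _
    have h' := congrArg Units.val h
    rwa [Units.val_mul, rep_lgen hω (a + 2), rep_lgen hω a, Units.val_one] at h'
  have hvec : ∀ i, (dec ω (letM a) *ᵥ v) i ^ 2 = ∑ k, dec ω (letM (a + 2)) k i * v k ^ 2 := fun i => by
    simp only [mulVec, dotProduct]
    rw [CharTwo.sum_sq]
    simp_rw [mul_pow, conjTranspose_lgen hω ha]
  simp only [herm9, hM, hvec]
  simp only [mulVec, dotProduct, Finset.sum_mul, Finset.mul_sum]
  rw [Finset.sum_comm]
  refine Finset.sum_congr rfl fun j _ => ?_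
  rw [Finset.sum_comm]
  calc ∑ y, ∑ i, dec ω (letM a) i y * u y * (dec ω (letM (a + 2)) j i * v j ^ 2)
      = ∑ y, (dec ω (letM (a + 2)) * dec ω (letM a)) j y * (u y * v j ^ 2) := by
        refine Finset.sum_congr rfl fun y _ => ?_
        rw [Matrix.mul_apply, Finset.sum_mul]
        exact Finset.sum_congr rfl fun i _ => by ring
    _ = u j * v j ^ 2 := by rw [hinv]; simp [Matrix.one_apply]

/-- The isometries of the form inside `GL₉`. -/
def unitary9 : Subgroup (Matrix.GeneralLinearGroup F9 F) :=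
  Cfsg.preserving (Units.coeHom _) (herm9)

theorem threeJ3_le_unitary : threeJ3 F ω ≤ (unitary9 (F := F)) := by
  rw [← genGroup_eq hω, genGroup, Subgroup.closure_le]
  rintro _ ⟨a, rfl⟩
  intro u v
  match a with
  | 0 => exact herm9_lgen hω (a := 0) (by norm_num) u v
  | 1 => exact herm9_lgen hω (a := 1) (by norm_num) u v

theorem commutator_threeJ3 : commutator (threeJ3 F ω) = ⊤ := by
  haveI := isSimpleGroup_J3P
  let f : threeJ3 F ω →* J3P :=
    ((MulEquiv.subgroupCongr (range_act hω)).toMonoidHom).comp (act hω).rangeRestrict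
  have hf : Function.Surjective f := fun y => by
    obtain ⟨z, hz⟩ := (MulEquiv.subgroupCongr (range_act hω)).surjective y
    obtain ⟨x, rfl⟩ := (act hω).rangeRestrict_surjective z
    exact ⟨x, hz⟩
  have hker : f.ker = Subgroup.center (threeJ3 F ω) := by
    rw [← ker_act_eq_center hω]
    ext x
    rw [MonoidHom.mem_ker, MonoidHom.mem_ker, ← OneMemClass.coe_eq_one]
    rfl
  have hmap : (commutator (threeJ3 F ω)).map f = ⊤ := by
    rw [commutator_def, Subgroup.map_commutator, ← MonoidHom.range_eq_map,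
      MonoidHom.range_eq_top.2 hf]
    refine (Subgroup.Normal.eq_bot_or_eq_top inferInstance).resolve_left fun h => ?_
    rw [Subgroup.commutator_eq_bot_iff_le_centralizer] at h
    have hc := Subgroup.mem_centralizer_iff.1 (h (Subgroup.mem_top (pW [1]))) (pW [0])
      (Subgroup.mem_top _)
    rw [← pW_append, ← pW_append] at hc
    exact absurd (wEq_complete hc) (by decide +kernel)
  rw [eq_top_iff]
  intro x _
  obtain ⟨y, hy, hxy⟩ := Subgroup.mem_map.1 (hmap ▸ Subgroup.mem_top (f x))
  have hk : y⁻¹ * x ∈ f.ker := by rw [MonoidHom.mem_ker, map_mul, map_inv, hxy, inv_mul_cancel]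
  rw [← mul_inv_cancel_left y x]
  exact mul_mem hy (center_le_commutator hω (hker ▸ hk))

theorem det_threeJ3 (g : threeJ3 F ω) :
    ((g : Matrix.GeneralLinearGroup F9 F) : Matrix F9 F9 F).det = 1 := by
  let d : threeJ3 F ω →* Fˣ := (Matrix.GeneralLinearGroup.det).comp (threeJ3 F ω).subtype
  have h : g ∈ d.ker := by
    apply Abelianization.commutator_subset_ker d
    rw [commutator_threeJ3 hω]
    exact Subgroup.mem_top g
  have h1 := congrArg Units.val (MonoidHom.mem_ker.1 h)
  rwa [MonoidHom.comp_apply, Matrix.GeneralLinearGroup.val_det_apply, Units.val_one] at h1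

omit hω [CharP F 2] in
/-- The indices as `Fin 9`. -/
def eIdx : F9 ≃ Fin 9 where
  toFun z := ⟨idx z, idx_lt z⟩
  invFun r := pt r
  left_inv z := pt_idx z
  right_inv r := Fin.ext (idx_pt r r.2)

/-- The embedding in `SU₉(2)`. -/
def toSU : threeJ3 F ω →* Cfsg.SU 9 F 2 where
  toFun g := ⟨⟨Matrix.reindex eIdx eIdx ((g : Matrix.GeneralLinearGroup F9 F) : Matrix F9 F9 F),
      by rw [Matrix.det_reindex_self]; exact det_threeJ3 hω g⟩, fun u v => by
    show Cfsg.hermForm 9 F 2 (Matrix.reindex eIdx eIdx _ *ᵥ u) (Matrix.reindex eIdx eIdx _ *ᵥ v) =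
      Cfsg.hermForm 9 F 2 u v
    have hs : ∀ x y : Fin 9 → F, Cfsg.hermForm 9 F 2 x y = herm9 (x ∘ eIdx) (y ∘ eIdx) :=
      fun x y => by
        simp only [Cfsg.hermForm, herm9, Function.comp_apply]
        exact (Equiv.sum_comp eIdx fun i => x i * y i ^ 2).symm
    have hm : ∀ w : Fin 9 → F,
        (Matrix.reindex eIdx eIdx ((g : Matrix.GeneralLinearGroup F9 F) : Matrix F9 F9 F) *ᵥ w) ∘
          eIdx = ((g : Matrix.GeneralLinearGroup F9 F) : Matrix F9 F9 F) *ᵥ (w ∘ eIdx) := fun w => by
      rw [Matrix.reindex_apply, Matrix.submatrix_mulVec_equiv, Equiv.symm_symm]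
      ext z; simp
    rw [hs, hs, hm, hm]
    exact threeJ3_le_unitary hω g.2 _ _⟩
  map_one' := Subtype.ext (Subtype.ext (Matrix.submatrix_one_equiv _))
  map_mul' g h := Subtype.ext (Subtype.ext (Matrix.submatrix_mul_equiv
    ((g : Matrix.GeneralLinearGroup F9 F) : Matrix F9 F9 F)
    ((h : Matrix.GeneralLinearGroup F9 F) : Matrix F9 F9 F) eIdx.symm eIdx.symm eIdx.symm).symm)

theorem toSU_injective : Function.Injective (toSU hω) := fun g h e => by
  have e' := congrArg (fun x : Cfsg.SU 9 F 2 => (x.1.1 : Matrix (Fin 9) (Fin 9) F)) e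
  exact Subtype.ext (Units.ext ((Matrix.reindex eIdx eIdx).injective e'))

end CfsgLib.J23
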