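import Cfsg.Agent.JankoTwoThree.J3MultCheck
import Cfsg.Agent.JankoTwoThree.J3Action
import Cfsg.Agent.JankoTwoThree.J3Unitary
import Cfsg.Agent.Schur.CoverBound
import Cfsg.Prelude.Def_KGroupFacts

/-!
# `3·J₃` has no nontrivial stem extension, and the multiplier of `J₃` has order 3
-/

set_option autoImplicit false

namespace CfsgLib.J23

open Cfsg.Spor CfsgLib.Schur

universe u

variable {F : Type u} [Field F] {ω : F} [CharP F 2] (hω : ω ^ 2 + ω + 1 = 0)
include hω

attribute [local irreducible] wordM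

omit hω [CharP F 2] in
theorem wf_matW (L : List M9) : ∀ w, WF (matW L w)
  | [] => wf_mOne
  | a :: w => by rw [matW, frcM_eq]; exact wf_mul _ _

/-- A group element given by a word. -/
def wgen (W : List (List ℕ)) (a : ℕ) : threeJ3 F ω := Pc.ev (tgen hω) (W.getD a [])

theorem rep_tev (w : List ℕ) :
    Rep ω (wordM w) ((Pc.ev (tgen hω) w : threeJ3 F ω) : Matrix.GeneralLinearGroup F9 F) := by
  rw [coe_tev]; exact rep_wordM hω w

omit hω [CharP F 2] in
theorem getD_of_chkWordMats : ∀ {W : List (List ℕ)} {L : List M9}, chkWordMats W L = true →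
    ∀ a, L.getD a mOne = wordM (W.getD a [])
  | [], [], _, a => by simp [wordM]
  | w :: W, P :: L, h, a => by
    simp only [chkWordMats, Bool.and_eq_true] at h
    cases a with
    | zero => simpa using (eq_of_eqb h.1).symm
    | succ a => simpa using getD_of_chkWordMats h.2 a

theorem rep_matW {W : List (List ℕ)} {L : List M9} (h : chkWordMats W L = true) :
    ∀ w, Rep ω (matW L w)
      ((Pc.ev (wgen hω W) w : threeJ3 F ω) : Matrix.GeneralLinearGroup F9 F)
  | [] => by rw [matW, Pc.ev_nil]; exact rep_one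
  | a :: w => by
    rw [matW, frcM_eq, Pc.ev_cons, Subgroup.coe_mul, getD_of_chkWordMats h]
    exact (rep_tev hω _).mul hω (rep_matW h w)

omit hω [CharP F 2] in
theorem nodup_of_nodupB : ∀ {l : List ℕ}, nodupB l = true → l.Nodup
  | [], _ => List.nodup_nil
  | a :: l, h => by
    simp only [nodupB, Bool.and_eq_true, List.all_eq_true, Bool.not_eq_true'] at h
    refine List.nodup_cons.2 ⟨fun ha => ?_, nodup_of_nodupB h.2⟩
    have := h.1 a ha
    rw [Nat.beq_refl] at this
    exact Bool.noConfusion this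

omit hω [CharP F 2] in
theorem fus_of_chk (C : Pc.Cert) (L : List M9) :
    ∀ {Fs : List (List (List ℕ) × List (List ℕ))} {gs : List M9}, chkFus C L Fs gs = true →
      ∀ Fu ∈ Fs, ∃ g ∈ gs, ∀ s < C.fusW,
        mul g (matW L (Fu.1.getD s [])) = mul (matW L (Fu.2.getD s [])) g
  | [], [], _, _, h => absurd h List.not_mem_nil
  | F0 :: Fs, g :: gs, h, Fu, hm => by
    simp only [chkFus, Bool.and_eq_true, List.all_eq_true, List.mem_range] at h
    rcases List.mem_cons.1 hm with rfl | hm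
    · exact ⟨g, List.mem_cons_self, fun s hs => eq_of_eqb (h.1 s hs)⟩
    · obtain ⟨g', hg', e⟩ := fus_of_chk C L h.2 Fu hm
      exact ⟨g', List.mem_cons_of_mem _ hg', e⟩

/-- The `p`-part of the multiplier of `3·J₃` from a checked certificate. -/
theorem ker_eq_bot_of_cert (C : Pc.Cert) (W : List (List ℕ)) (L : List M9) (GW : List (List ℕ))
    (GM : List M9) (hcheck : C.check = true) (hok : chkMult C W L GW GM = true) (hp : C.p.Prime)
    {N : ℕ} (hN : Nat.card (threeJ3 F ω) = C.p ^ C.n * N) (hNp : ¬ C.p ∣ N)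
    {Γ : Type*} [Group Γ] [Finite Γ] (σ : Γ →* threeJ3 F ω) (hσ : Cfsg.IsStemExtension σ)
    (hexp : ∀ z ∈ σ.ker, z ^ C.p = 1) : σ.ker = ⊥ := by
  simp only [chkMult, Bool.and_eq_true, List.all_eq_true] at hok
  obtain ⟨hW, hG, hrules, hfus, hnodup⟩ := hok
  let x := wgen hω W
  have hx : ∀ w, Rep ω (matW L w)
      ((Pc.ev x w : threeJ3 F ω) : Matrix.GeneralLinearGroup F9 F) := rep_matW hω hW
  have hr : ∀ l ∈ C.rules, Pc.ev x l.1 = Pc.ev x l.2 := fun l hl => Subtype.ext
    ((hx l.1).unique ((eq_of_eqb (hrules l hl)).symm ▸ hx l.2))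
  have hf : ∀ Fu ∈ C.fus, ∃ g : threeJ3 F ω, ∀ s < C.fusW,
      g * Pc.ev x (Fu.1.getD s []) * g⁻¹ = Pc.ev x (Fu.2.getD s []) := by
    intro Fu hFu
    obtain ⟨M, hM, e⟩ := fus_of_chk C L hfus Fu hFu
    obtain ⟨i, hi, rfl⟩ := List.getElem_of_mem hM
    refine ⟨Pc.ev (tgen hω) (GW.getD i []), fun s hs => ?_⟩
    rw [mul_inv_eq_iff_eq_mul]
    have hg := rep_tev hω (GW.getD i [])
    rw [← getD_of_chkWordMats hG i, List.getD_eq_getElem _ _ hi] at hg
    have h1 := hg.mul hω (hx (Fu.1.getD s []))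
    rw [e s hs] at h1
    exact Subtype.ext (h1.unique ((hx (Fu.2.getD s [])).mul hω hg))
  haveI : Finite (threeJ3 F ω) := Finite.of_surjective σ hσ.1
  have hcard : C.p ^ C.n ≤ Nat.card (Pc.tailSubgroup x C.n 0) := by
    refine Pc.le_card_of_nodup
      (fun g : threeJ3 F ω => ((g : Matrix.GeneralLinearGroup F9 F) : Matrix F9 F9 F)) C.p C.n x ?_
    have hM : ((Pc.normalWords C.p C.n 0).map fun w => matW L w).Nodup := by
      apply List.Nodup.of_map enc
      rw [List.map_map]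
      exact nodup_of_nodupB hnodup
    have he : ((Pc.normalWords C.p C.n 0).map fun w =>
        ((Pc.ev x w : threeJ3 F ω) : Matrix.GeneralLinearGroup F9 F).val) =
        ((Pc.normalWords C.p C.n 0).map fun w => matW L w).map (dec ω) := by
      rw [List.map_map]
      exact List.map_congr_left fun w _ => hx w
    rw [he]
    refine hM.map_on fun P hP Q hQ e => ?_
    obtain ⟨w, -, rfl⟩ := List.mem_map.1 hP
    obtain ⟨v, -, rfl⟩ := List.mem_map.1 hQ
    exact dec_inj hω (wf_matW L w) (wf_matW L v) e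
  refine C.ker_eq_bot σ hσ hp hexp hcheck x hr hf hcard ?_
  have hshape : Pc.shaped C.p C.n C.rules = true := by
    simp only [Pc.Cert.check, Bool.and_eq_true] at hcheck
    exact hcheck.1.1
  have hS : Nat.card (Pc.tailSubgroup x C.n 0) = C.p ^ C.n :=
    le_antisymm (Pc.card_tailSubgroup_le x hshape hr C.n 0 (Nat.zero_add _)) hcard
  have := Subgroup.index_mul_card (Pc.tailSubgroup x C.n 0)
  rw [hS, hN, Nat.mul_comm] at this
  rwa [Nat.eq_of_mul_eq_mul_left (pow_pos hp.pos _) this]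

/-- The primes with Sylow subgroups of prime order. -/
theorem ker_eq_bot_of_cyc {p : ℕ} {w : List ℕ} (hq : (p, w) ∈ multCyc) (hp : p.Prime)
    {N : ℕ} (hN : Nat.card (threeJ3 F ω) = p * N) (hNp : ¬ p ∣ N)
    {Γ : Type*} [Group Γ] [Finite Γ] (σ : Γ →* threeJ3 F ω) (hσ : Cfsg.IsStemExtension σ)
    (hexp : ∀ z ∈ σ.ker, z ^ p = 1) : σ.ker = ⊥ := by
  haveI : Fact p.Prime := ⟨hp⟩
  have h := List.all_eq_true.1 chkCyc_ok _ hq
  simp only [chkCyc, Bool.and_eq_true, Bool.not_eq_true'] at h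
  set g := Pc.ev (tgen hω) w
  have hone : Rep ω mOne ((1 : threeJ3 F ω) : Matrix.GeneralLinearGroup F9 F) := rep_one
  have hpow : g ^ p = 1 := by
    rw [← ev_wPow]
    have h1 := rep_tev hω (wPow w p)
    rw [eq_of_eqb h.1] at h1
    exact Subtype.ext (h1.unique hone)
  have hne : g ≠ 1 := by
    intro e
    have h1 : dec ω (wordM w) = dec ω mOne := by
      exact (rep_tev hω w).symm.trans ((congrArg (fun z : threeJ3 F ω =>
        ((z : Matrix.GeneralLinearGroup F9 F) : Matrix F9 F9 F)) e).trans hone)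
    have hwf : WF (wordM w) := by
      unfold wordM
      cases w with
      | nil => exact wf_mOne
      | cons a w => simp only [frcM_eq]; exact wf_mul _ _
    have h2 := h.2
    rw [dec_inj hω hwf wf_mOne h1, eqb, Nat.beq_refl, Nat.beq_refl] at h2
    exact Bool.noConfusion h2
  haveI : Finite (threeJ3 F ω) := Finite.of_surjective σ hσ.1
  refine ker_eq_bot_of_index_zpowers hp g ?_ σ hσ hexp
  have := Subgroup.index_mul_card (Subgroup.zpowers g)
  rw [Nat.card_zpowers, orderOf_eq_prime hpow hne, hN, Nat.mul_comm] at this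
  rwa [Nat.eq_of_mul_eq_mul_left hp.pos this]

theorem ker_eq_bot_exponent {p : ℕ} (hp : p.Prime) (hdvd : p ∣ Nat.card (threeJ3 F ω))
    {Γ : Type u} [Group Γ] [Finite Γ] (σ : Γ →* threeJ3 F ω) (hσ : Cfsg.IsStemExtension σ)
    (hexp : ∀ z ∈ σ.ker, z ^ p = 1) : σ.ker = ⊥ := by
  have hc := card_threeJ3 hω
  rw [hc, show (150698880 : ℕ) = 2 ^ 7 * (3 ^ 6 * (5 * (17 * 19))) by norm_num] at hdvd
  have hone : ∀ {q : ℕ}, q.Prime → p ∣ q → p = q := fun hq h =>
    (Nat.prime_dvd_prime_iff_eq hp hq).1 h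
  rcases hp.dvd_mul.1 hdvd with h | h
  · obtain rfl := hone Nat.prime_two (hp.dvd_of_dvd_pow h)
    exact ker_eq_bot_of_cert hω mult2Cert mult2Words mult2Mats mult2GWords mult2GMats check_mult2
      chkMult2_ok Nat.prime_two (N := 1177335) (by rw [hc]; decide) (by decide) σ hσ hexp
  rcases hp.dvd_mul.1 h with h | h
  · obtain rfl := hone Nat.prime_three (hp.dvd_of_dvd_pow h)
    exact ker_eq_bot_of_cert hω mult3Cert mult3Words mult3Mats mult3GWords mult3GMats check_mult3
      chkMult3_ok Nat.prime_three (N := 206720) (by rw [hc]; decide) (by decide) σ hσ hexp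
  rcases hp.dvd_mul.1 h with h | h
  · obtain rfl := hone (by norm_num) h
    exact ker_eq_bot_of_cyc hω (w := (multCyc.getD 0 (0, [])).2) (by decide) hp (N := 30139776)
      (by rw [hc]) (by norm_num) σ hσ hexp
  rcases hp.dvd_mul.1 h with h | h
  · obtain rfl := hone (by norm_num) h
    exact ker_eq_bot_of_cyc hω (w := (multCyc.getD 1 (0, [])).2) (by decide) hp (N := 8864640)
      (by rw [hc]) (by norm_num) σ hσ hexp
  · obtain rfl := hone (by norm_num) h
    exact ker_eq_bot_of_cyc hω (w := (multCyc.getD 2 (0, [])).2) (by decide) hp (N := 7931520)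
      (by rw [hc]) (by norm_num) σ hσ hexp

theorem stem_ker_eq_bot [Finite (threeJ3 F ω)] {Γ : Type u} [Group Γ] [Finite Γ]
    (σ : Γ →* threeJ3 F ω) (hσ : Cfsg.IsStemExtension σ) : σ.ker = ⊥ := by
  by_contra hne
  have hcard : Nat.card σ.ker ≠ 1 := fun h => hne (Subgroup.eq_bot_of_card_eq _ h)
  obtain ⟨p, hp, hdvd⟩ := Nat.exists_prime_and_dvd hcard
  haveI : Fact p.Prime := ⟨hp⟩
  exact not_dvd_card_ker_of_exponent_p
    (fun Δ _ _ ρ hρ he => ker_eq_bot_exponent hω hp
      (prime_dvd_card_of_dvd_card_ker σ hσ hdvd) ρ hρ he) σ hσ hdvd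

theorem hasCyclicSchurMultiplier_J3 [Finite F] :
    Cfsg.HasCyclicSchurMultiplier (J3 F ω) 3 := by
  haveI : Fintype F := Fintype.ofFinite F
  haveI : Finite (threeJ3 F ω) := inferInstance
  let τ : threeJ3 F ω →* J3 F ω := QuotientGroup.mk' (Subgroup.center (threeJ3 F ω))
  have hk : τ.ker = Subgroup.center (threeJ3 F ω) := QuotientGroup.ker_mk' _
  have hτ : Function.Surjective τ := QuotientGroup.mk'_surjective _
  haveI : Fact (Nat.Prime 3) := ⟨by norm_num⟩
  have hc3 : Nat.card τ.ker = 3 := by rw [hk]; exact card_center_threeJ3 hω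
  haveI : IsCyclic τ.ker := isCyclic_of_prime_card hc3
  have iso : τ.ker ≃* Multiplicative (ZMod 3) := (zmodCyclicMulEquiv ‹_›).symm.trans
    (AddEquiv.toMultiplicative (ZMod.ringEquivCongr hc3).toAddEquiv)
  refine ⟨⟨threeJ3 F ω, inferInstance, inferInstance, τ, ⟨hτ, hk.le, ?_⟩, ⟨iso⟩⟩, ?_⟩
  · rw [hk]; exact center_le_commutator hω
  intro Γ _ _ σ hσ
  have hperf : Group.IsPerfect (J3 F ω) := by
    rw [Group.isPerfect_def]
    show commutator (J3 F ω) = ⊤
    rw [commutator_def, ← Subgroup.map_top_of_surjective τ hτ, ← Subgroup.map_commutator,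
      ← commutator_def, commutator_threeJ3 hω]
  have htop : commutator (threeJ3 F ω) = ⊤ := commutator_threeJ3 hω
  let e : commutator (threeJ3 F ω) ≃* threeJ3 F ω :=
    (MulEquiv.subgroupCongr htop).trans Subgroup.topEquiv
  have hno : ∀ (Δ : Type u) [Group Δ] [Finite Δ] (ρ : Δ →* commutator (threeJ3 F ω)),
      Cfsg.IsStemExtension ρ → ρ.ker = ⊥ := by
    intro Δ _ _ ρ hρ
    have hker : (e.toMonoidHom.comp ρ).ker = ρ.ker := by
      ext z; simp [MonoidHom.mem_ker]
    rw [← hker]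
    exact stem_ker_eq_bot hω _ ⟨e.surjective.comp hρ.1, by rw [hker]; exact hρ.2.1,
      by rw [hker]; exact hρ.2.2⟩
  obtain ⟨π, hπ⟩ := exists_ker_surjective τ hτ hk.le hperf hno σ hσ
  let g : τ.ker →* (τ.comp (commutator (threeJ3 F ω)).subtype).ker :=
    { toFun := fun z => ⟨⟨z.1, htop ▸ Subgroup.mem_top _⟩, z.2⟩
      map_one' := rfl
      map_mul' := fun _ _ => rfl }
  refine ⟨(π.comp g).comp iso.symm.toMonoidHom, ?_⟩
  refine (hπ.comp ?_).comp iso.symm.surjective
  exact fun z => ⟨⟨z.1.1, z.2⟩, rfl⟩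

end CfsgLib.J23
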