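import Cfsg.Agent.Schur.PcCover
import Cfsg.Agent.JankoTwoThree.Bits

/-! Data for the multiplier of `3·J₃`: certificates at the primes 2 and 3, words and matrices. -/

set_option autoImplicit false

namespace CfsgLib.J23

open CfsgLib.Schur.Pc

/-- Certificate for the prime 2. -/
def mult2Cert : Cert where
  p := 2
  n := 7
  rules :=
    [([0, 0], [4, 5]), ([1, 1], []), ([2, 2], []), ([3, 3], [6]), ([4, 4], [6]), ([5, 5], []),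
    ([6, 6], []), ([1, 0], [0, 1, 3, 6]), ([2, 0], [0, 2, 3, 4, 6]), ([2, 1], [1, 2]), ([3, 0],
    [0, 3, 5]), ([3, 1], [1, 3, 6]), ([3, 2], [2, 3, 5, 6]), ([4, 0], [0, 4, 6]), ([4, 1], [1,
    4, 5, 6]), ([4, 2], [2, 4, 5]), ([4, 3], [3, 4, 6]), ([5, 0], [0, 5, 6]), ([5, 1], [1, 5]),
    ([5, 2], [2, 5]), ([5, 3], [3, 5]), ([5, 4], [4, 5]), ([6, 0], [0, 6]), ([6, 1], [1, 6]),
    ([6, 2], [2, 6]), ([6, 3], [3, 6]), ([6, 4], [4, 6]), ([6, 5], [5, 6])]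
  fus :=
    [([[0, 2, 3, 6], [1, 5], [2, 3, 6], [3, 5, 6], [4, 5], [5], [6]], [[0, 3, 5, 6], [1, 2, 5,
    6], [1, 4, 5], [4, 6], [3, 4, 5], [5], [6]]), ([[0, 1, 2, 5], [3, 5, 6], [4, 5], [5], [6]],
    [[3, 6], [4, 6], [0, 1, 2, 3, 4, 6], [0, 1, 2, 4, 5], [6]]), ([[1, 5], [2, 5, 6], [5], [6]],
    [[6], [2, 5, 6], [1, 2, 5], [1, 5]])]
  fusW :=
    7
  assoc :=
    [([0, 0, 0], (0, 0), (1, 0)), ([1, 1, 0], (0, 1), (1, 7)), ([2, 2, 0], (0, 2), (1, 8)), ([3,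
    3, 3], (0, 3), (1, 3)), ([3, 3, 0], (0, 3), (1, 10)), ([3, 3, 1], (0, 3), (1, 11)), ([3, 3,
    2], (0, 3), (1, 12)), ([4, 4, 4], (0, 4), (1, 4)), ([4, 4, 0], (0, 4), (1, 13)), ([4, 4, 1],
    (0, 4), (1, 14)), ([4, 4, 3], (0, 4), (1, 16)), ([5, 5, 0], (0, 5), (1, 17)), ([1, 0, 0],
    (0, 7), (1, 0)), ([2, 0, 0], (0, 8), (1, 0)), ([2, 1, 0], (0, 9), (1, 7)), ([3, 0, 0], (0,
    10), (1, 0)), ([3, 1, 0], (0, 11), (1, 7)), ([3, 2, 0], (0, 12), (1, 8))]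
  fusEq :=
    [(0, [1, 1], []), (0, [2, 2], [5]), (0, [3, 3], [6]), (0, [4, 4], [6]), (0, [3, 2], [2, 3,
    5, 6]), (0, [4, 1], [1, 4, 5, 6]), (1, [0, 0], [4]), (1, [1, 1], [4]), (2, [0, 0], [])]
  eqs :=
    [([0, 17, 13, 27, 6], [0]), ([1], [7, 7, 23, 11, 1, 6, 3, 6]), ([2], [8, 8, 24, 15, 12, 2,
    26, 21, 27, 5, 6, 16, 3, 26, 6, 4, 6]), ([3, 25], [3]), ([3, 22], [10, 10, 20, 3, 27, 27,
    5]), ([3, 23], [11, 11, 25, 3, 6]), ([3, 24], [12, 12, 25, 20, 3, 27, 6, 5]), ([4, 26],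
    [4]), ([4, 22], [13, 13, 26, 4, 6]), ([4, 23], [14, 14, 26, 21, 4, 27, 6, 5]), ([4, 25],
    [16, 16, 26, 4, 6]), ([5], [17, 17, 27, 5, 6]), ([7, 22, 10, 7, 0, 18, 14, 27, 5, 25, 16, 6,
    25, 16, 3, 26, 6, 27, 6], [0]), ([8, 22, 13, 10, 8, 0, 19, 15, 5, 16, 26, 4, 6, 25, 3, 6,
    21, 6], [0]), ([9, 8, 7, 24, 12, 6, 20, 3, 27, 26, 21, 6], [7, 8, 23, 14, 11, 9, 26, 27, 6,
    25, 20, 16, 3, 26, 6, 6]), ([10, 17, 10, 0, 20, 16, 27, 27, 5, 27, 6], [0]), ([11, 22, 10,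
    7, 25, 3, 6], [7, 10, 18, 11, 27, 25, 20, 3, 27, 6]), ([12, 22, 17, 10, 8, 25, 16, 3, 26, 6,
    27, 27, 5, 6], [8, 10, 19, 12, 27, 5, 25, 3, 6]), ([23, 18, 9, 1, 24, 19, 2, 27, 5, 6, 29,
    29], [18, 1, 5]), ([18, 14, 1, 27, 5, 26, 4, 6, 30, 30], [33, 24, 12, 2, 6, 20, 3, 27, 6]),
    ([26, 4, 6, 31, 31], [34, 25, 20, 3, 27, 6, 5]), ([20, 16, 3, 26, 6, 21, 4, 27, 27, 5, 32,
    32], [34, 21, 4, 27, 27, 5]), ([23, 14, 6, 21, 4, 27, 27, 5, 31, 30, 25, 3, 6, 27, 5, 6],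
    [21, 4, 27, 6, 5, 30, 31, 33, 34, 24, 19, 12, 27, 5, 6, 3, 6]), ([18, 14, 11, 26, 27, 6, 5,
    15, 12, 26, 21, 27, 5, 27, 6, 32, 29, 21, 5], [25, 20, 26, 21, 27, 5, 27, 6, 29, 32, 33, 34,
    18, 14, 27, 5, 27]), ([25, 3, 6, 35, 35], [39, 17, 8, 7, 0, 18, 14, 27, 5, 25, 16, 6, 24,
    15, 12, 26, 21, 27, 5, 6, 16, 3, 26, 6, 4, 6, 23, 18, 9, 1, 24, 19, 2, 27, 5]), ([26, 4, 6,
    36, 36], [39, 25, 20, 3, 27, 6, 5]), ([6, 42, 42], [18, 1, 5])]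
  e :=
    0
  adj :=
    [[], [], [], [3, 7], [7, 8], [0, 7, 8], [3]]
  combo :=
    [[], [(3, 1), (4, 1), (7, 1), (10, 1), (16, 1), (26, 1)], [(0, 1), (1, 1), (2, 1), (7, 1),
    (8, 1), (9, 1), (12, 1), (13, 1), (14, 1), (15, 1), (16, 1), (19, 1), (20, 1), (22, 1), (26,
    1)], [], [(2, 1), (4, 1), (5, 1), (6, 1), (7, 1), (9, 1), (10, 1), (11, 1), (14, 1), (15,
    1), (17, 1), (22, 1), (23, 1)], [(0, 1), (1, 1), (2, 1), (4, 1), (5, 1), (7, 1), (8, 1), (9,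
    1), (10, 1), (12, 1), (13, 1), (14, 1), (16, 1), (17, 1)], [(3, 1), (7, 1), (10, 1)], [],
    [], [(0, 1), (1, 1), (2, 1), (5, 1), (6, 1), (7, 1), (9, 1), (12, 1), (13, 1), (14, 1), (16,
    1), (17, 1), (18, 1), (19, 1), (20, 1), (22, 1), (26, 1)], [(3, 1), (4, 1), (5, 1), (6, 1),
    (8, 1), (9, 1), (10, 1), (12, 1), (14, 1), (17, 1), (18, 1), (22, 1), (23, 1), (24, 1), (25,
    1), (26, 1)], [(1, 1), (5, 1), (7, 1), (10, 1)], [(1, 1), (2, 1), (5, 1), (6, 1), (7, 1),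
    (8, 1), (9, 1), (10, 1), (14, 1), (15, 1), (16, 1), (18, 1), (20, 1), (21, 1), (24, 1), (25,
    1), (26, 1)], [(1, 1), (4, 1), (6, 1), (10, 1), (12, 1), (13, 1), (16, 1), (20, 1), (21, 1),
    (22, 1), (23, 1)], [(3, 1), (5, 1), (6, 1), (9, 1), (10, 1), (14, 1), (16, 1), (17, 1), (18,
    1), (22, 1), (23, 1), (24, 1), (25, 1), (26, 1)], [(0, 1), (2, 1), (3, 1), (5, 1), (8, 1),
    (9, 1), (12, 1), (13, 1), (15, 1), (17, 1), (18, 1), (24, 1), (25, 1), (26, 1)], [(0, 1),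
    (1, 1), (3, 1), (6, 1), (8, 1), (12, 1), (13, 1), (15, 1), (16, 1), (20, 1), (21, 1), (22,
    1), (23, 1)], [(0, 1), (1, 1), (4, 1), (6, 1), (10, 1), (11, 1), (12, 1), (13, 1), (16, 1),
    (20, 1), (21, 1), (22, 1), (23, 1)], [(0, 1), (1, 1), (2, 1), (5, 1), (7, 1), (8, 1), (9,
    1), (10, 1), (12, 1), (13, 1), (14, 1), (17, 1)], [(4, 1), (7, 1), (15, 1), (17, 1)], [(0,
    1), (1, 1), (2, 1), (3, 1), (5, 1), (7, 1), (9, 1), (12, 1), (13, 1), (14, 1), (16, 1), (17,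
    1)], [(0, 1), (1, 1), (2, 1), (4, 1), (7, 1), (8, 1), (11, 1), (12, 1), (13, 1), (14, 1),
    (16, 1), (17, 1)], [(3, 1), (8, 1), (10, 1)], [(5, 1), (7, 1), (10, 1)], [(4, 1), (6, 1),
    (8, 1), (10, 1), (11, 1)], [(3, 1)], [(7, 1)], [(3, 1), (7, 1), (10, 1), (11, 1)]]
  fuel :=
    36

/-- Words of the generators. -/
def mult2Words : List (List ℕ) :=
  [[1, 2, 2, 2, 1, 2, 2, 2, 1, 0, 1, 0, 1, 2, 1, 0, 1, 2, 2, 2, 1, 0, 0, 0, 1], [1, 0, 1, 2, 2,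
  1, 2, 1, 0, 1, 2, 2, 1, 0, 0, 1, 2, 2, 2, 1, 0, 0, 1, 0, 0, 1, 2, 1, 0], [0, 1, 0, 0, 1, 0, 0,
  0, 1, 2, 1, 0, 1, 0, 0, 1, 2, 1, 0, 1, 0, 1], [0, 0, 1, 0, 1, 0, 1, 0, 0, 1, 2, 2, 1, 0, 0, 1,
  2, 2, 1, 2, 1, 2, 1], [0, 1, 0, 1, 2, 2, 2, 1, 0, 0, 1, 2, 2, 1, 0, 0, 0, 1, 2, 1], [1, 0, 1,
  0, 1, 0, 0, 1, 2, 2, 1, 0, 0, 1, 2, 2, 1, 2, 1, 2, 1], [0, 0, 0, 0]]

/-- Matrices of the generators. -/
def mult2Mats : List M9 := [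
  ⟨561234882571722441014800, 1325640545815832333740534⟩,
  ⟨1536893120206628748746014, 311681702602045470994958⟩,
  ⟨2089947250497841325008689, 335422896658893719182202⟩,
  ⟨570726815188283060870359, 1656830315796771320034179⟩,
  ⟨1313454876087011038724018, 1268021467471992219863056⟩,
  ⟨1328605389267204570831879, 543640083633662687900598⟩,
  ⟨37778934123587428156420, 148152673937886806020⟩]

/-- Words of the conjugating elements. -/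
def mult2GWords : List (List ℕ) :=
  [[1, 2, 1, 2, 1, 2, 2, 1, 2, 1, 0, 1, 0, 1, 0, 1, 0, 0, 1, 0, 1, 0, 1, 2, 2, 1, 0, 0], [1, 0,
  0, 0, 1, 0, 0, 1, 0, 1, 0, 0, 1, 0, 1, 0, 0, 1, 0, 0, 1, 0, 0, 1, 2, 2], [1, 2, 1, 2, 1, 0, 1,
  2, 2, 2, 1, 0, 0, 0, 0, 1, 0, 1, 0, 0, 1, 2, 1, 2, 1, 0, 0]]

/-- Matrices of the conjugating elements. -/
def mult2GMats : List M9 := [
  ⟨2269700336332626332638093, 1068043486710814407056667⟩,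
  ⟨397609001575826131266174, 1343326294380473768815770⟩,
  ⟨403709112929276460187240, 841189093278135234424167⟩]

/-- Certificate for the prime 3. -/
def mult3Cert : Cert where
  p := 3
  n := 6
  rules :=
    [([0, 0, 0], [3, 4]), ([1, 1, 1], [3, 4, 4, 5]), ([2, 2, 2], []), ([3, 3, 3], []), ([4, 4,
    4], []), ([5, 5, 5], []), ([1, 0], [0, 1, 2, 2, 3, 3, 5, 5]), ([2, 0], [0, 2, 4, 5]), ([2,
    1], [1, 2, 3, 5]), ([3, 0], [0, 3, 5]), ([3, 1], [1, 3, 5]), ([3, 2], [2, 3]), ([4, 0], [0,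
    4, 5, 5]), ([4, 1], [1, 4, 5]), ([4, 2], [2, 4]), ([4, 3], [3, 4]), ([5, 0], [0, 5]), ([5,
    1], [1, 5]), ([5, 2], [2, 5]), ([5, 3], [3, 5]), ([5, 4], [4, 5])]
  fus :=
    [([[0, 1, 1, 2, 2], [1, 2, 2, 5, 5], [2, 3, 4], [3, 5], [4], [5]], [[1, 1, 4, 4, 5, 5], [0,
    1, 1, 2, 3, 5], [2], [3, 3, 4, 5], [3, 4, 5, 5], [5]])]
  fusW :=
    6
  assoc :=
    [([0, 0, 0, 0], (0, 0), (1, 0)), ([1, 1, 1, 1], (0, 1), (1, 1)), ([1, 1, 1, 0], (0, 1), (2,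
    6)), ([2, 2, 2, 0], (0, 2), (2, 7)), ([2, 2, 2, 1], (0, 2), (2, 8)), ([3, 3, 3, 0], (0, 3),
    (2, 9)), ([1, 0, 0, 0], (0, 6), (1, 0)), ([2, 0, 0, 0], (0, 7), (1, 0)), ([2, 1, 1, 1], (0,
    8), (1, 1)), ([2, 1, 0], (0, 8), (1, 6)), ([3, 0, 0, 0], (0, 9), (1, 0)), ([3, 1, 1, 1], (0,
    10), (1, 1)), ([3, 2, 0], (0, 11), (1, 7))]
  fusEq :=
    [(0, [0, 0, 0], [3, 5]), (0, [1, 1, 1], [3, 4, 4, 5, 5]), (0, [2, 0], [0, 2, 3, 3, 4, 5,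
    5]), (0, [2, 1], [1, 2, 3, 5, 5]), (0, [3, 0], [0, 3]), (0, [3, 1], [1, 3, 5]), (0, [4, 0],
    [0, 4, 5])]
  eqs :=
    [([0, 12, 9, 20, 5], [0]), ([1, 17, 13, 13, 10, 20, 20, 20, 5], [1]), ([1, 16, 12, 12, 9,
    20, 5, 5], [6, 6, 6, 17, 17, 10, 10, 8, 8, 18, 11, 19, 19, 19, 3, 5, 5, 11, 2, 11, 3, 17,
    17, 8, 1, 18, 14, 14, 11, 19, 15, 15, 5, 18, 14, 14, 11, 11, 18, 14, 14, 11, 11, 2, 19, 15,
    15, 3, 19, 15, 15, 5]), ([2], [7, 7, 7, 18, 14, 20, 18, 18, 14, 14, 2, 20, 20, 4, 5]), ([2],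
    [8, 8, 8, 18, 11, 19, 18, 18, 11, 11, 2, 19, 19, 3, 5]), ([3], [9, 9, 9, 19, 19, 19, 3, 5]),
    ([6, 16, 16, 9, 9, 7, 7, 6, 18, 18, 11, 11, 2, 20, 20, 5, 14, 11, 11, 19, 15, 15, 3, 19, 19,
    15, 15, 5, 16, 16, 12, 12, 9, 7, 6, 0, 13, 10, 20, 18, 18, 14, 11, 18, 18, 14, 11, 19, 19,
    15, 19, 19, 15, 3, 5, 18, 14, 2, 20, 19, 19, 15, 15, 5, 4, 20, 20, 5, 5], [0]), ([7, 16, 12,
    7, 20, 5, 16, 12, 12, 7, 0, 14, 11, 20, 4, 5, 5], [0]), ([8, 17, 10, 8, 19, 5, 10, 10, 8, 1,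
    18, 14, 14, 11, 19, 15, 15, 19, 19, 15, 15, 3, 5, 15, 15], [1]), ([8, 16, 9, 7, 6, 18, 18,
    11, 11, 2, 20, 20, 5, 15, 3], [6, 7, 17, 13, 8, 20, 5, 14, 11, 14, 11, 2, 15, 15, 3]), ([9,
    16, 9, 16, 16, 9, 0, 15, 5], [0]), ([10, 17, 10, 17, 17, 10, 1, 19, 15, 15, 5], [1]), ([11,
    9, 7, 19, 15], [7, 9, 18, 11, 20]), ([17, 17, 13, 13, 1, 20, 4, 20, 20, 5, 17, 17, 13, 10,
    20, 5, 20, 20, 4, 5, 10, 17, 10, 1, 19, 15, 15, 5, 4, 21, 21, 21], [24, 26, 7, 7, 6, 6, 17,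
    17, 10, 10, 8, 8, 18, 11, 19, 19, 19, 3, 5, 5, 11, 2, 11, 3, 18, 18, 20, 20, 5, 14, 2, 17,
    13, 13, 1, 20, 4, 20, 20, 5, 17, 13, 10, 20, 5, 14, 11, 14, 11, 12, 9, 7, 7, 6, 0, 13, 10,
    20, 18, 18, 14, 11, 18, 18, 14, 11, 19, 19, 15, 19, 19, 15, 3, 5, 18, 14, 2, 20, 18, 18, 14,
    14, 20, 20, 4, 5, 20, 5, 13, 10, 8, 19, 20, 20, 5, 13, 10, 10, 8, 1, 18, 14, 14, 11, 19, 15,
    15, 19, 19, 15, 15, 3, 5, 15, 15, 20, 4, 18, 18, 11, 18, 18, 11, 2]), ([16, 9, 7, 6, 6, 17,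
    17, 10, 10, 8, 8, 18, 11, 19, 19, 19, 3, 5, 5, 11, 2, 11, 3, 18, 18, 20, 20, 5, 15, 17, 17,
    13, 10, 8, 8, 1, 18, 14, 14, 11, 19, 15, 15, 18, 18, 14, 14, 11, 11, 19, 19, 15, 15, 3, 5,
    15, 15, 20, 4, 5, 17, 10, 8, 8, 18, 11, 19, 19, 19, 3, 5, 18, 2, 19, 16, 16, 9, 6, 0, 13,
    10, 20, 18, 18, 14, 11, 18, 18, 14, 11, 19, 19, 15, 19, 19, 15, 3, 5, 19, 15, 5, 17, 13, 10,
    8, 8, 18, 11, 19, 19, 19, 3, 5, 17, 17, 13, 8, 8, 1, 18, 14, 14, 11, 19, 15, 15, 18, 18, 14,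
    14, 11, 11, 19, 19, 15, 15, 3, 5, 4, 5, 2, 22, 22, 22, 20, 20, 5], [19, 15, 3, 20, 5, 15,
    15, 4, 5, 24, 25, 25, 26, 26, 17, 17, 8, 8, 18, 11, 19, 5, 18, 11, 11, 2, 18, 11, 11, 5, 10,
    10, 8, 1, 18, 14, 14, 11, 19, 15, 15, 19, 19, 15, 15, 3, 5, 15, 15, 18, 14, 14, 11, 18, 14,
    14, 11, 2, 5]), ([8, 17, 10, 8, 19, 5, 23, 21, 2, 15, 19, 15, 3, 20, 20, 5], [18, 18, 14,
    14, 19, 19, 15, 15, 19, 19, 15, 15, 20, 20, 4, 5, 3, 19, 15, 20, 5, 21, 23, 24, 24, 25, 26,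
    26, 12, 9, 7, 19, 15, 20, 20, 5, 17, 13, 13, 10, 8, 19, 20, 20, 5, 17, 17, 13, 13, 10, 10,
    8, 19, 19, 19, 3, 5, 20, 5, 18, 14, 14, 18, 14, 14, 2]), ([7, 17, 13, 8, 20, 5, 13, 10, 8,
    19, 20, 20, 5, 14, 11, 11, 15, 3, 23, 22, 18, 18, 2, 19, 19, 20, 20, 19, 19, 15, 5], [18,
    11, 19, 19, 3, 20, 5, 22, 23, 24, 26, 26, 13, 10, 8, 19, 20, 20, 5, 14, 11, 11, 14, 11, 11,
    2]), ([17, 13, 10, 10, 19, 20, 20, 5, 17, 13, 10, 10, 19, 20, 20, 5, 20, 20, 4, 5, 24, 21],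
    [19, 19, 15, 15, 19, 19, 15, 15, 20, 20, 4, 5, 21, 24, 16, 9, 17, 17, 10, 5, 10, 18, 11, 18,
    11]), ([16, 12, 9, 9, 19, 20, 20, 5, 17, 17, 13, 10, 10, 19, 20, 20, 5, 17, 17, 13, 10, 10,
    19, 20, 20, 5, 18, 18, 14, 11, 11, 19, 19, 15, 3, 5, 24, 22, 19, 19, 5], [19, 19, 3, 20, 5,
    22, 24, 26, 17, 10, 18, 18, 11, 18, 18, 11, 5]), ([17, 17, 13, 10, 20, 5, 17, 13, 10, 20, 5,
    4, 25, 21], [19, 19, 15, 15, 20, 20, 4, 5, 21, 25, 26, 12, 17, 17, 13, 5, 13, 18, 14, 18,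
    14])]
  e :=
    0
  adj :=
    [[], [], [6, 6, 8, 8], [0, 1, 8, 8], [1, 1, 8], [0, 0, 1, 1, 8, 8]]
  combo :=
    [[], [], [(0, 1), (1, 2), (2, 1), (3, 2), (7, 2), (9, 1), (10, 2), (11, 2), (12, 1)], [(4,
    2), (5, 1)], [(3, 2), (5, 1)], [(5, 2)], [], [(1, 1), (2, 1), (3, 2), (4, 1), (5, 2), (6,
    2), (8, 2), (9, 2), (10, 1), (11, 1), (12, 2), (13, 1), (14, 2), (15, 2), (16, 2), (18, 1),
    (19, 1)], [], [(0, 2), (1, 2), (3, 2), (4, 2), (5, 2), (6, 1), (7, 1), (8, 2), (11, 1), (14,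
    1), (15, 1), (17, 1), (18, 1), (19, 1)], [(1, 2), (2, 2), (3, 1), (4, 1), (5, 2), (7, 1),
    (9, 2), (10, 2), (11, 1), (12, 2), (14, 1), (15, 1), (17, 1), (18, 1), (19, 1)], [(1, 1),
    (2, 1), (3, 1), (4, 1), (6, 1), (8, 2), (9, 1), (10, 1), (12, 2), (17, 1), (18, 1), (19,
    2)], [(2, 2), (3, 1), (4, 2), (5, 2), (6, 1), (8, 1), (10, 2), (11, 2), (14, 2), (15, 2),
    (17, 2), (18, 2), (19, 2)], [(0, 1), (1, 2), (2, 2), (3, 2), (4, 1), (5, 2), (7, 2), (9, 1),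
    (11, 1), (12, 2), (14, 1), (15, 1), (18, 2)], [(0, 2), (1, 1), (3, 2), (4, 1), (5, 2), (7,
    2), (8, 1), (10, 1), (11, 2), (12, 1), (18, 2), (19, 1)], [(5, 1), (10, 1)], [(1, 1), (3,
    2), (7, 2), (9, 1), (10, 1), (11, 2), (17, 1)], [(0, 1), (1, 1), (3, 1), (5, 1), (7, 1), (9,
    2), (10, 1), (17, 2), (18, 1), (19, 2)], [(0, 1), (1, 2), (2, 2), (4, 1), (6, 2), (7, 1),
    (10, 1), (11, 1), (12, 2)], [(5, 2), (10, 1), (11, 1)], [(0, 2), (1, 1), (2, 1), (4, 2), (6,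
    1), (7, 2), (10, 1)]]
  fuel :=
    143

/-- Words of the generators. -/
def mult3Words : List (List ℕ) :=
  [[1, 0, 0, 0, 1, 2, 1, 2, 2, 2, 1, 2, 2, 1, 0, 1, 2, 2, 2, 1, 0, 0, 1, 0, 1, 2, 2, 1, 2, 2],
  [0, 1, 0, 0, 1, 2, 1, 0, 1, 0, 0, 1, 2, 2, 1, 0, 1, 0, 1, 0, 1, 2, 1, 0, 0, 1, 2], [0, 0, 1,
  0, 1, 0, 1, 2, 1, 2, 2, 1, 0, 0, 0, 0, 1, 2, 2, 1, 0, 0, 0, 0, 1, 2, 1, 0], [0, 1, 2, 1, 0, 1,
  0, 0, 1, 2, 2, 1, 0, 1, 2, 2, 2, 1, 2, 1, 2, 1, 2, 1, 2, 2], [1, 2, 1, 0, 1, 2, 1, 2, 1, 2, 1,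
  0, 1, 0, 0, 0, 1, 2, 1, 2, 1, 0, 0, 0, 0, 1, 2], [0, 0, 0, 1, 0, 0, 0, 1, 0, 0, 0, 1, 0, 0, 0,
  1, 0, 0, 0, 1, 0, 0, 0, 1, 0, 0, 0, 1, 0, 0, 0, 1]]

/-- Matrices of the generators. -/
def mult3Mats : List M9 := [
  ⟨1037802469211947907684818, 1868716764042248485637918⟩,
  ⟨1595094741708195209475194, 742476511140325979790258⟩,
  ⟨1646233512357531995701661, 156755009446463972965833⟩,
  ⟨490684637696653797446249, 443282062804112117684729⟩,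
  ⟨76419936938175025695500, 1731823874748476922312187⟩,
  ⟨1210107565283851686118401, 1210107565283851686118401⟩]

/-- Words of the conjugating elements. -/
def mult3GWords : List (List ℕ) :=
  [[1, 0, 0, 1, 2, 1, 0, 1, 2, 2, 1, 0, 0, 1, 2, 1, 0, 0, 0, 1, 2, 1, 2, 2, 1, 0, 1, 2, 1]]

/-- Matrices of the conjugating elements. -/
def mult3GMats : List M9 := [
  ⟨1169049238762227764139343, 1346640162752224155832497⟩]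

/-- Elements of orders 5, 17, 19. -/
def multCyc : List (ℕ × List ℕ) :=
  [(5, [0, 1, 2, 2, 1, 2, 1, 0, 1, 2, 2, 1, 2, 2, 1, 2, 1, 2, 1, 0, 0, 0, 1, 2, 1, 0, 1, 0]),
  (17, [1, 0, 1, 0, 0, 1, 2, 2, 1, 2]), (19, [0, 1, 2, 2, 1, 2, 2, 1, 2, 2, 1, 2, 2, 1, 2, 2, 1,
  2, 2, 2])]

end CfsgLib.J23
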