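import Cfsg.Agent.JankoTwoThree.J3PermDefs
import Cfsg.Agent.JankoTwoThree.J3MultData

/-!
# The multiplier certificates are valid in packed matrices
-/

set_option autoImplicit false

namespace CfsgLib.J23

open CfsgLib.Schur.Pc

/-- The product of listed matrices along a word. -/
def matW (L : List M9) : List ℕ → M9
  | [] => mOne
  | a :: w => frcM (matW L w) fun Q => mul (L.getD a mOne) Q

/-- Pairwise different numbers. -/
def nodupB : List ℕ → Bool
  | [] => true
  | a :: l => (l.all fun b => !Nat.beq a b) && nodupB l

/-- The matrices belong to the words. -/
def chkWordMats : List (List ℕ) → List M9 → Bool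
  | [], [] => true
  | w :: ws, P :: Ps => eqb (wordM w) P && chkWordMats ws Ps
  | _, _ => false

/-- One conjugation. -/
def chkFus (C : Cert) (L : List M9) : List (List (List ℕ) × List (List ℕ)) → List M9 → Bool
  | [], [] => true
  | F :: Fs, g :: gs =>
    ((List.range C.fusW).all fun s =>
      eqb (mul g (matW L (F.1.getD s []))) (mul (matW L (F.2.getD s [])) g)) && chkFus C L Fs gs
  | _, _ => false

/-- All checks of one certificate. -/
def chkMult (C : Cert) (W : List (List ℕ)) (L : List M9) (GW : List (List ℕ)) (GM : List M9) :
    Bool :=
  chkWordMats W L && (chkWordMats GW GM && (C.rules.all (fun l => eqb (matW L l.1) (matW L l.2)) &&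
    (chkFus C L C.fus GM && nodupB ((normalWords C.p C.n 0).map fun w => enc (matW L w)))))

/-- An element of given prime order. -/
def chkCyc (q : ℕ × List ℕ) : Bool := eqb (wordM (wPow q.2 q.1)) mOne && !(eqb (wordM q.2) mOne)

theorem check_mult2 : mult2Cert.check = true := by decide +kernel

theorem check_mult3 : mult3Cert.check = true := by decide +kernel

theorem chkMult2_ok : chkMult mult2Cert mult2Words mult2Mats mult2GWords mult2GMats = true := by
  decide +kernel

theorem chkMult3_ok : chkMult mult3Cert mult3Words mult3Mats mult3GWords mult3GMats = true := by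
  decide +kernel

theorem chkCyc_ok : multCyc.all chkCyc = true := by decide +kernel

end CfsgLib.J23
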