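import Cfsg.Agent.JankoTwoThree.J3InvCheck
import Cfsg.Agent.JankoTwoThree.J3OutData

/-!
# Checks for the automorphisms of `J₃`
-/

set_option autoImplicit false

namespace CfsgLib.J23

open CfsgLib.J1

/-- A word in three elements and their inverses. -/
def expand6 (A B C : List ℕ) : List ℕ → List ℕ
  | [] => []
  | l :: w =>
    (match l with
      | 0 => A
      | 1 => B
      | 2 => C
      | 3 => wInv A
      | 4 => wInv B
      | _ => wInv C) ++ expand6 A B C w

/-- The word of an image under the outer permutation. -/
def substO : List ℕ → List ℕ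
  | [] => []
  | l :: w =>
    (match l with
      | 0 => outImg.getD 0 []
      | 1 => outImg.getD 1 []
      | 2 => wInv (outImg.getD 0 [])
      | _ => wInv (outImg.getD 1 [])) ++ substO w

/-- The outer permutation on a point. -/
def sig (i : ℕ) : ℕ := (outTab >>> (13 * i)) &&& 8191

/-- Its inverse on a point. -/
def sigI (i : ℕ) : ℕ := (outInvTab >>> (13 * i)) &&& 8191

/-- The outer permutation is one and normalises the group. -/
def chkSig (i : ℕ) : Bool :=
  Nat.blt (sigI i) 6156 && (Nat.beq (sig (sigI i)) i && (Nat.blt (sig i) 6156 &&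
    (Nat.beq (sig (app 0 i)) (appW (outImg.getD 0 []) (sig i)) &&
      Nat.beq (sig (app 1 i)) (appW (outImg.getD 1 []) (sig i)))))

/-- The square of `bW`. -/
def b2W : List ℕ := bW ++ bW

/-- The basic relations. -/
def chkABC : Bool :=
  wEq (wPow aW 17) [] && (!wEq aW [] && (wEq (aW ++ bW) (bW ++ (aW ++ aW)) &&
    (wEq (b2W ++ b2W) (wConj dW invWord) && (wCommute cW b2W &&
      (wEq (expand6 aW bW cW (genABC.getD 0 [])) [0] && (wEq (expand6 aW bW cW (genABC.getD 1 [])) [1] &&
        (wEq (substO aW) aW && (wEq (substO bW) bW && (wEq (substO cW) cW2 && !wEq cW cW2)))))))))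

/-- Elements fixing no further point. -/
def chkAFix (i : ℕ) : Bool :=
  Nat.beq i 0 || (Nat.beq i 275 || !Nat.beq (appW aW i) i)

/-- The conjugates of the subgroup of order 17. -/
def chkConjA : Bool :=
  Nat.beq conjA.length 120 && conjA.all (fun c => Nat.beq (appW c 0) 0) &&
    allLt 120 fun i => allLt i fun j =>
      !Nat.beq (appW (conjA.getD i []) 275) (appW (conjA.getD j []) 275)

/-- The normaliser of the subgroup of order 17. -/
def chkNormA : Bool :=
  Nat.beq normA.length 136 &&
    normA.all (fun q => Nat.blt q.1 17 && wEq (q.2 ++ aW) (wPow aW q.1 ++ q.2) &&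
      (!Nat.beq q.1 1 || (List.range 17).any fun i => wEq q.2 (wPow aW i))) &&
    nodupT (normA.map fun q => baseImg q.2)

/-- The elements of the involution centraliser commuting with `b2W` are listed. -/
def chkCand (i : ℕ) : Bool :=
  let w := qEltW.getD (i / 60) [] ++ aEltW.getD (i % 60) []
  let u := wInv dW ++ (b2W ++ dW)
  !wCommute w u || memT (baseImg (wConj dW w)) (candC.map baseImg)

/-- Some relation fails. -/
def relFails (A C : List ℕ) : Bool :=
  relC.any fun r => !wEq (wPow (expand6 A bW C r.1) r.2) []

/-- Only two candidates satisfy the relations, and none with the cube. -/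
def chkRel : Bool :=
  relC.all (fun r => wEq (wPow (expand6 aW bW cW r.1) r.2) []) &&
    candC.all fun c => (wEq c cW || (wEq c cW2 || relFails aW c)) && relFails (wPow aW 3) c

end CfsgLib.J23
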