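import Cfsg.Agent.JankoTwoThree.J3PermDefs

/-!
Kernel verification of the certificate for the action on 6156 points.
-/

set_option autoImplicit false

namespace CfsgLib.J23

open CfsgLib.J1

theorem chkInv_all : allLt 6156 chkInv = true := by decide +kernel

theorem chkApp_all : allLt 6156 chkApp = true := by decide +kernel

theorem chkOrb_all : allLt 6156 chkOrb = true := by decide +kernel

theorem chkMove_all : allLt 6156 chkMove = true := by decide +kernel

theorem chkImgU_all : allLt 85 chkImgU = true := by decide +kernel

theorem chkImgK_all : allLt 288 chkImgK = true := by decide +kernel

theorem chkWords_ok : chkWords = true := by decide +kernel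

theorem chkNormal_ok : chkNormal = true := by decide +kernel

end CfsgLib.J23
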