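import Cfsg.Agent.J1.Tree
import Cfsg.Agent.JankoTwoThree.Dec

/-!
# Canonical bases of subspaces in packed form

A block is a packed matrix whose first `k` columns form a reduced echelon basis with given pivots;
two blocks with the same span are equal.
-/

set_option autoImplicit false

namespace CfsgLib.J23

open Cfsg.Spor CfsgLib.J1
open scoped Classical

/-- The `a`-th pivot of a pivot code. -/
def pvt (pc a : ℕ) : ℕ := (pc >>> (4 * a)) &&& 15

/-- The reduced echelon test for the first `k` columns of `B`; all other columns vanish. -/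
def chkEch (k pc : ℕ) (B : M9) : Bool :=
  Nat.ble k 4 && Nat.beq (B.a &&& (colMask * (2 ^ k - 1))) B.a &&
  Nat.beq (B.b &&& (colMask * (2 ^ k - 1))) B.b &&
  allLt k fun a => Nat.blt (pvt pc a) 9 && (Nat.beq (a + 1) k || Nat.blt (pvt pc a) (pvt pc (a + 1))) &&
    Nat.beq ((colV B a).a &&& (2 ^ (9 * pvt pc a) - 1)) 0 &&
    Nat.beq ((colV B a).b &&& (2 ^ (9 * pvt pc a) - 1)) 0 &&
    allLt k fun b => Nat.beq (((colV B a).a >>> (9 * pvt pc b)) &&& 1) (cond (Nat.beq a b) 1 0) &&
      Nat.beq (((colV B a).b >>> (9 * pvt pc b)) &&& 1) 0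

/-- The combination of the first `n` columns of `B` with the pivot coordinates of `v`. -/
def comb (pc : ℕ) (B v : M9) : ℕ → M9
  | 0 => mZero
  | n + 1 => addV (comb pc B v n)
      (smulV (Nat.beq ((v.a >>> (9 * pvt pc n)) &&& 1) 1) (Nat.beq ((v.b >>> (9 * pvt pc n)) &&& 1) 1)
        (colV B n))

/-- The first `k` columns of `P` lie in the span of those of `B`. -/
def chkIn (k pc : ℕ) (B P : M9) : Bool :=
  allLt k fun r => eqb (colV P r) (comb pc B (colV P r) k)

theorem beq_land_one (x n : ℕ) : Nat.beq ((x >>> n) &&& 1) 1 = x.testBit n := by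
  rw [Nat.and_one_is_mod]
  simp only [Nat.testBit, Nat.one_and_eq_mod_two]
  rcases Nat.mod_two_eq_zero_or_one (x >>> n) with h | h <;> simp [h] <;> rfl

theorem testBit_of_beq {x n : ℕ} {c : Bool}
    (h : Nat.beq ((x >>> n) &&& 1) (cond c 1 0) = true) : x.testBit n = c := by
  rw [← beq_land_one, Nat.eq_of_beq_eq_true h]
  cases c <;> rfl

variable {F : Type*} [Field F] (ω : F)

/-- The span of the first `k` columns. -/
def colSpan (k : ℕ) (B : M9) : Submodule F (F9 → F) :=
  Submodule.span F (Set.range fun a : Fin k => cv ω (colV B a))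

theorem cv_comb_mem [CharP F 2] (hω : ω ^ 2 + ω + 1 = 0) (k pc : ℕ) (B v : M9) :
    ∀ n ≤ k, cv ω (comb pc B v n) ∈ colSpan ω k B := by
  intro n
  induction n with
  | zero => intro _; rw [comb, cv_zero]; exact Submodule.zero_mem _
  | succ n ih =>
    intro hn
    rw [comb, cv_addV, cv_smulV hω]
    exact Submodule.add_mem _ (ih (Nat.le_of_succ_le hn))
      (Submodule.smul_mem _ _ (Submodule.subset_span ⟨⟨n, hn⟩, rfl⟩))

theorem colSpan_le_of_chkIn [CharP F 2] (hω : ω ^ 2 + ω + 1 = 0) {k pc : ℕ} {B P : M9}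
    (h : chkIn k pc B P = true) : colSpan ω k P ≤ colSpan ω k B := by
  rw [colSpan, Submodule.span_le]
  rintro _ ⟨r, rfl⟩
  rw [SetLike.mem_coe]
  have := eq_of_eqb (allLt_spec h r r.2)
  dsimp only
  rw [this]
  exact cv_comb_mem ω hω k pc B _ k le_rfl

theorem colSpan_mul [CharP F 2] (hω : ω ^ 2 + ω + 1 = 0) {k : ℕ} (hk : k ≤ 9) (P B : M9) :
    colSpan ω k (mul P B) = (colSpan ω k B).map (dec ω P).mulVecLin := by
  rw [colSpan, colSpan, Submodule.map_span, ← Set.range_comp]
  congr 2
  funext a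
  funext w
  rw [cv_colV _ (lt_of_lt_of_le a.2 hk), Function.comp_apply, Matrix.mulVecLin_apply, dec_mul hω,
    Matrix.mul_apply]
  simp only [Matrix.mulVec, dotProduct, cv_colV _ (lt_of_lt_of_le a.2 hk)]

/-- What the echelon test says about the columns. -/
structure Ech (k : ℕ) (pv : ℕ → ℕ) (R : Fin k → F9 → F) : Prop where
  lt : ∀ a : Fin k, pv a < 9
  mono : StrictMono fun a : Fin k => pv a
  diag : ∀ a b : Fin k, R a (pt (pv b)) = if a = b then 1 else 0
  lead : ∀ (a : Fin k) (w : F9), idx w < pv a → R a w = 0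

theorem ech_of_chkEch {k pc : ℕ} {B : M9} (h : chkEch k pc B = true) :
    k ≤ 4 ∧ Ech (F := F) k (pvt pc) fun a => cv ω (colV B a) := by
  simp only [chkEch, Bool.and_eq_true] at h
  obtain ⟨⟨⟨hk, -⟩, -⟩, h⟩ := h
  have h' := allLt_spec h
  refine ⟨Nat.le_of_ble_eq_true hk, ?_, ?_, ?_, ?_⟩
  · intro a
    have := h' a a.2
    simp only [Bool.and_eq_true] at this
    exact Nat.le_of_ble_eq_true this.1.1.1.1
  · have hsucc : ∀ a, a + 1 < k → pvt pc a < pvt pc (a + 1) := fun a ha => by
      have := h' a (by omega)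
      simp only [Bool.and_eq_true, Bool.or_eq_true] at this
      rcases this.1.1.1.2 with h1 | h1
      · exact absurd (Nat.eq_of_beq_eq_true h1) (by omega)
      · exact Nat.le_of_ble_eq_true h1
    have key : ∀ d a, a + (d + 1) < k → pvt pc a < pvt pc (a + (d + 1)) := by
      intro d
      induction d with
      | zero => exact hsucc
      | succ d ih => intro a ha; exact (ih a (by omega)).trans (hsucc (a + (d + 1)) ha)
    intro a b hab
    obtain ⟨d, hd⟩ := Nat.exists_eq_add_of_lt (show (a : ℕ) < b from hab)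
    have := key d a (by omega)
    rw [show (a : ℕ) + (d + 1) = b by omega] at this
    exact this
  · intro a b
    have := h' a a.2
    simp only [Bool.and_eq_true] at this
    have hb := allLt_spec this.2 b b.2
    simp only [Bool.and_eq_true] at hb
    have hlt : pvt pc b < 9 := by
      have := h' b b.2
      simp only [Bool.and_eq_true] at this
      exact Nat.le_of_ble_eq_true this.1.1.1.1
    simp only [cv, idx_pt _ hlt, testBit_of_beq hb.1,
      testBit_of_beq (c := false) (by simpa using hb.2)]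
    by_cases hab : a = b
    · subst hab; simp [ev, Nat.beq_refl]
    · have : Nat.beq (a : ℕ) b = false := by
        cases hh : Nat.beq (a : ℕ) b
        · rfl
        · exact absurd (Fin.ext (Nat.eq_of_beq_eq_true hh)) hab
      simp [ev, hab, this]
  · intro a w hw
    have := h' a a.2
    simp only [Bool.and_eq_true] at this
    have key : ∀ x : ℕ, Nat.beq (x &&& (2 ^ (9 * pvt pc a) - 1)) 0 = true →
        x.testBit (9 * idx w) = false := fun x hx => by
      have := congrArg (Nat.testBit · (9 * idx w)) (Nat.eq_of_beq_eq_true hx)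
      simp only [Nat.testBit_land, Nat.testBit_two_pow_sub_one, Nat.zero_testBit] at this
      simpa [show 9 * idx w < 9 * pvt pc a by omega] using this
    simp [cv, ev, key _ this.1.1.2, key _ this.1.2]

variable {ω} {k : ℕ}

theorem Ech.apply_comb {pv : ℕ → ℕ} {R : Fin k → F9 → F} (h : Ech k pv R) (c : Fin k → F)
    (b : Fin k) : (∑ a, c a • R a) (pt (pv b)) = c b := by
  rw [Finset.sum_apply]
  simp [h.diag]

theorem Ech.linearIndependent {pv : ℕ → ℕ} {R : Fin k → F9 → F} (h : Ech k pv R) :
    LinearIndependent F R :=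
  Fintype.linearIndependent_iff.2 fun c hc b => by
    rw [← h.apply_comb c b, hc]; rfl

theorem Ech.finrank {pv : ℕ → ℕ} {R : Fin k → F9 → F} (h : Ech k pv R) :
    Module.finrank F (Submodule.span F (Set.range R)) = k := by
  rw [finrank_span_eq_card h.linearIndependent, Fintype.card_fin]

/-- Pivots of one echelon basis occur among those of another with the same span. -/
theorem Ech.pivot_mem {pv pv' : ℕ → ℕ} {R R' : Fin k → F9 → F} (h : Ech k pv R)
    (h' : Ech k pv' R') (a : Fin k) (ha : R a ∈ Submodule.span F (Set.range R')) :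
    ∃ b : Fin k, pv' b = pv a := by
  obtain ⟨c, hc⟩ := (Submodule.mem_span_range_iff_exists_fun F).1 ha
  have hne : (Finset.univ.filter fun b => c b ≠ 0).Nonempty := by
    by_contra hn
    rw [Finset.not_nonempty_iff_eq_empty, Finset.filter_eq_empty_iff] at hn
    have h1 := h.diag a a
    rw [← hc, if_pos rfl, Finset.sum_apply, Finset.sum_eq_zero fun b _ => by
      simp [not_not.1 (hn (Finset.mem_univ b))]] at h1
    exact zero_ne_one h1
  set b₀ := (Finset.univ.filter fun b => c b ≠ 0).min' hne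
  have hb₀ : c b₀ ≠ 0 := (Finset.mem_filter.1 (Finset.min'_mem _ hne)).2
  refine ⟨b₀, le_antisymm ?_ ?_⟩
  · by_contra hlt
    have h1 := h.diag a a
    rw [← hc, if_pos rfl, Finset.sum_apply, Finset.sum_eq_zero fun b _ => ?_] at h1
    · exact zero_ne_one h1
    by_cases hcb : c b = 0
    · simp [hcb]
    · have hle : b₀ ≤ b := Finset.min'_le _ _ (by simp [hcb])
      have := h'.mono.monotone hle
      rw [Pi.smul_apply, h'.lead b (pt (pv a)) (by rw [idx_pt _ (h.lt a)]; omega),
        smul_zero]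
  · by_contra hlt
    refine hb₀ ?_
    rw [← h'.apply_comb c b₀, hc]
    exact h.lead a _ (by rw [idx_pt _ (h'.lt b₀)]; omega)

theorem Ech.unique {pv pv' : ℕ → ℕ} {R R' : Fin k → F9 → F} (h : Ech k pv R) (h' : Ech k pv' R')
    (he : Submodule.span F (Set.range R) = Submodule.span F (Set.range R')) : R = R' := by
  have hmem : ∀ a, R a ∈ Submodule.span F (Set.range R') := fun a =>
    he ▸ Submodule.subset_span ⟨a, rfl⟩
  have hmem' : ∀ a, R' a ∈ Submodule.span F (Set.range R) := fun a =>
    he ▸ Submodule.subset_span ⟨a, rfl⟩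
  have hp : (fun a : Fin k => pv a) = fun a : Fin k => pv' a := by
    refine (StrictMono.range_inj h.mono h'.mono).1 (Set.Subset.antisymm ?_ ?_)
    · rintro _ ⟨a, rfl⟩; exact h.pivot_mem h' a (hmem a)
    · rintro _ ⟨a, rfl⟩; exact h'.pivot_mem h a (hmem' a)
  funext a
  obtain ⟨c, hc⟩ := (Submodule.mem_span_range_iff_exists_fun F).1 (hmem a)
  have hc' : ∀ b, c b = if a = b then 1 else 0 := fun b => by
    rw [← h'.apply_comb c b, hc, ← congrFun hp b]; exact h.diag a b
  rw [← hc]
  simp [hc']

variable (ω)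

/-- Echelon blocks with the same span are equal. -/
theorem block_eq [CharP F 2] (hω : ω ^ 2 + ω + 1 = 0) {pc pc' : ℕ} {B B' : M9}
    (h : chkEch k pc B = true) (h' : chkEch k pc' B' = true)
    (hs : colSpan ω k B = colSpan ω k B') : B = B' := by
  obtain ⟨hk, he⟩ := ech_of_chkEch (F := F) ω h
  obtain ⟨-, he'⟩ := ech_of_chkEch (F := F) ω h'
  have hR := he.unique he' hs
  simp only [chkEch, Bool.and_eq_true] at h h'
  have hsupp : ∀ x i j, i < 9 → j < 9 → Nat.beq (x &&& colMask * (2 ^ k - 1)) x = true → ¬ j < k →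
      x.testBit (9 * i + j) = false := by
    intro x i j hi hj hx hjk
    have h1 := congrArg (Nat.testBit · (9 * i + j)) (Nat.eq_of_beq_eq_true hx)
    simp only [Nat.testBit_land] at h1
    have h2 : (colMask * (2 ^ k - 1)).testBit (9 * i + j) = false := by
      have hr : 2 ^ k - 1 < 2 ^ 9 := by
        have : 2 ^ k ≤ 2 ^ 9 := Nat.pow_le_pow_right (by norm_num) (by omega)
        have := Nat.two_pow_pos k
        omega
      rw [colMask_eq, ← Nat.and_self (cols 9), testBit_land_cols_mul 9 _ _ hr i j hj,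
        Nat.testBit_two_pow_sub_one]
      simp [hjk]
    rw [h2, Bool.and_false] at h1
    exact h1.symm
  have hlt : ∀ x, Nat.beq (x &&& colMask * (2 ^ k - 1)) x = true → x < 2 ^ 81 := by
    intro x hx
    rw [← Nat.eq_of_beq_eq_true hx]
    refine lt_of_le_of_lt Nat.and_le_right ?_
    have h2 : 2 ^ k ≤ 2 ^ 4 := Nat.pow_le_pow_right (by norm_num) hk
    calc colMask * (2 ^ k - 1) ≤ colMask * 15 := Nat.mul_le_mul_left _ (by omega)
      _ < 2 ^ 81 := by norm_num [colMask]
  refine dec_inj hω ⟨hlt _ h.1.1.2, hlt _ h.1.2⟩ ⟨hlt _ h'.1.1.2, hlt _ h'.1.2⟩ ?_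
  ext w z
  by_cases hz : idx z < k
  · have := congrFun (congrFun hR ⟨idx z, hz⟩) w
    rwa [cv_colV _ (idx_lt z), cv_colV _ (idx_lt z), pt_idx] at this
  · simp [dec, hsupp _ _ _ (idx_lt w) (idx_lt z) h.1.1.2 hz,
      hsupp _ _ _ (idx_lt w) (idx_lt z) h.1.2 hz, hsupp _ _ _ (idx_lt w) (idx_lt z) h'.1.1.2 hz,
      hsupp _ _ _ (idx_lt w) (idx_lt z) h'.1.2 hz]

/-- The image of an echelon span under an invertible matrix, from the inclusion check. -/
theorem map_colSpan_eq [CharP F 2] (hω : ω ^ 2 + ω + 1 = 0) {pw pc : ℕ} {W B P : M9}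
    (hW : chkEch k pw W = true) (hB : chkEch k pc B = true)
    (hin : chkIn k pc B (mul P W) = true) {g : Matrix.GeneralLinearGroup F9 F}
    (hg : (g : Matrix F9 F9 F) = dec ω P) :
    (colSpan ω k W).map (g : Matrix F9 F9 F).mulVecLin = colSpan ω k B := by
  obtain ⟨hk, eW⟩ := ech_of_chkEch (F := F) ω hW
  obtain ⟨-, eB⟩ := ech_of_chkEch (F := F) ω hB
  have hle : (colSpan ω k W).map (g : Matrix F9 F9 F).mulVecLin ≤ colSpan ω k B := by
    rw [hg, ← colSpan_mul ω hω (by omega) P W]
    exact colSpan_le_of_chkIn ω hω hin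
  refine Submodule.eq_of_le_of_finrank_le hle (le_of_eq ?_)
  rw [← LinearEquiv.finrank_eq (Submodule.equivMapOfInjective _
    (show Function.Injective (g : Matrix F9 F9 F).mulVecLin from fun x y e => by
      have e' := congrArg ((↑g⁻¹ : Matrix F9 F9 F).mulVec) e
      simpa [Matrix.mulVecLin_apply, Matrix.mulVec_mulVec] using e') _)]
  exact eB.finrank.trans eW.finrank.symm

end CfsgLib.J23
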